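import Cfsg.Agent.H20.Fpf
import Cfsg.Agent.H25.FrobKernel

/-!
Nilpotency of Frobenius kernels.
-/

set_option autoImplicit false
set_option linter.style.haveILetI false

open Cfsg
open scoped Pointwise

namespace Cfsg.Agent.H20.Fpf

universe u

/-- A subgroup normalised by an element of prime order acting fixed-point-freely is nilpotent. -/
theorem isNilpotent_of_conj {G : Type u} [Group G] {K : Subgroup G} [Finite K] {h : G} {r : ℕ}
    (hr : r.Prime) (hh : h ^ r = 1) (hn : ∀ x ∈ K, h * x * h⁻¹ ∈ K)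
    (hf : ∀ x ∈ K, h * x = x * h → x = 1) : Group.IsNilpotent K := by
  have hni : ∀ x ∈ K, h⁻¹ * x * h ∈ K := by
    have key : ∀ (i : ℕ) (x : G), x ∈ K → h ^ i * x * (h ^ i)⁻¹ ∈ K := by
      intro i
      induction i with
      | zero => intro x hx; simpa using hx
      | succ i ih =>
        intro x hx
        have : h ^ (i + 1) * x * (h ^ (i + 1))⁻¹ = h ^ i * (h * x * h⁻¹) * (h ^ i)⁻¹ := by
          rw [pow_succ]; group
        rw [this]
        exact ih _ (hn x hx)
    intro x hx
    have h1 : h⁻¹ = h ^ (r - 1) := by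
      rw [inv_eq_iff_mul_eq_one, ← pow_succ', Nat.sub_add_cancel hr.one_lt.le, hh]
    have h2 := key (r - 1) x hx
    rw [← h1, inv_inv] at h2
    exact h2
  let φ : K ≃* K :=
    { toFun := fun x => ⟨h * x * h⁻¹, hn x x.2⟩
      invFun := fun x => ⟨h⁻¹ * x * h, hni x x.2⟩
      left_inv := fun x => Subtype.ext (by
        show h⁻¹ * (h * x * h⁻¹) * h = x
        group)
      right_inv := fun x => Subtype.ext (by
        show h * (h⁻¹ * x * h) * h⁻¹ = x
        group)
      map_mul' := fun x y => Subtype.ext (by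
        show h * ((x : G) * y) * h⁻¹ = (h * x * h⁻¹) * (h * y * h⁻¹)
        group) }
  have hiter : ∀ (i : ℕ) (x : K), (((φ^[i]) x : K) : G) = h ^ i * x * (h ^ i)⁻¹ := by
    intro i
    induction i with
    | zero => intro x; simp
    | succ i ih =>
      intro x
      rw [Function.iterate_succ_apply, ih]
      show h ^ i * (h * x * h⁻¹) * (h ^ i)⁻¹ = _
      rw [pow_succ]; group
  refine isNilpotent_of_fpf hr _ K le_rfl φ (fun g => ?_) (fun g hg => ?_)
  · apply Subtype.ext
    rw [hiter, hh]; group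
  · apply Subtype.ext
    apply hf g g.2
    have h1 : h * (g : G) * h⁻¹ = g := congrArg Subtype.val hg
    rw [mul_inv_eq_iff_eq_mul] at h1
    exact h1

/-- Frobenius kernels are nilpotent. -/
theorem frobenius_nilpotent {G : Type u} [Group G] [Finite G] {H : Subgroup G}
    (hH : IsFrobeniusComplement H) : ∃ N : Subgroup G, (N : Set G) = frobeniusKernel H ∧
      N.Normal ∧ Group.IsNilpotent N := by
  obtain ⟨N, hN1, hN2, hN3⟩ := H25.frobenius_kernel hH
  refine ⟨N, hN1, hN2, ?_⟩
  obtain ⟨hb, -, hH3⟩ := hH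
  haveI : Nontrivial H := (Subgroup.nontrivial_iff_ne_bot H).mpr hb
  obtain ⟨r, hr, hrd⟩ := Nat.exists_prime_and_dvd (Finite.one_lt_card (α := H)).ne'
  haveI := Fact.mk hr
  obtain ⟨h, hh⟩ := exists_prime_orderOf_dvd_card' r hrd
  have hh1 : (h : G) ≠ 1 := by
    intro hc
    have : h = 1 := Subtype.ext hc
    rw [this, orderOf_one] at hh
    exact hr.one_lt.ne hh
  apply isNilpotent_of_conj hr (h := (h : G))
  · have : h ^ r = 1 := by rw [← hh]; exact pow_orderOf_eq_one h
    exact congrArg Subtype.val this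
  · intro x hx; exact hN2.conj_mem x hx h
  · intro x hx hc
    by_contra hx1
    have hxH : x ∉ H := by
      intro hxH
      have := hN3.disjoint.le_bot (⟨hx, hxH⟩ : x ∈ N ⊓ H)
      exact hx1 (Subgroup.mem_bot.mp this)
    have h1 := hH3 x hxH
    apply hh1
    rw [← Subgroup.mem_bot, ← h1]
    refine ⟨h.2, ?_⟩
    show (h : G) ∈ MulAut.conj x • H
    rw [Subgroup.mem_pointwise_smul_iff_inv_smul_mem]
    show (MulAut.conj x)⁻¹ (h : G) ∈ H
    rw [MulAut.conj_inv_apply]
    have : x⁻¹ * (h : G) * x = h := by rw [mul_assoc, hc]; group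
    rw [this]; exact h.2

end Cfsg.Agent.H20.Fpf
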