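import Cfsg.Agent.H2.NPCFun3
import Cfsg.Agent.H2.Hall
import Mathlib.GroupTheory.FixedPointFree

/-!
Thompson's theorem: a finite group with a fixed-point-free automorphism of prime order is nilpotent.
-/

set_option autoImplicit false
set_option linter.style.haveILetI false

open Cfsg

namespace Cfsg.Agent.H20.Fpf

universe u

section basic

variable {G : Type u} [Group G]

theorem exists_comm [Finite G] (φ : G ≃* G) (hf : ∀ g, φ g = g → g = 1) (c : G) :
    ∃ x, x * (φ x)⁻¹ = c := by
  have h : MonoidHom.FixedPointFree φ := hf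
  obtain ⟨x, hx⟩ := h.commutatorMap_surjective c
  exact ⟨x, by rw [← hx, MonoidHom.commutatorMap_apply, div_eq_mul_inv]⟩

theorem comm_inj (φ : G ≃* G) (hf : ∀ g, φ g = g → g = 1) {x y : G}
    (h : x * (φ x)⁻¹ = y * (φ y)⁻¹) : x = y := by
  have h' : MonoidHom.FixedPointFree φ := hf
  apply h'.commutatorMap_injective
  rw [MonoidHom.commutatorMap_apply, MonoidHom.commutatorMap_apply, div_eq_mul_inv, div_eq_mul_inv, h]

/-- Invariant Sylow subgroups. -/
theorem exists_inv_sylow [Finite G] (φ : G ≃* G) (hf : ∀ g, φ g = g → g = 1) (p : ℕ)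
    [Fact p.Prime] : ∃ P : Sylow p G, (P : Subgroup G).map φ.toMonoidHom = P := by
  obtain ⟨P⟩ : Nonempty (Sylow p G) := inferInstance
  -- the image is a Sylow subgroup
  obtain ⟨g, hg⟩ := MulAction.exists_smul_eq G P (P.mapSurjective (f := φ.toMonoidHom) φ.surjective)
  obtain ⟨y, hy⟩ := exists_comm φ hf g⁻¹
  refine ⟨y⁻¹ • P, ?_⟩
  have h1 : (P : Subgroup G).map φ.toMonoidHom =
      (P : Subgroup G).map (MulAut.conj g).toMonoidHom := by
    have h0 : ((g • P : Sylow p G) : Subgroup G) = (P : Subgroup G).map φ.toMonoidHom := by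
      rw [hg]; rfl
    rw [← h0]
    rfl
  have h2 : ((y⁻¹ • P : Sylow p G) : Subgroup G) =
      (P : Subgroup G).map (MulAut.conj y⁻¹).toMonoidHom := rfl
  rw [h2]
  ext x
  simp only [Subgroup.mem_map, MulEquiv.coe_toMonoidHom, MulAut.conj_apply,
    exists_exists_and_eq_and, inv_inv]
  constructor
  · rintro ⟨z, hz, rfl⟩
    have h3 : φ z ∈ (P : Subgroup G).map (MulAut.conj g).toMonoidHom := by
      rw [← h1]; exact ⟨z, hz, rfl⟩
    obtain ⟨w, hw, hwz⟩ := h3
    refine ⟨w, hw, ?_⟩
    simp only [MulEquiv.coe_toMonoidHom, MulAut.conj_apply] at hwz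
    rw [map_mul, map_mul, map_inv, ← hwz]
    have h4 : (φ y)⁻¹ = y⁻¹ * g⁻¹ := by rw [← hy]; group
    have h5 : φ y = g * y := by
      rw [← inv_inv (φ y), h4]; group
    rw [h4, h5]; group
  · rintro ⟨w, hw, rfl⟩
    have h3 : g * w * g⁻¹ ∈ (P : Subgroup G).map φ.toMonoidHom := by
      rw [h1]; exact ⟨w, hw, rfl⟩
    obtain ⟨z, hz, hwz⟩ := h3
    refine ⟨z, hz, ?_⟩
    simp only [MulEquiv.coe_toMonoidHom] at hwz
    rw [map_mul, map_mul, map_inv, hwz]
    have h4 : (φ y)⁻¹ = y⁻¹ * g⁻¹ := by rw [← hy]; group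
    have h5 : φ y = g * y := by
      rw [← inv_inv (φ y), h4]; group
    rw [h4, h5]; group

/-- Restriction to an invariant subgroup. -/
theorem exists_restrict (φ : G ≃* G) {H : Subgroup G} (hH : H.map φ.toMonoidHom = H) :
    ∃ ψ : H ≃* H, ∀ x : H, ((ψ x : H) : G) = φ x :=
  ⟨(φ.subgroupMap H).trans (MulEquiv.subgroupCongr hH), fun _ => rfl⟩

theorem restrict_iter {φ : G ≃* G} {H : Subgroup G} {ψ : H ≃* H}
    (hψ : ∀ x : H, ((ψ x : H) : G) = φ x) (n : ℕ) (x : H) :
    (((ψ^[n]) x : H) : G) = (φ^[n]) (x : G) := by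
  induction n generalizing x with
  | zero => rfl
  | succ n ih => rw [Function.iterate_succ_apply, Function.iterate_succ_apply, ih, hψ]

/-- The quotient automorphism. -/
theorem exists_quot [Finite G] (φ : G ≃* G) (hf : ∀ g, φ g = g → g = 1) {N : Subgroup G}
    [N.Normal] (hN : N.map φ.toMonoidHom = N) :
    ∃ ψ : (G ⧸ N) ≃* (G ⧸ N), (∀ x : G, ψ (x : G ⧸ N) = (φ x : G ⧸ N)) ∧
      ∀ y, ψ y = y → y = 1 := by
  refine ⟨QuotientGroup.congr N N φ hN, fun x => rfl, fun y => ?_⟩
  induction y using QuotientGroup.induction_on with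
  | H g =>
    intro h
    have h1 : ((φ g : G) : G ⧸ N) = (g : G ⧸ N) := h
    rw [eq_comm, QuotientGroup.eq] at h1
    -- g⁻¹ φ(g) ∈ N
    obtain ⟨ψ, hψ⟩ := exists_restrict φ hN
    obtain ⟨m, hm⟩ := exists_comm ψ (fun x hx => Subtype.ext (hf x (by rw [← hψ, hx])))
      ⟨g⁻¹ * φ g, h1⟩
    have h2 : (m : G) * (φ m)⁻¹ = g⁻¹ * φ g := by
      have := congrArg Subtype.val hm
      simpa [hψ] using this
    have h3 : φ (g * m) = g * m := by
      rw [map_mul]
      have h4 : φ g = g * (m * (φ m)⁻¹) := by rw [h2]; group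
      rw [h4]; group
    have h5 := hf _ h3
    rw [QuotientGroup.eq_one_iff]
    have h6 : g = (m : G)⁻¹ := eq_inv_of_mul_eq_one_left h5
    rw [h6]
    exact inv_mem m.2

/-- powers of a fixed-point-free automorphism of prime order are fixed-point-free -/
theorem iter_fpf {φ : G ≃* G} (hf : ∀ g, φ g = g → g = 1) {r : ℕ} (hr : r.Prime)
    (hφ : ∀ g, (φ^[r]) g = g) {i : ℕ} (hi0 : i ≠ 0) (hir : i < r) {g : G}
    (h : (φ^[i]) g = g) : g = 1 := by
  apply hf
  have h1 : Function.IsPeriodicPt φ i g := h
  have h2 : Function.IsPeriodicPt φ r g := hφ g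
  have h3 := h1.gcd h2
  have h4 : Nat.gcd i r = 1 := by
    rw [← Nat.Coprime]
    exact (Nat.coprime_of_lt_prime hi0 hir hr).symm
  rw [h4] at h3
  exact h3

end basic

/-- The main computation: an abelian normal subgroup `V` with `C_V(Q)` trivial. -/
theorem pow_card_eq_one_of_fpf {G : Type u} [Group G] [Finite G] (φ : G ≃* G)
    (hf : ∀ g, φ g = g → g = 1) {r : ℕ} (hr : r.Prime) (hφ : ∀ g, (φ^[r]) g = g)
    {V Q : Subgroup G} [V.Normal] (hV : V.map φ.toMonoidHom = V) (hQ : Q.map φ.toMonoidHom = Q)
    (hVc : ∀ x ∈ V, ∀ y ∈ V, x * y = y * x)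
    (hC : ∀ v ∈ V, (∀ y ∈ Q, y * v = v * y) → v = 1) {v : G} (hv : v ∈ V) :
    v ^ Nat.card Q = 1 := by
  classical
  haveI : Fintype Q := Fintype.ofFinite Q
  letI : CommGroup V :=
    { (inferInstance : Group V) with mul_comm := fun x y => Subtype.ext (hVc x x.2 y y.2) }
  have hVn : ∀ g x : G, x ∈ V → g * x * g⁻¹ ∈ V := fun g x hx => Subgroup.Normal.conj_mem ‹_› x hx g
  have hiterV : ∀ (i : ℕ) (x : G), x ∈ V → (φ^[i]) x ∈ V := by
    intro i
    induction i with
    | zero => intro x hx; exact hx
    | succ n ih =>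
      intro x hx
      rw [Function.iterate_succ_apply]
      apply ih
      rw [← hV]
      exact ⟨x, hx, rfl⟩
  have hiterQ : ∀ (i : ℕ) (x : G), x ∈ Q → (φ^[i]) x ∈ Q := by
    intro i
    induction i with
    | zero => intro x hx; exact hx
    | succ n ih =>
      intro x hx
      rw [Function.iterate_succ_apply]
      apply ih
      rw [← hQ]
      exact ⟨x, hx, rfl⟩
  have hmul : ∀ (i : ℕ) (x y : G), (φ^[i]) (x * y) = (φ^[i]) x * (φ^[i]) y :=
    fun i x y => iterate_map_mul φ i x y
  have hinv : ∀ (i : ℕ) (x : G), (φ^[i]) (x⁻¹) = ((φ^[i]) x)⁻¹ :=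
    fun i x => iterate_map_inv φ i x
  -- the terms
  let T : ℕ → Q → V := fun i y => ⟨(y : G) * (φ^[i]) ((y : G)⁻¹ * v * y) * (y : G)⁻¹,
    hVn _ _ (hiterV i _ (by
      have := hVn (y : G)⁻¹ v hv
      rwa [inv_inv] at this))⟩
  -- product over i
  have e1 : ∀ y : Q, ∏ i ∈ Finset.range r, T i y = 1 := by
    intro y
    have h1 := (show MonoidHom.FixedPointFree φ from hf).prod_pow_eq_one
      (n := r) (funext hφ) ((y : G)⁻¹ * v * y)
    apply Subtype.ext
    have h2 : ∀ n : ℕ, ((∏ i ∈ Finset.range n, T i y : V) : G) =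
        (y : G) * ((List.range n).map (fun k ↦ φ^[k] ((y : G)⁻¹ * v * y))).prod * (y : G)⁻¹ := by
      intro n
      induction n with
      | zero => simp
      | succ n ih =>
        rw [Finset.prod_range_succ, Subgroup.coe_mul, ih, List.range_succ, List.map_append,
          List.prod_append]
        simp only [List.map_cons, List.map_nil, List.prod_cons, List.prod_nil, mul_one, T]
        group
    rw [h2, h1, Subgroup.coe_one]
    group
  -- product over y, i ≠ 0
  have e2 : ∀ i, i ≠ 0 → i < r → ∏ y : Q, T i y = 1 := by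
    intro i hi0 hir
    apply Subtype.ext
    apply hC _ (∏ y : Q, T i y).2
    intro z hz
    -- reindex
    have h1 : ∀ y : Q, ((T i y : V) : G) = ((y : G) * ((φ^[i]) (y : G))⁻¹) * (φ^[i]) v *
        ((y : G) * ((φ^[i]) (y : G))⁻¹)⁻¹ := by
      intro y
      show (y : G) * (φ^[i]) ((y : G)⁻¹ * v * y) * (y : G)⁻¹ = _
      rw [hmul, hmul, hinv]; group
    let σ : Q → Q := fun y => ⟨(y : G) * ((φ^[i]) (y : G))⁻¹, mul_mem y.2 (inv_mem (hiterQ i _ y.2))⟩
    have hσ : Function.Bijective σ := by
      apply Finite.injective_iff_bijective.mp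
      intro x y hxy
      have h2 : (x : G) * ((φ^[i]) (x : G))⁻¹ = (y : G) * ((φ^[i]) (y : G))⁻¹ :=
        congrArg Subtype.val hxy
      have h3 : (φ^[i]) ((y : G)⁻¹ * x) = (y : G)⁻¹ * x := by
        rw [hmul, hinv]
        have h4 : (x : G) = (y : G) * ((φ^[i]) (y : G))⁻¹ * (φ^[i]) (x : G) := by
          rw [← h2]; group
        nth_rw 2 [h4]; group
      have h5 := iter_fpf hf hr hφ hi0 hir h3
      exact Subtype.ext (inv_mul_eq_one.mp h5).symm
    let U : Q → V := fun y => ⟨(y : G) * (φ^[i]) v * (y : G)⁻¹, hVn _ _ (hiterV i _ hv)⟩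
    have h6 : ∏ y : Q, T i y = ∏ y : Q, U y :=
      Fintype.prod_bijective σ hσ _ _ fun y => Subtype.ext (h1 y)
    rw [h6]
    -- conjugation by z permutes
    let cz : V →* V :=
      { toFun := fun x => ⟨z * x * z⁻¹, hVn z x x.2⟩
        map_one' := Subtype.ext (by simp)
        map_mul' := fun x y => Subtype.ext (by
          show z * ((x : G) * (y : G)) * z⁻¹ = (z * x * z⁻¹) * (z * y * z⁻¹)
          group) }
    have h7 : cz (∏ y : Q, U y) = ∏ y : Q, U y := by
      rw [map_prod]
      refine Fintype.prod_equiv (Equiv.mulLeft (⟨z, hz⟩ : Q)) _ _ fun y => ?_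
      apply Subtype.ext
      show z * ((y : G) * (φ^[i]) v * (y : G)⁻¹) * z⁻¹ =
        (z * y) * (φ^[i]) v * (z * y)⁻¹
      group
    have h8 := congrArg Subtype.val h7
    have h9 : z * ((∏ y : Q, U y : V) : G) * z⁻¹ = ((∏ y : Q, U y : V) : G) := h8
    rw [mul_inv_eq_iff_eq_mul] at h9
    exact h9
  -- conclusion
  have e3 : ∏ y : Q, ∏ i ∈ Finset.range r, T i y = 1 := Finset.prod_eq_one fun y _ => e1 y
  rw [Finset.prod_comm] at e3
  have e4 : ∏ i ∈ Finset.range r, ∏ y : Q, T i y = ∏ y : Q, T 0 y := by
    rw [Finset.prod_eq_single 0]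
    · intro i hi hi0
      exact e2 i hi0 (Finset.mem_range.mp hi)
    · intro h0
      exact absurd (Finset.mem_range.mpr hr.pos) h0
  rw [e4] at e3
  have e5 : ∀ y : Q, T 0 y = ⟨v, hv⟩ := by
    intro y
    apply Subtype.ext
    show (y : G) * ((y : G)⁻¹ * v * y) * (y : G)⁻¹ = v
    group
  rw [Finset.prod_congr rfl fun y _ => e5 y, Finset.prod_const, Finset.card_univ,
    ← Nat.card_eq_fintype_card] at e3
  exact congrArg Subtype.val e3

/-- In a nilpotent group, Sylow subgroups centralise normal `p`-subgroups for other primes. -/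
theorem comm_of_nilpotent_sup {G : Type u} [Group G] [Finite G] {p q : ℕ} [Fact p.Prime]
    [Fact q.Prime] (hpq : p ≠ q) {V : Subgroup G} (hVp : IsPGroup p V)
    (Q : Sylow q G) (hnil : Group.IsNilpotent ↥(V ⊔ (Q : Subgroup G))) :
    ∀ v ∈ V, ∀ y ∈ (Q : Subgroup G), y * v = v * y := by
  intro v hv y hy
  set H := V ⊔ (Q : Subgroup G) with hH
  haveI := hnil
  obtain ⟨P, hP⟩ := (hVp.comap_of_injective H.subtype H.subtype_injective).exists_le_sylow
  let Q' : Sylow q H := Q.subtype le_sup_right
  have hdisj : Disjoint (P : Subgroup H) (Q' : Subgroup H) :=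
    IsPGroup.disjoint_of_ne p q hpq _ _ P.2 Q'.2
  have h1 : (P : Subgroup H).Normal := inferInstance
  have h2 : (Q' : Subgroup H).Normal := inferInstance
  have h3 := Subgroup.commute_of_normal_of_disjoint _ _ h1 h2 hdisj
    (⟨v, Subgroup.mem_sup_left hv⟩ : H) (⟨y, Subgroup.mem_sup_right hy⟩ : H)
    (hP (show (⟨v, Subgroup.mem_sup_left hv⟩ : H) ∈ V.comap H.subtype from hv))
    (show (⟨y, Subgroup.mem_sup_right hy⟩ : H) ∈ (Q' : Subgroup H) from
      (Subgroup.mem_subgroupOf.mpr hy))
  exact (congrArg Subtype.val h3.eq).symm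

theorem card_lt_of_ne_top {G : Type u} [Group G] [Finite G] {H : Subgroup G} (h : H ≠ ⊤) :
    Nat.card H < Nat.card G :=
  lt_of_le_of_ne (Subgroup.card_le_card_group H) fun hc => h ((Subgroup.card_eq_iff_eq_top H).mp hc)

/-- Thompson's theorem. -/
theorem isNilpotent_of_fpf {r : ℕ} (hr : r.Prime) (n : ℕ) : ∀ (G : Type u) [Group G] [Finite G],
    Nat.card G ≤ n → ∀ φ : G ≃* G, (∀ g, (φ^[r]) g = g) → (∀ g, φ g = g → g = 1) →
      Group.IsNilpotent G := by
  induction n with
  | zero =>
    intro G _ _ hn
    have : 0 < Nat.card G := Nat.card_pos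
    omega
  | succ n ih =>
    intro G _ _ hn φ hφ hf
    classical
    -- induction for invariant subgroups
    have hsub : ∀ H : Subgroup G, H.map φ.toMonoidHom = H → H ≠ ⊤ → Group.IsNilpotent H := by
      intro H hH hH'
      obtain ⟨ψ, hψ⟩ := exists_restrict φ hH
      refine ih H (by have := card_lt_of_ne_top hH'; omega) ψ (fun g => ?_) (fun g hg => ?_)
      · apply Subtype.ext
        rw [restrict_iter hψ, hφ]
      · apply Subtype.ext
        exact hf g (by rw [← hψ, hg])
    have hquot : ∀ (N : Subgroup G) [N.Normal], N.map φ.toMonoidHom = N → N ≠ ⊥ →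
        Group.IsNilpotent (G ⧸ N) := by
      intro N hNn hN hN'
      obtain ⟨ψ, hψ, hψf⟩ := exists_quot φ hf hN
      have hcard : Nat.card (G ⧸ N) < Nat.card G := by
        have h1 := N.card_eq_card_quotient_mul_card_subgroup
        have h2 : 1 < Nat.card N := by
          rw [Finite.one_lt_card_iff_nontrivial]
          exact (Subgroup.nontrivial_iff_ne_bot _).mpr hN'
        have h3 : 0 < Nat.card (G ⧸ N) := Nat.card_pos
        rw [h1]
        exact (lt_mul_iff_one_lt_right h3).mpr h2
      refine ih (G ⧸ N) (by omega) ψ (fun y => ?_) hψf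
      induction y using QuotientGroup.induction_on with
      | H g =>
        have h1 : ∀ i : ℕ, (ψ^[i]) ((g : G) : G ⧸ N) = (((φ^[i]) g : G) : G ⧸ N) := by
          intro i
          induction i with
          | zero => rfl
          | succ i ih' => rw [Function.iterate_succ_apply', Function.iterate_succ_apply', ih', hψ]
        rw [h1, hφ]
    by_contra hnil
    -- trivial centre
    have hZ : Subgroup.center G = ⊥ := by
      by_contra hc
      apply hnil
      apply Group.of_quotient_center_nilpotent
      refine hquot _ ?_ hc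
      ext x
      constructor
      · rintro ⟨y, hy, rfl⟩
        rw [SetLike.mem_coe, Subgroup.mem_center_iff] at hy
        show φ y ∈ _
        rw [Subgroup.mem_center_iff]
        intro g
        obtain ⟨g, rfl⟩ := φ.surjective g
        rw [← map_mul, ← map_mul, hy]
      · intro hx
        refine ⟨φ.symm x, ?_, ?_⟩
        · rw [SetLike.mem_coe, Subgroup.mem_center_iff]
          rw [Subgroup.mem_center_iff] at hx
          intro g
          apply φ.injective
          rw [map_mul, map_mul]
          simp only [MulEquiv.apply_symm_apply]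
          exact hx _
        · show φ (φ.symm x) = x
          exact φ.apply_symm_apply x
    -- no abelian normal invariant p-subgroup
    have key : ∀ (p : ℕ) [Fact p.Prime] (V : Subgroup G), V.Normal → V.map φ.toMonoidHom = V →
        IsPGroup p V → (∀ x ∈ V, ∀ y ∈ V, x * y = y * x) → V = ⊥ := by
      intro p _ V hVn hV hVp hVc
      by_contra hV1
      by_cases hcase : ∃ q, ∃ (_ : Fact q.Prime), q ≠ p ∧ ∃ Q : Sylow q G,
          (Q : Subgroup G).map φ.toMonoidHom = Q ∧ V ⊔ (Q : Subgroup G) = ⊤
      · obtain ⟨q, hq, hqp, Q, hQ, hVQ⟩ := hcase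
        have hC : ∀ v ∈ V, (∀ y ∈ (Q : Subgroup G), y * v = v * y) → v = 1 := by
          intro v hv hvQ
          have h1 : v ∈ Subgroup.center G := by
            rw [Subgroup.mem_center_iff]
            intro g
            have h2 : (⊤ : Subgroup G) ≤ Subgroup.centralizer {v} := by
              rw [← hVQ, sup_le_iff]
              constructor
              · intro x hx
                rw [Subgroup.mem_centralizer_singleton_iff]
                exact hVc x hx v hv
              · intro x hx
                rw [Subgroup.mem_centralizer_singleton_iff]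
                exact hvQ x hx
            have h3 := h2 (Subgroup.mem_top g)
            rw [Subgroup.mem_centralizer_singleton_iff] at h3
            exact h3
          rw [hZ, Subgroup.mem_bot] at h1
          exact h1
        apply hV1
        rw [Subgroup.eq_bot_iff_forall]
        intro v hv
        have h1 := pow_card_eq_one_of_fpf φ hf hr hφ hV hQ hVc hC hv
        obtain ⟨k, hk⟩ := hVp ⟨v, hv⟩
        have h2 : v ^ p ^ k = 1 := congrArg Subtype.val hk
        obtain ⟨m, hm⟩ := Q.2.exists_card_eq
        have h3 : orderOf v ∣ p ^ k := orderOf_dvd_of_pow_eq_one h2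
        have h4 : orderOf v ∣ q ^ m := by rw [← hm]; exact orderOf_dvd_of_pow_eq_one h1
        have h5 : Nat.Coprime (p ^ k) (q ^ m) :=
          Nat.Coprime.pow _ _ ((Nat.coprime_primes (Fact.out) hq.out).mpr (Ne.symm hqp))
        exact orderOf_eq_one_iff.mp (Nat.eq_one_of_dvd_coprimes h5 h3 h4)
      · push Not at hcase
        -- all invariant Sylow q-subgroups centralise V
        obtain ⟨P, hP⟩ := exists_inv_sylow φ hf p
        haveI := hVn
        have hVP : V ≤ P := by
          have h1 : IsPGroup p ↥(V ⊔ (P : Subgroup G)) := hVp.to_sup_of_normal_left P.2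
          have h2 := P.3 h1 le_sup_right
          rw [← h2]; exact le_sup_left
        have hPnil : Group.IsNilpotent (P : Subgroup G) := P.2.isNilpotent
        -- V ∩ Z(P) nontrivial
        have h1 : ∃ v ∈ V, v ≠ 1 ∧ ∀ y ∈ (P : Subgroup G), y * v = v * y := by
          have h2 : (V.subgroupOf (P : Subgroup G)).Normal := inferInstance
          have h3 : V.subgroupOf (P : Subgroup G) ≠ ⊥ := by
            intro hc
            apply hV1
            rw [Subgroup.subgroupOf_eq_bot] at hc
            exact hc.eq_bot_of_le hVP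
          have h4 := H2.inf_center_ne_bot_of_normal P.2 _ h3
          obtain ⟨x, hx, hx1⟩ := (Subgroup.bot_or_exists_ne_one _).resolve_left h4
          refine ⟨x, hx.1, fun hc => hx1 (Subtype.ext hc), fun y hy => ?_⟩
          have := Subgroup.mem_center_iff.mp hx.2 ⟨y, hy⟩
          exact congrArg Subtype.val this
        obtain ⟨v, hvV, hv1, hvP⟩ := h1
        apply hv1
        have h2 : v ∈ Subgroup.center G := by
          rw [Subgroup.mem_center_iff]
          have h3 : Subgroup.centralizer {v} = (⊤ : Subgroup G) := by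
            rw [← Subgroup.card_eq_iff_eq_top]
            apply Nat.dvd_antisymm (Subgroup.card_subgroup_dvd_card _)
            rw [Nat.dvd_iff_prime_pow_dvd_dvd]
            intro q k hq hk
            haveI := Fact.mk hq
            by_cases hqp : q = p
            · subst hqp
              have h4 : (P : Subgroup G) ≤ Subgroup.centralizer {v} := by
                intro y hy
                rw [Subgroup.mem_centralizer_singleton_iff]
                exact hvP y hy
              exact (((Nat.Prime.pow_dvd_iff_le_factorization hq Nat.card_pos.ne').mp hk |> fun h =>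
                (pow_dvd_pow q h).trans (by rw [← P.card_eq_multiplicity]))).trans
                  (Subgroup.card_dvd_of_le h4)
            · obtain ⟨Q, hQ⟩ := exists_inv_sylow φ hf q
              have h5 := hcase q ⟨hq⟩ hqp Q hQ
              have h6 : Group.IsNilpotent ↥(V ⊔ (Q : Subgroup G)) := by
                apply hsub _ _ h5
                rw [Subgroup.map_sup, hV, hQ]
              have h4 : (Q : Subgroup G) ≤ Subgroup.centralizer {v} := by
                intro y hy
                rw [Subgroup.mem_centralizer_singleton_iff]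
                exact comm_of_nilpotent_sup (Ne.symm hqp) hVp Q h6 v hvV y hy
              exact (((Nat.Prime.pow_dvd_iff_le_factorization hq Nat.card_pos.ne').mp hk |> fun h =>
                (pow_dvd_pow q h).trans (by rw [← Q.card_eq_multiplicity]))).trans
                  (Subgroup.card_dvd_of_le h4)
          intro g
          have h4 : g ∈ Subgroup.centralizer {v} := h3 ▸ Subgroup.mem_top g
          rw [Subgroup.mem_centralizer_singleton_iff] at h4
          exact h4
        rw [hZ, Subgroup.mem_bot] at h2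
        exact h2
    have h2 : ¬ IsPGroup 2 G := fun hc => hnil hc.isNilpotent
    obtain ⟨p, hp, hp2, hpd⟩ : ∃ p, p.Prime ∧ p ≠ 2 ∧ p ∣ Nat.card G := by
      by_contra hc
      push Not at hc
      apply h2
      rw [IsPGroup.iff_card]
      have h3 := Nat.eq_prime_pow_of_unique_prime_dvd (n := Nat.card G) (p := 2) Nat.card_pos.ne'
        (fun {d} hd hdn => by
          by_contra hd2
          exact hc d hd hd2 hdn)
      exact ⟨_, h3⟩
    haveI := Fact.mk hp
    obtain ⟨P, hP⟩ := exists_inv_sylow φ hf p
    have hP1 : (P : Subgroup G) ≠ ⊥ := P.ne_bot_of_dvd_card hpd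
    have hW := H2.npcFun_ZJe (p := p) hp2
    have hZ1 := hW.WA_ne_bot P.2 hP1
    have hZφ := hW.map_of_injOn (U := (P : Subgroup G)) (f := φ.toMonoidHom)
      (φ.injective.comp (P : Subgroup G).subtype_injective)
    rw [hP] at hZφ
    by_cases hN : Subgroup.normalizer ((H2.WA (fun (S : Type u) [Group S] => H2.ZJe p S)
        (P : Subgroup G) : Subgroup G) : Set G) = ⊤
    · apply hZ1
      apply key p _ (Subgroup.normalizer_eq_top_iff.mp hN) hZφ.symm
        (P.2.to_le (H2.WA_le _))
      intro x hx y hy
      rw [H2.WA_ZJe] at hx hy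
      exact (Subgroup.mem_centralizer_iff.mp hx.2 y hy.1).symm
    · have hNn := hsub _ (by rw [Subgroup.map_equiv_normalizer_eq, ← hZφ]) hN
      have h3 := H2.npc_functor hp2 hW G P (H2.HasNormalPComplement.of_isNilpotent hNn)
      obtain ⟨M, hM, hpM, k, hk⟩ := H2.hasNormalPComplement_iff.mp h3
      have hMφ : M.map φ.toMonoidHom = M := by
        ext x
        rw [Subgroup.mem_map]
        constructor
        · rintro ⟨y, hy, rfl⟩
          rw [H2.mem_normal_complement_iff hpM hk] at hy ⊢
          rw [show orderOf (φ.toMonoidHom y) = orderOf y from orderOf_injective φ.toMonoidHom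
            φ.injective y]
          exact hy
        · intro hx
          refine ⟨φ.symm x, ?_, φ.apply_symm_apply x⟩
          rw [H2.mem_normal_complement_iff hpM hk] at hx ⊢
          rw [show orderOf (φ.symm x) = orderOf x from orderOf_injective φ.symm.toMonoidHom
            φ.symm.injective x]
          exact hx
      have hMtop : M ≠ ⊤ := by
        rintro rfl
        apply hpM
        rw [Subgroup.card_top]; exact hpd
      have hMbot : M ≠ ⊥ := by
        rintro rfl
        apply hnil
        have h4 : IsPGroup p G := by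
          rw [IsPGroup.iff_card]
          exact ⟨k, by rw [← hk, Subgroup.index_bot]⟩
        exact h4.isNilpotent
      have hMn := hsub M hMφ hMtop
      haveI : Nontrivial M := (Subgroup.nontrivial_iff_ne_bot M).mpr hMbot
      have hZM := Group.IsNilpotent.center_ne_bot M
      haveI : Nontrivial (Subgroup.center M) := (Subgroup.nontrivial_iff_ne_bot _).mpr hZM
      obtain ⟨q, hq, hqd⟩ := Nat.exists_prime_and_dvd
        (Finite.one_lt_card (α := Subgroup.center M)).ne'
      haveI := Fact.mk hq
      obtain ⟨z, hz⟩ := exists_prime_orderOf_dvd_card' q hqd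
      let V : Subgroup G :=
        { carrier := {x | x ∈ M ∧ (∀ m ∈ M, m * x = x * m) ∧ x ^ q = 1}
          one_mem' := ⟨one_mem _, fun m _ => by simp, one_pow _⟩
          mul_mem' := by
            rintro x y ⟨hx1, hx2, hx3⟩ ⟨hy1, hy2, hy3⟩
            refine ⟨mul_mem hx1 hy1, fun m hm => ?_, ?_⟩
            · rw [← mul_assoc, hx2 m hm, mul_assoc, hy2 m hm, mul_assoc]
            · have : Commute x y := hy2 x hx1
              rw [this.mul_pow, hx3, hy3, one_mul]
          inv_mem' := by
            rintro x ⟨hx1, hx2, hx3⟩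
            refine ⟨inv_mem hx1, fun m hm => ?_, by rw [inv_pow, hx3, inv_one]⟩
            have : Commute m x := hx2 m hm
            exact this.inv_right.eq }
      have hV1 : V ≠ ⊥ := by
        intro hc
        have h4 : ((z : M) : G) ∈ V := by
          refine ⟨z.1.2, fun m hm => ?_, ?_⟩
          · exact congrArg Subtype.val (Subgroup.mem_center_iff.mp z.2 ⟨m, hm⟩)
          · have h5 : z ^ q = 1 := by rw [← hz]; exact pow_orderOf_eq_one z
            exact congrArg (fun w : Subgroup.center M => ((w : M) : G)) h5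
        rw [hc, Subgroup.mem_bot] at h4
        have h5 : z = 1 := Subtype.ext (Subtype.ext h4)
        rw [h5, orderOf_one] at hz
        exact hq.one_lt.ne hz
      apply hV1
      apply key q V
      · constructor
        rintro x ⟨hx1, hx2, hx3⟩ g
        refine ⟨hM.conj_mem x hx1 g, fun m hm => ?_, ?_⟩
        · have h4 := hx2 (g⁻¹ * m * g) (by
            have := hM.conj_mem m hm g⁻¹
            rwa [inv_inv] at this)
          have h5 : m * (g * x * g⁻¹) = g * ((g⁻¹ * m * g) * x) * g⁻¹ := by group
          rw [h5, h4]; group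
        · rw [conj_pow, hx3]; group
      · ext x
        rw [Subgroup.mem_map]
        have key2 : ∀ ψ : G ≃* G, M.map ψ.toMonoidHom = M → ∀ x ∈ V, ψ x ∈ V := by
          rintro ψ hψ x ⟨hx1, hx2, hx3⟩
          refine ⟨by rw [← hψ]; exact ⟨x, hx1, rfl⟩, fun m hm => ?_, by rw [← map_pow, hx3, map_one]⟩
          rw [← hψ] at hm
          obtain ⟨m', hm', rfl⟩ := hm
          show ψ m' * ψ x = ψ x * ψ m'
          rw [← map_mul, ← map_mul, hx2 m' hm']
        constructor
        · rintro ⟨y, hy, rfl⟩
          exact key2 φ hMφ y hy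
        · intro hx
          refine ⟨φ.symm x, key2 φ.symm ?_ x hx, φ.apply_symm_apply x⟩
          nth_rw 1 [← hMφ]
          rw [Subgroup.map_map]
          convert Subgroup.map_id M
          ext y
          exact φ.symm_apply_apply y
      · intro x
        refine ⟨1, ?_⟩
        rw [pow_one]
        exact Subtype.ext x.2.2.2
      · rintro x ⟨hx1, hx2, hx3⟩ y ⟨hy1, hy2, hy3⟩
        exact hy2 x hx1

end Cfsg.Agent.H20.Fpf
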