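import Cfsg.Agent.H20.ZInv
import Cfsg.Agent.H23.RankOne2
import Cfsg.Agent.H23.Coprime4
import Mathlib

/-!
Fixed-point-free action of `H` on `K`: abelian subgroups are cyclic, Sylow subgroups are cyclic for
odd order.
-/

set_option autoImplicit false
set_option linter.style.haveILetI false

namespace Cfsg.Agent.H20

variable {G : Type*} [Group G] [Finite G]

theorem isCyclic_of_fpf_comm {A K : Subgroup G} (hK : K ≠ ⊥)
    (hn : A ≤ Subgroup.normalizer (K : Set G))
    (hfpf : ∀ a ∈ A, a ≠ 1 → ∀ u ∈ K, a * u = u * a → u = 1)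
    (hcop : (Nat.card A).Coprime (Nat.card K)) (hab : ∀ a ∈ A, ∀ b ∈ A, a * b = b * a) :
    IsCyclic A := by
  by_contra hnc
  have h1 := Cfsg.Agent.H23.iSup_centralizer_of_not_isCyclic
    (⟨⟨fun a b => Subtype.ext (hab a a.2 b b.2)⟩⟩ : IsMulCommutative A) hnc hn hcop
  apply hK
  rw [← h1, eq_bot_iff]
  refine iSup_le ?_
  rintro ⟨a, ha, ha1⟩ u hu
  rw [Subgroup.mem_inf] at hu
  rw [Subgroup.mem_bot]
  apply hfpf a ha ha1 u hu.1
  exact (Subgroup.mem_centralizer_singleton_iff.mp hu.2).symm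

theorem isZGroup_of_fpf {H K : Subgroup G} (hK : K ≠ ⊥)
    (hn : H ≤ Subgroup.normalizer (K : Set G))
    (hfpf : ∀ a ∈ H, a ≠ 1 → ∀ u ∈ K, a * u = u * a → u = 1)
    (hcop : (Nat.card H).Coprime (Nat.card K)) (hodd : Odd (Nat.card H)) : IsZGroup H := by
  refine ⟨fun p hp P => ?_⟩
  haveI : Fact p.Prime := ⟨hp⟩
  by_contra hnc
  have hp2 : p ≠ 2 := by
    rintro rfl
    apply hnc
    have h1 : Nat.card P ∣ Nat.card H := Subgroup.card_subgroup_dvd_card _
    obtain ⟨n, hn'⟩ := IsPGroup.iff_card.mp P.2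
    have h2 : Odd (Nat.card P) := Odd.of_dvd_nat hodd h1
    rw [hn'] at h2
    have h3 : n = 0 := by
      by_contra h
      exact (Nat.not_odd_iff_even.mpr ((Nat.even_pow.mpr ⟨even_two, h⟩))) h2
    rw [h3, pow_zero] at hn'
    haveI : Subsingleton P := (Nat.card_eq_one_iff_unique.mp hn').1
    infer_instance
  obtain ⟨E, _, hEc, hEp⟩ := Cfsg.Agent.H23.exists_normal_sq_of_odd (P.2 : IsPGroup p P) hp2 hnc
  have hEab := Cfsg.Agent.H23.comm_of_card_sq hEc
  -- transport to G
  let f : P →* G := H.subtype.comp (P : Subgroup H).subtype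
  have hf : Function.Injective f :=
    (Subgroup.subtype_injective H).comp (Subgroup.subtype_injective _)
  have hcE : Nat.card (E.map f) = p ^ 2 := by
    rw [← hEc]
    exact (Nat.card_congr (Subgroup.equivMapOfInjective E f hf).toEquiv).symm
  have hEH : E.map f ≤ H := by
    rintro _ ⟨x, _, rfl⟩
    exact (x : H).2
  have hcyc : IsCyclic (E.map f) := by
    apply isCyclic_of_fpf_comm hK (hEH.trans hn) (fun a ha => hfpf a (hEH ha))
      (Nat.Coprime.of_dvd_left (Subgroup.card_dvd_of_le hEH) hcop)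
    rintro _ ⟨x, hx, rfl⟩ _ ⟨y, hy, rfl⟩
    rw [← map_mul, ← map_mul, hEab x hx y hy]
  have hcyc' : IsCyclic E :=
    isCyclic_of_injective (Subgroup.equivMapOfInjective E f hf).toMonoidHom
      (Subgroup.equivMapOfInjective E f hf).injective
  exact Cfsg.Agent.H23.not_isCyclic_of_exponent (p := p)
    (by rw [hEc, pow_two]; exact lt_mul_of_one_lt_left hp.pos hp.one_lt) hEp hcyc'

end Cfsg.Agent.H20
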