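import Cfsg.Agent.H9.SnC

set_option autoImplicit false
set_option linter.unusedSectionVars false
set_option linter.style.haveILetI false
set_option linter.unusedVariables false
set_option linter.unusedSimpArgs false

/-! Subgroups of index six and automorphisms of `A₆`; recognition of `S₆`. -/

namespace Cfsg.Agent.H20.AltSix

open Equiv

abbrev A6 := alternatingGroup (Fin 6)

theorem card_A6 : Nat.card A6 = 360 := by
  rw [nat_card_alternatingGroup, Nat.card_eq_fintype_card, Fintype.card_fin]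
  rfl

theorem support_three {g : Perm (Fin 6)} (hg : orderOf g = 3) :
    (g.cycleType = {3} ∧ g.support.card = 3) ∨ (g.cycleType = {3, 3} ∧ g.support.card = 6) := by
  obtain ⟨n, hn⟩ := Perm.cycleType_prime_order (σ := g) (by rw [hg]; exact Nat.prime_three)
  rw [hg] at hn
  have h1 := Perm.sum_cycleType g
  rw [hn, Multiset.sum_replicate, smul_eq_mul] at h1
  have h2 : g.support.card ≤ 6 := by
    have := Finset.card_le_univ g.support
    simpa using this
  have h3 : n = 0 ∨ n = 1 := by omega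
  rcases h3 with h3 | h3
  · left
    rw [h3] at hn h1
    exact ⟨by rw [hn]; rfl, by omega⟩
  · right
    rw [h3] at hn h1
    exact ⟨by rw [hn]; rfl, by omega⟩

theorem support_three_of_fix {g : Perm (Fin 6)} (hg : orderOf g = 3) (hfix : ∃ i, g i = i) :
    g.support.card = 3 := by
  rcases support_three hg with ⟨-, h⟩ | ⟨-, h⟩
  · exact h
  · exfalso
    have h1 : g.support = Finset.univ := Finset.eq_univ_of_card _ (by rw [h]; rfl)
    obtain ⟨i, hi⟩ := hfix
    have h2 : i ∈ g.support := by rw [h1]; exact Finset.mem_univ i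
    rw [Perm.mem_support] at h2
    exact h2 hi

theorem isConj_of_nofix {g h : Perm (Fin 6)} (hg : orderOf g = 3) (hg2 : ∀ i, g i ≠ i)
    (hh : orderOf h = 3) (hh2 : ∀ i, h i ≠ i) : IsConj g h := by
  have key : ∀ k : Perm (Fin 6), orderOf k = 3 → (∀ i, k i ≠ i) → k.cycleType = {3, 3} := by
    intro k hk hk2
    rcases support_three hk with ⟨-, h⟩ | ⟨h, -⟩
    · exfalso
      have h1 : k.support = Finset.univ := by
        ext i; simp [hk2 i]
      rw [h1] at h
      simp at h
    · exact h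
  rw [Perm.isConj_iff_cycleType_eq, key g hg hg2, key h hh hh2]

/-- point stabilizers have index six in `A6` -/
theorem index_stab (i : Fin 6) : (MulAction.stabilizer A6 i).index = 6 := by
  haveI : MulAction.IsPretransitive A6 (Fin 6) := alternatingGroup.isPretransitive_of_three_le_card _ (by simp)
  rw [MulAction.index_stabilizer_of_transitive, Nat.card_eq_fintype_card, Fintype.card_fin]

/-- a subgroup of order `60` or `120` containing a 3-cycle fixes a point -/
theorem fixes_point (K : Subgroup (Perm (Fin 6))) (h5 : 5 ∣ Nat.card K) (h18 : ¬ 18 ∣ Nat.card K) {c : Perm (Fin 6)} (hcK : c ∈ K)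
    (hc : orderOf c = 3) (hfix : ∃ i, c i = i) : ∃ i, ∀ g ∈ K, g i = i := by
  classical
  haveI : Fact (Nat.Prime 5) := ⟨Nat.prime_five⟩
  obtain ⟨g, hg⟩ := exists_prime_orderOf_dvd_card' 5 h5
  have hg5 : orderOf (g : Perm (Fin 6)) = 5 := by rw [Subgroup.orderOf_coe]; exact hg
  have hgo : (orderOf (g : Perm (Fin 6))).Prime := by rw [hg5]; exact Nat.prime_five
  obtain ⟨n, hn⟩ := Perm.cycleType_prime_order hgo
  rw [hg5] at hn
  have h1 := Perm.sum_cycleType (g : Perm (Fin 6))
  rw [hn, Multiset.sum_replicate, smul_eq_mul] at h1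
  have h2 : (g : Perm (Fin 6)).support.card ≤ 6 := by
    have := Finset.card_le_univ (g : Perm (Fin 6)).support
    simpa using this
  have hn0 : n = 0 := by omega
  rw [hn0] at hn h1
  have hcyc : (g : Perm (Fin 6)).IsCycle := by
    rw [← Perm.card_cycleType_eq_one, hn]; rfl
  -- the fixed point of `g`
  have hcard : (g : Perm (Fin 6)).support.card = 5 := by omega
  obtain ⟨i, hi⟩ : ∃ i, i ∉ (g : Perm (Fin 6)).support := by
    by_contra hcon
    push Not at hcon
    have : (g : Perm (Fin 6)).support = Finset.univ := by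
      ext a; simp [hcon a]
    rw [this] at hcard
    simp at hcard
  have hsupp : (g : Perm (Fin 6)).support = Finset.univ.erase i := by
    apply Finset.eq_of_subset_of_card_le
    · intro a ha
      rw [Finset.mem_erase]
      exact ⟨fun h => hi (h ▸ ha), Finset.mem_univ a⟩
    · rw [Finset.card_erase_of_mem (Finset.mem_univ i), hcard]
      simp
  refine ⟨i, ?_⟩
  by_contra hcon
  push Not at hcon
  obtain ⟨k, hkK, hki⟩ := hcon
  -- `K` is transitive
  have hsame : ∀ a b : Fin 6, a ≠ i → b ≠ i → ∃ x ∈ K, x a = b := by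
    intro a b ha hb
    have ha' : (g : Perm (Fin 6)) a ≠ a := by
      rw [← Perm.mem_support, hsupp, Finset.mem_erase]; exact ⟨ha, Finset.mem_univ a⟩
    have hb' : (g : Perm (Fin 6)) b ≠ b := by
      rw [← Perm.mem_support, hsupp, Finset.mem_erase]; exact ⟨hb, Finset.mem_univ b⟩
    obtain ⟨m, hm⟩ := hcyc.exists_zpow_eq ha' hb'
    exact ⟨_, zpow_mem g.2 m, hm⟩
  have hall : ∀ b : Fin 6, ∃ x ∈ K, x i = b := by
    intro b
    by_cases hb : b = i
    · exact ⟨1, one_mem _, by rw [hb]; rfl⟩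
    · obtain ⟨x, hx, hxb⟩ := hsame (k i) b hki hb
      exact ⟨x * k, mul_mem hx hkK, hxb⟩
  haveI htr : MulAction.IsPretransitive K (Fin 6) := by
    constructor
    intro a b
    obtain ⟨x, hx, hxa⟩ := hall a
    obtain ⟨y, hy, hyb⟩ := hall b
    refine ⟨⟨y * x⁻¹, mul_mem hy (inv_mem hx)⟩, ?_⟩
    change (y * x⁻¹) a = b
    rw [Perm.mul_apply, ← hxa]
    have : x⁻¹ (x i) = i := x.symm_apply_apply i
    rw [this, hyb]
  obtain ⟨a, ha⟩ := hfix
  have h3 := (MulAction.stabilizer K a).index_mul_card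
  rw [MulAction.index_stabilizer_of_transitive, Nat.card_eq_fintype_card, Fintype.card_fin] at h3
  have h4 : 3 ∣ Nat.card (MulAction.stabilizer K a) := by
    have h5 : (⟨c, hcK⟩ : K) ∈ MulAction.stabilizer K a := ha
    have h6 := Subgroup.orderOf_dvd_natCard _ h5
    rw [Subgroup.orderOf_mk, hc] at h6
    exact h6
  apply h18
  rw [← h3]
  obtain ⟨q, hq⟩ := h4
  rw [hq]
  exact ⟨q, by ring⟩

/-- a subgroup of `A6` of index six containing a 3-cycle is a point stabilizer -/
theorem eq_stab (K : Subgroup A6) (hK : K.index = 6) {c : A6} (hcK : c ∈ K) (hc : orderOf c = 3)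
    (hfix : ∃ i, (c : Perm (Fin 6)) i = i) : ∃ i : Fin 6, K = MulAction.stabilizer A6 i := by
  have h1 := K.index_mul_card
  rw [hK, card_A6] at h1
  have h2 : Nat.card (K.map A6.subtype) = 60 := by
    rw [Subgroup.card_map_of_injective (Subgroup.subtype_injective _)]; omega
  obtain ⟨i, hi⟩ := fixes_point (K.map A6.subtype) (by rw [h2]; norm_num) (by rw [h2]; norm_num) (c := c)
    (Subgroup.mem_map_of_mem _ hcK) (by rw [Subgroup.orderOf_coe]; exact hc) hfix
  refine ⟨i, ?_⟩
  have hle : K ≤ MulAction.stabilizer A6 i := fun g hg => hi _ (Subgroup.mem_map_of_mem _ hg)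
  apply Subgroup.eq_of_le_of_card_ge hle
  have h3 := (MulAction.stabilizer A6 i).index_mul_card
  rw [index_stab i, card_A6] at h3
  omega

/-- an automorphism of `S6` that exchanges the two classes of elements of order three -/
theorem exists_outer : ∃ e : Perm (Fin 6) ≃* Perm (Fin 6), ∀ x : Perm (Fin 6), orderOf x = 3 → (∀ i, x i ≠ i) → ∃ i, e x i = i := by
  classical
  haveI : Fact (Nat.Prime 3) := ⟨Nat.prime_three⟩
  have h6 : Fintype.card (Fin 6) = 6 := Fintype.card_fin 6
  obtain ⟨H, hH, hne⟩ := H9.Sn.exists_trans (Ω := Fin 6) h6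
  obtain ⟨e, ω, he⟩ := H9.Sn.exists_coset_iso (Ω := Fin 6) (by rw [h6]; norm_num) H (by rw [h6, hH])
  have hcard : Nat.card H = 120 := by
    have h1 := H.index_mul_card
    rw [hH, Nat.card_perm, Nat.card_fin] at h1
    have : Nat.factorial 6 = 720 := by decide
    omega
  obtain ⟨y, hy⟩ := exists_prime_orderOf_dvd_card' (G := H) 3 (by rw [hcard]; norm_num)
  have hy3 : orderOf (y : Perm (Fin 6)) = 3 := by rw [Subgroup.orderOf_coe]; exact hy
  have hynf : ∀ i, (y : Perm (Fin 6)) i ≠ i := by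
    intro i hi
    obtain ⟨a, ha⟩ := fixes_point H (by rw [hcard]; norm_num) (by rw [hcard]; norm_num) y.2 hy3 ⟨i, hi⟩
    apply hne a
    apply Subgroup.eq_of_le_of_card_ge (fun g hg => ha g hg)
    have h3 := (MulAction.stabilizer (Perm (Fin 6)) a).index_mul_card
    rw [H9.Sn.card_stab, h6, Nat.card_perm, Nat.card_fin] at h3
    have : Nat.factorial 6 = 720 := by decide
    omega
  refine ⟨e, fun x hx hx2 => ?_⟩
  obtain ⟨σ, hσ⟩ := isConj_iff.mp (isConj_of_nofix hy3 hynf hx hx2)
  refine ⟨e σ ω, ?_⟩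
  have h1 : e y ω = ω := (he _).mp y.2
  rw [← hσ, map_mul, map_mul, map_inv, Perm.mul_apply, Perm.mul_apply]
  have h2 : (e σ)⁻¹ (e σ ω) = ω := (e σ).symm_apply_apply ω
  rw [h2, h1]

/-- restriction of an automorphism of `S6` to `A6` -/
theorem exists_restrict (e : Perm (Fin 6) ≃* Perm (Fin 6)) : ∃ f : A6 ≃* A6, ∀ x : A6, ((f x : A6) : Perm (Fin 6)) = e x := by
  have h1 : A6.map e.toMonoidHom = A6 := by
    have : (alternatingGroup (Fin 6)).Characteristic := inferInstance
    exact (Subgroup.characteristic_iff_map_eq.mp this) e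
  refine ⟨(e.subgroupMap A6).trans (MulEquiv.subgroupCongr h1), fun x => rfl⟩

theorem exists_three_cycle_iso {M : Type*} [Group M] (e : M ≃* A6) {x : M} (hx : orderOf x = 3) :
    ∃ e' : M ≃* A6, ∃ i, ((e' x : A6) : Perm (Fin 6)) i = i := by
  by_cases hfix : ∃ i, ((e x : A6) : Perm (Fin 6)) i = i
  · exact ⟨e, hfix⟩
  · push Not at hfix
    obtain ⟨o, ho⟩ := exists_outer
    obtain ⟨f, hf⟩ := exists_restrict o
    have h1 : orderOf ((e x : A6) : Perm (Fin 6)) = 3 := by
      rw [Subgroup.orderOf_coe, MulEquiv.orderOf_eq, hx]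
    obtain ⟨i, hi⟩ := ho _ h1 hfix
    refine ⟨e.trans f, i, ?_⟩
    change ((f (e x) : A6) : Perm (Fin 6)) i = i
    rw [hf, hi]

theorem stab_inj {i i' : Fin 6} (h : MulAction.stabilizer A6 i = MulAction.stabilizer A6 i') : i = i' := by
  by_contra hne
  have : ∀ i i' : Fin 6, i ≠ i' → ∃ a b c : Fin 6, a ≠ b ∧ a ≠ c ∧ b ≠ c ∧ a ≠ i ∧ b ≠ i ∧ c ≠ i ∧ a = i' := by decide
  obtain ⟨a, b, c, hab, hac, hbc, hai, hbi, hci, hai'⟩ := this i i' hne
  have h3 : Perm.IsThreeCycle (swap a b * swap a c) := Perm.isThreeCycle_swap_mul_swap_same hab hac hbc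
  have h4 : swap a b * swap a c ∈ A6 := h3.mem_alternatingGroup
  have h5 : (⟨swap a b * swap a c, h4⟩ : A6) ∈ MulAction.stabilizer A6 i := by
    rw [MulAction.mem_stabilizer_iff]
    change (swap a b * swap a c) i = i
    rw [Perm.mul_apply, swap_apply_of_ne_of_ne hai.symm hci.symm, swap_apply_of_ne_of_ne hai.symm hbi.symm]
  rw [h, MulAction.mem_stabilizer_iff] at h5
  change (swap a b * swap a c) i' = i' at h5
  rw [← hai', Perm.mul_apply, swap_apply_left, swap_apply_of_ne_of_ne hac.symm hbc.symm] at h5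
  exact hac h5.symm

/-- an involutory automorphism fixing an element of order three with a fixed point normalizes a point stabilizer -/
theorem exists_invariant (ψ : A6 ≃* A6) (hψ : ∀ x, ψ (ψ x) = x) {c : A6} (hc : orderOf c = 3)
    (hfix : ∃ i, (c : Perm (Fin 6)) i = i) (hψc : ψ c = c) : ∃ K : Subgroup A6, K.index = 6 ∧ ∀ x ∈ K, ψ x ∈ K := by
  classical
  have h1 : ∀ i : {i : Fin 6 // (c : Perm (Fin 6)) i = i}, ∃ i' : {i : Fin 6 // (c : Perm (Fin 6)) i = i},
      (MulAction.stabilizer A6 (i : Fin 6)).map ψ.toMonoidHom = MulAction.stabilizer A6 (i' : Fin 6) := by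
    rintro ⟨i, hi⟩
    have hcm : c ∈ (MulAction.stabilizer A6 i).map ψ.toMonoidHom := ⟨c, hi, hψc⟩
    obtain ⟨i', hi'⟩ := eq_stab ((MulAction.stabilizer A6 i).map ψ.toMonoidHom)
      (by rw [Subgroup.index_map_of_bijective ψ.bijective, index_stab]) hcm hc hfix
    refine ⟨⟨i', ?_⟩, hi'⟩
    rw [hi'] at hcm
    exact hcm
  choose f hf using h1
  have hff : Function.Involutive f := by
    intro i
    apply Subtype.ext
    apply stab_inj
    rw [← hf (f i), ← hf i, Subgroup.map_map]
    ext x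
    rw [Subgroup.mem_map]
    constructor
    · rintro ⟨y, hy, rfl⟩
      change ψ (ψ y) ∈ _
      rw [hψ]; exact hy
    · intro hx
      exact ⟨x, hx, hψ x⟩
  have hcard : Fintype.card {i : Fin 6 // (c : Perm (Fin 6)) i = i} = 3 := by
    have h2 := support_three_of_fix (g := (c : Perm (Fin 6))) (by rw [Subgroup.orderOf_coe]; exact hc) hfix
    have h3 : Fintype.card {i : Fin 6 // (c : Perm (Fin 6)) i = i} = (Finset.univ.filter (fun i => (c : Perm (Fin 6)) i = i)).card :=
      Fintype.card_subtype _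
    have h4 : (Finset.univ.filter (fun i => (c : Perm (Fin 6)) i = i)) = (c : Perm (Fin 6)).supportᶜ := by
      ext i; simp
    rw [h3, h4, Finset.card_compl, h2, Fintype.card_fin]
  haveI : Fact (Nat.Prime 2) := ⟨Nat.prime_two⟩
  obtain ⟨a, ha⟩ := Equiv.Perm.exists_fixed_point_of_prime (p := 2) (n := 1) (by rw [hcard]; norm_num)
    (σ := hff.toPerm f) (by
      rw [pow_one, pow_two]
      ext i
      simp [Perm.mul_apply, hff i])
  have ha' : f a = a := ha
  refine ⟨MulAction.stabilizer A6 (a : Fin 6), index_stab _, ?_⟩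
  intro x hx
  have h2 : ψ x ∈ (MulAction.stabilizer A6 (a : Fin 6)).map ψ.toMonoidHom := ⟨x, hx, rfl⟩
  rwa [hf a, ha'] at h2

end Cfsg.Agent.H20.AltSix
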