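import Mathlib

/-!
Integral linear algebra behind Feit's coherence argument for Zassenhaus groups.
-/

set_option autoImplicit false

namespace Cfsg.Agent.H20.Coh

variable {J X : Type*} [Fintype X] [DecidableEq J] [DecidableEq X]

/-- Non-negative integral vectors `n i`, with Gram matrix `1 + f d dᵗ`. -/
structure FeitSys (n : J → X → ℤ) (d : J → ℤ) (f : ℤ) : Prop where
  nonneg : ∀ i x, 0 ≤ n i x
  pos : ∀ i, 0 < d i
  gram : ∀ i j, ∑ x, n i x * n j x = (if i = j then 1 else 0) + f * d i * d j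

/-- `i` is coherent at `z`. -/
def CohAt (n : J → X → ℤ) (d : J → ℤ) (ε : ℤ) (r : X → ℤ) (c : ℤ) (i : J) (z : X) : Prop :=
  (∀ y, n i y = ε * (if y = z then 1 else 0) + d i * r y) ∧ r z = c * d i

omit [DecidableEq J] in
theorem sum_mul_of_coh {n : J → X → ℤ} {d : J → ℤ} {ε : ℤ} {r : X → ℤ} {c : ℤ} {i : J} {z : X}
    (h : CohAt n d ε r c i z) (w : X → ℤ) :
    ∑ x, w x * n i x = ε * w z + d i * ∑ x, w x * r x := by
  have h1 : ∀ x, w x * n i x = (if x = z then ε * w z else 0) + d i * (w x * r x) := by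
    intro x
    rw [h.1 x]
    split_ifs with h2
    · rw [h2]; ring
    · ring
  rw [Finset.sum_congr rfl (fun x _ => h1 x), Finset.sum_add_distrib, Finset.sum_ite_eq',
    if_pos (Finset.mem_univ _), ← Finset.mul_sum]

theorem coh_inj {n : J → X → ℤ} {d : J → ℤ} {f ε : ℤ} {r : X → ℤ} {c : ℤ}
    (hs : FeitSys n d f) (hf : ∑ x, r x * r x + 2 * ε * c = f) {i j : J} {z : X} (hε : ε * ε = 1)
    (hi : CohAt n d ε r c i z) (hj : CohAt n d ε r c j z) : i = j := by
  by_contra hne
  have h1 := hs.gram i j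
  rw [if_neg hne, sum_mul_of_coh hj (n i)] at h1
  have h2 : ∑ x, n i x * r x = ε * r z + d i * ∑ x, r x * r x := by
    have := sum_mul_of_coh hi r
    rw [← this]
    exact Finset.sum_congr rfl fun x _ => mul_comm _ _
  rw [h2] at h1
  have h3 : n i z = ε + d i * r z := by rw [hi.1 z]; simp
  rw [h3] at h1
  have h4 : r z * d j = c * d i * d j := by rw [hi.2]
  have h5 : r z * d i = c * d j * d i := by rw [hj.2]
  have h6 : ε * (ε + d i * r z) + d j * (ε * r z + d i * ∑ x, r x * r x) =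
      ε * ε + ε * (r z * d i) + ε * (r z * d j) + d i * d j * ∑ x, r x * r x := by ring
  rw [h6, h4, h5, hε, ← hf] at h1
  have h7 : (1 : ℤ) = 0 := by linear_combination h1
  omega

omit [DecidableEq X] in
theorem norm_one_vec [DecidableEq X] (w : X → ℤ) (h : ∑ x, w x * w x = 1) :
    ∃ (z : X) (ε : ℤ), ε * ε = 1 ∧ ∀ y, w y = ε * (if y = z then 1 else 0) := by
  have h0 : ∃ z, w z ≠ 0 := by
    by_contra hc
    push Not at hc
    simp [hc] at h
  obtain ⟨z, hz⟩ := h0
  have h1 : w z * w z + ∑ x ∈ Finset.univ.erase z, w x * w x = 1 := by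
    rw [Finset.add_sum_erase _ (fun x => w x * w x) (Finset.mem_univ z)]
    exact h
  have h2 : 0 ≤ ∑ x ∈ Finset.univ.erase z, w x * w x :=
    Finset.sum_nonneg fun x _ => mul_self_nonneg _
  have h3 : 0 < w z * w z := mul_self_pos.mpr hz
  have h4 : ∑ x ∈ Finset.univ.erase z, w x * w x = 0 := by omega
  have h5 : ∀ x, x ≠ z → w x = 0 := by
    intro x hx
    have := (Finset.sum_eq_zero_iff_of_nonneg (fun x _ => mul_self_nonneg (w x))).mp h4 x
      (Finset.mem_erase.mpr ⟨hx, Finset.mem_univ _⟩)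
    exact mul_self_eq_zero.mp this
  refine ⟨z, w z, by omega, fun y => ?_⟩
  by_cases hy : y = z
  · rw [hy]; simp
  · rw [h5 y hy, if_neg hy, mul_zero]

/-- Extension of coherence. -/
theorem coh_extend {n : J → X → ℤ} {d : J → ℤ} {f ε : ℤ} {r : X → ℤ} {c : ℤ}
    (hs : FeitSys n d f) (hf : ∑ x, r x * r x + 2 * ε * c = f) (hε : ε * ε = 1)
    (S : Finset J) (Θ : J → X) (hΘ : ∀ i ∈ S, CohAt n d ε r c i (Θ i))
    {i₁ : J} (hi₁ : i₁ ∈ S) (hd₁ : d i₁ = 1) {η : J} (hη : η ∉ S)
    (hbig : 2 * d η + 1 < ∑ i ∈ S, d i * d i) : ∃ z, CohAt n d ε r c η z := by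
  have hdpos := hs.pos η
  set D := d η with hD
  set y := n η (Θ i₁) with hy
  have hne : ∀ i ∈ S, η ≠ i := fun i hi h => hη (h ▸ hi)
  -- inner products with r
  have h1 : ∑ x, n η x * r x = f * D - ε * y := by
    have h2 := hs.gram η i₁
    rw [if_neg (hne _ hi₁), sum_mul_of_coh (hΘ _ hi₁) (n η), hd₁] at h2
    linear_combination h2
  have h2 : ∀ i ∈ S, n η (Θ i) = d i * y := by
    intro i hi
    have h3 := hs.gram η i
    rw [if_neg (hne _ hi), sum_mul_of_coh (hΘ _ hi) (n η), h1] at h3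
    have h4 : ε * (n η (Θ i) - d i * y) = 0 := by linear_combination h3
    have hε0 : ε ≠ 0 := by rintro rfl; simp at hε
    have := (mul_eq_zero.mp h4).resolve_left hε0
    linarith
  set w : X → ℤ := fun x => n η x - D * r x with hw
  set t := y - D * c with ht
  have h3 : ∀ i ∈ S, w (Θ i) = d i * t := by
    intro i hi
    simp only [hw]
    rw [h2 i hi, (hΘ i hi).2, ht]
    ring
  have h4 : ∑ x, w x * w x = 1 + 2 * ε * D * t := by
    have h5 : ∀ x, w x * w x = n η x * n η x - 2 * D * (n η x * r x) + D * D * (r x * r x) := by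
      intro x; simp only [hw]; ring
    rw [Finset.sum_congr rfl fun x _ => h5 x, Finset.sum_add_distrib, Finset.sum_sub_distrib,
      ← Finset.mul_sum, ← Finset.mul_sum, h1, hs.gram η η, if_pos rfl]
    have h6 : ∑ x, r x * r x = f - 2 * ε * c := by linarith
    rw [h6, ht, ← hD]
    ring
  have hinj : Set.InjOn Θ S := by
    intro i hi j hj hij
    exact coh_inj hs hf hε (hΘ i hi) (hij ▸ hΘ j hj)
  have h5 : (∑ i ∈ S, d i * d i) * (t * t) ≤ 1 + 2 * ε * D * t := by
    rw [← h4, Finset.sum_mul]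
    calc ∑ i ∈ S, d i * d i * (t * t) = ∑ i ∈ S, w (Θ i) * w (Θ i) := by
          refine Finset.sum_congr rfl fun i hi => ?_
          rw [h3 i hi]; ring
      _ = ∑ x ∈ S.image Θ, w x * w x := by
          rw [Finset.sum_image]; exact hinj
      _ ≤ ∑ x, w x * w x :=
          Finset.sum_le_sum_of_subset_of_nonneg (Finset.subset_univ _)
            (fun x _ _ => mul_self_nonneg _)
  have ht0 : t = 0 := by
    by_contra ht0
    have hε' : ε = 1 ∨ ε = -1 := by
      have : (ε - 1) * (ε + 1) = 0 := by linear_combination hε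
      rcases mul_eq_zero.mp this with h | h
      · left; linarith
      · right; linarith
    have h6 : 1 ≤ t * t := by
      have : 0 < t * t := mul_self_pos.mpr ht0
      omega
    have h7 : ε * t ≤ t * t := by
      rcases hε' with h | h <;> rw [h] <;> nlinarith [mul_self_nonneg (t - 1), mul_self_nonneg (t+1), Int.le_self_sq t, Int.le_self_sq (-t)]
    nlinarith [mul_le_mul_of_nonneg_left h7 hdpos.le]
  rw [ht0] at h4
  obtain ⟨z, ε', hε', hz⟩ := norm_one_vec w (by rw [h4]; ring)
  have h6 : ∀ x, n η x = ε' * (if x = z then 1 else 0) + D * r x := by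
    intro x
    rw [← hz x]
    simp only [hw]
    ring
  have hzne : Θ i₁ ≠ z := by
    intro h
    have h7 := h3 i₁ hi₁
    rw [ht0, mul_zero, hz, if_pos h, mul_one] at h7
    rw [h7] at hε'; simp at hε'
  have hc0 : 0 ≤ D * c := by
    have h7 := hs.nonneg η (Θ i₁)
    rw [h6, if_neg hzne, (hΘ i₁ hi₁).2, hd₁] at h7
    linarith
  have hrz : 0 ≤ r z := by
    have h7 := hs.nonneg i₁ z
    rw [(hΘ i₁ hi₁).1, if_neg (Ne.symm hzne), hd₁] at h7
    linarith
  have h7 : ε' * r z = D * ε * c := by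
    have h8 : ∑ x, n η x * r x = ε' * r z + D * ∑ x, r x * r x := by
      have h9 : ∀ x, n η x * r x = (if x = z then ε' * r z else 0) + D * (r x * r x) := by
        intro x
        rw [h6 x]
        split_ifs with h2
        · rw [h2]; ring
        · ring
      rw [Finset.sum_congr rfl (fun x _ => h9 x), Finset.sum_add_distrib, Finset.sum_ite_eq',
        if_pos (Finset.mem_univ _), ← Finset.mul_sum]
    have hy' : y = D * c := by linarith
    rw [h1, hy'] at h8
    have h6 : ∑ x, r x * r x = f - 2 * ε * c := by linarith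
    rw [h6] at h8
    linear_combination -h8
  have hεε : ε' = ε := by
    have hε1 : ε = 1 ∨ ε = -1 := by
      have : (ε - 1) * (ε + 1) = 0 := by linear_combination hε
      rcases mul_eq_zero.mp this with h | h
      · left; linarith
      · right; linarith
    have hε1' : ε' = 1 ∨ ε' = -1 := by
      have : (ε' - 1) * (ε' + 1) = 0 := by linear_combination hε'
      rcases mul_eq_zero.mp this with h | h
      · left; linarith
      · right; linarith
    rcases eq_or_ne c 0 with hc | hc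
    · have h8 : r z = 0 := by
        rw [hc, mul_zero] at h7
        rcases mul_eq_zero.mp h7 with h | h
        · rw [h] at hε'; simp at hε'
        · exact h
      have h9 := hs.nonneg η z
      rw [h6, if_pos rfl, h8] at h9
      have h10 := hs.nonneg i₁ (Θ i₁)
      rw [(hΘ i₁ hi₁).1, if_pos rfl, (hΘ i₁ hi₁).2, hc] at h10
      rcases hε1 with h | h <;> rcases hε1' with h' | h' <;> omega
    · have hc1 : 0 < D * c := lt_of_le_of_ne hc0 (Ne.symm (mul_ne_zero hdpos.ne' hc))
      have h8 : D * ε * c = ε * (D * c) := by ring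
      rw [h8] at h7
      rcases hε1 with h | h <;> rcases hε1' with h' | h' <;> rw [h, h'] at h7 <;> nlinarith
  refine ⟨z, fun x => ?_, ?_⟩
  · rw [h6 x, hεε]
  · have h8 : ε * r z = ε * (c * D) := by rw [hεε] at h7; linear_combination h7
    have hε0 : ε ≠ 0 := by rintro rfl; simp at hε
    exact mul_left_cancel₀ hε0 h8

/-- A chain of extensions. -/
theorem coh_all [Fintype J] {n : J → X → ℤ} {d : J → ℤ} {f ε : ℤ} {r : X → ℤ} {c : ℤ}
    (hs : FeitSys n d f) (hf : ∑ x, r x * r x + 2 * ε * c = f) (hε : ε * ε = 1)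
    (S₀ : Finset J) (h0 : ∀ i ∈ S₀, ∃ z, CohAt n d ε r c i z)
    {i₁ : J} (hi₁ : i₁ ∈ S₀) (hd₁ : d i₁ = 1)
    (hstep : ∀ S : Finset J, S₀ ⊆ S → S ≠ Finset.univ →
      ∃ η, η ∉ S ∧ 2 * d η + 1 < ∑ i ∈ S, d i * d i) : ∀ i, ∃ z, CohAt n d ε r c i z := by
  classical
  set T : Finset J := Finset.univ.filter (fun i => ∃ z, CohAt n d ε r c i z) with hT
  have h1 : S₀ ⊆ T := fun i hi => Finset.mem_filter.mpr ⟨Finset.mem_univ _, h0 i hi⟩
  by_cases h2 : T = Finset.univ
  · intro i
    have := h2 ▸ Finset.mem_univ i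
    exact (Finset.mem_filter.mp (h2.symm ▸ Finset.mem_univ i : i ∈ T)).2
  · obtain ⟨η, hη, hbig⟩ := hstep T h1 h2
    have h3 : ∀ i ∈ T, ∃ z, CohAt n d ε r c i z := fun i hi => (Finset.mem_filter.mp hi).2
    have : Nonempty X := ⟨(h0 i₁ hi₁).choose⟩
    obtain ⟨z, hz⟩ := coh_extend hs hf hε T
      (fun i => if h : ∃ z, CohAt n d ε r c i z then h.choose else Classical.arbitrary X)
      (fun i hi => by
        have := h3 i hi
        rw [dif_pos this]
        exact this.choose_spec) (h1 hi₁) hd₁ hη hbig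
    exact absurd (Finset.mem_filter.mpr ⟨Finset.mem_univ _, z, hz⟩) hη

/-- Full coherence together with the class count gives a vector supported at one place. -/
theorem coh_final [Fintype J] {n : J → X → ℤ} {d : J → ℤ} {f ε : ℤ} {r : X → ℤ} {c : ℤ}
    (hs : FeitSys n d f) (hf : ∑ x, r x * r x + 2 * ε * c = f) (hε : ε * ε = 1)
    (hall : ∀ i, ∃ z, CohAt n d ε r c i z)
    (hcard : (Fintype.card J : ℤ) + f ≤ Fintype.card X) (hcov : ∀ x, ∃ i, n i x ≠ 0)
    (hD : 3 ≤ ∑ i, d i * d i) (i₀ : J) :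
    ∃ z, ∀ j, n j z = if j = i₀ then 1 else 0 := by
  classical
  choose Θ hΘ using hall
  have hinj : Function.Injective Θ := by
    intro i j hij
    exact coh_inj hs hf hε (hΘ i) (hij ▸ hΘ j)
  have hε1 : ε = 1 ∨ ε = -1 := by
    have : (ε - 1) * (ε + 1) = 0 := by linear_combination hε
    rcases mul_eq_zero.mp this with h | h
    · left; linarith
    · right; linarith
  have hr1 : ∀ x, x ∉ Finset.univ.image Θ → 1 ≤ r x * r x := by
    intro x hx
    obtain ⟨i, hi⟩ := hcov x
    have h1 : x ≠ Θ i := fun h => hx (Finset.mem_image.mpr ⟨i, Finset.mem_univ _, h.symm⟩)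
    rw [(hΘ i).1, if_neg h1] at hi
    have h2 : r x ≠ 0 := by rintro h; apply hi; rw [h]; ring
    have : 0 < r x * r x := mul_self_pos.mpr h2
    omega
  have h2 : c * c * (∑ i, d i * d i) + f ≤ ∑ x, r x * r x := by
    rw [← Finset.sum_add_sum_compl (Finset.univ.image Θ) (fun x => r x * r x)]
    have h3 : ∑ x ∈ Finset.univ.image Θ, r x * r x = c * c * (∑ i, d i * d i) := by
      rw [Finset.sum_image (fun i _ j _ h => hinj h), Finset.mul_sum]
      refine Finset.sum_congr rfl fun i _ => ?_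
      rw [(hΘ i).2]; ring
    have h4 : f ≤ ∑ x ∈ (Finset.univ.image Θ)ᶜ, r x * r x := by
      have h5 : ((Finset.univ.image Θ)ᶜ.card : ℤ) ≤ ∑ x ∈ (Finset.univ.image Θ)ᶜ, r x * r x := by
        have := Finset.card_nsmul_le_sum (Finset.univ.image Θ)ᶜ (fun x => r x * r x) (1 : ℤ)
          (fun x hx => hr1 x (Finset.mem_compl.mp hx))
        simpa using this
      have h6 : (Finset.univ.image Θ)ᶜ.card = Fintype.card X - Fintype.card J := by
        rw [Finset.card_compl, Finset.card_image_of_injective _ hinj, Finset.card_univ]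
      have h7 : Fintype.card J ≤ Fintype.card X := Fintype.card_le_of_injective Θ hinj
      rw [h6] at h5
      push_cast [h7] at h5
      linarith
    rw [h3]
    linarith
  have hc : c = 0 := by
    by_contra hc
    have h3 : 1 ≤ c * c := by
      have : 0 < c * c := mul_self_pos.mpr hc
      omega
    have h5 : -c ≤ c * c := by nlinarith [Int.le_self_sq (-c)]
    have h6 : c ≤ c * c := by nlinarith [Int.le_self_sq c]
    rcases hε1 with h | h <;> rw [h] at hf <;> nlinarith
  refine ⟨Θ i₀, fun j => ?_⟩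
  have h3 : r (Θ i₀) = 0 := by rw [(hΘ i₀).2, hc, zero_mul]
  have h4 : ε = 1 := by
    have h5 := hs.nonneg i₀ (Θ i₀)
    rw [(hΘ i₀).1, if_pos rfl, h3] at h5
    rcases hε1 with h | h
    · exact h
    · rw [h] at h5; norm_num at h5
  rw [(hΘ j).1, h3, h4, mul_zero, add_zero, one_mul]
  by_cases h5 : j = i₀
  · rw [h5]; simp
  · rw [if_neg h5, if_neg (fun h => h5 (hinj h.symm))]

/-- The base of the induction: at least three vectors with constant `d = 1` which agree up to
an exceptional place. -/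
theorem coh_base {n : J → X → ℤ} {d : J → ℤ} {f ε : ℤ} {r : X → ℤ}
    (hs : FeitSys n d f) (hε : ε * ε = 1) (S₀ : Finset J) (h3 : 3 ≤ S₀.card)
    (hd : ∀ i ∈ S₀, d i = 1) (Θ : J → X) (hinj : Set.InjOn Θ S₀)
    (hΘ : ∀ i ∈ S₀, ∀ y, n i y = ε * (if y = Θ i then 1 else 0) + r y) :
    ∃ c, (∑ x, r x * r x + 2 * ε * c = f) ∧ ∀ i ∈ S₀, CohAt n d ε r c i (Θ i) := by
  have hε0 : ε ≠ 0 := by rintro rfl; simp at hε
  have key : ∀ i ∈ S₀, ∀ j ∈ S₀, i ≠ j →
      ε * (r (Θ i) + r (Θ j)) + ∑ x, r x * r x = f := by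
    intro i hi j hj hij
    have h1 := hs.gram i j
    rw [if_neg hij, hd i hi, hd j hj] at h1
    have h2 : ∀ x, n i x * n j x = (if x = Θ i then ε * r (Θ i) else 0) +
        (if x = Θ j then ε * r (Θ j) else 0) + r x * r x := by
      intro x
      rw [hΘ i hi x, hΘ j hj x]
      by_cases h3 : x = Θ i
      · have h4 : x ≠ Θ j := fun h4 => hij (hinj hi hj (h3.symm.trans h4))
        rw [if_pos h3, if_neg h4, if_pos h3, if_neg h4, ← h3]; ring
      · by_cases h4 : x = Θ j
        · rw [if_neg h3, if_pos h4, if_neg h3, if_pos h4, ← h4]; ring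
        · rw [if_neg h3, if_neg h4, if_neg h3, if_neg h4]; ring
    rw [Finset.sum_congr rfl (fun x _ => h2 x), Finset.sum_add_distrib, Finset.sum_add_distrib,
      Finset.sum_ite_eq', Finset.sum_ite_eq', if_pos (Finset.mem_univ _),
      if_pos (Finset.mem_univ _)] at h1
    linarith
  obtain ⟨a, b, e, ha, hb, he, hab, hae, hbe⟩ : ∃ a b e, a ∈ S₀ ∧ b ∈ S₀ ∧ e ∈ S₀ ∧ a ≠ b ∧ a ≠ e ∧ b ≠ e := by
    obtain ⟨a, ha, b, hb, e, he, h⟩ := Finset.two_lt_card.mp (by omega : 2 < S₀.card)
    exact ⟨a, b, e, ha, hb, he, h⟩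
  have hconst : ∀ i ∈ S₀, ∀ j ∈ S₀, r (Θ i) = r (Θ j) := by
    intro i hi j hj
    by_cases hij : i = j
    · rw [hij]
    · -- third element
      have : ∃ l ∈ S₀, l ≠ i ∧ l ≠ j := by
        by_contra hc
        push Not at hc
        have hsub : S₀ ⊆ {i, j} := by
          intro l hl
          by_cases h : l = i
          · simp [h]
          · simp [hc l hl h]
        have := Finset.card_le_card hsub
        have h2 : ({i, j} : Finset J).card ≤ 2 := Finset.card_le_two
        omega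
      obtain ⟨l, hl, hli, hlj⟩ := this
      have h1 := key i hi l hl (Ne.symm hli)
      have h2 := key j hj l hl (Ne.symm hlj)
      have h4 : ε * (r (Θ i) - r (Θ j)) = 0 := by linear_combination h1 - h2
      have := (mul_eq_zero.mp h4).resolve_left hε0
      linarith
  refine ⟨r (Θ a), ?_, fun i hi => ⟨fun y => ?_, ?_⟩⟩
  · have h1 := key a ha b hb hab
    rw [hconst b hb a ha] at h1
    linarith
  · rw [hΘ i hi y, hd i hi, one_mul]
  · rw [hd i hi, mul_one]; exact hconst i hi a ha

end Cfsg.Agent.H20.Coh
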