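import Cfsg.Agent.H20.Coh1

/-!
Integral linear algebra for Zassenhaus groups whose kernel is a nonabelian 2-group.
-/

set_option autoImplicit false
set_option linter.style.haveILetI false

namespace Cfsg.Agent.H20.Coh

variable {J X : Type*} [Fintype X] [DecidableEq J] [DecidableEq X]

omit [DecidableEq X] in
theorem abs_sum_le_sum_sq (y ν : X → ℤ) (hν : ∀ x, ν x ≤ 1 ∧ -1 ≤ ν x) :
    |∑ x, y x * ν x| ≤ ∑ x, y x * y x := by
  refine (Finset.abs_sum_le_sum_abs _ _).trans (Finset.sum_le_sum fun x _ => ?_)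
  rw [abs_mul]
  have h1 : |ν x| ≤ 1 := abs_le.mpr ⟨(hν x).2, (hν x).1⟩
  have h2 : |y x| * |ν x| ≤ |y x| * 1 := mul_le_mul_of_nonneg_left h1 (abs_nonneg _)
  have h3 : |y x| ≤ |y x| * |y x| := by
    by_cases h0 : y x = 0
    · simp [h0]
    · have h4 : 1 ≤ |y x| := Int.one_le_abs h0
      nlinarith
  rw [← abs_mul_abs_self (y x)]
  linarith

/-- The case `|K| = q ^ 3`. -/
theorem caseA {n : J → X → ℤ} {d : J → ℤ} {W ε : ℤ} {r : X → ℤ} {c q : ℤ} (hs : FeitSys n d W)
    (hε : ε * ε = 1) (hr : ∑ x, r x * r x + 2 * ε * c = W) (hq : 4 ≤ q) (hW : 2 * W + 2 = q)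
    (S₀ : Finset J) (hcard : (S₀.card : ℤ) = q + 1) (hd : ∀ i ∈ S₀, d i = 1)
    (hcoh : ∀ i ∈ S₀, ∃ z, CohAt n d ε r c i z) (ν : X → ℤ) (hν : ∀ x, ν x ≤ 1 ∧ -1 ≤ ν x)
    (hνS : ∀ i ∈ S₀, ∑ x, n i x * ν x = 1 + W) (j : J) (hj : d j = q)
    (hjS : j ∉ S₀)
    (hνj : ∑ x, n j x * ν x = -1 + q * W) : ∃ z, CohAt n d ε r c j z := by
  classical
  have hex : ∀ i : S₀, ∃ z, CohAt n d ε r c i z := fun i => hcoh i i.2
  choose z hz using hex
  have hzinj : Function.Injective z := by
    intro i i' hii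
    have h1 := hz i'
    rw [← hii] at h1
    exact Subtype.ext (coh_inj hs hr hε (hz i) h1)
  set Z := Finset.univ.image z with hZ
  have hZcard : (Z.card : ℤ) = q + 1 := by
    rw [hZ, Finset.card_image_of_injective _ hzinj, Finset.card_univ, Fintype.card_coe, hcard]
  have hrz : ∀ x ∈ Z, r x = c := by
    intro x hx
    rw [hZ, Finset.mem_image] at hx
    obtain ⟨i, -, rfl⟩ := hx
    rw [(hz i).2, hd i i.2, mul_one]
  have hε' : ε = 1 ∨ ε = -1 := by
    rcases mul_self_eq_one_iff.mp hε with h1 | h1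
    · exact Or.inl h1
    · exact Or.inr h1
  -- `c = 0`
  have hc : c = 0 := by
    by_contra hc0
    have h1 : (q + 1) * (c * c) ≤ ∑ x, r x * r x := by
      have h2 : ∑ x ∈ Z, r x * r x = (q + 1) * (c * c) := by
        rw [Finset.sum_congr rfl (g := fun _ => c * c) fun x hx => by rw [hrz x hx],
          Finset.sum_const, nsmul_eq_mul, hZcard]
      rw [← h2]
      exact Finset.sum_le_sum_of_subset_of_nonneg (Finset.subset_univ _)
        fun x _ _ => mul_self_nonneg _
    have h3 : 1 ≤ c * c := by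
      have : 0 < c * c := mul_self_pos.mpr hc0
      linarith
    have h4 : -(c * c) ≤ ε * c := by
      have h5 : ε * c ≤ c * c ∧ -(c * c) ≤ ε * c := by
        have h6 : |c| ≤ c * c := by
          have h7 := Int.one_le_abs hc0
          rw [← abs_mul_abs_self c]; nlinarith
        have h8 := abs_le.mp h6
        rcases hε' with h9 | h9 <;> rw [h9] <;> constructor <;> linarith [h8.1, h8.2]
      exact h5.2
    nlinarith
  subst hc
  rw [mul_zero, add_zero] at hr
  have hne : S₀.Nonempty := by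
    rw [← Finset.card_pos]
    have : (0 : ℤ) < S₀.card := by rw [hcard]; linarith
    exact_mod_cast this
  obtain ⟨i₀, hi₀⟩ := hne
  have hnz : ∀ i : S₀, n i (z i) = ε := by
    intro i
    rw [(hz i).1, if_pos rfl, (hz i).2, hd i i.2]
    ring
  have hε1 : ε = 1 := by
    rcases hε' with h1 | h1
    · exact h1
    · have h2 := hs.nonneg i₀ (z ⟨i₀, hi₀⟩)
      have h3 : n i₀ (z ⟨i₀, hi₀⟩) = ε := hnz ⟨i₀, hi₀⟩
      rw [h3, h1] at h2
      omega
  subst hε1
  have hr0 : ∀ x, 0 ≤ r x := by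
    intro x
    by_cases hx : z ⟨i₀, hi₀⟩ = x
    · rw [← hx, (hz ⟨i₀, hi₀⟩).2, zero_mul]
    · have h1 := (hz ⟨i₀, hi₀⟩).1 x
      rw [if_neg (fun h => hx h.symm), mul_zero, zero_add, hd i₀ hi₀, one_mul] at h1
      rw [← h1]
      exact hs.nonneg _ _
  -- Frobenius-Schur
  have hrν : ∑ x, r x * ν x = W := by
    have h1 := sum_mul_of_coh (hz ⟨i₀, hi₀⟩) ν
    have h2 := hνS i₀ hi₀
    have h3 : ∑ x, n i₀ x * ν x = ∑ x, ν x * n (⟨i₀, hi₀⟩ : S₀).1 x :=
      Finset.sum_congr rfl fun x _ => mul_comm _ _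
    rw [h3, h1, hd i₀ hi₀, one_mul, one_mul] at h2
    have h4 : ∑ x, ν x * r x ≤ W := by
      rw [← hr]
      refine Finset.sum_le_sum fun x _ => ?_
      have h5 := hr0 x
      have h6 := (hν x).1
      have h7 : r x ≤ r x * r x := by
        rcases eq_or_lt_of_le h5 with h8 | h8
        · rw [← h8]; simp
        · nlinarith
      nlinarith
    have h5 := (hν (z ⟨i₀, hi₀⟩)).1
    have h6 : ∑ x, r x * ν x = ∑ x, ν x * r x := Finset.sum_congr rfl fun x _ => mul_comm _ _
    rw [h6]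
    linarith
  -- the vector of `j`
  set b : ℤ := q * W - ∑ x, n j x * r x with hb
  have hbz : ∀ x ∈ Z, n j x = b := by
    intro x hx
    rw [hZ, Finset.mem_image] at hx
    obtain ⟨i, -, rfl⟩ := hx
    have h1 := sum_mul_of_coh (hz i) (n j)
    have h2 := hs.gram j i
    rw [if_neg (fun hji => hjS (by rw [hji]; exact i.2)), zero_add, hj, hd i i.2, mul_one] at h2
    rw [h2, hd i i.2, one_mul, one_mul] at h1
    rw [hb]; linarith
  have hb0 : 0 ≤ b := by
    rw [← hbz (z ⟨i₀, hi₀⟩) (Finset.mem_image_of_mem _ (Finset.mem_univ _))]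
    exact hs.nonneg _ _
  have hnr : ∑ x, n j x * r x = q * W - b := by rw [hb]; ring
  have hnn : ∑ x, n j x * n j x = 1 + q * q * W := by
    rw [hs.gram j j, if_pos rfl, hj]; ring
  set y : X → ℤ := fun x => n j x - q * r x - (if x ∈ Z then b else 0) with hy
  have hyval : ∀ x, y x = n j x - q * r x - (if x ∈ Z then b else 0) := fun _ => rfl
  have hyy : ∑ x, y x * y x = 1 + 2 * q * b - b * b * (q + 1) := by
    have h1 : ∀ x, y x * y x = n j x * n j x + q * q * (r x * r x) - 2 * q * (n j x * r x) +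
        (if x ∈ Z then - (b * b) else 0) := by
      intro x
      rw [hyval]
      split_ifs with hx
      · rw [hbz x hx, hrz x hx]; ring
      · ring
    rw [Finset.sum_congr rfl fun x _ => h1 x, Finset.sum_add_distrib, Finset.sum_sub_distrib,
      Finset.sum_add_distrib, ← Finset.mul_sum, ← Finset.mul_sum, hnn, hr, hnr,
      ← Finset.sum_filter, Finset.sum_const, nsmul_eq_mul]
    have h2 : (Finset.univ.filter (fun x => x ∈ Z)) = Z := by ext; simp
    rw [h2, hZcard]; ring
  have hνZ : ∀ x ∈ Z, ν x = 1 := by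
    intro x hx
    rw [hZ, Finset.mem_image] at hx
    obtain ⟨i, -, rfl⟩ := hx
    have h1 := sum_mul_of_coh (hz i) ν
    have h2 := hνS i i.2
    have h3 : ∑ x, n i x * ν x = ∑ x, ν x * n i x :=
      Finset.sum_congr rfl fun x _ => mul_comm _ _
    have h6 : ∑ x, r x * ν x = ∑ x, ν x * r x := Finset.sum_congr rfl fun x _ => mul_comm _ _
    rw [h3, h1, hd i i.2, one_mul, one_mul, ← h6, hrν] at h2
    linarith
  have hyν : ∑ x, y x * ν x = -1 - b * (q + 1) := by
    have h1 : ∀ x, y x * ν x = n j x * ν x - q * (r x * ν x) + (if x ∈ Z then - b else 0) := by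
      intro x
      rw [hyval]
      split_ifs with hx
      · rw [hνZ x hx]; ring
      · ring
    rw [Finset.sum_congr rfl fun x _ => h1 x, Finset.sum_add_distrib, Finset.sum_sub_distrib,
      ← Finset.mul_sum, hνj, hrν, ← Finset.sum_filter, Finset.sum_const, nsmul_eq_mul]
    have h2 : (Finset.univ.filter (fun x => x ∈ Z)) = Z := by ext; simp
    rw [h2, hZcard]; ring
  have hineq := abs_sum_le_sum_sq y ν hν
  rw [hyν, hyy] at hineq
  have hineq2 := (abs_le.mp hineq).1
  have hbz0 : b = 0 := by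
    by_contra hbne
    have h1 : 1 ≤ b := by omega
    have h2 : b ≤ b * b := by nlinarith
    have h3 : b * (q + 1) ≤ b * b * (q + 1) := mul_le_mul_of_nonneg_right h2 (by linarith)
    nlinarith
  -- conclusion
  have hyy1 : ∑ x, y x * y x = 1 := by rw [hyy, hbz0]; ring
  obtain ⟨w, ε', hε'', hw⟩ := norm_one_vec y hyy1
  have hyr : ∑ x, y x * r x = 0 := by
    have h1 : ∀ x, y x * r x = n j x * r x - q * (r x * r x) := by
      intro x
      rw [hyval, hbz0]
      simp only [ite_self, sub_zero]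
      ring
    rw [Finset.sum_congr rfl fun x _ => h1 x, Finset.sum_sub_distrib, ← Finset.mul_sum, hnr, hr,
      hbz0]
    ring
  have hrw : r w = 0 := by
    rw [Finset.sum_congr rfl (g := fun x => if x = w then ε' * r w else 0) fun x _ => by
      rw [hw x]
      split_ifs with hx
      · rw [hx]; ring
      · ring, Finset.sum_ite_eq', if_pos (Finset.mem_univ _)] at hyr
    rcases mul_eq_zero.mp hyr with h1 | h1
    · rw [h1] at hε''; omega
    · exact h1
  have hε3 : ε' = 1 := by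
    rcases mul_self_eq_one_iff.mp hε'' with h1 | h1
    · exact h1
    · exfalso
      have h2 := hs.nonneg j w
      have h3 := hyval w
      rw [hw w, if_pos rfl, hrw, hbz0, h1] at h3
      simp only [ite_self] at h3
      omega
  refine ⟨w, fun x => ?_, ?_⟩
  · have h3 := hyval x
    rw [hw x, hbz0, hε3] at h3
    simp only [ite_self, sub_zero] at h3
    rw [hj]
    linarith
  · rw [hrw, zero_mul]

/-- The case `|K| = q ^ 2`. -/
theorem caseB [Fintype J] {n : J → X → ℤ} {d : J → ℤ} {W q : ℤ} (hs : FeitSys n d W)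
    (hW : 2 * W + 2 = q) (hq : 0 < q) (ν : X → ℤ) (hν : ∀ x, ν x ≤ 1 ∧ -1 ≤ ν x)
    (i₀ : J) (hd₀ : d i₀ = 1) (hν₀ : ∑ x, n i₀ x * ν x = 1 + W)
    (hsum : ∑ j ∈ Finset.univ.erase i₀, d j * d j = q) (bj : J → J) (bx : X → X)
    (hbj : ∀ j, j ≠ i₀ → bj j ≠ j) (hdb : ∀ j, d (bj j) = d j)
    (hnb : ∀ j x, n (bj j) (bx x) = n j x) (hνb : ∀ x, ν x ≠ 0 → bx x = x) :
    ∃ x, n i₀ x = 1 ∧ (q - ∑ j ∈ Finset.univ.erase i₀, d j * n j x) ^ 2 ≤ 2 * q := by
  classical
  have hnn : ∑ x, n i₀ x * n i₀ x = 1 + W := by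
    rw [hs.gram, if_pos rfl, hd₀]; ring
  have hterm : ∀ x, 0 ≤ n i₀ x * n i₀ x - n i₀ x * ν x := by
    intro x
    have h1 := hs.nonneg i₀ x
    have h2 := (hν x).1
    have h3 : n i₀ x ≤ n i₀ x * n i₀ x := by
      rcases eq_or_lt_of_le h1 with h8 | h8
      · rw [← h8]; simp
      · nlinarith
    nlinarith
  have hzero : ∀ x, n i₀ x * n i₀ x - n i₀ x * ν x = 0 := by
    have h1 : ∑ x, (n i₀ x * n i₀ x - n i₀ x * ν x) = 0 := by
      rw [Finset.sum_sub_distrib, hnn, hν₀, sub_self]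
    intro x
    exact (Finset.sum_eq_zero_iff_of_nonneg (fun x _ => hterm x)).mp h1 x (Finset.mem_univ _)
  have h01 : ∀ x, n i₀ x = 0 ∨ (n i₀ x = 1 ∧ ν x = 1) := by
    intro x
    by_cases h0 : n i₀ x = 0
    · exact Or.inl h0
    · right
      have h1 := hs.nonneg i₀ x
      have h2 : n i₀ x * (n i₀ x - ν x) = 0 := by rw [← hzero x]; ring
      have h3 := (mul_eq_zero.mp h2).resolve_left h0
      have h4 := (hν x).1
      constructor <;> omega
  set S := Finset.univ.filter (fun x => n i₀ x = 1) with hS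
  have hScard : (S.card : ℤ) = 1 + W := by
    rw [← hnn, hS, Finset.card_filter, Nat.cast_sum]
    refine Finset.sum_congr rfl fun x _ => ?_
    rcases h01 x with h1 | ⟨h1, -⟩ <;> rw [h1] <;> simp
  have hSx : ∀ x ∈ S, bx x = x := by
    intro x hx
    rw [hS, Finset.mem_filter] at hx
    apply hνb
    rcases h01 x with h1 | ⟨-, h1⟩
    · rw [hx.2] at h1; omega
    · rw [h1]; exact one_ne_zero
  let y : J → X → ℤ := fun j x => n j x - d j * n i₀ x
  have hy : ∀ j x, y j x = n j x - d j * n i₀ x := fun _ _ => rfl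
  have hyprod : ∀ j k, j ≠ i₀ → k ≠ i₀ → ∑ x, y j x * y k x =
      (if j = k then 1 else 0) + d j * d k := by
    intro j k hj hk
    have h1 : ∀ x, y j x * y k x = n j x * n k x - d k * (n j x * n i₀ x) -
        d j * (n i₀ x * n k x) + d j * d k * (n i₀ x * n i₀ x) := by
      intro x; rw [hy, hy]; ring
    rw [Finset.sum_congr rfl fun x _ => h1 x, Finset.sum_add_distrib, Finset.sum_sub_distrib,
      Finset.sum_sub_distrib, ← Finset.mul_sum, ← Finset.mul_sum, ← Finset.mul_sum, hs.gram,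
      hs.gram, hs.gram, hs.gram, if_neg hj, if_neg (Ne.symm hk), if_pos rfl, hd₀]
    ring
  have hbound : ∀ j, j ≠ i₀ → ∑ x ∈ S, y j x * y j x ≤ d j * d j := by
    intro j hj
    by_contra hcon
    push Not at hcon
    have hbj0 : bj j ≠ i₀ := by
      intro hc
      -- `bj i₀`: degrees
      have h1 := hyprod j j hj hj
      -- use that `n (bj j)` on fixed points
      have h2 : ∀ x ∈ S, y j x = y i₀ x + (1 - d j) := by
        intro x hx
        have h3 := hnb j x
        rw [hSx x hx, hc] at h3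
        have h4 : n i₀ x = 1 := (Finset.mem_filter.mp hx).2
        rw [hy, hy, ← h3, h4, hd₀]; ring
      have h3 : d j = 1 := by rw [← hdb j, hc, hd₀]
      have h4 : ∀ x ∈ S, y j x = 0 := by
        intro x hx
        rw [h2 x hx, hy, hd₀, h3]; ring
      rw [Finset.sum_eq_zero fun x hx => by rw [h4 x hx, mul_zero], h3] at hcon
      omega
    have h1 := hyprod j j hj hj
    rw [if_pos rfl] at h1
    have h2 := hyprod j (bj j) hj hbj0
    rw [if_neg (fun h => hbj j hj h.symm), hdb, zero_add] at h2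
    have hSeq : ∀ x ∈ S, y (bj j) x = y j x := by
      intro x hx
      have h3 := hnb j x
      rw [hSx x hx] at h3
      rw [hy, hy, h3, hdb]
    have h3 := Finset.sum_add_sum_compl S (fun x => y j x * y j x)
    have h4 := Finset.sum_add_sum_compl S (fun x => y j x * y (bj j) x)
    have h5 : ∑ x ∈ S, y j x * y (bj j) x = ∑ x ∈ S, y j x * y j x :=
      Finset.sum_congr rfl fun x hx => by rw [hSeq x hx]
    have h6 : ∑ x ∈ Sᶜ, y j x * y j x = 0 := by
      have h7 : 0 ≤ ∑ x ∈ Sᶜ, y j x * y j x := Finset.sum_nonneg fun x _ => mul_self_nonneg _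
      linarith
    have h7 : ∀ x ∈ Sᶜ, y j x = 0 := by
      intro x hx
      have := (Finset.sum_eq_zero_iff_of_nonneg (fun x _ => mul_self_nonneg _)).mp h6 x hx
      exact mul_self_eq_zero.mp this
    have h8 : ∑ x ∈ Sᶜ, y j x * y (bj j) x = 0 :=
      Finset.sum_eq_zero fun x hx => by rw [h7 x hx, zero_mul]
    linarith
  set T := Finset.univ.erase i₀ with hT
  have hTm : ∀ j ∈ T, j ≠ i₀ := fun j hj => (Finset.mem_erase.mp hj).1
  have hsumS : ∑ x ∈ S, (∑ j ∈ T, d j * y j x) ^ 2 ≤ q * q := by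
    have h1 : ∀ x ∈ S, (∑ j ∈ T, d j * y j x) ^ 2 ≤ q * ∑ j ∈ T, y j x * y j x := by
      intro x _
      have h2 := Finset.sum_mul_sq_le_sq_mul_sq T d (fun j => y j x)
      simp only [pow_two] at h2 ⊢
      rw [hsum] at h2
      exact h2
    refine (Finset.sum_le_sum h1).trans ?_
    rw [← Finset.mul_sum, Finset.sum_comm]
    apply mul_le_mul_of_nonneg_left _ hq.le
    calc ∑ j ∈ T, ∑ x ∈ S, y j x * y j x ≤ ∑ j ∈ T, d j * d j :=
          Finset.sum_le_sum fun j hj => hbound j (hTm j hj)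
      _ = q := hsum
  by_contra hcon
  push Not at hcon
  have h1 : ∀ x ∈ S, 2 * q + 1 ≤ (∑ j ∈ T, d j * y j x) ^ 2 := by
    intro x hx
    have hx1 := (Finset.mem_filter.mp hx).2
    have h2 := hcon x hx1
    have h3 : ∑ j ∈ T, d j * y j x = -(q - ∑ j ∈ T, d j * n j x) := by
      rw [← hsum, ← Finset.sum_sub_distrib, ← Finset.sum_neg_distrib]
      refine Finset.sum_congr rfl fun j _ => ?_
      rw [hy, hx1]; ring
    rw [h3, neg_sq]
    linarith
  have h2 : (1 + W) * (2 * q + 1) ≤ q * q := by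
    rw [← hScard, ← nsmul_eq_mul, ← Finset.sum_const]
    exact (Finset.sum_le_sum h1).trans hsumS
  nlinarith

end Cfsg.Agent.H20.Coh
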