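import Cfsg.Agent.H20.Klein2
import Cfsg.Agent.H9.Simple
import Mathlib.GroupTheory.FixedPointFree
import Mathlib.GroupTheory.SpecificGroups.Alternating

set_option autoImplicit false
set_option linter.unusedSectionVars false
set_option linter.style.haveILetI false
set_option linter.unusedVariables false

/-! An involution with centralizer a Klein four-group, one class of involutions: order 12 or `A5`. -/

namespace Cfsg.Agent.H20

open Cfsg

theorem klein_arith {d₂ d₃ d₄ i : ℕ} {ε : ℤ} (hε : ε = 1 ∨ ε = -1) (h2 : 5 ≤ d₂) (h3 : 3 ≤ d₃) (h4 : 3 ≤ d₄)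
    (m3 : (4:ℤ) ∣ (d₃ : ℤ) - ε) (m4 : (4:ℤ) ∣ (d₄ : ℤ) + 1) (hs : (d₄ : ℤ) = 1 + d₂ + ε * d₃)
    (h : 3 * (i : ℚ) * (1 + 1 / d₂ + ε / d₃ - 1 / d₄) = 8) : i ≤ 5 := by
  have p2 : (0 : ℚ) < 1 / d₂ := by positivity
  have p3 : (0 : ℚ) < 1 / d₃ := by positivity
  have p4 : (0 : ℚ) < 1 / d₄ := by positivity
  have q4 : (1 : ℚ) / d₄ ≤ 1 / 3 := by
    apply one_div_le_one_div_of_le (by norm_num); exact_mod_cast h4
  have q3 : (1 : ℚ) / d₃ ≤ 1 / 3 := by
    apply one_div_le_one_div_of_le (by norm_num); exact_mod_cast h3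
  have key : (4 : ℚ) / 9 < 1 + 1 / d₂ + ε / d₃ - 1 / d₄ := by
    rcases hε with rfl | rfl
    · push_cast
      linarith
    · have e : ((-1 : ℤ) : ℚ) / d₃ = - (1 / d₃) := by push_cast; ring
      rw [e]
      by_cases hd3 : d₃ = 3
      · by_cases hd4 : d₄ = 3
        · have : d₂ = 5 := by
            rw [hd3, hd4] at hs
            push_cast at hs
            omega
          rw [hd3, hd4, this]
          norm_num
        · have h7 : 7 ≤ d₄ := by omega
          have q7 : (1 : ℚ) / d₄ ≤ 1 / 7 := by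
            apply one_div_le_one_div_of_le (by norm_num); exact_mod_cast h7
          linarith
      · have h7 : 7 ≤ d₃ := by omega
        have q7 : (1 : ℚ) / d₃ ≤ 1 / 7 := by
          apply one_div_le_one_div_of_le (by norm_num); exact_mod_cast h7
        linarith
  by_contra hi
  have hi6 : (6 : ℚ) ≤ i := by
    have : 6 ≤ i := by omega
    exact_mod_cast this
  nlinarith

theorem klein_arith2 {d₂ d₃ d₄ n : ℕ} {ε : ℤ} (hε : ε = 1 ∨ ε = -1) (p2 : 0 < d₂) (p3 : 0 < d₃) (p4 : 0 < d₄)
    (m2 : (4:ℤ) ∣ (d₂ : ℤ) - 1) (m3 : (4:ℤ) ∣ (d₃ : ℤ) - ε) (m4 : (4:ℤ) ∣ (d₄ : ℤ) + 1)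
    (hs : (d₄ : ℤ) = 1 + d₂ + ε * d₃)
    (h : 3 * (n : ℚ) * (1 + 1 / d₂ + ε / d₃ - 1 / d₄) = 8) (hn : Odd n)
    (k2 : d₂ ∣ 12 * n) (k3 : d₃ ∣ 12 * n) (k4 : d₄ ∣ 12 * n) : n = 1 ∨ n = 5 := by
  have hnpos : 1 ≤ n := hn.pos
  have hsmall : (2 : ℚ) < 1 + 1 / d₂ + ε / d₃ - 1 / d₄ → n = 1 := by
    intro hq
    by_contra hn1
    have : 2 ≤ n := by omega
    have h2 : (2 : ℚ) ≤ n := by exact_mod_cast this
    nlinarith
  have q2 : (0 : ℚ) < d₂ := by exact_mod_cast p2
  have q3 : (0 : ℚ) < d₃ := by exact_mod_cast p3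
  have q4 : (0 : ℚ) < d₄ := by exact_mod_cast p4
  by_cases e2 : d₂ = 1
  · left
    apply hsmall
    rcases hε with rfl | rfl
    · have h4 : d₄ = 2 + d₃ := by rw [e2] at hs; push_cast at hs; omega
      have : (1 : ℚ) / d₄ < 1 / d₃ := by
        apply one_div_lt_one_div_of_lt q3
        rw [h4]; push_cast; linarith
      rw [e2]
      push_cast
      linarith
    · exfalso
      rw [e2] at hs; push_cast at hs; omega
  by_cases e3 : d₃ = 1
  · left
    apply hsmall
    rcases hε with rfl | rfl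
    · have h4 : d₄ = 2 + d₂ := by rw [e3] at hs; push_cast at hs; omega
      have : (1 : ℚ) / d₄ < 1 / d₂ := by
        apply one_div_lt_one_div_of_lt q2
        rw [h4]; push_cast; linarith
      rw [e3]
      push_cast
      linarith
    · exfalso
      omega
  have l2 : 5 ≤ d₂ := by omega
  have l3 : 3 ≤ d₃ := by rcases hε with h | h <;> subst h <;> omega
  have l4 : 3 ≤ d₄ := by omega
  have hn5 := klein_arith hε l2 l3 l4 m3 m4 hs h
  obtain ⟨k, hk⟩ := hn
  have hcases : n = 1 ∨ n = 3 ∨ n = 5 := by omega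
  rcases hcases with h1 | h1 | h1
  · exact Or.inl h1
  · exfalso
    rw [h1] at k2 k3 k4
    have b2 := Nat.le_of_dvd (by norm_num) k2
    have b4 := Nat.le_of_dvd (by norm_num) k4
    have c2 : d₂ = 9 := by
      clear h hs m3 m4 k3 k4 hsmall b4
      interval_cases d₂ <;> omega
    have c4 : d₄ = 3 := by
      clear h hs m3 k3 hsmall b2 m2 k2
      interval_cases d₄ <;> omega
    rw [c2, c4] at hs
    have c3 : d₃ = 7 := by
      rcases hε with rfl | rfl <;> omega
    rw [c3] at k3
    omega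
  · exact Or.inr h1

/-- an odd normal subgroup is trivial if centralizers of involutions have order four -/
theorem odd_normal_bot {G : Type*} [Group G] [Finite G] {t s : G} (ht : orderOf t = 2) (hs : orderOf s = 2)
    (hts : t * s = s * t) (hne : t ≠ s)
    (hC : ∀ u : G, orderOf u = 2 → Nat.card (Subgroup.centralizer ({u} : Set G)) = 4)
    (M : Subgroup G) [hM : M.Normal] (hodd : Odd (Nat.card M)) : M = ⊥ := by
  have hfpf : ∀ u : G, orderOf u = 2 → ∀ x ∈ M, u * x = x * u → x = 1 := by
    intro u hu x hx hc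
    have h1 : x ∈ Subgroup.centralizer ({u} : Set G) := by
      rw [Subgroup.mem_centralizer_singleton_iff]; exact hc.symm
    have h2 : orderOf x ∣ 4 := by
      rw [← hC u hu]
      exact Subgroup.orderOf_dvd_natCard _ h1
    have h3 : orderOf x ∣ Nat.card M := Subgroup.orderOf_dvd_natCard _ hx
    have h4 : Nat.Coprime 4 (Nat.card M) := by
      have : (4 : ℕ) = 2 ^ 2 := by norm_num
      rw [this]
      apply Nat.Coprime.pow_left
      exact Nat.coprime_two_left.mpr hodd
    have h5 := Nat.dvd_gcd h2 h3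
    rw [h4] at h5
    exact orderOf_eq_one_iff.mp (Nat.dvd_one.mp h5)
  have hinvt : ∀ u : G, orderOf u = 2 → ∀ x ∈ M, u * x * u⁻¹ = x⁻¹ := by
    intro u hu x hx
    have huu : u * u = 1 := by rw [← sq, ← hu, pow_orderOf_eq_one]
    have huinv : u⁻¹ = u := inv_eq_of_mul_eq_one_left huu
    let φ : M →* M := {
      toFun := fun y => ⟨u * y * u⁻¹, hM.conj_mem y y.2 u⟩
      map_one' := by ext; simp
      map_mul' := fun y z => by ext; simp only [Subgroup.coe_mul]; group }
    have hφ : MonoidHom.FixedPointFree φ := by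
      intro y hy
      have h1 : u * (y : G) * u⁻¹ = y := congrArg Subtype.val hy
      exact Subtype.ext (hfpf u hu y y.2 (by rw [mul_inv_eq_iff_eq_mul] at h1; exact h1))
    have h2 : Function.Involutive φ := by
      intro y
      ext
      change u * (u * (y : G) * u⁻¹) * u⁻¹ = y
      rw [huinv]
      calc u * (u * (y : G) * u) * u = (u * u) * y * (u * u) := by group
        _ = y := by rw [huu, one_mul, mul_one]
    have h3 := hφ.coe_eq_inv_of_involutive h2
    have h4 := congrFun h3 ⟨x, hx⟩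
    exact congrArg Subtype.val h4
  rw [Subgroup.eq_bot_iff_forall]
  intro x hx
  have htt : t * t = 1 := by rw [← sq, ← ht, pow_orderOf_eq_one]
  have hss : s * s = 1 := by rw [← sq, ← hs, pow_orderOf_eq_one]
  have ho : orderOf (t * s) = 2 := by
    apply orderOf_eq_prime
    · rw [sq]
      calc t * s * (t * s) = t * (s * t) * s := by group
        _ = t * (t * s) * s := by rw [hts]
        _ = (t * t) * (s * s) := by group
        _ = 1 := by rw [htt, hss, one_mul]
    · intro h
      apply hne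
      rw [mul_eq_one_iff_eq_inv, inv_eq_of_mul_eq_one_left hss] at h
      exact h
  apply hfpf (t * s) ho x hx
  have h1 := hinvt t ht (s * x * s⁻¹) (hM.conj_mem x hx s)
  rw [hinvt s hs x hx, inv_inv] at h1
  have h2 := hinvt s hs x hx
  -- t x⁻¹ t⁻¹ = x
  have h3 : t * x⁻¹ * t⁻¹ = x := h1
  have h4 : t * (s * x * s⁻¹) * t⁻¹ = x := by rw [h2]; exact h3
  calc t * s * x = t * (s * x * s⁻¹) * t⁻¹ * (t * s) := by group
    _ = x * (t * s) := by rw [h4]

theorem klein_centralizer {G : Type*} [Group G] [Finite G] {t : G} (ht : orderOf t = 2)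
    (hK : IsKleinFour (Subgroup.centralizer ({t} : Set G)))
    (hone : ∀ s t : G, orderOf s = 2 → orderOf t = 2 → IsConj s t) :
    Nat.card G = 12 ∨ Nonempty (G ≃* alternatingGroup (Fin 5)) := by
  classical
  haveI : Fact (Nat.Prime 2) := ⟨Nat.prime_two⟩
  obtain ⟨V, hV⟩ : ∃ V : Subgroup G, V = Subgroup.centralizer ({t} : Set G) := ⟨_, rfl⟩
  have hKV : IsKleinFour V := by rw [hV]; exact hK
  have hV4 : Nat.card V = 4 := hKV.card_four
  have hC : ∀ u : G, orderOf u = 2 → Nat.card (Subgroup.centralizer ({u} : Set G)) = 4 := by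
    intro u hu
    obtain ⟨g, hg⟩ := isConj_iff.mp (hone t u ht hu)
    rw [← hV4, hV]
    symm
    apply Nat.card_congr
    refine ⟨fun c => ⟨g * c.1 * g⁻¹, ?_⟩, fun c => ⟨g⁻¹ * c.1 * g, ?_⟩, ?_, ?_⟩
    · have hc := Subgroup.mem_centralizer_singleton_iff.mp c.2
      rw [Subgroup.mem_centralizer_singleton_iff, ← hg]
      calc g * c.1 * g⁻¹ * (g * t * g⁻¹) = g * (c.1 * t) * g⁻¹ := by group
        _ = g * (t * c.1) * g⁻¹ := by rw [hc]
        _ = g * t * g⁻¹ * (g * c.1 * g⁻¹) := by group
    · have hc := Subgroup.mem_centralizer_singleton_iff.mp c.2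
      rw [Subgroup.mem_centralizer_singleton_iff]
      calc g⁻¹ * c.1 * g * t = g⁻¹ * (c.1 * (g * t * g⁻¹)) * g := by group
        _ = g⁻¹ * (c.1 * u) * g := by rw [hg]
        _ = g⁻¹ * (u * c.1) * g := by rw [hc]
        _ = g⁻¹ * (g * t * g⁻¹ * c.1) * g := by rw [hg]
        _ = t * (g⁻¹ * c.1 * g) := by group
    · intro c; apply Subtype.ext; simp only; group
    · intro c; apply Subtype.ext; simp only; group
  -- V is a Sylow 2-subgroup
  have hP : ∃ P : Sylow 2 G, (P : Subgroup G) = V := by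
    have h0 : IsPGroup 2 V := IsPGroup.of_card (n := 2) (by rw [hV4]; norm_num)
    obtain ⟨P, hP⟩ := h0.exists_le_sylow
    refine ⟨P, ?_⟩
    symm
    apply Subgroup.eq_of_le_of_card_ge hP
    rw [hV4]
    haveI : Nontrivial V := by
      rw [← Finite.one_lt_card_iff_nontrivial, hV4]; norm_num
    haveI : Nontrivial (P : Subgroup G) := by
      obtain ⟨a, b, hab⟩ := exists_pair_ne V
      exact ⟨⟨a, hP a.2⟩, ⟨b, hP b.2⟩, fun h => hab (Subtype.ext (congrArg (fun z : (P : Subgroup G) => (z : G)) h))⟩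
    have hnt := P.isPGroup'.center_nontrivial
    have hdvd : 2 ∣ Nat.card (Subgroup.center (P : Subgroup G)) := by
      have hp := P.isPGroup'.to_subgroup (Subgroup.center (P : Subgroup G))
      obtain ⟨n, hn⟩ := IsPGroup.iff_card.mp hp
      rw [hn]
      have : n ≠ 0 := by
        intro h
        rw [h, pow_zero] at hn
        have := (Nat.card_eq_one_iff_unique.mp hn).1
        exact not_subsingleton _ this
      exact dvd_pow_self 2 this
    obtain ⟨w, hw⟩ := exists_prime_orderOf_dvd_card' 2 hdvd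
    have hwo : orderOf ((w : (P : Subgroup G)) : G) = 2 := by
      rw [Subgroup.orderOf_coe, Subgroup.orderOf_coe, hw]
    rw [← hC _ hwo]
    apply Subgroup.card_le_of_le
    intro s hs
    rw [Subgroup.mem_centralizer_singleton_iff]
    have h1 := (Subgroup.mem_center_iff.mp w.2) ⟨s, hs⟩
    exact congrArg Subtype.val h1
  obtain ⟨P, hPV⟩ := hP
  have hKP : IsKleinFour (P : Subgroup G) := by rw [hPV]; exact hKV
  obtain ⟨hTI, hN, hcount, -⟩ := klein_facts hone t ht V (by rw [hV]) hKV
    (by rw [hV, Subgroup.relIndex_self]; norm_num) (by rw [hV, Subgroup.subgroupOf_self]; infer_instance)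
  rw [← hV, hV4] at hN hcount
  obtain ⟨ζ₂, ζ₃, ζ₄, ε, d₂, d₃, d₄, hε, n2, n3, n4, e2, e3, e4, -, -, -, p2, p3, p4, m2, m3, m4, hs, hform⟩ :=
    klein_formula P hKP hone ht hTI
  obtain ⟨N, hNdef⟩ : ∃ N : Subgroup G, N = Subgroup.normalizer (V : Set G) := ⟨_, rfl⟩
  rw [← hNdef] at hN
  have hGcard : Nat.card G = 12 * N.index := by
    rw [← Subgroup.card_mul_index N, hN]
  have hoddi : Odd N.index := by
    have h1 := P.card_mul_index
    rw [hPV, hV4, hGcard] at h1
    have h2 : V.index = 3 * N.index := by omega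
    have h3 : ¬ 2 ∣ (P : Subgroup G).index := P.not_dvd_index
    rw [hPV, h2] at h3
    rw [← Nat.not_even_iff_odd, even_iff_two_dvd]
    intro h
    exact h3 (dvd_mul_of_dvd_right h 3)
  have hidx : N.index = 1 ∨ N.index = 5 := by
    apply klein_arith2 hε p2 p3 p4 m2 m3 m4 hs _ hoddi
    · rw [← hGcard]; exact H3.irr_degree_dvd_card ζ₂.2 e2
    · rw [← hGcard]; exact H3.irr_degree_dvd_card ζ₃.2 e3
    · rw [← hGcard]; exact H3.irr_degree_dvd_card ζ₄.2 e4
    · rw [hcount, hGcard] at hform
      push_cast at hform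
      linarith
  rcases hidx with h1 | h5
  · left; rw [hGcard, h1]
  right
  have h60 : Nat.card G = 60 := by rw [hGcard, h5]
  -- the action on the five cosets
  obtain ⟨s, hs, hst, hsne⟩ : ∃ s : G, orderOf s = 2 ∧ t * s = s * t ∧ t ≠ s := by
    have htV : t ∈ V := by rw [hV, Subgroup.mem_centralizer_singleton_iff]
    have hne : ∃ s ∈ V, s ≠ 1 ∧ s ≠ t := by
      by_contra hcon
      push Not at hcon
      have hle : Nat.card V ≤ 2 := by
        have : (V : Set G) ⊆ {1, t} := by
          intro s hs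
          by_cases h1 : s = 1
          · left; exact h1
          · right; exact hcon s hs h1
        calc Nat.card V = (V : Set G).ncard := rfl
          _ ≤ ({1, t} : Set G).ncard := Set.ncard_le_ncard this (Set.toFinite _)
          _ ≤ 2 := Set.ncard_insert_le _ _ |>.trans (by rw [Set.ncard_singleton])
      omega
    obtain ⟨s, hsV, hs1, hst⟩ := hne
    refine ⟨s, ?_, ?_, Ne.symm hst⟩
    · apply orderOf_eq_prime _ hs1
      rw [sq]
      exact congrArg Subtype.val (IsKleinFour.mul_self (⟨s, hsV⟩ : V))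
    · rw [hV, Subgroup.mem_centralizer_singleton_iff] at hsV
      exact hsV.symm
  have hbot := odd_normal_bot ht hs hst hsne hC
  let ρ : G →* Equiv.Perm (G ⧸ N) := MulAction.toPermHom G (G ⧸ N)
  have hker : ρ.ker = ⊥ := by
    apply hbot
    by_contra heven
    obtain ⟨i, hi, hio⟩ := H4.exists_involution heven
    have hall : ∀ u : G, orderOf u = 2 → u ∈ N := by
      intro u hu
      obtain ⟨g, hg⟩ := isConj_iff.mp (hone i u hio hu)
      have h1 : u ∈ ρ.ker := by
        rw [← hg]
        exact (inferInstance : ρ.ker.Normal).conj_mem i hi g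
      have h2 : ρ u = 1 := h1
      have h3 : u • ((1 : G) : G ⧸ N) = ((1 : G) : G ⧸ N) := by
        have := congrArg (fun π : Equiv.Perm (G ⧸ N) => π ((1 : G) : G ⧸ N)) h2
        exact this
      rw [MulAction.Quotient.smul_mk, smul_eq_mul, mul_one] at h3
      have h4 := QuotientGroup.eq.mp h3
      rw [mul_one] at h4
      exact inv_mem_iff.mp h4
    -- N has V as its unique Sylow
    have hVall : ∀ u : G, orderOf u = 2 → u ∈ V := by
      intro u hu
      have huN := hall u hu
      rw [hNdef] at huN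
      have hpz : IsPGroup 2 (Subgroup.zpowers u) := by
        apply IsPGroup.of_card (n := 1)
        rw [Nat.card_zpowers, hu, pow_one]
      have hsup : IsPGroup 2 (Subgroup.zpowers u ⊔ V : Subgroup G) := by
        apply IsPGroup.to_sup_of_normal_right' hpz (hPV ▸ P.isPGroup')
        rw [Subgroup.zpowers_le]; exact huN
      have h1 : (Subgroup.zpowers u ⊔ V : Subgroup G) = V := by
        rw [← hPV]
        rw [← hPV] at hsup
        exact P.is_maximal' hsup le_sup_right
      rw [← h1]
      exact Subgroup.mem_sup_left (Subgroup.mem_zpowers u)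
    have hNtop : N = ⊤ := by
      rw [hNdef, Subgroup.normalizer_eq_top_iff]
      constructor
      intro v hv g
      by_cases hv1 : v = 1
      · rw [hv1, mul_one, mul_inv_cancel]; exact one_mem _
      · apply hVall
        rw [H4.orderOf_conj]
        apply orderOf_eq_prime _ hv1
        rw [sq]
        exact congrArg Subtype.val (IsKleinFour.mul_self (⟨v, hv⟩ : V))
    rw [hNtop, Subgroup.index_top] at h5
    omega
  have hinj : Function.Injective ρ := (MonoidHom.ker_eq_bot_iff ρ).mp hker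
  have hcard5 : Nat.card (G ⧸ N) = 5 := h5
  let e : (G ⧸ N) ≃ Fin 5 := (Nat.equivFinOfCardPos (by rw [hcard5]; norm_num)).trans (finCongr hcard5)
  let σ : G →* Equiv.Perm (Fin 5) := (e.permCongrHom.toMonoidHom).comp ρ
  have hσ : Function.Injective σ := e.permCongrHom.injective.comp hinj
  have hr : σ.range.index = 2 := by
    have h1 := Subgroup.card_mul_index σ.range
    have h2 : Nat.card σ.range = 60 := by
      rw [← h60]
      exact (Nat.card_congr (MonoidHom.ofInjective hσ).toEquiv).symm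
    rw [h2, Nat.card_perm, Nat.card_eq_fintype_card, Fintype.card_fin] at h1
    have h3 : Nat.factorial 5 = 120 := rfl
    omega
  have hr2 := Equiv.Perm.eq_alternatingGroup_of_index_eq_two hr
  exact ⟨(MonoidHom.ofInjective hσ).trans (MulEquiv.subgroupCongr hr2)⟩

end Cfsg.Agent.H20
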