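import Cfsg.Agent.H11.FB3
import Cfsg.Agent.H27.PMod
import Cfsg.Agent.H3.Counting

set_option autoImplicit false
set_option linter.unusedSectionVars false
set_option linter.style.haveILetI false
set_option linter.unusedVariables false

/-! The order formula for groups with Klein four Sylow 2-subgroups and one class of involutions. -/

namespace Cfsg.Agent.H20

open Cfsg Cfsg.Agent.H3 Cfsg.Agent.H11

theorem klein_formula {G : Type*} [Group G] [Finite G] (P : Sylow 2 G)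
    (hP : IsKleinFour (P : Subgroup G))
    (hone : ∀ s t : G, orderOf s = 2 → orderOf t = 2 → IsConj s t) {t : G} (ht : orderOf t = 2)
    (hTI : ∀ a : G, Even (orderOf (a * t * a⁻¹ * t)) → orderOf (a * t * a⁻¹ * t) = 2) :
    ∃ (ζ₂ ζ₃ ζ₄ : IrrCharacter G) (ε : ℤ) (d₂ d₃ d₄ : ℕ), (ε = 1 ∨ ε = -1) ∧
      (ζ₂ : G → ℂ) ≠ (fun _ => 1) ∧ (ζ₃ : G → ℂ) ≠ (fun _ => 1) ∧ (ζ₄ : G → ℂ) ≠ (fun _ => 1) ∧
      (ζ₂ : G → ℂ) 1 = d₂ ∧ (ζ₃ : G → ℂ) 1 = d₃ ∧ (ζ₄ : G → ℂ) 1 = d₄ ∧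
      (ζ₂ : G → ℂ) t = 1 ∧ (ζ₃ : G → ℂ) t = ε ∧ (ζ₄ : G → ℂ) t = -1 ∧
      0 < d₂ ∧ 0 < d₃ ∧ 0 < d₄ ∧ (4:ℤ) ∣ (d₂ : ℤ) - 1 ∧ (4:ℤ) ∣ (d₃ : ℤ) - ε ∧ (4:ℤ) ∣ (d₄ : ℤ) + 1 ∧
      (d₄ : ℤ) = 1 + d₂ + ε * d₃ ∧
      (Nat.card G : ℚ) * (1 + 1 / d₂ + ε / d₃ - 1 / d₄) =
        4 * Nat.card {a : G // orderOf (a * t * a⁻¹ * t) = 2} := by
  classical
  haveI := Fintype.ofFinite G
  obtain ⟨M, hM⟩ := H27.exists_isPModular (p := 2) Nat.prime_two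
  obtain ⟨ζ₂, ζ₃, ζ₄, ε, hε, h2, h3, h23, h24, h34, hB, hval, hd2, hd3, hd4, hodd⟩ :=
    klein_principal hM P hP hone
  obtain ⟨v2, v3, v4⟩ := hval t ht
  obtain ⟨d₂, hp2, e2⟩ := irr_one_eq_nat ζ₂.2
  obtain ⟨d₃, hp3, e3⟩ := irr_one_eq_nat ζ₃.2
  obtain ⟨d₄, hp4, e4⟩ := irr_one_eq_nat ζ₄.2
  have hcd : ∀ (χ : IrrCharacter G) (d : ℕ), (χ : G → ℂ) 1 = d → charDegree (χ : G → ℂ) = d := by
    intro χ d hd
    rw [charDegree, hd, Complex.natCast_re, Nat.floor_natCast]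
  rw [hcd ζ₂ d₂ e2] at hd2
  rw [hcd ζ₃ d₃ e3] at hd3
  rw [hcd ζ₄ d₄ e4] at hd4
  have h4 : (ζ₄ : G → ℂ) ≠ (fun _ => 1) := by
    intro h
    rw [h] at v4
    norm_num at v4
  have hsum : (d₄ : ℤ) = 1 + d₂ + ε * d₃ := by
    have h := hodd 1 (by rw [orderOf_one]; exact odd_one)
    rw [e2, e3, e4] at h
    have h' : ((1 + d₂ + ε * d₃ - d₄ : ℤ) : ℂ) = 0 := by push_cast; exact h
    have h'' : (1 + d₂ + ε * d₃ - d₄ : ℤ) = 0 := by exact_mod_cast h'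
    linarith
  refine ⟨ζ₂, ζ₃, ζ₄, ε, d₂, d₃, d₄, hε, h2, h3, h4, e2, e3, e4, v2, v3, v4, hp2, hp3, hp4, hd2, hd3, hd4,
    hsum, ?_⟩
  -- the count
  have hεε : (ε : ℂ) * ε = 1 := by
    rcases hε with h | h <;> rw [h] <;> norm_num
  have hΘ : ∀ a : G, 1 + (ζ₂ : G → ℂ) (a * t * a⁻¹ * t) + (ε : ℂ) * (ζ₃ : G → ℂ) (a * t * a⁻¹ * t)
      - (ζ₄ : G → ℂ) (a * t * a⁻¹ * t) = if orderOf (a * t * a⁻¹ * t) = 2 then 4 else 0 := by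
    intro a
    split_ifs with h
    · obtain ⟨w2, w3, w4⟩ := hval _ h
      rw [w2, w3, w4, hεε]
      norm_num
    · apply hodd
      rw [← Nat.not_even_iff_odd]
      intro he
      exact h (hTI a he)
  have hc : ∀ χ : IrrCharacter G, ∑ a : G, (χ : G → ℂ) (a * t * a⁻¹ * t) =
      (Nat.card G : ℂ) * (χ : G → ℂ) t * (χ : G → ℂ) t / (χ : G → ℂ) 1 :=
    fun χ => sum_irr_conj_mul χ.2 t t
  have hS : ∑ a : G, (1 + (ζ₂ : G → ℂ) (a * t * a⁻¹ * t) + (ε : ℂ) * (ζ₃ : G → ℂ) (a * t * a⁻¹ * t)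
      - (ζ₄ : G → ℂ) (a * t * a⁻¹ * t)) = (Nat.card G : ℂ) * (1 + 1 / d₂ + ε / d₃ - 1 / d₄) := by
    rw [Finset.sum_sub_distrib, Finset.sum_add_distrib, Finset.sum_add_distrib, ← Finset.mul_sum,
      hc, hc, hc, v2, v3, v4, e2, e3, e4]
    rw [Finset.sum_const, Finset.card_univ, ← Nat.card_eq_fintype_card]
    have : (ε : ℂ) * ((Nat.card G : ℂ) * ε * ε / d₃) = (Nat.card G : ℂ) * (ε / d₃) := by
      calc (ε : ℂ) * ((Nat.card G : ℂ) * ε * ε / d₃) = (Nat.card G : ℂ) * (((ε : ℂ) * ε) * ε / d₃) := by ring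
        _ = (Nat.card G : ℂ) * (ε / d₃) := by rw [hεε, one_mul]
    rw [this]
    simp only [nsmul_eq_mul, mul_one]
    ring
  have hS' : ∑ a : G, (1 + (ζ₂ : G → ℂ) (a * t * a⁻¹ * t) + (ε : ℂ) * (ζ₃ : G → ℂ) (a * t * a⁻¹ * t)
      - (ζ₄ : G → ℂ) (a * t * a⁻¹ * t)) =
      4 * (Nat.card {a : G // orderOf (a * t * a⁻¹ * t) = 2} : ℂ) := by
    rw [Finset.sum_congr rfl (fun a _ => hΘ a), ← Finset.sum_filter, Finset.sum_const, nsmul_eq_mul,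
      Nat.card_eq_fintype_card, Fintype.card_subtype]
    ring
  have hfin : ((((Nat.card G : ℚ) * (1 + 1 / d₂ + ε / d₃ - 1 / d₄)) : ℚ) : ℂ) =
      (((4 * Nat.card {a : G // orderOf (a * t * a⁻¹ * t) = 2}) : ℚ) : ℂ) := by
    push_cast
    rw [← hS, ← hS']
  exact_mod_cast hfin

end Cfsg.Agent.H20
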