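import Cfsg.Agent.H3.Monomial
import Cfsg.Agent.H3.Inflate
import Cfsg.Agent.H3.Prod

set_option autoImplicit false
set_option linter.unusedSectionVars false

/-!
# Irreducible characters of powers of a group
-/

namespace Cfsg.Agent.H20.MG

open Cfsg Cfsg.Agent.H3 Finset
open scoped ComplexConjugate

universe u v

variable {ι : Type v} [Fintype ι] {H : Type u} [Group H]

/-- the product function -/
def pf (θ : ι → H → ℂ) : (ι → H) → ℂ := fun f => ∏ i, θ i (f i)

theorem isChar_pf {θ : ι → H → ℂ} (h : ∀ i, IsCharacter H (θ i)) : IsCharacter (ι → H) (pf θ) := by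
  classical
  have key : ∀ s : Finset ι, IsCharacter (ι → H) (fun f => ∏ i ∈ s, θ i (f i)) := by
    intro s
    induction s using Finset.induction_on with
    | empty => simpa using isChar_one (G := ι → H)
    | insert a s ha ih =>
      have h1 := isChar_mul (isChar_comp (h a) (Pi.evalMonoidHom (fun _ : ι => H) a)) ih
      convert h1 using 1
      ext f
      rw [Finset.prod_insert ha]
      rfl
  exact key Finset.univ

variable [Fintype H]

theorem sum_pi [Fintype (ι → H)] (F : ι → H → ℂ) :
    ∑ f : ι → H, ∏ i, F i (f i) = ∏ i, ∑ h : H, F i h := by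
  classical
  rw [Finset.prod_univ_sum]
  exact Finset.sum_congr (by ext; simp) fun _ _ => rfl

theorem card_pi' : (Nat.card (ι → H) : ℂ) = ∏ _i : ι, (Nat.card H : ℂ) := by
  rw [Nat.card_fun, Finset.prod_const, Finset.card_univ, Nat.card_eq_fintype_card (α := ι)]
  push_cast
  rfl

theorem classInner_pf [Fintype (ι → H)] (θ η : ι → H → ℂ) :
    classInner (pf θ) (pf η) = ∏ i, classInner (θ i) (η i) := by
  simp only [classInner, pf]
  rw [Finset.prod_mul_distrib, Finset.prod_inv_distrib, ← card_pi', ← sum_pi]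
  congr 1
  apply Finset.sum_congr rfl
  intro f _
  rw [map_prod, ← Finset.prod_mul_distrib]

theorem isIrr_pf {θ : ι → H → ℂ} (h : ∀ i, IsIrrCharacter H (θ i)) :
    IsIrrCharacter (ι → H) (pf θ) := by
  classical
  refine isIrr_of_char_norm (isChar_pf fun i => irr_isChar (h i)) ?_
  rw [classInner_pf]
  exact Finset.prod_eq_one fun i _ => classInner_self_of_irr (h i)

theorem exists_pf_eq {χ : (ι → H) → ℂ} (hχ : IsIrrCharacter (ι → H) χ) :
    ∃ θ : ι → IrrCharacter H, χ = pf (fun i => (θ i : H → ℂ)) := by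
  classical
  have := Fintype.ofFinite (IrrCharacter H)
  by_contra hcon
  push Not at hcon
  have h0 : ∀ θ : ι → IrrCharacter H, ∑ f, χ f * conj (pf (fun i => (θ i : H → ℂ)) f) = 0 := by
    intro θ
    have h1 := classInner_of_irr_ne hχ (isIrr_pf fun i => (θ i).2) (hcon θ)
    rw [classInner] at h1
    exact (mul_eq_zero.mp h1).resolve_left (inv_ne_zero card_ne_zeroC)
  let R : (ι → H) → ℂ := fun f => ∏ i, ∑ ψ : IrrCharacter H, (ψ : H → ℂ) 1 * (ψ : H → ℂ) (f i)
  have h1 : ∑ f, χ f * conj (R f) = 0 := by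
    have h2 : ∀ f, R f = ∑ θ : ι → IrrCharacter H,
        (∏ i, (θ i : H → ℂ) 1) * pf (fun i => (θ i : H → ℂ)) f := by
      intro f
      simp only [R, pf]
      rw [Finset.prod_univ_sum]
      refine Finset.sum_congr (by ext; simp) fun θ _ => ?_
      rw [Finset.prod_mul_distrib]
    simp only [h2, map_sum, map_mul, Finset.mul_sum]
    rw [Finset.sum_comm]
    apply Finset.sum_eq_zero
    intro θ _
    have h3 : ∀ f, χ f * (conj (∏ i, (θ i : H → ℂ) 1) * conj (pf (fun i => (θ i : H → ℂ)) f)) =
        conj (∏ i, (θ i : H → ℂ) 1) * (χ f * conj (pf (fun i => (θ i : H → ℂ)) f)) := by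
      intro f; ring
    simp only [h3]
    rw [← Finset.mul_sum, h0, mul_zero]
  have h4 : ∀ f, R f = if f = 1 then (Nat.card (ι → H) : ℂ) else 0 := by
    intro f
    simp only [R, sum_degree_mul]
    split_ifs with hf
    · rw [card_pi']
      apply Finset.prod_congr rfl
      intro i _
      rw [hf, Pi.one_apply, if_pos rfl]
    · obtain ⟨i, hi⟩ := Function.ne_iff.mp hf
      apply Finset.prod_eq_zero (Finset.mem_univ i)
      rw [if_neg]
      exact hi
  rw [Finset.sum_eq_single 1 (by
    intro f _ hf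
    rw [h4, if_neg hf, map_zero, mul_zero]) (by simp), h4, if_pos rfl, Complex.conj_natCast] at h1
  rcases mul_eq_zero.mp h1 with h | h
  · exact irr_one_ne_zero hχ h
  · exact card_ne_zeroC h

/-- linear functions on a product of subgroups -/
def pl (J : ι → Subgroup H) (lam : ∀ i, J i → ℂ) : Subgroup.pi Set.univ J → ℂ :=
  fun n => ∏ i, lam i ⟨(n : ι → H) i, (Subgroup.mem_pi _).mp n.2 i (Set.mem_univ i)⟩

theorem extend_pl (J : ι → Subgroup H) (lam : ∀ i, J i → ℂ) (f : ι → H) :
    extendByZero (Subgroup.pi Set.univ J) (pl J lam) f = ∏ i, extendByZero (J i) (lam i) (f i) := by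
  classical
  by_cases hf : f ∈ Subgroup.pi Set.univ J
  · rw [extendByZero_mem _ _ hf]
    unfold pl
    apply Finset.prod_congr rfl
    intro i _
    rw [extendByZero_mem _ _ ((Subgroup.mem_pi _).mp hf i (Set.mem_univ i))]
  · rw [extendByZero_not_mem _ _ hf]
    rw [Subgroup.mem_pi] at hf
    push Not at hf
    obtain ⟨i, _, hi⟩ := hf
    symm
    apply Finset.prod_eq_zero (Finset.mem_univ i)
    rw [extendByZero_not_mem _ _ hi]

theorem card_pi_subgroup (J : ι → Subgroup H) :
    (Nat.card (Subgroup.pi Set.univ J) : ℂ) = ∏ i, (Nat.card (J i) : ℂ) := by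
  have e : Subgroup.pi Set.univ J ≃ ∀ i, J i :=
    { toFun := fun n i => ⟨(n : ι → H) i, (Subgroup.mem_pi _).mp n.2 i (Set.mem_univ i)⟩
      invFun := fun f => ⟨fun i => f i, (Subgroup.mem_pi _).mpr fun i _ => (f i).2⟩
      left_inv := fun _ => rfl
      right_inv := fun _ => rfl }
  rw [Nat.card_congr e, Nat.card_pi]
  push_cast
  rfl

theorem indFun_pl [Fintype (ι → H)] (J : ι → Subgroup H) (lam : ∀ i, J i → ℂ) :
    indFun (Subgroup.pi Set.univ J) (pl J lam) = pf (fun i => indFun (J i) (lam i)) := by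
  ext f
  simp only [indFun, pf]
  rw [Finset.prod_mul_distrib, Finset.prod_inv_distrib, ← card_pi_subgroup, ← sum_pi]
  congr 1
  apply Finset.sum_congr rfl
  intro x _
  rw [extend_pl]
  rfl

/-- equality of product irreducible characters that differ by a translation -/
theorem eq_of_pf_eq {θ η : ι → H → ℂ} (hθ : ∀ i, IsIrrCharacter H (θ i))
    (hη : ∀ i, IsIrrCharacter H (η i)) (h : pf θ = pf η) : θ = η := by
  classical
  by_contra hne
  obtain ⟨i, hi⟩ := Function.ne_iff.mp hne
  have h1 : classInner (pf θ) (pf η) = 0 := by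
    rw [classInner_pf]
    exact Finset.prod_eq_zero (Finset.mem_univ i) (classInner_of_irr_ne (hθ i) (hη i) hi)
  rw [← h, classInner_self_of_irr (isIrr_pf hθ)] at h1
  exact one_ne_zero h1

end Cfsg.Agent.H20.MG
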