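import Cfsg.Agent.H20.MG1

set_option autoImplicit false
set_option linter.unusedSectionVars false
set_option linter.style.haveILetI false
set_option linter.unusedVariables false

/-!
# The wreath product of an M-group with a group of prime order is an M-group
-/

namespace Cfsg.Agent.H20.MG

open Cfsg Cfsg.Agent.H3 Finset RegularWreathProduct
open scoped ComplexConjugate

universe u

/-- a character induced from a linear character, recognized by its degree -/
theorem eq_indFun_of_degree {G : Type u} [Group G] [Fintype G] {χ : G → ℂ}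
    (hχ : IsIrrCharacter G χ) (L : Subgroup G) {η : L → ℂ} (hη : IsCharacter L η) (h1 : η 1 = 1)
    (h : classInner χ (indFun L η) ≠ 0) {e : ℕ} (he : χ 1 = e * L.index) : χ = indFun L η := by
  have h2 := isChar_sub_irr (isChar_ind L hη) hχ (classInner_ne_zero_symm h)
  by_contra hne
  have h3 : indFun L η - χ ≠ 0 := fun h4 => hne (sub_eq_zero.mp h4).symm
  obtain ⟨m, hm, h5⟩ := char_ne_zero_pos h2 h3
  rw [Pi.sub_apply, indFun_one_apply, h1, he, mul_one] at h5
  have h6 : e ≠ 0 := by
    rintro rfl
    exact irr_one_ne_zero hχ (by rw [he]; simp)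
  have h7 : (L.index : ℂ) = ((m + e * L.index : ℕ) : ℂ) := by
    push_cast
    linear_combination h5
  have h8 : L.index = m + e * L.index := by exact_mod_cast h7
  have h9 : L.index ≤ e * L.index := Nat.le_mul_of_pos_left _ (Nat.pos_of_ne_zero h6)
  omega

section

variable {H Q : Type u} [Group H] [Group Q]

/-- the base group -/
abbrev base (H Q : Type u) [Group H] [Group Q] : Subgroup (H ≀ᵣ Q) :=
  (rightHom : H ≀ᵣ Q →* Q).ker

theorem base_right (k : base H Q) : (k : H ≀ᵣ Q).right = 1 := k.2

/-- the base group as a function group -/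
def baseEquiv (H Q : Type u) [Group H] [Group Q] : base H Q ≃* (Q → H) where
  toFun k := (k : H ≀ᵣ Q).left
  invFun f := ⟨⟨f, 1⟩, rfl⟩
  left_inv k := by
    apply Subtype.ext
    exact RegularWreathProduct.ext rfl (base_right k).symm
  right_inv f := rfl
  map_mul' a b := by
    ext x
    show (a : H ≀ᵣ Q).left x * (b : H ≀ᵣ Q).left ((a : H ≀ᵣ Q).right⁻¹ * x) = _
    rw [base_right, inv_one, one_mul]
    rfl

/-- the subgroup `J ≀ Q` -/
def sw (J : Subgroup H) : Subgroup (H ≀ᵣ Q) where
  carrier := {w | ∀ q, w.left q ∈ J}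
  mul_mem' {a b} ha hb q := J.mul_mem (ha q) (hb _)
  one_mem' q := J.one_mem
  inv_mem' {a} ha q := J.inv_mem (ha _)

variable [Fintype Q]

/-- the linear character of `J ≀ Q` -/
def swHom (J : Subgroup H) (lam : J →* ℂˣ) : sw (Q := Q) J →* ℂˣ where
  toFun w := ∏ q, lam ⟨(w : H ≀ᵣ Q).left q, w.2 q⟩
  map_one' := Finset.prod_eq_one fun q _ => map_one lam
  map_mul' a b := by
    have h1 : ∀ q, lam ⟨((a * b : sw (Q := Q) J) : H ≀ᵣ Q).left q, (a * b).2 q⟩ =
        lam ⟨(a : H ≀ᵣ Q).left q, a.2 q⟩ *
          lam ⟨(b : H ≀ᵣ Q).left ((a : H ≀ᵣ Q).right⁻¹ * q), b.2 _⟩ := by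
      intro q
      rw [← map_mul]
      rfl
    simp only [h1]
    rw [Finset.prod_mul_distrib]
    congr 1
    exact Fintype.prod_equiv (Equiv.mulLeft (a : H ≀ᵣ Q).right⁻¹) _ _ fun q => rfl

/-- product of linear characters -/
def plHom (J : Q → Subgroup H) (lam : ∀ q, J q →* ℂˣ) : Subgroup.pi Set.univ J →* ℂˣ where
  toFun n := ∏ q, lam q ⟨(n : Q → H) q, (Subgroup.mem_pi _).mp n.2 q (Set.mem_univ q)⟩
  map_one' := Finset.prod_eq_one fun q _ => map_one (lam q)
  map_mul' a b := by
    rw [← Finset.prod_mul_distrib]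
    exact Finset.prod_congr rfl fun q _ => by rw [← map_mul]; rfl

theorem coe_plHom (J : Q → Subgroup H) (lam : ∀ q, J q →* ℂˣ) (n : Subgroup.pi Set.univ J) :
    ((plHom J lam n : ℂˣ) : ℂ) = pl J (fun q x => (lam q x : ℂ)) n := by
  unfold plHom pl
  simp

variable [Fintype H]

theorem index_sw (J : Subgroup H) : (sw (Q := Q) J).index = J.index ^ Fintype.card Q := by
  have e : sw (Q := Q) J ≃ (Q → J) × Q :=
    { toFun := fun w => (fun q => ⟨(w : H ≀ᵣ Q).left q, w.2 q⟩, (w : H ≀ᵣ Q).right)
      invFun := fun x => ⟨⟨fun q => x.1 q, x.2⟩, fun q => (x.1 q).2⟩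
      left_inv := fun _ => rfl
      right_inv := fun _ => rfl }
  have h1 := Subgroup.index_mul_card (sw (Q := Q) J)
  rw [Nat.card_congr e, RegularWreathProduct.card, Nat.card_prod, Nat.card_fun,
    ← Subgroup.index_mul_card J, mul_pow, Nat.card_eq_fintype_card (α := Q)] at h1
  have h2 : 0 < Nat.card J ^ Fintype.card Q * Fintype.card Q := by
    have h3 : 0 < Nat.card J := Nat.card_pos
    have h4 : 0 < Fintype.card Q := Fintype.card_pos_iff.mpr ⟨1⟩
    positivity
  apply Nat.eq_of_mul_eq_mul_right h2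
  rw [h1]
  ring

theorem monomial_wreath
    (hH : ∀ χ : H → ℂ, IsIrrCharacter H χ → ∃ (J : Subgroup H) (lam : J →* ℂˣ),
      χ = indFun J (fun h => (lam h : ℂ)))
    (hQ : (Nat.card Q).Prime) [Fintype (H ≀ᵣ Q)] {χ : H ≀ᵣ Q → ℂ}
    (hχ : IsIrrCharacter (H ≀ᵣ Q) χ) : Monomial (fun _ => True) χ := by
  classical
  haveI := Fintype.ofFinite (base H Q)
  haveI := Fintype.ofFinite (Q → H)
  have hK : (base H Q).Normal := inferInstance
  obtain ⟨⟨θ, hθ⟩, he⟩ := exists_constituent (isChar_restrict (base H Q) (irr_isChar hχ))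
    (fun h => irr_one_ne_zero hχ (congrFun h 1))
  replace he : classInner (fun k : base H Q => χ k) θ ≠ 0 := he
  have hθ' := (isIrr_comp_equiv_iff (baseEquiv H Q).symm).2 hθ
  obtain ⟨t, ht⟩ := exists_pf_eq hθ'
  have htθ : ∀ k, θ k = pf (fun q => (t q : H → ℂ)) (baseEquiv H Q k) := by
    intro k
    rw [← ht]
    simp
  -- monomiality of `θ`
  have hmθ : ∀ (J : Q → Subgroup H) (lam : ∀ q, J q →* ℂˣ)
      (_ : ∀ q, (t q : H → ℂ) = indFun (J q) (fun x => (lam q x : ℂ))),
      θ = indFun ((Subgroup.pi Set.univ J).comap (baseEquiv H Q).toMonoidHom)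
        (fun x => ((plHom J lam).comp ((baseEquiv H Q).toMonoidHom.subgroupComap
          (Subgroup.pi Set.univ J)) x : ℂ)) := by
    intro J lam hJ
    ext k
    rw [htθ]
    have h1 : pf (fun q => (t q : H → ℂ)) = indFun (Subgroup.pi Set.univ J)
        (fun n => ((plHom J lam n : ℂˣ) : ℂ)) := by
      rw [show (fun n => ((plHom J lam n : ℂˣ) : ℂ)) = pl J (fun q x => (lam q x : ℂ)) from
        funext (coe_plHom J lam), indFun_pl]
      congr 1
      funext q
      exact hJ q
    rw [h1]
    have h2 := congrFun (indFun_comap (baseEquiv H Q).toMonoidHom (baseEquiv H Q).surjective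
      (Subgroup.pi Set.univ J) (fun n => ((plHom J lam n : ℂˣ) : ℂ))) k
    exact h2.symm
  by_cases hT : inertia hK θ = ⊤
  swap
  · -- not invariant
    have hle : base H Q ≤ inertia hK θ := le_inertia hK (irr_classFun hθ)
    have hidx : (base H Q).index = Nat.card Q := by
      rw [Subgroup.index_ker, MonoidHom.range_eq_top.mpr (fun q => ⟨inl q, rfl⟩), Subgroup.card_top]
    have hTK : base H Q = inertia hK θ := by
      apply le_antisymm hle
      rw [← Subgroup.relIndex_eq_one]
      have h1 := Subgroup.relIndex_mul_index hle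
      rw [hidx] at h1
      rcases (Nat.dvd_prime hQ).mp (Dvd.intro _ h1) with h2 | h2
      · exact h2
      · exfalso
        rw [h2] at h1
        apply hT
        rw [← Subgroup.index_eq_one]
        exact Nat.eq_of_mul_eq_mul_left hQ.pos (by rw [h1, mul_one])
    obtain ⟨ψ, hψ, hψχ, h3, -⟩ := clifford_corr hK hχ hθ he (base H Q) hTK le_rfl
    have h4 : ψ = θ := by
      by_contra hne
      apply he
      rw [← h3]
      exact classInner_of_irr_ne hψ hθ hne
    choose J lam hJ using fun q => hH _ (t q).2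
    rw [← hψχ, h4]
    apply monomial_ind (base H Q) (P := fun _ => True) (P' := fun _ => True) (fun _ _ => trivial)
    exact ⟨_, _, trivial, hmθ J lam hJ⟩
  · -- invariant
    have hinv : ∀ a q : Q, t (a * q) = t q := by
      intro a
      have h1 : cj hK (inl a) θ = θ := by
        have : (inl a : H ≀ᵣ Q) ∈ inertia hK θ := by rw [hT]; trivial
        exact this
      have h2 : pf (fun q => (t (a * q) : H → ℂ)) = pf (fun q => (t q : H → ℂ)) := by
        ext f
        have h3 := congrFun h1 ((baseEquiv H Q).symm f)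
        rw [cj_apply, htθ, htθ] at h3
        rw [MulEquiv.apply_symm_apply] at h3
        rw [← h3]
        unfold pf
        refine Fintype.prod_equiv (Equiv.mulLeft a) _ _ fun q => ?_
        show (t (a * q) : H → ℂ) (f q) = (t (a * q) : H → ℂ) _
        refine congrArg (t (a * q) : H → ℂ) ?_
        show f q = (((inl a : H ≀ᵣ Q) * ⟨f, 1⟩ * (inl a)⁻¹ : H ≀ᵣ Q)).left (a * q)
        simp
      have h4 := eq_of_pf_eq (fun q => (t (a * q)).2) (fun q => (t q).2) h2
      intro q
      exact Subtype.ext (congrFun h4 q)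
    have ht1 : ∀ q, t q = t 1 := fun q => by
      have := hinv q 1
      rwa [mul_one] at this
    obtain ⟨J, lam, hJ⟩ := hH _ (t 1).2
    have hθm := hmθ (fun _ => J) (fun _ => lam) (fun q => by rw [ht1]; exact hJ)
    set P' := (Subgroup.pi Set.univ (fun _ : Q => J)).comap (baseEquiv H Q).toMonoidHom with hP'
    haveI := Fintype.ofFinite P'
    let L := sw (Q := Q) J
    haveI := Fintype.ofFinite L
    let r : L →* Q := (rightHom : H ≀ᵣ Q →* Q).comp L.subtype
    -- the nonzero sum
    have hS : ∑ l : L, (if r l = 1 then χ l * conj ((swHom J lam l : ℂˣ) : ℂ) else 0) ≠ 0 := by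
      have h1 := he
      rw [hθm, frobenius_reciprocity' _ _ (classFun_restrict _ (irr_classFun hχ)), classInner] at h1
      have h2 := right_ne_zero_of_mul h1
      intro h3
      apply h2
      rw [← h3, ← Finset.sum_filter]
      refine Finset.sum_bij' (fun (n : P') _ => (⟨((n : base H Q) : H ≀ᵣ Q), fun q =>
          (Subgroup.mem_pi _).mp n.2 q (Set.mem_univ q)⟩ : L))
        (fun (l : L) hl => (⟨⟨(l : H ≀ᵣ Q), (Finset.mem_filter.mp hl).2⟩, (Subgroup.mem_pi _).mpr
          fun q _ => l.2 q⟩ : P')) ?_ ?_ ?_ ?_ ?_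
      · intro n _
        rw [Finset.mem_filter]
        exact ⟨Finset.mem_univ _, base_right _⟩
      · intro l _
        exact Finset.mem_univ _
      · intro n _
        rfl
      · intro l _
        rfl
      · intro n _
        rfl
    -- a linear constituent
    haveI : Fact (Nat.card Q).Prime := ⟨hQ⟩
    haveI : IsCyclic Q := isCyclic_of_prime_card rfl
    haveI : IsMulCommutative Q := ⟨⟨fun a b => by
      obtain ⟨g, hg⟩ := IsCyclic.exists_generator (α := Q)
      obtain ⟨m, rfl⟩ := hg a
      obtain ⟨n, rfl⟩ := hg b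
      show g ^ m * g ^ n = g ^ n * g ^ m
      rw [← zpow_add, ← zpow_add, add_comm]⟩⟩
    haveI := Fintype.ofFinite (IrrCharacter Q)
    obtain ⟨β, hβ⟩ : ∃ β : IrrCharacter Q,
        ∑ l : L, χ l * conj ((swHom J lam l : ℂˣ) : ℂ) * conj ((β : Q → ℂ) (r l)) ≠ 0 := by
      by_contra hcon
      push Not at hcon
      apply hS
      have h1 : ∑ β : IrrCharacter Q,
          ∑ l : L, χ l * conj ((swHom J lam l : ℂˣ) : ℂ) * conj ((β : Q → ℂ) (r l)) = 0 :=
        Finset.sum_eq_zero fun β _ => hcon β
      rw [Finset.sum_comm] at h1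
      have h2 : ∀ l : L, ∑ β : IrrCharacter Q,
          χ l * conj ((swHom J lam l : ℂˣ) : ℂ) * conj ((β : Q → ℂ) (r l)) =
          (Nat.card Q : ℂ) * (if r l = 1 then χ l * conj ((swHom J lam l : ℂˣ) : ℂ) else 0) := by
        intro l
        rw [← Finset.mul_sum, ← map_sum]
        have h3 := sum_degree_mul (r l)
        have h4 : ∀ β : IrrCharacter Q, (β : Q → ℂ) 1 * (β : Q → ℂ) (r l) = (β : Q → ℂ) (r l) :=
          fun β => by rw [irr_degree_one_of_comm β.2, one_mul]
        simp only [h4] at h3
        rw [h3]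
        split_ifs
        · rw [Complex.conj_natCast]; ring
        · simp
      simp only [h2] at h1
      rw [← Finset.mul_sum] at h1
      exact (mul_eq_zero.mp h1).resolve_left (by exact_mod_cast hQ.ne_zero)
    obtain ⟨b, hb⟩ := exists_hom_of_char_one (irr_isChar β.2) (irr_degree_one_of_comm β.2)
    let η : L →* ℂˣ := swHom J lam * b.comp r
    refine ⟨L, η, trivial, ?_⟩
    have hdeg : χ 1 = (((J.index : ℕ) : ℂ) ^ Fintype.card Q) *
        classInner (fun k : base H Q => χ k) θ := by
      have h1 := clifford_degree hK hχ hθ he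
      rw [hT, Subgroup.index_top, htθ] at h1
      have h2 : pf (fun q => (t q : H → ℂ)) (baseEquiv H Q 1) =
          ((J.index : ℕ) : ℂ) ^ Fintype.card Q := by
        rw [map_one]
        unfold pf
        rw [← Finset.card_univ, ← Finset.prod_const]
        apply Finset.prod_congr rfl
        intro q _
        show (t q : H → ℂ) 1 = _
        rw [ht1, hJ, indFun_one_apply, map_one]
        simp
      rw [h2] at h1
      rw [h1]
      push_cast
      ring
    obtain ⟨e, hee⟩ := classInner_char_nat (isChar_restrict (base H Q) (irr_isChar hχ))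
      (irr_isChar hθ)
    apply eq_indFun_of_degree hχ L (irr_isChar (isIrr_of_hom η)) (by simp) _ (e := e)
    · rw [hdeg, hee]
      have : L.index = J.index ^ Fintype.card Q := index_sw J
      rw [this]
      push_cast
      ring
    · rw [frobenius_reciprocity' _ _ (irr_classFun hχ), classInner]
      apply mul_ne_zero (inv_ne_zero card_ne_zeroC)
      intro h
      apply hβ
      rw [← h]
      apply Finset.sum_congr rfl
      intro l _
      rw [hb]
      show _ = χ l * conj (((swHom J lam l * b (r l) : ℂˣ)) : ℂ)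
      rw [Units.val_mul, map_mul]
      ring

end

end Cfsg.Agent.H20.MG
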