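import Mathlib

/-!
Additive endomorphisms of finite fields of characteristic two, and equivariance.
-/

set_option autoImplicit false
set_option linter.style.haveILetI false

namespace Cfsg.Agent.H20.SZ

section endo

variable {F : Type*} [Field F] [Finite F] [CharP F 2]

theorem card_gal [Algebra (ZMod 2) F] :
    Nat.card (F ≃ₐ[ZMod 2] F) = Module.finrank (ZMod 2) F :=
  IsGalois.card_aut_eq_finrank (ZMod 2) F

theorem coef_unique [Algebra (ZMod 2) F] [Fintype (F ≃ₐ[ZMod 2] F)]
    (a a' : (F ≃ₐ[ZMod 2] F) → F)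
    (h : ∀ b : F, ∑ σ, a σ * σ b = ∑ σ, a' σ * σ b) : a = a' := by
  classical
  have h1 : LinearIndependent F (fun σ : F ≃ₐ[ZMod 2] F => (σ : F →* F).toFun) := by
    have h2 := linearIndependent_monoidHom F F
    exact h2.comp (fun σ : F ≃ₐ[ZMod 2] F => (σ : F →* F)) (by
      intro σ τ h3
      ext x
      exact DFunLike.congr_fun h3 x)
  rw [Fintype.linearIndependent_iff] at h1
  have h3 := h1 (fun σ => a σ - a' σ) (by
    funext b
    simp only [Finset.sum_apply, Pi.smul_apply, smul_eq_mul, Pi.zero_apply, sub_mul,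
      Finset.sum_sub_distrib]
    exact sub_eq_zero.mpr (h b))
  funext σ
  exact sub_eq_zero.mp (h3 σ)

theorem exists_coef [Algebra (ZMod 2) F] [Fintype (F ≃ₐ[ZMod 2] F)] (δ : F →+ F) :
    ∃ a : (F ≃ₐ[ZMod 2] F) → F, ∀ b : F, δ b = ∑ σ, a σ * σ b := by
  classical
  have h1 : LinearIndependent F (fun σ : F ≃ₐ[ZMod 2] F => (σ : F →ₐ[ZMod 2] F).toLinearMap) := by
    exact (linearIndependent_toLinearMap (ZMod 2) F F).comp
      (fun σ : F ≃ₐ[ZMod 2] F => (σ : F →ₐ[ZMod 2] F)) (by
      intro σ τ h3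
      ext x
      exact DFunLike.congr_fun h3 x)
  haveI : FiniteDimensional F (F →ₗ[ZMod 2] F) := by
    apply FiniteDimensional.of_finrank_pos
    rw [Module.finrank_linearMap_self]
    exact Module.finrank_pos
  have h2 : Submodule.span F (Set.range
      (fun σ : F ≃ₐ[ZMod 2] F => (σ : F →ₐ[ZMod 2] F).toLinearMap)) = ⊤ := by
    apply h1.span_eq_top_of_card_eq_finrank'
    rw [Module.finrank_linearMap_self, ← card_gal, Nat.card_eq_fintype_card]
  have h3 : δ.toZModLinearMap 2 ∈ Submodule.span F (Set.range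
      (fun σ : F ≃ₐ[ZMod 2] F => (σ : F →ₐ[ZMod 2] F).toLinearMap)) := by
    rw [h2]; trivial
  rw [Submodule.mem_span_range_iff_exists_fun] at h3
  obtain ⟨a, ha⟩ := h3
  refine ⟨a, fun b => ?_⟩
  have h4 := congrArg (fun f : F →ₗ[ZMod 2] F => f b) ha
  simp only [LinearMap.sum_apply, LinearMap.smul_apply, smul_eq_mul] at h4
  exact h4.symm

/-- Two field automorphisms `σ ≠ τ` cannot be related by a ring endomorphism
`c / σ c ↦ c / τ c`. -/
theorem auto_rigid (σ τ ρ : F →+* F) (h : ∀ c : F, ρ c * τ c = c * ρ (σ c)) :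
    σ = RingHom.id F ∨ σ = τ := by
  have h2 : ∀ c : F, ρ c + τ c = c + ρ (σ c) := by
    intro c
    have h3 := h (c + 1)
    simp only [map_add, map_one] at h3
    have h4 := h c
    have h5 : (ρ c + 1) * (τ c + 1) = ρ c * τ c + (ρ c + τ c) + 1 := by ring
    have h6 : (c + 1) * (ρ (σ c) + 1) = c * ρ (σ c) + (c + ρ (σ c)) + 1 := by ring
    rw [h5, h6, h4] at h3
    have h7 := add_right_cancel h3
    exact add_left_cancel h7
  have h3 : ∀ c : F, ρ c = c ∨ σ c = c := by
    intro c
    have h4 : (ρ c - c) * (ρ c - ρ (σ c)) = 0 := by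
      have h5 : (ρ c - c) * (ρ c - ρ (σ c)) = ρ c * ρ c - ρ c * (c + ρ (σ c)) + c * ρ (σ c) := by
        ring
      rw [h5, ← h2 c, ← h c]; ring
    rcases mul_eq_zero.mp h4 with h5 | h5
    · exact Or.inl (sub_eq_zero.mp h5)
    · right
      exact (ρ.injective (sub_eq_zero.mp h5)).symm
  by_cases hσ : ∀ c, σ c = c
  · left; ext c; exact hσ c
  · right
    push Not at hσ
    obtain ⟨d, hd⟩ := hσ
    have hρd : ρ d = d := (h3 d).resolve_right hd
    have hρ : ∀ c, ρ c = c := by
      intro c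
      by_contra hc
      have hσc := (h3 c).resolve_left hc
      rcases h3 (c + d) with h4 | h4
      · rw [map_add, hρd] at h4
        exact hc (add_right_cancel h4)
      · rw [map_add, hσc] at h4
        exact hd (add_left_cancel h4)
    ext c
    have h4 := h2 c
    rw [hρ c, hρ (σ c)] at h4
    exact (add_left_cancel h4).symm

end endo

section K1

variable {F : Type*} [Field F] [Finite F] [CharP F 2] {D : Type*} [Group D]

theorem K1 (hq : 2 < Nat.card F) (act : Fˣ → D → D) (δ : D → F →+ F)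
    (hmul : ∀ x y, δ (x * y) = δ x + δ y)
    (heq : ∀ (c : Fˣ) x b, δ (act c x) (c * b) = c * δ x b)
    (hirr : ∀ N : Subgroup D, (∀ c, ∀ x ∈ N, act c x ∈ N) → (∀ x, δ x = 0 → x ∈ N) →
      (∃ x ∈ N, δ x ≠ 0) → N = ⊤)
    (hsemi : ∀ c : Fˣ, c ≠ 1 → ∀ x, δ (act c x) = δ x → δ x = 0)
    (hne : ∃ x, δ x ≠ 0) :
    ∃ (σ : F ≃+* F) (a : D → F), (∀ x b, δ x b = a x * σ b) ∧ (∀ x, a x = 0 ↔ δ x = 0) ∧
      (∀ x y, a (x * y) = a x + a y) ∧
      (∀ c : Fˣ, ∀ x, a (act c x) = (c : F) / σ c * a x) ∧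
      (∀ c d : Fˣ, (c : F) / σ c = d / σ d → c = d) := by
  classical
  letI : Algebra (ZMod 2) F := ZMod.algebra F 2
  haveI : Fintype (F ≃ₐ[ZMod 2] F) := Fintype.ofFinite _
  choose a ha using fun x : D => exists_coef (δ x)
  have hδ1 : δ 1 = 0 := by
    have := hmul 1 1
    rw [mul_one] at this
    exact left_eq_add.mp this
  have hadd : ∀ x y σ, a (x * y) σ = a x σ + a y σ := by
    intro x y
    have h1 := coef_unique (a (x * y)) (fun σ => a x σ + a y σ) (fun b => by
      rw [← ha, hmul, AddMonoidHom.add_apply, ha, ha, ← Finset.sum_add_distrib]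
      exact Finset.sum_congr rfl fun σ _ => (add_mul _ _ _).symm)
    exact fun σ => congrFun h1 σ
  have hzero : ∀ x, δ x = 0 → ∀ σ, a x σ = 0 := by
    intro x hx
    have h1 := coef_unique (a x) (fun _ => 0) (fun b => by
      rw [← ha, hx]; simp)
    exact fun σ => congrFun h1 σ
  have ha1 : ∀ σ, a 1 σ = 0 := hzero 1 hδ1
  have hinv : ∀ x σ, a x⁻¹ σ = - a x σ := by
    intro x σ
    have h1 := hadd x⁻¹ x σ
    rw [inv_mul_cancel, ha1] at h1
    exact eq_neg_of_add_eq_zero_left h1.symm
  have hδinv : ∀ x y, δ (x⁻¹ * y) = 0 ↔ δ x = δ y := by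
    intro x y
    have h1 := hmul x (x⁻¹ * y)
    rw [mul_inv_cancel_left] at h1
    rw [h1]
    constructor
    · intro h; rw [h, add_zero]
    · intro h
      exact left_eq_add.mp h
  have hact : ∀ (c : Fˣ) x (σ : F ≃ₐ[ZMod 2] F), a (act c x) σ = (c : F) / σ c * a x σ := by
    intro c x
    have h1 := coef_unique (a (act c x)) (fun σ => (c : F) / σ c * a x σ) (fun b => by
      rw [← ha]
      have h2 := heq c x ((c : F)⁻¹ * b)
      rw [mul_inv_cancel_left₀ c.ne_zero] at h2
      rw [h2, ha, Finset.mul_sum]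
      refine Finset.sum_congr rfl fun σ _ => ?_
      rw [map_mul, map_inv₀]
      ring)
    exact fun σ => congrFun h1 σ
  obtain ⟨x₀, hx₀⟩ := hne
  -- kernel of a nonzero coefficient
  have hker : ∀ σ : F ≃ₐ[ZMod 2] F, (∃ x, a x σ ≠ 0) → ∀ x, a x σ = 0 → δ x = 0 := by
    intro σ ⟨y, hy⟩ x hx
    by_contra hc
    let N : Subgroup D :=
      { carrier := {x | a x σ = 0}
        one_mem' := ha1 σ
        mul_mem' := fun {x y} hx hy => by
          show a (x * y) σ = 0
          rw [hadd, show a x σ = 0 from hx, show a y σ = 0 from hy, add_zero]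
        inv_mem' := fun {x} hx => by
          show a x⁻¹ σ = 0
          rw [hinv, show a x σ = 0 from hx, neg_zero] }
    have h1 := hirr N (fun c x hx => by
      show a (act c x) σ = 0
      rw [hact, show a x σ = 0 from hx, mul_zero]) (fun x hx => hzero x hx σ) ⟨x, hx, hc⟩
    have h2 : y ∈ N := by rw [h1]; trivial
    exact hy h2
  let u : (F ≃ₐ[ZMod 2] F) → Fˣ →* Fˣ := fun σ =>
    { toFun := fun c => c / Units.map (σ : F →* F) c
      map_one' := by rw [map_one, div_one]
      map_mul' := fun c d => by rw [map_mul, mul_div_mul_comm] }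
  have hu : ∀ σ c, ((u σ c : Fˣ) : F) = (c : F) / σ c := fun σ c => by
    show ((c / Units.map (σ : F →* F) c : Fˣ) : F) = _
    rw [Units.val_div_eq_div_val]; rfl
  have hact' : ∀ (c : Fˣ) x (σ : F ≃ₐ[ZMod 2] F), a (act c x) σ = (u σ c : F) * a x σ := by
    intro c x σ
    rw [hact, hu]
  have hinj : ∀ σ : F ≃ₐ[ZMod 2] F, (∃ x, a x σ ≠ 0) → Function.Injective (u σ) := by
    intro σ hσ
    rw [injective_iff_map_eq_one]
    intro c hc
    by_contra hne
    apply hx₀
    apply hsemi _ hne
    symm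
    rw [← hδinv]
    apply hker σ hσ
    rw [hadd, hinv, hact', hc, Units.val_one, one_mul, neg_add_cancel]
  -- the unique coefficient
  obtain ⟨σ, hσ⟩ : ∃ σ : F ≃ₐ[ZMod 2] F, a x₀ σ ≠ 0 := by
    by_contra hc
    push Not at hc
    apply hx₀
    ext b
    rw [ha]; simp [hc]
  have huniq : ∀ τ : F ≃ₐ[ZMod 2] F, (∃ x, a x τ ≠ 0) → τ = σ := by
    intro τ hτ
    have hτ0 : a x₀ τ ≠ 0 := fun hc => hx₀ (hker τ hτ x₀ hc)
    have hσi := hinj σ ⟨x₀, hσ⟩
    have hτi := hinj τ hτ
    have hσb : Function.Bijective (u σ) := (Finite.injective_iff_bijective).mp hσi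
    let U : Fˣ ≃* Fˣ := MulEquiv.ofBijective (u σ) hσb
    let ρ0 : Fˣ →* Fˣ := (u τ).comp U.symm.toMonoidHom
    have hρ0 : ∀ c, ρ0 (u σ c) = u τ c := by
      intro c
      show u τ (U.symm (U c)) = u τ c
      rw [MulEquiv.symm_apply_apply]
    have hsurj : ∀ y : F, y ≠ 0 → ∃ c, (u σ c : F) = y := by
      intro y hy
      obtain ⟨c, hc⟩ := hσb.2 (Units.mk0 y hy)
      exact ⟨c, by rw [hc]; rfl⟩
    let r : F → F := fun y => if h : y = 0 then 0 else (ρ0 (Units.mk0 y h) : F)
    have hr0 : r 0 = 0 := dif_pos rfl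
    have hr : ∀ c : Fˣ, r (u σ c : F) = (u τ c : F) := by
      intro c
      have h1 : r (u σ c : F) = (ρ0 (Units.mk0 (u σ c : F) (u σ c).ne_zero) : F) :=
        dif_neg (u σ c).ne_zero
      rw [h1, Units.mk0_val, hρ0]
    have hneg : ∀ y : F, -y = y := CharTwo.neg_eq
    let ρ : F →+* F :=
      { toFun := r
        map_zero' := hr0
        map_one' := by
          have := hr 1
          rwa [map_one, map_one, Units.val_one] at this
        map_mul' := by
          intro x y
          by_cases hx : x = 0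
          · rw [hx, zero_mul, hr0, zero_mul]
          by_cases hy : y = 0
          · rw [hy, mul_zero, hr0, mul_zero]
          obtain ⟨c, rfl⟩ := hsurj x hx
          obtain ⟨d, rfl⟩ := hsurj y hy
          rw [← Units.val_mul, ← map_mul, hr, hr, hr, map_mul, Units.val_mul]
        map_add' := by
          intro x y
          by_cases hx : x = 0
          · rw [hx, zero_add, hr0, zero_add]
          by_cases hy : y = 0
          · rw [hy, add_zero, hr0, add_zero]
          by_cases hxy : x + y = 0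
          · have h1 : x = y := by
              rw [eq_neg_of_add_eq_zero_left hxy, hneg]
            rw [hxy, hr0, h1]
            exact (CharTwo.add_self_eq_zero _).symm
          obtain ⟨c, hc⟩ := hsurj x hx
          obtain ⟨d, hd⟩ := hsurj y hy
          obtain ⟨e, he⟩ := hsurj (x + y) hxy
          have h1 : δ ((act c x₀ * act d x₀)⁻¹ * act e x₀) = 0 := by
            apply hker σ ⟨x₀, hσ⟩
            rw [hadd, hinv, hadd, hact', hact', hact', hc, hd, he]
            ring
          have h2 := hzero _ h1 τ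
          rw [hadd, hinv, hadd, hact', hact', hact'] at h2
          have h3 : (u τ e : F) = u τ c + u τ d := by
            have h4 : ((u τ e : F) - (u τ c + u τ d)) * a x₀ τ = 0 := by rw [← h2]; ring
            rcases mul_eq_zero.mp h4 with h5 | h5
            · exact sub_eq_zero.mp h5
            · exact absurd h5 hτ0
          rw [← he, hr, ← hc, ← hd, hr, hr, h3] }
    have hρu : ∀ c : Fˣ, ρ (u σ c : F) = (u τ c : F) := hr
    have h5 := auto_rigid (σ : F →+* F) (τ : F →+* F) ρ (by
      intro c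
      by_cases hc : c = 0
      · rw [hc]; simp
      have h6 := hρu (Units.mk0 c hc)
      rw [hu, hu, Units.val_mk0] at h6
      have hσc : σ c ≠ 0 := (map_ne_zero σ).mpr hc
      have hτc : τ c ≠ 0 := (map_ne_zero τ).mpr hc
      have hρσc : ρ (σ c) ≠ 0 := (map_ne_zero ρ).mpr hσc
      rw [map_div₀, div_eq_div_iff hρσc hτc] at h6
      exact h6)
    rcases h5 with h5 | h5
    · exfalso
      have h6 : ∀ c : Fˣ, u σ c = 1 := by
        intro c
        apply Units.ext
        rw [hu, Units.val_one]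
        have h7 : σ (c : F) = c := DFunLike.congr_fun h5 (c : F)
        rw [h7, div_self c.ne_zero]
      haveI : Fintype F := Fintype.ofFinite F
      have h7 : Subsingleton Fˣ := ⟨fun c d => hσi (by rw [h6, h6])⟩
      have h8 : Nat.card Fˣ ≤ 1 := Finite.card_le_one_iff_subsingleton.mpr h7
      rw [Nat.card_units] at h8
      omega
    · ext c
      exact (DFunLike.congr_fun h5 c).symm
  have hother : ∀ x τ, τ ≠ σ → a x τ = 0 := by
    intro x τ hτ
    by_contra hc
    exact hτ (huniq τ ⟨x, hc⟩)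
  refine ⟨(σ : F ≃+* F), fun x => a x σ, ?_, ?_, ?_, ?_, ?_⟩
  · intro x b
    rw [ha, Finset.sum_eq_single σ]
    · rfl
    · intro τ _ hτ
      rw [hother x τ hτ, zero_mul]
    · intro h; exact absurd (Finset.mem_univ _) h
  · intro x
    exact ⟨hker σ ⟨x₀, hσ⟩ x, fun h => hzero x h σ⟩
  · intro x y
    exact hadd x y σ
  · intro c x
    exact hact c x σ
  · intro c d hcd
    apply hinj σ ⟨x₀, hσ⟩
    apply Units.ext
    rw [hu, hu]
    exact hcd

/-- There is no nonzero alternating equivariant product on a field of characteristic two. -/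
theorem K2 (hq : 2 < Nat.card F) (f : F → F →+ F) (hadd : ∀ x y, f (x + y) = f x + f y)
    (heq : ∀ (c : Fˣ) x b, f (c * x) (c * b) = c * f x b) (halt : ∀ x, f x x = 0) :
    ∀ x, f x = 0 := by
  classical
  by_contra hc
  push Not at hc
  obtain ⟨x₀, hx₀⟩ := hc
  have h0 : f 0 = 0 := by
    have := hadd 0 0
    rw [add_zero] at this
    exact left_eq_add.mp this
  have hx₀0 : x₀ ≠ 0 := by rintro rfl; exact hx₀ h0
  -- all nonzero elements are equivalent
  have hnz : ∀ x, x ≠ 0 → f x ≠ 0 := by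
    intro x hx hfx
    apply hx₀
    ext b
    have h1 := heq (Units.mk0 (x₀ / x) (div_ne_zero hx₀0 hx)) x ((x₀ / x)⁻¹ * b)
    rw [Units.val_mk0, div_mul_cancel₀ _ hx, mul_inv_cancel_left₀ (div_ne_zero hx₀0 hx), hfx] at h1
    rw [h1]; simp
  obtain ⟨σ, a, h1, h2, -, -, -⟩ := K1 (D := Multiplicative F) hq
    (fun c x => Multiplicative.ofAdd ((c : F) * x.toAdd)) (fun x => f x.toAdd)
    (fun x y => by rw [toAdd_mul]; exact hadd _ _)
    (fun c x b => heq c _ _)
    (by
      intro N hN _ ⟨x, hx, hx1⟩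
      rw [eq_top_iff]
      intro y _
      have hx0 : x.toAdd ≠ 0 := by
        intro h; rw [h] at hx1; exact hx1 h0
      by_cases hy : y.toAdd = 0
      · have : y = 1 := Multiplicative.toAdd.injective hy
        rw [this]; exact one_mem _
      · have h3 := hN (Units.mk0 (y.toAdd / x.toAdd) (div_ne_zero hy hx0)) x hx
        rw [Units.val_mk0, div_mul_cancel₀ _ hx0] at h3
        exact h3)
    (by
      intro c hc x hx
      have h3 : f ((c : F) * x.toAdd) = f x.toAdd := hx
      have h4 : f ((c : F) * x.toAdd + x.toAdd) = 0 := by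
        rw [hadd, h3]
        ext b
        exact CharTwo.add_self_eq_zero _
      by_contra h5
      have h6 : x.toAdd ≠ 0 := by
        intro h; apply h5
        show f x.toAdd = 0
        rw [h, h0]
      apply hnz ((c : F) * x.toAdd + x.toAdd) _ h4
      intro h7
      have h8 : ((c : F) + 1) * x.toAdd = 0 := by rw [← h7]; ring
      rcases mul_eq_zero.mp h8 with h9 | h9
      · apply hc
        apply Units.ext
        rw [Units.val_one, eq_neg_of_add_eq_zero_left h9, CharTwo.neg_eq]
      · exact h6 h9)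
    ⟨Multiplicative.ofAdd x₀, hx₀⟩
  have h3 := h1 (Multiplicative.ofAdd x₀) x₀
  rw [show f (Multiplicative.ofAdd x₀).toAdd x₀ = f x₀ x₀ from rfl, halt] at h3
  rcases mul_eq_zero.mp h3.symm with h4 | h4
  · exact hx₀ ((h2 _).mp h4)
  · exact hx₀0 ((map_eq_zero_iff σ σ.injective).mp h4)

end K1

end Cfsg.Agent.H20.SZ
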