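import Cfsg.Agent.H20.SZ9

/-!
Suzuki 2-groups of order `q ^ 2`: the quadratic map.
-/

set_option autoImplicit false
set_option linter.style.haveILetI false

namespace Cfsg.Agent.H20.SZ

namespace IsSz

variable {F : Type*} [Field F] {P : Type*} [Group P] {ρ : Fˣ →* MulAut P} {e : F → P}
  (h : IsSz ρ e)
include h

/-- Coordinates on the quotient. -/
theorem exists_coord (h4 : ∀ x : P, x ^ 4 = 1) (hcard : Nat.card P = Nat.card F ^ 2) :
    ∃ π : P → F, (∀ x y, π (x * y) = π x + π y) ∧ (∀ x, π x = 0 ↔ x ∈ h.Z1) ∧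
      (∀ a, ∃ x, π x = a) ∧ (∀ d : F, d ≠ 0 → ∃ c : Fˣ, ∀ x, π (ρ c x) = d * π x) := by
  classical
  haveI := h.finP
  haveI := h.finF
  haveI := h.charP
  haveI := h.Z1_normal
  haveI : Fintype F := Fintype.ofFinite F
  let V := P ⧸ h.Z1
  have hV : Nat.card V = Nat.card F := by
    have h1 := Subgroup.card_eq_card_quotient_mul_card_subgroup h.Z1
    rw [hcard, h.card_Z1, pow_two] at h1
    have h2 := h.card
    exact (Nat.eq_of_mul_eq_mul_right (by omega) h1).symm
  letI : CommGroup V := { (inferInstance : Group V) with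
    mul_comm := fun a b => by
      induction a using QuotientGroup.induction_on with
      | H x =>
      induction b using QuotientGroup.induction_on with
      | H y =>
      rw [← QuotientGroup.mk_mul, ← QuotientGroup.mk_mul]
      apply QuotientGroup.eq.mpr
      have h1 : (x * y)⁻¹ * (y * x) = br y x := by unfold br; group
      rw [h1]
      exact h.br_mem h4 y x }
  let q : P →* V := QuotientGroup.mk' h.Z1
  have hq : ∀ x, q x = 1 ↔ x ∈ h.Z1 := fun x => QuotientGroup.eq_one_iff x
  have hqs : Function.Surjective q := QuotientGroup.mk'_surjective _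
  have hle : ∀ c : Fˣ, h.Z1 ≤ h.Z1.comap (ρ c).toMonoidHom := fun c x hx => h.Z1_inv c hx
  let C : Fˣ → V →* V := fun c => QuotientGroup.map h.Z1 h.Z1 (ρ c).toMonoidHom (hle c)
  have hC : ∀ c x, C c (q x) = q (ρ c x) := fun c x => rfl
  -- injectivity
  have hCfix : ∀ c : Fˣ, ∀ v, C c v = v → v ≠ 1 → c = 1 := by
    intro c v hv hv1
    obtain ⟨x, rfl⟩ := hqs v
    by_contra hc
    apply hv1
    rw [hq]
    apply h.section_fix (fun c x hx => h.Z1_inv c hx) hc
    rw [hC] at hv
    exact QuotientGroup.eq.mp hv.symm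
  have hCmul : ∀ c d v, C (c * d) v = C c (C d v) := by
    intro c d v
    obtain ⟨x, rfl⟩ := hqs v
    rw [hC, hC, hC, map_mul]; rfl
  have hCone : ∀ v, C 1 v = v := by
    intro v
    obtain ⟨x, rfl⟩ := hqs v
    rw [hC, map_one]; rfl
  have hCinj : ∀ c, Function.Injective (C c) := by
    intro c v w hvw
    have := congrArg (C c⁻¹) hvw
    rwa [← hCmul, ← hCmul, inv_mul_cancel, hCone, hCone] at this
  have hC1 : ∀ c v, v ≠ 1 → C c v ≠ 1 := by
    intro c v hv h1
    apply hv
    apply hCinj c
    rw [h1, map_one]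
  obtain ⟨v₀, hv₀⟩ : ∃ v₀ : V, v₀ ≠ 1 := by
    by_contra hc
    push Not at hc
    have h1 : Nat.card V ≤ 1 := Finite.card_le_one_iff_subsingleton.mpr
      ⟨fun a b => by rw [hc a, hc b]⟩
    have := h.card
    omega
  have htr : ∀ v : V, v ≠ 1 → ∃ c, C c v₀ = v := by
    have hinj : Function.Injective (fun c : Fˣ => (⟨C c v₀, hC1 c v₀ hv₀⟩ : {v : V // v ≠ 1})) := by
      intro c d hcd
      have h1 : C c v₀ = C d v₀ := congrArg Subtype.val hcd
      have h2 : C (d⁻¹ * c) v₀ = v₀ := by
        rw [hCmul, h1, ← hCmul, inv_mul_cancel, hCone]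
      have h3 := hCfix _ _ h2 hv₀
      exact (inv_mul_eq_one.mp h3).symm
    haveI : Fintype V := Fintype.ofFinite V
    have hcard2 : Nat.card Fˣ = Nat.card {v : V // v ≠ 1} := by
      rw [Nat.card_units, Nat.card_eq_fintype_card (α := {v : V // v ≠ 1}),
        Fintype.card_subtype_compl, Fintype.card_subtype_eq, ← Nat.card_eq_fintype_card, hV]
    have hbij := (Nat.bijective_iff_injective_and_card _).mpr ⟨hinj, hcard2⟩
    intro v hv
    obtain ⟨c, hc⟩ := hbij.2 ⟨v, hv⟩
    exact ⟨c, congrArg Subtype.val hc⟩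
  let c : Fˣ → AddMonoid.End (Additive V) := fun u => MonoidHom.toAdditive (C u)
  have hcC : ∀ u (a : Additive V), ((c u) a).toMul = C u a.toMul := fun _ _ => rfl
  obtain ⟨K, instK, instFK, E, hE1, hE⟩ := H4.exists_field_of_regular (A := Additive V) c
    (Additive.ofMul v₀)
    (fun h1 => hv₀ (Additive.ofMul.injective h1))
    (by
      intro i j
      ext a
      apply Additive.toMul.injective
      show C i (C j a.toMul) = C j (C i a.toMul)
      rw [← hCmul, ← hCmul, mul_comm])
    (by
      intro a ha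
      obtain ⟨u, hu⟩ := htr a.toMul (fun h1 => ha (Additive.toMul.injective h1))
      exact ⟨u, Additive.toMul.injective hu⟩)
    (by
      intro u a b hab
      apply Additive.toMul.injective
      apply hCinj u
      exact congrArg Additive.toMul hab)
  have hKF : Fintype.card K = Fintype.card F := by
    rw [← Nat.card_eq_fintype_card, ← Nat.card_eq_fintype_card, ← hV]
    exact Nat.card_congr (E.toEquiv.trans Additive.toMul)
  let τ : K ≃+* F := FiniteField.ringEquivOfCardEq hKF
  let π : P → F := fun x => τ (E.symm (Additive.ofMul (q x)))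
  have hπ : ∀ x, E (τ.symm (π x)) = Additive.ofMul (q x) := by
    intro x
    show E (τ.symm (τ (E.symm _))) = _
    rw [RingEquiv.symm_apply_apply, AddEquiv.apply_symm_apply]
  have hπadd : ∀ x y, π (x * y) = π x + π y := by
    intro x y
    show τ (E.symm (Additive.ofMul (q (x * y)))) = _
    rw [map_mul, ofMul_mul, map_add, map_add]
  have hπ0 : ∀ x, π x = 0 ↔ x ∈ h.Z1 := by
    intro x
    rw [← hq]
    constructor
    · intro h1
      have h2 := hπ x
      rw [h1, map_zero, map_zero] at h2
      exact (Additive.ofMul.injective h2).symm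
    · intro h1
      show τ (E.symm (Additive.ofMul (q x))) = 0
      rw [h1, ofMul_one, map_zero, map_zero]
  have hπs : ∀ a, ∃ x, π x = a := by
    intro a
    obtain ⟨x, hx⟩ := hqs (E (τ.symm a)).toMul
    refine ⟨x, ?_⟩
    show τ (E.symm (Additive.ofMul (q x))) = a
    rw [hx, ofMul_toMul, AddEquiv.symm_apply_apply, RingEquiv.apply_symm_apply]
  refine ⟨π, hπadd, hπ0, hπs, ?_⟩
  intro d hd
  have hd' : τ.symm d ≠ 0 := by
    rw [Ne, map_eq_zero_iff _ τ.symm.injective]; exact hd
  -- find `c` with `C c v₀ = E (τ.symm d)`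
  obtain ⟨u, hu⟩ := htr (E (τ.symm d)).toMul (by
    intro h1
    have h2 : E (τ.symm d) = 0 := Additive.toMul.injective h1
    rw [map_eq_zero_iff _ E.injective] at h2
    exact hd' h2)
  obtain ⟨s, hs0, hs⟩ := hE u
  have hsd : s = τ.symm d := by
    have h1 := hs 1
    rw [hE1, mul_one] at h1
    apply E.injective
    rw [← h1]
    exact Additive.toMul.injective hu
  refine ⟨u, fun x => ?_⟩
  have h1 := hs (τ.symm (π x))
  rw [hπ] at h1
  have h2 : (c u) (Additive.ofMul (q x)) = Additive.ofMul (q (ρ u x)) := rfl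
  rw [h2, ← hπ] at h1
  have h3 := E.injective h1
  rw [hsd, ← map_mul] at h3
  exact τ.symm.injective h3

end IsSz

/-- A field automorphism of even order inverts a nontrivial element. -/
theorem exists_inverted {F : Type*} [Field F] [Finite F] (φ : F ≃+* F)
    (hodd : ¬ Odd (orderOf φ)) : ∃ y : F, y ≠ 0 ∧ y ≠ 1 ∧ y * φ y = 1 := by
  classical
  obtain ⟨p, hp⟩ := CharP.exists F
  haveI : Fact p.Prime := ⟨CharP.char_is_prime F p⟩
  letI : Algebra (ZMod p) F := ZMod.algebra F p
  let Φ : F ≃ₐ[ZMod p] F := AlgEquiv.ofRingEquiv (f := φ) (fun x => by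
    have : (φ : F →+* F).comp (algebraMap (ZMod p) F) = algebraMap (ZMod p) F :=
      Subsingleton.elim _ _
    exact DFunLike.congr_fun this x)
  have hΦ : ∀ x, Φ x = φ x := fun _ => rfl
  by_cases hz : ∃ z, φ (φ z) = z ∧ φ z ≠ z
  · obtain ⟨z, hz1, hz2⟩ := hz
    have hz0 : z ≠ 0 := by rintro rfl; exact hz2 (map_zero φ)
    have hφz0 : φ z ≠ 0 := (map_ne_zero φ).mpr hz0
    refine ⟨z / φ z, div_ne_zero hz0 hφz0, ?_, ?_⟩
    · intro h1
      exact hz2 ((div_eq_one_iff_eq hφz0).mp h1).symm
    · rw [map_div₀, hz1]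
      field_simp
  · exfalso
    push Not at hz
    apply hodd
    have h1 : Φ ∈ (IntermediateField.fixedField (Subgroup.zpowers (Φ ^ 2))).fixingSubgroup := by
      rw [IntermediateField.mem_fixingSubgroup_iff]
      intro z hz'
      rw [IntermediateField.mem_fixedField_iff] at hz'
      have h2 := hz' (Φ ^ 2) (Subgroup.mem_zpowers _)
      apply hz z
      rw [pow_two] at h2
      exact h2
    rw [IntermediateField.fixingSubgroup_fixedField] at h1
    obtain ⟨k, hk⟩ := Subgroup.mem_zpowers_iff.mp h1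
    have h2 : Φ ^ (2 * k - 1) = 1 := by
      rw [zpow_sub, zpow_mul, zpow_one]
      have : Φ ^ (2 : ℤ) = Φ ^ 2 := by norm_cast
      rw [this, hk, mul_inv_cancel]
    have h3 : (orderOf Φ : ℤ) ∣ 2 * k - 1 := orderOf_dvd_iff_zpow_eq_one.mpr h2
    have h4 : orderOf Φ = orderOf φ := by
      apply orderOf_eq_orderOf_iff.mpr
      intro n
      have hpow : ∀ n : ℕ, ∀ x, (Φ ^ n) x = (φ ^ n) x := by
        intro n
        induction n with
        | zero => intro x; rfl
        | succ n ih =>
          intro x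
          rw [pow_succ, pow_succ]
          exact ih (φ x)
      constructor
      · intro h5
        ext x
        rw [← hpow, h5]; rfl
      · intro h5
        ext x
        rw [hpow, h5]; rfl
    rw [h4] at h3
    by_contra h5
    rw [Nat.not_odd_iff_even] at h5
    obtain ⟨m, hm⟩ := h5
    rw [hm] at h3
    obtain ⟨t, ht⟩ := h3
    push_cast at ht
    have : (2 : ℤ) ∣ 1 := ⟨k - m * t, by linarith⟩
    omega

end Cfsg.Agent.H20.SZ
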