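import Cfsg.Agent.H20.SZ10

/-!
Suzuki 2-groups of order `q ^ 2`: identification with type A.
-/

set_option autoImplicit false
set_option linter.style.haveILetI false

namespace Cfsg.Agent.H20.SZ

/-- A multiplicative map with biadditive polarisation is a product of two automorphisms. -/
theorem quad_split {F : Type*} [Field F] [Finite F] [CharP F 2] (m : F → F)
    (m0 : m 0 = 0) (m1 : m 1 = 1) (mmul : ∀ a b, m (a * b) = m a * m b)
    (f : F → F → F) (hf : ∀ a b, m (a + b) = m a + m b + f a b)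
    (fadd : ∀ a b c, f (a + b) c = f a c + f b c) (fadd' : ∀ a b c, f a (b + c) = f a b + f a c)
    (hne : ∃ a b, f a b ≠ 0) :
    ∃ σ ψ : F ≃+* F, ∀ a, m a = σ a * ψ a := by
  classical
  letI : Algebra (ZMod 2) F := ZMod.algebra F 2
  haveI : Fintype (F ≃ₐ[ZMod 2] F) := Fintype.ofFinite _
  have f00 : ∀ a, f 0 a = 0 := by
    intro a
    have := fadd 0 0 a
    rw [add_zero] at this
    exact left_eq_add.mp this
  have f0 : ∀ a, f a 0 = 0 := by
    intro a
    have := fadd' a 0 0
    rw [add_zero] at this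
    exact left_eq_add.mp this
  have fscale : ∀ d a b, f (d * a) (d * b) = m d * f a b := by
    intro d a b
    have h1 := hf (d * a) (d * b)
    rw [← mul_add, mmul, mmul, mmul, hf a b] at h1
    have h2 : m d * (m a + m b + f a b) = m d * m a + m d * m b + m d * f a b := by ring
    rw [h2] at h1
    exact (add_left_cancel h1).symm
  let g : F →+ F :=
    { toFun := fun a => f a 1
      map_zero' := f00 1
      map_add' := fun a b => fadd a b 1 }
  obtain ⟨a, ha⟩ := exists_coef g
  have hfg : ∀ x y, f x y = ∑ σ, (a σ * (m y / σ y)) * σ x := by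
    intro x y
    by_cases hy : y = 0
    · rw [hy, f0, m0]
      simp
    · have h1 := fscale y (x / y) 1
      rw [mul_one, mul_div_cancel₀ _ hy] at h1
      have h2 : f (x / y) 1 = g (x / y) := rfl
      rw [h1, h2, ha, Finset.mul_sum]
      refine Finset.sum_congr rfl fun σ _ => ?_
      rw [map_div₀]
      ring
  obtain ⟨σ, hσ⟩ : ∃ σ, a σ ≠ 0 := by
    by_contra hc
    push Not at hc
    obtain ⟨x, y, hxy⟩ := hne
    apply hxy
    rw [hfg]
    simp [hc]
  have hadd : ∀ y z, m (y + z) / σ (y + z) = m y / σ y + m z / σ z := by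
    intro y z
    have h1 := coef_unique (fun σ => a σ * (m (y + z) / σ (y + z)))
      (fun σ => a σ * (m y / σ y) + a σ * (m z / σ z)) (fun x => by
        rw [← hfg, fadd', hfg, hfg, ← Finset.sum_add_distrib]
        exact Finset.sum_congr rfl fun σ _ => (add_mul _ _ _).symm)
    have h2 : a σ * (m (y + z) / σ (y + z)) = a σ * (m y / σ y) + a σ * (m z / σ z) :=
      congrFun h1 σ
    rw [← mul_add] at h2
    exact mul_left_cancel₀ hσ h2
  let ψ0 : F →+* F :=
    { toFun := fun y => m y / σ y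
      map_one' := by rw [m1, map_one, div_one]
      map_mul' := fun y z => by rw [mmul, map_mul, mul_div_mul_comm]
      map_zero' := by rw [m0, zero_div]
      map_add' := hadd }
  have hbij : Function.Bijective ψ0 := (Finite.injective_iff_bijective).mp ψ0.injective
  refine ⟨(σ : F ≃+* F), RingEquiv.ofBijective ψ0 hbij, fun y => ?_⟩
  show m y = σ y * (m y / σ y)
  by_cases hy : y = 0
  · rw [hy, m0, map_zero, zero_mul]
  · rw [mul_div_cancel₀]
    exact (map_ne_zero σ).mpr hy

namespace IsSz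

variable {F : Type*} [Field F] {P : Type*} [Group P] {ρ : Fˣ →* MulAut P} {e : F → P}
  (h : IsSz ρ e)
include h

theorem br_inv_right (h4 : ∀ x : P, x ^ 4 = 1) (x y : P) : br x y⁻¹ = br x y := by
  have h1 : br x (y * y⁻¹) = br x y⁻¹ * br x y := by
    rw [br_mul_right, h.br_Z1_left (h.br_mem h4 x y), mul_one]
  rw [mul_inv_cancel, show br x 1 = 1 by simp [br]] at h1
  have h2 : br x y * br x y = 1 := h.br_mem h4 x y
  rw [eq_inv_of_mul_eq_one_left h1.symm]
  exact inv_eq_of_mul_eq_one_left h2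

theorem lg_sq_mul (h4 : ∀ x : P, x ^ 4 = 1) (x y : P) :
    lg e ((x * y) * (x * y)) = lg e (x * x) + lg e (y * y) + lg e (br x y) := by
  rw [mul_mul_self, h.br_inv_right h4,
    h.lg_mul (h.mul_self_mul (h.sq_mem h4 x) (h.br_mem h4 x y)) (h.sq_mem h4 y),
    h.lg_mul (h.sq_mem h4 x) (h.br_mem h4 x y)]
  ring

theorem exists_quad (hne : ∃ x y : P, x * y ≠ y * x)
    (hcard : Nat.card P = Nat.card F ^ 2) :
    ∃ (φ : F ≃+* F) (π : P → F) (γ : F), γ ≠ 0 ∧ φ ≠ RingEquiv.refl F ∧ Odd (orderOf φ) ∧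
      (∀ x y, π (x * y) = π x + π y) ∧ (∀ x, π x = 0 ↔ x ∈ h.Z1) ∧
      (∀ a, ∃ x, π x = a) ∧ (∀ x, lg e (x * x) = γ * (π x * φ (π x))) := by
  classical
  haveI := h.finP
  haveI := h.finF
  haveI := h.charP
  have h4 := h.pow_four hne
  obtain ⟨π, πadd, π0, πs, πact⟩ := h.exists_coord h4 hcard
  choose t ht using πs
  -- the square depends only on `π`
  have hZcomm : ∀ x y : P, π x = π y → ∃ z ∈ h.Z1, x = y * z := by
    intro x y hxy
    refine ⟨y⁻¹ * x, ?_, by group⟩
    rw [← π0, πadd, hxy, ← πadd, inv_mul_cancel, π0]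
    exact one_mem _
  have hsqc : ∀ x y : P, π x = π y → x * x = y * y := by
    intro x y hxy
    obtain ⟨z, hz, rfl⟩ := hZcomm x y hxy
    have h1 := h.Z1_central hz y
    have h2 : z * z = 1 := hz
    rw [mul_assoc, ← mul_assoc z, ← h1, mul_assoc, h2, mul_one]
  have hbrc : ∀ x y x' y' : P, π x = π x' → π y = π y' → br x y = br x' y' := by
    intro x y x' y' hx hy
    obtain ⟨z, hz, rfl⟩ := hZcomm x x' hx
    obtain ⟨w, hw, rfl⟩ := hZcomm y y' hy
    rw [br_mul_left, h.br_Z1_left (h.br_mem h4 _ _), mul_one, h.br_Z1_left hz, mul_one,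
      br_mul_right, h.br_Z1_left (h.br_mem h4 _ _), mul_one]
    rw [show br x' w = 1 from br_eq_one.mpr (h.Z1_central hw x'), one_mul]
  let qt : F → F := fun a => lg e (t a * t a)
  have hqt : ∀ x, lg e (x * x) = qt (π x) := fun x => by
    show _ = lg e (t (π x) * t (π x))
    rw [hsqc x (t (π x)) (ht _).symm]
  have hqt0 : ∀ a, qt a = 0 → a = 0 := by
    intro a ha
    have h1 := (h.lg_eq_zero (h.sq_mem h4 (t a))).mp ha
    rw [← ht a, π0]
    exact h1
  have hqt00 : qt 0 = 0 := by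
    have h1 : t 0 ∈ h.Z1 := by rw [← π0, ht]
    show lg e (t 0 * t 0) = 0
    rw [show t 0 * t 0 = 1 from h1, h.lg_one]
  choose! c hc using πact
  have hqtmul : ∀ d a, d ≠ 0 → qt (d * a) = c d * qt a := by
    intro d a hd
    have h1 := hqt (ρ (c d) (t a))
    rw [hc d hd, ht, ← map_mul, h.lg_act (h.sq_mem h4 _)] at h1
    exact h1.symm
  set γ := qt 1 with hγ
  have hγ0 : γ ≠ 0 := fun h1 => one_ne_zero (hqt0 1 h1)
  let m : F → F := fun a => qt a / γ
  have hm : ∀ a, m a = qt a / γ := fun _ => rfl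
  have m0 : m 0 = 0 := by rw [hm, hqt00, zero_div]
  have m1 : m 1 = 1 := by rw [hm, ← hγ, div_self hγ0]
  have mmul : ∀ a b, m (a * b) = m a * m b := by
    intro a b
    by_cases ha : a = 0
    · rw [ha, zero_mul, m0, zero_mul]
    · have h1 := hqtmul a b ha
      have h2 := hqtmul a 1 ha
      rw [mul_one, ← hγ] at h2
      rw [hm, hm, hm, h1, h2]
      field_simp
  have minj : ∀ a, m a = 1 → a = 1 := by
    intro a ha
    have ha0 : a ≠ 0 := by rintro rfl; rw [m0] at ha; exact zero_ne_one ha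
    have h2 := hqtmul a 1 ha0
    rw [mul_one, ← hγ] at h2
    rw [hm, h2, mul_div_assoc, div_self hγ0, mul_one] at ha
    have h3 : c a = 1 := Units.ext (by rw [ha, Units.val_one])
    have h5 := hc a ha0 (t 1)
    rw [h3, map_one, ht, mul_one] at h5
    have h6 : π ((1 : MulAut P) (t 1)) = 1 := ht 1
    rw [h6] at h5
    exact h5.symm
  let f : F → F → F := fun a b => lg e (br (t a) (t b)) / γ
  have hfdef : ∀ a b, f a b = lg e (br (t a) (t b)) / γ := fun _ _ => rfl
  have hfb : ∀ x y, lg e (br x y) / γ = f (π x) (π y) := by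
    intro x y
    rw [hfdef, hbrc x y (t (π x)) (t (π y)) (ht _).symm (ht _).symm]
  have hf : ∀ a b, m (a + b) = m a + m b + f a b := by
    intro a b
    have h1 := h.lg_sq_mul h4 (t a) (t b)
    rw [hqt (t a * t b), πadd, ht, ht] at h1
    rw [hm, hm, hm, hfdef, h1]
    show _ = lg e (t a * t a) / γ + lg e (t b * t b) / γ + _
    ring
  have fadd : ∀ a b d, f (a + b) d = f a d + f b d := by
    intro a b d
    have h1 := hfb (t a * t b) (t d)
    rw [πadd, ht, ht, ht, br_mul_left, h.br_Z1_left (h.br_mem h4 _ _), mul_one,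
      h.lg_mul (h.br_mem h4 _ _) (h.br_mem h4 _ _), add_div] at h1
    exact h1.symm
  have fadd' : ∀ a b d, f a (b + d) = f a b + f a d := by
    intro a b d
    have h1 := hfb (t a) (t b * t d)
    rw [πadd, ht, ht, ht, br_mul_right, h.br_Z1_left (h.br_mem h4 _ _), mul_one,
      h.lg_mul (h.br_mem h4 _ _) (h.br_mem h4 _ _), add_div] at h1
    rw [← h1, add_comm]
  have fne : ∃ a b, f a b ≠ 0 := by
    obtain ⟨x, y, hxy⟩ := hne
    refine ⟨π x, π y, ?_⟩
    rw [← hfb]
    apply div_ne_zero _ hγ0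
    intro h1
    exact hxy (br_eq_one.mp ((h.lg_eq_zero (h.br_mem h4 x y)).mp h1))
  obtain ⟨σ, ψ, hσψ⟩ := quad_split m m0 m1 mmul f hf fadd fadd' fne
  have hkey : ∀ a, m a = σ a * (σ.symm.trans ψ) (σ a) := by
    intro a
    rw [hσψ]
    congr 1
    show ψ a = ψ (σ.symm (σ a))
    rw [RingEquiv.symm_apply_apply]
  refine ⟨σ.symm.trans ψ, fun x => σ (π x), γ, hγ0, ?_, ?_, ?_, ?_, ?_, ?_⟩
  · intro hφ
    obtain ⟨a, b, hab⟩ := fne
    apply hab
    have h1 := hf a b
    rw [hkey, hkey a, hkey b, hφ] at h1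
    simp only [RingEquiv.refl_apply, map_add] at h1
    have h2 : (σ a + σ b) * (σ a + σ b) = σ a * σ a + σ b * σ b := CharTwo.add_mul_self _ _
    rw [h2] at h1
    exact (left_eq_add.mp h1)
  · by_contra hodd
    obtain ⟨y, hy0, hy1, hy⟩ := exists_inverted _ hodd
    apply hy1
    have h1 := hkey (σ.symm y)
    rw [RingEquiv.apply_symm_apply, hy] at h1
    have h2 := minj _ h1
    have h3 := congrArg σ h2
    rwa [RingEquiv.apply_symm_apply, map_one] at h3
  · intro x y
    show σ (π (x * y)) = σ (π x) + σ (π y)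
    rw [πadd, map_add]
  · intro x
    show σ (π x) = 0 ↔ _
    rw [map_eq_zero_iff σ σ.injective, π0]
  · intro a
    refine ⟨t (σ.symm a), ?_⟩
    show σ (π (t (σ.symm a))) = a
    rw [ht, RingEquiv.apply_symm_apply]
  · intro x
    show _ = γ * (σ (π x) * (σ.symm.trans ψ) (σ (π x)))
    rw [← hkey, hm, mul_div_cancel₀ _ hγ0, hqt]

end IsSz

end Cfsg.Agent.H20.SZ
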