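import Cfsg.Agent.H20.SZ11

/-!
Central extensions with a given square map, and the two-groups of type A.
-/

set_option autoImplicit false
set_option linter.style.haveILetI false

namespace Cfsg.Agent.H20.SZ

/-- The fibre product group. -/
@[ext] structure FP {P F : Type*} [Group P] [Field F] (π : P →* Multiplicative F) (φ : F →+* F) where
  fst : P
  snd : F

namespace FP

variable {P F : Type*} [Group P] [Field F] {π : P →* Multiplicative F} {φ : F →+* F}

instance : Mul (FP π φ) := ⟨fun x y => ⟨x.fst * y.fst,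
  x.snd + y.snd + φ (π x.fst).toAdd * (π y.fst).toAdd⟩⟩
instance : One (FP π φ) := ⟨⟨1, 0⟩⟩
instance : Inv (FP π φ) := ⟨fun x => ⟨x.fst⁻¹, -x.snd + φ (π x.fst).toAdd * (π x.fst).toAdd⟩⟩

theorem mul_fst (x y : FP π φ) : (x * y).fst = x.fst * y.fst := rfl
theorem mul_snd (x y : FP π φ) :
    (x * y).snd = x.snd + y.snd + φ (π x.fst).toAdd * (π y.fst).toAdd := rfl
theorem one_fst : (1 : FP π φ).fst = 1 := rfl
theorem one_snd : (1 : FP π φ).snd = 0 := rfl
theorem inv_fst (x : FP π φ) : (x⁻¹).fst = x.fst⁻¹ := rfl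
theorem inv_snd (x : FP π φ) : (x⁻¹).snd = -x.snd + φ (π x.fst).toAdd * (π x.fst).toAdd := rfl

instance : Group (FP π φ) where
  mul_assoc x y z := by
    ext
    · simp only [mul_fst, mul_assoc]
    · simp only [mul_fst, mul_snd, map_mul, toAdd_mul, map_add]
      ring
  one_mul x := by
    ext
    · simp [mul_fst, one_fst]
    · simp [mul_snd, one_snd, one_fst]
  mul_one x := by
    ext
    · simp [mul_fst, one_fst]
    · simp [mul_snd, one_snd, one_fst]
  inv_mul_cancel x := by
    ext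
    · simp [mul_fst, one_fst, inv_fst]
    · simp only [mul_snd, one_snd, inv_fst, inv_snd, map_inv, toAdd_inv, map_neg]
      ring

end FP

theorem exists_section {P F : Type*} [Group P] [Field F] [CharP F 2] (π : P →* Multiplicative F)
    (φ : F →+* F) (e : F → P) (eadd : ∀ a b, e (a + b) = e a * e b)
    (einj : Function.Injective e)
    (ecen : ∀ a x, x * e a = e a * x) (hker : ∀ a, π (e a) = 1)
    (hsq : ∀ x, x * x = e ((π x).toAdd * φ (π x).toAdd)) :
    ∃ s : P → F, (∀ x y, s (x * y) = s x + s y + φ (π x).toAdd * (π y).toAdd) ∧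
      ∀ b, s (e b) = b := by
  classical
  have e0 : e 0 = 1 := by
    have := eadd 0 0
    rw [add_zero] at this
    exact left_eq_mul.mp this
  let N : Subgroup (FP π φ) :=
    { carrier := {x | ∃ b, x = ⟨e b, b⟩}
      one_mem' := ⟨0, by ext <;> simp [FP.one_fst, FP.one_snd, e0]⟩
      mul_mem' := by
        rintro _ _ ⟨b, rfl⟩ ⟨c, rfl⟩
        refine ⟨b + c, ?_⟩
        ext
        · simp [FP.mul_fst, eadd]
        · simp [FP.mul_snd, hker]
      inv_mem' := by
        rintro _ ⟨b, rfl⟩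
        refine ⟨b, ?_⟩
        ext
        · simp only [FP.inv_fst]
          rw [inv_eq_iff_mul_eq_one, ← eadd, CharTwo.add_self_eq_zero, e0]
        · simp [FP.inv_snd, hker, CharTwo.neg_eq] }
  have hN : ∀ x, x ∈ N ↔ ∃ b, x = (⟨e b, b⟩ : FP π φ) := fun _ => Iff.rfl
  haveI : N.Normal := ⟨by
    rintro _ ⟨b, rfl⟩ g
    refine ⟨b, ?_⟩
    have h1 : g * (⟨e b, b⟩ : FP π φ) = ⟨e b, b⟩ * g := by
      ext
      · simp [FP.mul_fst, ecen]
      · simp [FP.mul_snd, hker]
        ring
    rw [h1, mul_inv_cancel_right]⟩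
  have hsqN : ∀ x : FP π φ, x * x ∈ N := by
    intro x
    refine ⟨(π x.fst).toAdd * φ (π x.fst).toAdd, ?_⟩
    ext
    · exact hsq x.fst
    · simp only [FP.mul_snd]
      rw [CharTwo.add_self_eq_zero, zero_add, mul_comm]
  let U := FP π φ ⧸ N
  have hU2 : ∀ u : U, u * u = 1 := by
    intro u
    induction u using QuotientGroup.induction_on with
    | H x =>
    rw [← QuotientGroup.mk_mul]
    exact (QuotientGroup.eq_one_iff _).mpr (hsqN x)
  letI : CommGroup U := { (inferInstance : Group U) with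
    mul_comm := fun a b => by
      have h1 := hU2 (a * b)
      have ha := hU2 a
      have hb := hU2 b
      have h2 : a * b = (a * b)⁻¹ := eq_inv_of_mul_eq_one_left h1
      rw [h2, mul_inv_rev, inv_eq_of_mul_eq_one_left ha, inv_eq_of_mul_eq_one_left hb] }
  letI : Module (ZMod 2) (Additive U) := AddCommGroup.zmodModule (n := 2) (by
    intro x
    rw [two_nsmul]
    exact Additive.toMul.injective (hU2 x.toMul))
  letI : Algebra (ZMod 2) F := ZMod.algebra F 2
  let q : FP π φ →* U := QuotientGroup.mk' N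
  have hq : ∀ x, q x = 1 ↔ x ∈ N := fun x => QuotientGroup.eq_one_iff x
  let T : F →+ Additive U :=
    { toFun := fun y => Additive.ofMul (q ⟨1, y⟩)
      map_zero' := by
        have : (⟨1, 0⟩ : FP π φ) = 1 := rfl
        rw [this, map_one]; rfl
      map_add' := fun y z => by
        have : (⟨1, y + z⟩ : FP π φ) = ⟨1, y⟩ * ⟨1, z⟩ := by
          ext
          · simp [FP.mul_fst]
          · simp [FP.mul_snd]
        rw [this, map_mul]; rfl }
  have hTinj : LinearMap.ker (T.toZModLinearMap 2) = ⊥ := by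
    rw [LinearMap.ker_eq_bot']
    intro y hy
    have h1 : q ⟨1, y⟩ = 1 := Additive.ofMul.injective hy
    rw [hq] at h1
    obtain ⟨b, hb⟩ := h1
    rw [FP.mk.injEq] at hb
    have h2 : b = 0 := einj (by rw [← hb.1, e0])
    rw [hb.2, h2]
  obtain ⟨r, hr⟩ := LinearMap.exists_leftInverse_of_injective (T.toZModLinearMap 2) hTinj
  have hrT : ∀ y, r (Additive.ofMul (q ⟨1, y⟩)) = y := fun y => DFunLike.congr_fun hr y
  let R : FP π φ → F := fun x => r (Additive.ofMul (q x))
  have hRmul : ∀ x y, R (x * y) = R x + R y := by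
    intro x y
    show r (Additive.ofMul (q (x * y))) = _
    rw [map_mul, ofMul_mul, map_add]
  have hRN : ∀ x ∈ N, R x = 0 := by
    intro x hx
    show r (Additive.ofMul (q x)) = 0
    rw [(hq x).mpr hx, ofMul_one, map_zero]
  refine ⟨fun p => R ⟨p, 0⟩, ?_, ?_⟩
  · intro x y
    have h1 : (⟨x, 0⟩ : FP π φ) * ⟨y, 0⟩ = ⟨x * y, 0⟩ * ⟨1, φ (π x).toAdd * (π y).toAdd⟩ := by
      ext
      · simp [FP.mul_fst]
      · simp [FP.mul_snd]
    have h2 := congrArg R h1
    rw [hRmul, hRmul, show R ⟨1, φ (π x).toAdd * (π y).toAdd⟩ = _ from hrT _] at h2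
    show R ⟨x * y, 0⟩ = R ⟨x, 0⟩ + R ⟨y, 0⟩ + _
    rw [h2, add_assoc, CharTwo.add_self_eq_zero, add_zero]
  · intro b
    have h1 : (⟨e b, b⟩ : FP π φ) = ⟨e b, 0⟩ * ⟨1, b⟩ := by
      ext
      · simp [FP.mul_fst]
      · simp [FP.mul_snd]
    have h2 := congrArg R h1
    rw [hRmul, hRN _ ⟨b, rfl⟩, show R ⟨1, b⟩ = b from hrT _] at h2
    show R ⟨e b, 0⟩ = b
    rw [eq_neg_of_add_eq_zero_left h2.symm, CharTwo.neg_eq]

theorem iso_typeA {P F : Type*} [Group P] [Field F] [CharP F 2] (π : P →* Multiplicative F)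
    (φ : F →+* F) (e : F → P) (eadd : ∀ a b, e (a + b) = e a * e b)
    (einj : Function.Injective e)
    (ecen : ∀ a x, x * e a = e a * x) (hker : ∀ x, π x = 1 ↔ ∃ a, e a = x)
    (hπs : Function.Surjective π)
    (hsq : ∀ x, x * x = e ((π x).toAdd * φ (π x).toAdd)) :
    Nonempty (P ≃* Cfsg.suzukiTypeA F φ) := by
  classical
  obtain ⟨s, hs, hse⟩ := exists_section π φ e eadd einj ecen (fun a => (hker _).mpr ⟨a, rfl⟩) hsq
  have e0 : e 0 = 1 := by
    have := eadd 0 0
    rw [add_zero] at this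
    exact left_eq_mul.mp this
  have hs1 : s 1 = 0 := by
    have := hse 0
    rwa [e0] at this
  let Mx : F → F → Matrix (Fin 3) (Fin 3) F := fun x y => !![1, 0, 0; x, 1, 0; y, φ x, 1]
  have hMx : ∀ x y, Mx x y = !![1, 0, 0; x, 1, 0; y, φ x, 1] := fun _ _ => rfl
  have hMmul : ∀ x y x' y', Mx x y * Mx x' y' = Mx (x + x') (y + y' + φ x * x') := by
    intro x y x' y'
    rw [hMx, hMx, hMx]
    ext i j
    fin_cases i <;> fin_cases j <;> simp [Matrix.mul_apply, Fin.sum_univ_three]
    ring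
  have hM1 : Mx 0 0 = 1 := by
    rw [hMx]
    ext i j
    fin_cases i <;> fin_cases j <;> simp
  have hMinj : ∀ x y x' y', Mx x y = Mx x' y' → x = x' ∧ y = y' := by
    intro x y x' y' hxy
    rw [hMx, hMx] at hxy
    have h1 := congrFun (congrFun hxy 1) 0
    have h2 := congrFun (congrFun hxy 2) 0
    simp at h1 h2
    exact ⟨h1, h2⟩
  let f0 : P →* Matrix (Fin 3) (Fin 3) F :=
    { toFun := fun p => Mx (π p).toAdd (s p)
      map_one' := by rw [map_one, hs1, toAdd_one, hM1]
      map_mul' := fun p p' => by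
        rw [hMmul, map_mul, toAdd_mul, hs] }
  let f : P →* GL (Fin 3) F := f0.toHomUnits
  have hf : ∀ p, (f p : Matrix (Fin 3) (Fin 3) F) = Mx (π p).toAdd (s p) := fun _ => rfl
  have hfinj : Function.Injective f := by
    rw [injective_iff_map_eq_one]
    intro p hp
    have h1 : Mx (π p).toAdd (s p) = Mx 0 0 := by
      rw [← hf, hp, hM1]; rfl
    obtain ⟨h2, h3⟩ := hMinj _ _ _ _ h1
    have h4 : π p = 1 := Multiplicative.toAdd.injective h2
    obtain ⟨a, rfl⟩ := (hker p).mp h4
    rw [hse] at h3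
    rw [h3, e0]
  have hrange : f.range = Cfsg.suzukiTypeA F φ := by
    apply le_antisymm
    · rintro _ ⟨p, rfl⟩
      apply Subgroup.subset_closure
      exact ⟨(π p).toAdd, s p, hf p⟩
    · unfold Cfsg.suzukiTypeA
      rw [Subgroup.closure_le]
      rintro g ⟨x, y, hg⟩
      obtain ⟨p, hp⟩ := hπs (Multiplicative.ofAdd x)
      refine ⟨p * e (y - s p), ?_⟩
      apply Units.ext
      rw [hf, hg]
      show Mx _ _ = Mx x y
      have h1 : π (e (y - s p)) = 1 := (hker _).mpr ⟨_, rfl⟩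
      rw [map_mul, h1, mul_one, hs, h1, hse, hp, toAdd_one, mul_zero, add_zero,
        add_sub_cancel]
      rfl
  exact ⟨(MonoidHom.ofInjective hfinj).trans (MulEquiv.subgroupCongr hrange)⟩

namespace IsSz

variable {F : Type*} [Field F] {P : Type*} [Group P] {ρ : Fˣ →* MulAut P} {e : F → P}
  (h : IsSz ρ e)
include h

theorem typeA (hne : ∃ x y : P, x * y ≠ y * x) (hcard : Nat.card P = Nat.card F ^ 2) :
    ∃ φ : F ≃+* F, φ ≠ RingEquiv.refl F ∧ Odd (orderOf φ) ∧
      Nonempty (P ≃* Cfsg.suzukiTypeA F (φ : F →+* F)) := by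
  haveI := h.charP
  have h4 := h.pow_four hne
  obtain ⟨φ, π, γ, hγ, hφ, hφodd, πadd, π0, πs, hsq⟩ := h.exists_quad hne hcard
  refine ⟨φ, hφ, hφodd, ?_⟩
  have hπ1 : π 1 = 0 := (π0 1).mpr (one_mem _)
  refine iso_typeA (π := { toFun := fun p => Multiplicative.ofAdd (π p)
                           map_one' := by rw [hπ1]; rfl
                           map_mul' := fun x y => by rw [πadd]; rfl })
    (φ : F →+* F) (fun b => e (γ * b)) ?_ ?_ ?_ ?_ ?_ ?_
  · intro a b
    show e (γ * (a + b)) = e (γ * a) * e (γ * b)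
    rw [mul_add, h.add]
  · intro a b hab
    exact mul_left_cancel₀ hγ (h.inj hab)
  · intro a x
    exact h.e_central _ x
  · intro x
    constructor
    · intro h1
      have h2 : π x = 0 := Multiplicative.ofAdd.injective h1
      obtain ⟨a, ha⟩ := (h.sq x).mp ((π0 x).mp h2)
      refine ⟨a / γ, ?_⟩
      show e (γ * (a / γ)) = x
      rw [mul_div_cancel₀ _ hγ, ha]
    · rintro ⟨a, rfl⟩
      have h2 : π (e (γ * a)) = 0 := (π0 _).mpr (h.e_sq _)
      show Multiplicative.ofAdd (π (e (γ * a))) = 1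
      rw [h2]; rfl
  · intro y
    obtain ⟨x, hx⟩ := πs y.toAdd
    exact ⟨x, congrArg Multiplicative.ofAdd hx⟩
  · intro x
    show x * x = e (γ * (π x * φ (π x)))
    rw [← hsq, h.e_lg (h.sq_mem h4 x)]

end IsSz

end Cfsg.Agent.H20.SZ
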