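import Cfsg.Agent.H20.SZ1
import Cfsg.Agent.H20.Fpf
import Cfsg.Agent.H2.Basic

/-!
Two-groups with a cyclic group of automorphisms regular on involutions: basics.
-/

set_option autoImplicit false
set_option linter.style.haveILetI false

namespace Cfsg.Agent.H20.SZ

universe u

/-- `ρ` is an action of the multiplicative group of the finite field `F` on the finite 2-group
`P`, and `e` an equivariant isomorphism of `F` with the set of elements of order at most two. -/
structure IsSz {F : Type*} [Field F] {P : Type*} [Group P] (ρ : Fˣ →* MulAut P) (e : F → P) :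
    Prop where
  finF : Finite F
  finP : Finite P
  two : IsPGroup 2 P
  card : 2 < Nat.card F
  add : ∀ a b, e (a + b) = e a * e b
  inj : Function.Injective e
  sq : ∀ x : P, x * x = 1 ↔ ∃ a, e a = x
  act : ∀ (c : Fˣ) a, ρ c (e a) = e (c * a)

namespace IsSz

variable {F : Type*} [Field F] {P : Type*} [Group P] {ρ : Fˣ →* MulAut P} {e : F → P}
  (h : IsSz ρ e)
include h

theorem e_zero : e 0 = 1 := by
  have h1 := h.add 0 0
  rw [add_zero] at h1
  exact left_eq_mul.mp h1

theorem e_sq (a : F) : e a * e a = 1 := (h.sq _).mpr ⟨a, rfl⟩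

theorem charP : CharP F 2 := by
  have h1 : e (1 + 1) = e 0 := by rw [h.add, h.e_sq, h.e_zero]
  have h2 : (1 : F) + 1 = 0 := h.inj h1
  haveI : Fact (Nat.Prime 2) := ⟨Nat.prime_two⟩
  exact CharTwo.of_one_ne_zero_of_two_eq_zero one_ne_zero (by rw [← one_add_one_eq_two, h2])

theorem e_eq_one {a : F} : e a = 1 ↔ a = 0 := by
  rw [← h.e_zero]
  exact h.inj.eq_iff

theorem e_central (a : F) (x : P) : x * e a = e a * x := by
  classical
  haveI := h.finP
  haveI : Fact (Nat.Prime 2) := ⟨Nat.prime_two⟩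
  haveI : Nontrivial P := ⟨e 1, 1, fun hc => one_ne_zero (h.e_eq_one.mp hc)⟩
  haveI := h.two.center_nontrivial
  have h1 : IsPGroup 2 (Subgroup.center P) := h.two.to_subgroup _
  obtain ⟨n, hn⟩ := IsPGroup.iff_card.mp h1
  have h2 : 2 ∣ Nat.card (Subgroup.center P) := by
    have h3 : 1 < Nat.card (Subgroup.center P) := Finite.one_lt_card
    rw [hn] at h3 ⊢
    have : n ≠ 0 := by rintro rfl; simp at h3
    exact dvd_pow_self 2 this
  obtain ⟨z, hz⟩ := exists_prime_orderOf_dvd_card' 2 h2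
  have hz2 : (z : P) * z = 1 := by
    have := pow_orderOf_eq_one z
    rw [hz, pow_two] at this
    exact congrArg Subtype.val this
  obtain ⟨a₀, ha₀⟩ := (h.sq _).mp hz2
  have ha₀0 : a₀ ≠ 0 := by
    rintro rfl
    rw [h.e_zero] at ha₀
    have : z = 1 := Subtype.ext ha₀.symm
    rw [this, orderOf_one] at hz
    omega
  by_cases ha : a = 0
  · rw [ha, h.e_zero, mul_one, one_mul]
  let c : Fˣ := Units.mk0 (a / a₀) (div_ne_zero ha ha₀0)
  have h3 : e a = ρ c (z : P) := by
    rw [← ha₀, h.act]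
    congr 1
    show a = a / a₀ * a₀
    rw [div_mul_cancel₀ _ ha₀0]
  have h4 : ∀ y : P, y * (z : P) = z * y := fun y => Subgroup.mem_center_iff.mp z.2 y
  rw [h3]
  have h5 : x = ρ c ((ρ c)⁻¹ x) := by simp
  rw [h5, ← map_mul, ← map_mul, h4]

theorem semireg {c : Fˣ} {x : P} (hx : ρ c x = x) (hx1 : x ≠ 1) : c = 1 := by
  classical
  haveI := h.finP
  have h1 : ∃ k : ℕ, x ^ k ≠ 1 ∧ x ^ k * x ^ k = 1 := by
    obtain ⟨n, hn⟩ := h.two x
    have h2 : ∃ n, x ^ 2 ^ n = 1 := ⟨n, hn⟩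
    let m := Nat.find h2
    have hm : x ^ 2 ^ m = 1 := Nat.find_spec h2
    have hm0 : m ≠ 0 := by
      intro h0
      rw [h0, pow_zero, pow_one] at hm
      exact hx1 hm
    obtain ⟨k, hk⟩ := Nat.exists_eq_succ_of_ne_zero hm0
    refine ⟨2 ^ k, ?_, ?_⟩
    · exact Nat.find_min h2 (show k < m by omega)
    · rw [← pow_add, ← two_mul, ← pow_succ']
      rw [hk] at hm
      exact hm
  obtain ⟨k, hk1, hk2⟩ := h1
  obtain ⟨a, ha⟩ := (h.sq _).mp hk2
  have h3 : ρ c (e a) = e a := by rw [ha, map_pow, hx]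
  rw [h.act] at h3
  have h4 := h.inj h3
  have ha0 : a ≠ 0 := by
    rintro rfl
    rw [h.e_zero] at ha
    exact hk1 ha.symm
  apply Units.ext
  rw [Units.val_one]
  exact mul_right_cancel₀ ha0 (h4.trans (one_mul a).symm)

/-- Fixed points in sections. -/
theorem section_fix {N : Subgroup P} (hN : ∀ c, ∀ x ∈ N, ρ c x ∈ N) {c : Fˣ} (hc : c ≠ 1)
    {x : P} (hx : x⁻¹ * ρ c x ∈ N) : x ∈ N := by
  classical
  haveI := h.finP
  have hmap : N.map (ρ c).toMonoidHom = N := by
    ext y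
    constructor
    · rintro ⟨z, hz, rfl⟩
      exact hN c z hz
    · intro hy
      refine ⟨ρ c⁻¹ y, hN _ _ hy, ?_⟩
      show ρ c (ρ c⁻¹ y) = y
      rw [map_inv]; simp
  obtain ⟨ψ, hψ⟩ := Fpf.exists_restrict (ρ c) hmap
  have hf : ∀ g : N, ψ g = g → g = 1 := by
    intro g hg
    by_contra hne
    apply hc
    apply h.semireg (x := (g : P))
    · rw [← hψ, hg]
    · exact fun h1 => hne (Subtype.ext h1)
  obtain ⟨y, hy⟩ := Fpf.exists_comm ψ hf ⟨_, hx⟩
  have h1 : (y : P) * (ρ c y)⁻¹ = x⁻¹ * ρ c x := by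
    have := congrArg Subtype.val hy
    have h9 : (y : P) * ((ψ y : N) : P)⁻¹ = x⁻¹ * ρ c x := this
    rw [hψ] at h9
    exact h9
  have h2 : ρ c (x * y) = x * y := by
    rw [map_mul]
    have h3 : ρ c x = x * ((y : P) * (ρ c y)⁻¹) := by rw [h1]; group
    rw [h3]; group
  by_cases h3 : x * y = 1
  · have : x = (y : P)⁻¹ := eq_inv_of_mul_eq_one_left h3
    rw [this]
    exact inv_mem y.2
  · exact absurd (h.semireg h2 h3) hc

end IsSz

end Cfsg.Agent.H20.SZ
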