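import Cfsg.Agent.H20.SZ2

/-!
Two-groups with a cyclic group of automorphisms regular on involutions: commutators,
restriction, and the Frattini subgroup.
-/

set_option autoImplicit false
set_option linter.style.haveILetI false

namespace Cfsg.Agent.H20.SZ

section br
variable {P : Type*} [Group P]

/-- The commutator `x⁻¹ y⁻¹ x y`. -/
def br (x y : P) : P := x⁻¹ * y⁻¹ * x * y

theorem br_self (x : P) : br x x = 1 := by unfold br; group

theorem br_inv (x y : P) : (br x y)⁻¹ = br y x := by unfold br; group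

theorem br_eq_one {x y : P} : br x y = 1 ↔ x * y = y * x := by
  unfold br
  constructor
  · intro h
    have h1 : y * x * (x⁻¹ * y⁻¹ * x * y) = y * x := by rw [h, mul_one]
    rw [← h1]; group
  · intro h
    have h1 : x⁻¹ * y⁻¹ * x * y = (y * x)⁻¹ * (x * y) := by group
    rw [h1, h, inv_mul_cancel]

theorem br_mul_left (x y z : P) : br (x * y) z = br x z * br (br x z) y * br y z := by
  unfold br; group

theorem br_mul_right (x y z : P) : br x (y * z) = br x z * br x y * br (br x y) z := by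
  unfold br; group

theorem map_br (φ : MulAut P) (x y : P) : φ (br x y) = br (φ x) (φ y) := by
  simp [br, map_mul, map_inv]

theorem br_eq_squares (x y : P) :
    br x y = (x⁻¹ * x⁻¹) * ((x * y⁻¹) * (x * y⁻¹)) * (y * y) := by
  unfold br; group

theorem mul_mul_self (x y : P) : (x * y) * (x * y) = (x * x) * br x y⁻¹ * (y * y) := by
  unfold br; group

theorem conj_eq (x u : P) : x⁻¹ * u * x = u * br u x := by
  unfold br; group

theorem conj_eq' (x u : P) : x * u * x⁻¹ = u * br u x⁻¹ := by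
  unfold br; group

end br

/-- In a finite 2-group, there is a central chief factor below `N2` over `N1`. -/
theorem exists_central_step {P : Type*} [Group P] [Finite P] (hP : IsPGroup 2 P)
    (N1 N2 : Subgroup P) [N1.Normal] [N2.Normal] (h12 : N1 ≤ N2) (hne : N1 ≠ N2) :
    ∃ x ∈ N2, x ∉ N1 ∧ ∀ y, br x y ∈ N1 := by
  haveI : Fact (Nat.Prime 2) := ⟨Nat.prime_two⟩
  have hQ : IsPGroup 2 (P ⧸ N1) := hP.to_quotient N1
  haveI : (N2.map (QuotientGroup.mk' N1)).Normal :=
    Subgroup.Normal.map inferInstance _ (QuotientGroup.mk'_surjective N1)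
  have hb : N2.map (QuotientGroup.mk' N1) ≠ ⊥ := by
    intro h
    apply hne
    apply le_antisymm h12
    intro x hx
    have h1 : QuotientGroup.mk' N1 x ∈ N2.map (QuotientGroup.mk' N1) :=
      Subgroup.mem_map_of_mem _ hx
    rw [h, Subgroup.mem_bot] at h1
    exact (QuotientGroup.eq_one_iff x).mp h1
  have h1 := H2.inf_center_ne_bot_of_normal hQ _ hb
  obtain ⟨⟨z, hz⟩, hz1'⟩ := (Subgroup.ne_bot_iff_exists_ne_one).mp h1
  have hz1 : z ≠ 1 := fun h => hz1' (Subtype.ext h)
  obtain ⟨x, hx, hxz⟩ := hz.1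
  refine ⟨x, hx, ?_, ?_⟩
  · intro h
    apply hz1
    rw [← hxz]
    exact (QuotientGroup.eq_one_iff x).mpr h
  · intro y
    have h2 := Subgroup.mem_center_iff.mp hz.2 (QuotientGroup.mk' N1 y)
    rw [← hxz, ← map_mul, ← map_mul] at h2
    have h4 := QuotientGroup.eq.mp h2
    have h5 : br x y = (y * x)⁻¹ * (x * y) := by unfold br; group
    rw [h5]
    exact h4

namespace IsSz

variable {F : Type*} [Field F] {P : Type*} [Group P] {ρ : Fˣ →* MulAut P} {e : F → P}
  (h : IsSz ρ e)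
include h

theorem exists_act {a b : F} (ha : a ≠ 0) (hb : b ≠ 0) : ∃ c : Fˣ, ρ c (e a) = e b := by
  refine ⟨Units.mk0 (b / a) (div_ne_zero hb ha), ?_⟩
  rw [h.act, Units.val_mk0, div_mul_cancel₀ _ ha]

/-- Nontrivial elements have an involution among their powers. -/
theorem exists_pow {x : P} (hx1 : x ≠ 1) : ∃ (k : ℕ) (a : F), a ≠ 0 ∧ x ^ k = e a := by
  classical
  haveI := h.finP
  obtain ⟨n, hn⟩ := h.two x
  have h2 : ∃ n, x ^ 2 ^ n = 1 := ⟨n, hn⟩
  have hm : x ^ 2 ^ (Nat.find h2) = 1 := Nat.find_spec h2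
  have hm0 : Nat.find h2 ≠ 0 := by
    intro h0
    rw [h0, pow_zero, pow_one] at hm
    exact hx1 hm
  obtain ⟨k, hk⟩ := Nat.exists_eq_succ_of_ne_zero hm0
  have h3 : x ^ 2 ^ k ≠ 1 := Nat.find_min h2 (show k < Nat.find h2 by omega)
  have h4 : x ^ 2 ^ k * x ^ 2 ^ k = 1 := by
    rw [← pow_add, ← two_mul, ← pow_succ']
    rw [hk] at hm
    exact hm
  obtain ⟨a, ha⟩ := (h.sq _).mp h4
  refine ⟨2 ^ k, a, ?_, ha.symm⟩
  rintro rfl
  rw [h.e_zero] at ha
  exact h3 ha.symm

theorem e_mem {N : Subgroup P} (hN : ∀ c, ∀ x ∈ N, ρ c x ∈ N) (hne : N ≠ ⊥) (b : F) :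
    e b ∈ N := by
  by_cases hb : b = 0
  · rw [hb, h.e_zero]; exact one_mem _
  obtain ⟨x, hx⟩ := (Subgroup.ne_bot_iff_exists_ne_one).mp hne
  have hx1 : (x : P) ≠ 1 := fun h => hx (Subtype.ext h)
  obtain ⟨k, a, ha, hk⟩ := h.exists_pow hx1
  obtain ⟨c, hc⟩ := h.exists_act ha hb
  rw [← hc]
  apply hN
  rw [← hk]
  exact pow_mem x.2 k

theorem restrict {R : Subgroup P} (hR : ∀ c, ∀ x ∈ R, ρ c x ∈ R) (hne : R ≠ ⊥) :
    ∃ (ρ' : Fˣ →* MulAut R) (e' : F → R), IsSz ρ' e' ∧
      (∀ c x, ((ρ' c x : R) : P) = ρ c x) ∧ (∀ a, ((e' a : R) : P) = e a) := by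
  classical
  let ρ' : Fˣ →* MulAut R :=
    { toFun := fun c =>
        { toFun := fun x => ⟨ρ c x, hR c x x.2⟩
          invFun := fun x => ⟨ρ c⁻¹ x, hR _ x x.2⟩
          left_inv := fun x => Subtype.ext (by
            show ρ c⁻¹ (ρ c (x : P)) = x
            rw [map_inv]; simp)
          right_inv := fun x => Subtype.ext (by
            show ρ c (ρ c⁻¹ (x : P)) = x
            rw [map_inv]; simp)
          map_mul' := fun x y => Subtype.ext (by
            show ρ c (x * y : P) = ρ c (x : P) * ρ c (y : P)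
            rw [map_mul]) }
      map_one' := by
        ext x
        show ρ 1 (x : P) = x
        rw [map_one]; rfl
      map_mul' := fun c d => by
        ext x
        show ρ (c * d) (x : P) = ρ c (ρ d (x : P))
        rw [map_mul]; rfl }
  refine ⟨ρ', fun a => ⟨e a, h.e_mem hR hne a⟩, ?_, fun c x => rfl, fun a => rfl⟩
  haveI := h.finP
  exact
    { finF := h.finF
      finP := inferInstance
      two := h.two.to_subgroup _
      card := h.card
      add := fun a b => Subtype.ext (h.add a b)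
      inj := fun a b hab => h.inj (congrArg Subtype.val hab)
      sq := fun x => by
        constructor
        · intro hx
          obtain ⟨a, ha⟩ := (h.sq (x : P)).mp (congrArg Subtype.val hx)
          exact ⟨a, Subtype.ext ha⟩
        · rintro ⟨a, rfl⟩
          exact Subtype.ext (h.e_sq a)
      act := fun c a => Subtype.ext (h.act c a) }

end IsSz

/-- The inverse of `e`. -/
noncomputable def lg {F : Type*} [Field F] {P : Type*} (e : F → P) (x : P) : F :=
  open scoped Classical in if hx : ∃ a, e a = x then Classical.choose hx else 0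

namespace IsSz

variable {F : Type*} [Field F] {P : Type*} [Group P] {ρ : Fˣ →* MulAut P} {e : F → P}
  (h : IsSz ρ e)
include h

theorem lg_e (a : F) : lg e (e a) = a := by
  have hx : ∃ a', e a' = e a := ⟨a, rfl⟩
  unfold lg
  rw [dif_pos hx]
  exact h.inj (Classical.choose_spec hx)

theorem e_lg {x : P} (hx : x * x = 1) : e (lg e x) = x := by
  obtain ⟨a, rfl⟩ := (h.sq x).mp hx
  rw [h.lg_e]

theorem lg_mul {x y : P} (hx : x * x = 1) (hy : y * y = 1) :
    lg e (x * y) = lg e x + lg e y := by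
  obtain ⟨a, rfl⟩ := (h.sq x).mp hx
  obtain ⟨b, rfl⟩ := (h.sq y).mp hy
  rw [← h.add, h.lg_e, h.lg_e, h.lg_e]

theorem lg_act {x : P} (hx : x * x = 1) (c : Fˣ) : lg e (ρ c x) = c * lg e x := by
  obtain ⟨a, rfl⟩ := (h.sq x).mp hx
  rw [h.act, h.lg_e, h.lg_e]

theorem lg_one : lg e (1 : P) = 0 := by
  rw [← h.e_zero, h.lg_e]

theorem lg_eq_zero {x : P} (hx : x * x = 1) : lg e x = 0 ↔ x = 1 := by
  obtain ⟨a, rfl⟩ := (h.sq x).mp hx
  rw [h.lg_e, h.e_eq_one]

theorem mul_self_mul {x y : P} (hx : x * x = 1) (hy : y * y = 1) : (x * y) * (x * y) = 1 := by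
  obtain ⟨a, rfl⟩ := (h.sq x).mp hx
  obtain ⟨b, rfl⟩ := (h.sq y).mp hy
  rw [← h.add, h.e_sq]

/-- The subgroup of elements of order at most two. -/
def Z1 : Subgroup P where
  carrier := {x | x * x = 1}
  one_mem' := mul_one 1
  mul_mem' := fun {_ _} hx hy => h.mul_self_mul hx hy
  inv_mem' := fun {x} (hx : x * x = 1) => by
    show x⁻¹ * x⁻¹ = 1
    rw [← mul_inv_rev, hx, inv_one]

theorem mem_Z1 {x : P} : x ∈ h.Z1 ↔ x * x = 1 := Iff.rfl

theorem Z1_central {x : P} (hx : x ∈ h.Z1) (y : P) : y * x = x * y := by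
  obtain ⟨a, rfl⟩ := (h.sq x).mp hx
  exact h.e_central a y

theorem Z1_inv (c : Fˣ) {x : P} (hx : x ∈ h.Z1) : ρ c x ∈ h.Z1 := by
  show ρ c x * ρ c x = 1
  rw [← map_mul, show x * x = 1 from hx, map_one]

theorem Z1_normal : h.Z1.Normal := ⟨fun n hn g => by
  rw [h.Z1_central hn, mul_assoc, mul_inv_cancel, mul_one]
  exact hn⟩

theorem card_Z1 : Nat.card h.Z1 = Nat.card F := by
  refine Nat.card_congr (Equiv.ofBijective (fun x : h.Z1 => lg e (x : P)) ⟨?_, ?_⟩)
  · intro x y hxy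
    apply Subtype.ext
    rw [← h.e_lg x.2, ← h.e_lg y.2]
    exact congrArg e hxy
  · intro a
    exact ⟨⟨e a, h.e_sq a⟩, h.lg_e a⟩

end IsSz

/-- The subgroup generated by all squares. -/
def Sqs (P : Type*) [Group P] : Subgroup P := Subgroup.closure (Set.range fun x : P => x * x)

section Sqs
variable {P : Type*} [Group P]

theorem sq_mem_Sqs (x : P) : x * x ∈ Sqs P := Subgroup.subset_closure ⟨x, rfl⟩

theorem Sqs_le {N : Subgroup P} (hN : ∀ x, x * x ∈ N) : Sqs P ≤ N := by
  unfold Sqs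
  rw [Subgroup.closure_le]
  rintro _ ⟨x, rfl⟩
  exact hN x

theorem br_mem_Sqs (x y : P) : br x y ∈ Sqs P := by
  rw [br_eq_squares]
  exact mul_mem (mul_mem (sq_mem_Sqs _) (sq_mem_Sqs _)) (sq_mem_Sqs _)

theorem map_mem_Sqs (φ : MulAut P) {x : P} (hx : x ∈ Sqs P) : φ x ∈ Sqs P := by
  have h1 : Sqs P ≤ (Sqs P).comap φ.toMonoidHom := Sqs_le fun x => by
    show φ (x * x) ∈ Sqs P
    rw [map_mul]
    exact sq_mem_Sqs _
  exact h1 hx

instance Sqs_normal : (Sqs P).Normal := ⟨fun n hn g => by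
  rw [conj_eq']
  exact mul_mem hn (br_mem_Sqs _ _)⟩

theorem Sqs_ne_top [Finite P] [Nontrivial P] (hP : IsPGroup 2 P) : Sqs P ≠ ⊤ := by
  haveI : Fact (Nat.Prime 2) := ⟨Nat.prime_two⟩
  -- an index-two subgroup
  obtain ⟨n, hn⟩ := IsPGroup.iff_card.mp hP
  have hn0 : n ≠ 0 := by
    rintro rfl
    have : 1 < Nat.card P := Finite.one_lt_card
    rw [hn] at this; simp at this
  obtain ⟨k, rfl⟩ := Nat.exists_eq_succ_of_ne_zero hn0
  obtain ⟨M, hM⟩ := Sylow.exists_subgroup_card_pow_prime 2 (G := P) (n := k)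
    (by rw [hn]; exact pow_dvd_pow 2 (Nat.le_succ k))
  have hidx : M.index = 2 := by
    have h1 := M.card_mul_index
    rw [hM, hn, pow_succ] at h1
    exact Nat.eq_of_mul_eq_mul_left (by positivity) h1
  intro htop
  have h2 : Sqs P ≤ M := Sqs_le fun x => Subgroup.mul_self_mem_of_index_two hidx x
  rw [htop, top_le_iff] at h2
  rw [h2, Subgroup.index_top] at hidx
  omega

end Sqs

end Cfsg.Agent.H20.SZ
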