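import Cfsg.Agent.H20.SZ3

/-!
Two-groups with a cyclic group of automorphisms regular on involutions: the Frattini subgroup
is commutative, and the power and commutator maps.
-/

set_option autoImplicit false
set_option linter.style.haveILetI false

namespace Cfsg.Agent.H20.SZ

namespace IsSz

variable {F : Type*} [Field F] {P : Type*} [Group P] {ρ : Fˣ →* MulAut P} {e : F → P}
  (h : IsSz ρ e)
include h

theorem br_Z1_left {x : P} (hx : x ∈ h.Z1) (y : P) : br x y = 1 :=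
  br_eq_one.mpr (h.Z1_central hx y).symm

theorem comm_Sqs_of_br {x : P} (hx : ∀ y, br x y ∈ h.Z1) {u : P} (hu : u ∈ Sqs P) :
    x * u = u * x := by
  have h1 : Sqs P ≤ Subgroup.centralizer {x} := Sqs_le fun y => by
    rw [Subgroup.mem_centralizer_iff]
    intro z hz
    rw [Set.mem_singleton_iff] at hz
    rw [hz, ← br_eq_one, br_mul_right, h.br_Z1_left (hx y), mul_one]
    exact hx y
  exact Subgroup.mem_centralizer_iff.mp (h1 hu) x rfl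

theorem Sqs_comm (hIH : (∀ x y : Sqs P, x * y = y * x) ∨ (∀ x : Sqs P, x ^ 4 = 1)) :
    ∀ x ∈ Sqs P, ∀ y ∈ Sqs P, x * y = y * x := by
  haveI := h.finP
  rcases hIH with hc | h4
  · intro x hx y hy
    exact congrArg Subtype.val (hc ⟨x, hx⟩ ⟨y, hy⟩)
  by_cases hb : Sqs P = ⊥
  · intro x hx y hy
    rw [hb, Subgroup.mem_bot] at hx hy
    rw [hx, hy]
  have hinv : ∀ c, ∀ x ∈ Sqs P, ρ c x ∈ Sqs P := fun c x hx => map_mem_Sqs (ρ c) hx
  have hZ : h.Z1 ≤ Sqs P := by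
    intro x hx
    obtain ⟨a, rfl⟩ := (h.sq x).mp hx
    exact h.e_mem hinv hb a
  by_cases hZe : h.Z1 = Sqs P
  · intro x hx y hy
    rw [← hZe] at hy
    exact h.Z1_central hy x
  haveI := h.Z1_normal
  obtain ⟨x, hx, hx1, hxbr⟩ := exists_central_step h.two h.Z1 (Sqs P) hZ hZe
  have h4' : ∀ u ∈ Sqs P, (u * u) * (u * u) = 1 := by
    intro u hu
    have h5 : u ^ 4 = 1 := congrArg Subtype.val (h4 ⟨u, hu⟩)
    rw [← h5, ← pow_two, ← pow_two, ← pow_mul]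
  obtain ⟨a, ha⟩ := (h.sq _).mp (h4' x hx)
  have ha0 : a ≠ 0 := by
    rintro rfl
    apply hx1
    show x * x = 1
    rw [← ha, h.e_zero]
  intro u hu v hv
  obtain ⟨b, hb'⟩ := (h.sq _).mp (h4' u hu)
  by_cases hb0 : b = 0
  · have : u ∈ h.Z1 := by
      show u * u = 1
      rw [← hb', hb0, h.e_zero]
    exact (h.Z1_central this v).symm
  obtain ⟨c, hc⟩ := h.exists_act ha0 hb0
  have hx2 : ρ c x * ρ c x = u * u := by
    rw [← map_mul, ← ha, hc, hb']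
  have hbr : ∀ y, br (ρ c x) y ∈ h.Z1 := by
    intro y
    have h5 : y = ρ c (ρ c⁻¹ y) := by rw [map_inv]; simp
    rw [h5, ← map_br]
    exact h.Z1_inv c (hxbr _)
  have hcm : ∀ w ∈ Sqs P, ρ c x * w = w * ρ c x := fun w hw => h.comm_Sqs_of_br hbr hw
  have hz : u * (ρ c x)⁻¹ ∈ h.Z1 := by
    show u * (ρ c x)⁻¹ * (u * (ρ c x)⁻¹) = 1
    have h6 : (ρ c x)⁻¹ * u = u * (ρ c x)⁻¹ := by
      rw [inv_mul_eq_iff_eq_mul, ← mul_assoc, hcm u hu, mul_inv_cancel_right]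
    rw [mul_assoc, ← mul_assoc _ u, h6, ← mul_assoc, ← mul_assoc, mul_assoc _ (ρ c x)⁻¹, ← hx2]
    group
  have h7 : u = (u * (ρ c x)⁻¹) * ρ c x := by group
  rw [h7]
  have h8 := h.Z1_central hz v
  rw [mul_assoc, hcm v hv, ← mul_assoc, ← h8, mul_assoc]

end IsSz

/-- The setting of the second step. -/
structure StB {F : Type*} [Field F] {P : Type*} [Group P] (ρ : Fˣ →* MulAut P) (e : F → P)
    (k : ℕ) : Prop where
  sz : IsSz ρ e
  comm : ∀ u ∈ Sqs P, ∀ v ∈ Sqs P, u * v = v * u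
  kill : ∀ u ∈ Sqs P, u ^ 2 ^ (k + 2) = 1
  top : ∃ u ∈ Sqs P, u ^ 2 ^ (k + 1) ≠ 1

namespace StB

variable {F : Type*} [Field F] {P : Type*} [Group P] {ρ : Fˣ →* MulAut P} {e : F → P} {k : ℕ}
  (h : StB ρ e k)
include h

omit h in
theorem pow_succ_two (u : P) (j : ℕ) : u ^ 2 ^ (j + 1) = u ^ 2 ^ j * u ^ 2 ^ j := by
  rw [pow_succ, pow_mul, pow_two]

omit h in
theorem pow_succ_two' (u : P) (j : ℕ) : u ^ 2 ^ (j + 1) = (u * u) ^ 2 ^ j := by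
  rw [pow_succ', pow_mul, pow_two]

theorem mulPow {u v : P} (hu : u ∈ Sqs P) (hv : v ∈ Sqs P) (n : ℕ) :
    (u * v) ^ n = u ^ n * v ^ n :=
  Commute.mul_pow (h.comm u hu v hv) n

theorem br_mul {v w : P} (hv : v ∈ Sqs P) (hw : w ∈ Sqs P) (x : P) :
    br (v * w) x = br v x * br w x := by
  rw [br_mul_left, br_eq_one.mpr (h.comm _ (br_mem_Sqs v x) w hw), mul_one]

theorem br_pow {v : P} (hv : v ∈ Sqs P) (n : ℕ) (x : P) : br (v ^ n) x = (br v x) ^ n := by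
  induction n with
  | zero => simp [br]
  | succ n ih => rw [pow_succ, h.br_mul (pow_mem hv n) hv, ih, pow_succ]

theorem mem_Z1_of_pow {v : P} {j : ℕ} (hv : v ^ 2 ^ (j + 1) = 1) : v ^ 2 ^ j ∈ h.sz.Z1 := by
  show v ^ 2 ^ j * v ^ 2 ^ j = 1
  rw [← pow_succ_two, hv]

theorem br_kill {v : P} (hv : v ∈ Sqs P) {j : ℕ} (hj : v ^ 2 ^ (j + 1) = 1) (x : P) :
    (br v x) ^ 2 ^ j = 1 := by
  rw [← h.br_pow hv]
  exact h.sz.br_Z1_left (h.mem_Z1_of_pow hj) x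

omit h in
theorem inv {u : P} (_h : StB ρ e k) (c : Fˣ) (hu : u ∈ Sqs P) : ρ c u ∈ Sqs P := map_mem_Sqs (ρ c) hu

theorem ex_pow {j : ℕ} (hj : j ≤ k + 1) (b : F) : ∃ v ∈ Sqs P, v ^ 2 ^ j = e b := by
  by_cases hb : b = 0
  · exact ⟨1, one_mem _, by rw [one_pow, hb, h.sz.e_zero]⟩
  obtain ⟨u, hu, hu1⟩ := h.top
  have h1 := h.mem_Z1_of_pow (h.kill u hu)
  obtain ⟨a, ha⟩ := (h.sz.sq _).mp h1
  have ha0 : a ≠ 0 := by
    rintro rfl
    rw [h.sz.e_zero] at ha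
    exact hu1 ha.symm
  obtain ⟨c, hc⟩ := h.sz.exists_act ha0 hb
  refine ⟨ρ c (u ^ 2 ^ (k + 1 - j)), h.inv c (pow_mem hu _), ?_⟩
  rw [← map_pow, ← pow_mul, ← pow_add, Nat.sub_add_cancel hj, ← ha, hc]

/-- The power map. -/
noncomputable def Q (_h : StB ρ e k) (x : P) : F := lg e ((x * x) ^ 2 ^ (k + 1))

/-- The commutator form. -/
noncomputable def f (_h : StB ρ e k) (x z : P) : F := lg e ((br x z) ^ 2 ^ (k + 1))

theorem Q_def (x : P) : h.Q x = lg e ((x * x) ^ 2 ^ (k + 1)) := rfl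
theorem f_def (x z : P) : h.f x z = lg e ((br x z) ^ 2 ^ (k + 1)) := rfl

theorem Z1_top {u : P} (hu : u ∈ Sqs P) : u ^ 2 ^ (k + 1) ∈ h.sz.Z1 :=
  h.mem_Z1_of_pow (h.kill u hu)

theorem lg_eq_zero_top {u : P} (hu : u ∈ Sqs P) :
    lg e (u ^ 2 ^ (k + 1)) = 0 ↔ u ^ 2 ^ (k + 1) = 1 :=
  h.sz.lg_eq_zero (h.Z1_top hu)

theorem f_mul_left (x y z : P) : h.f (x * y) z = h.f x z + h.f y z := by
  rw [f_def, br_mul_left, h.mulPow (mul_mem (br_mem_Sqs _ _) (br_mem_Sqs _ _)) (br_mem_Sqs _ _),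
    h.mulPow (br_mem_Sqs _ _) (br_mem_Sqs _ _),
    h.br_kill (br_mem_Sqs _ _) (h.kill _ (br_mem_Sqs _ _)), mul_one,
    h.sz.lg_mul (h.Z1_top (br_mem_Sqs _ _)) (h.Z1_top (br_mem_Sqs _ _))]
  rfl

theorem f_self (x : P) : h.f x x = 0 := by
  rw [f_def, br_self, one_pow, h.sz.lg_one]

theorem f_comm (x z : P) : h.f z x = h.f x z := by
  rw [f_def, f_def, ← br_inv, inv_pow]
  congr 1
  have h1 := h.Z1_top (br_mem_Sqs x z)
  exact inv_eq_of_mul_eq_one_left h1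

theorem f_mul_right (x y z : P) : h.f x (y * z) = h.f x y + h.f x z := by
  rw [h.f_comm, h.f_mul_left, h.f_comm, h.f_comm z]

theorem f_one (x : P) : h.f x 1 = 0 := by
  have := h.f_mul_right x 1 1
  rw [mul_one] at this
  exact left_eq_add.mp this

theorem f_inv_right (x y : P) : h.f x y⁻¹ = h.f x y := by
  haveI := h.sz.charP
  have h1 := h.f_mul_right x y y⁻¹
  rw [mul_inv_cancel, h.f_one] at h1
  rw [eq_neg_of_add_eq_zero_right h1.symm, CharTwo.neg_eq]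

theorem f_inv_left (x y : P) : h.f x⁻¹ y = h.f x y := by
  rw [h.f_comm, h.f_inv_right, h.f_comm]

theorem Q_mul (x y : P) : h.Q (x * y) = h.Q x + h.Q y + h.f x y := by
  rw [← h.f_inv_right, Q_def, mul_mul_self,
    h.mulPow (mul_mem (sq_mem_Sqs _) (br_mem_Sqs _ _)) (sq_mem_Sqs _),
    h.mulPow (sq_mem_Sqs _) (br_mem_Sqs _ _),
    h.sz.lg_mul (h.sz.mul_self_mul (h.Z1_top (sq_mem_Sqs _)) (h.Z1_top (br_mem_Sqs _ _)))
      (h.Z1_top (sq_mem_Sqs _)),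
    h.sz.lg_mul (h.Z1_top (sq_mem_Sqs _)) (h.Z1_top (br_mem_Sqs _ _))]
  rw [← h.Q_def, ← h.f_def, ← h.Q_def]
  ring

theorem Q_act (c : Fˣ) (x : P) : h.Q (ρ c x) = c * h.Q x := by
  rw [Q_def, ← map_mul, ← map_pow, h.sz.lg_act (h.Z1_top (sq_mem_Sqs _))]
  rfl

theorem f_act (c : Fˣ) (x z : P) : h.f (ρ c x) (ρ c z) = c * h.f x z := by
  rw [f_def, ← map_br, ← map_pow, h.sz.lg_act (h.Z1_top (br_mem_Sqs _ _))]
  rfl

/-- A section. -/
noncomputable def s (b : F) : P := Classical.choose (h.ex_pow le_rfl b)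

theorem s_mem (b : F) : h.s b ∈ Sqs P := (Classical.choose_spec (h.ex_pow le_rfl b)).1

theorem s_pow (b : F) : h.s b ^ 2 ^ (k + 1) = e b := (Classical.choose_spec (h.ex_pow le_rfl b)).2

theorem Z1_br {v : P} (hv : v ∈ Sqs P) (x : P) : (br v x) ^ 2 ^ k ∈ h.sz.Z1 := by
  show (br v x) ^ 2 ^ k * (br v x) ^ 2 ^ k = 1
  rw [← pow_succ_two]
  exact h.br_kill hv (h.kill v hv) x

theorem br_pow_congr {v w : P} (hv : v ∈ Sqs P) (hw : w ∈ Sqs P)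
    (hvw : v ^ 2 ^ (k + 1) = w ^ 2 ^ (k + 1)) (x : P) :
    (br v x) ^ 2 ^ k = (br w x) ^ 2 ^ k := by
  have h1 : (v * w⁻¹) ^ 2 ^ (k + 1) = 1 := by
    rw [h.mulPow hv (inv_mem hw), inv_pow, hvw, mul_inv_cancel]
  have h2 := h.br_kill (mul_mem hv (inv_mem hw)) h1 x
  have h3 : br v x = br (v * w⁻¹) x * br w x := by
    rw [← h.br_mul (mul_mem hv (inv_mem hw)) hw, inv_mul_cancel_right]
  rw [h3, h.mulPow (br_mem_Sqs _ _) (br_mem_Sqs _ _), h2, one_mul]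

/-- The commutator with the Frattini subgroup. -/
noncomputable def δ (x : P) : F →+ F where
  toFun b := lg e ((br (h.s b) x) ^ 2 ^ k)
  map_zero' := by
    rw [h.br_pow_congr (h.s_mem 0) (one_mem _) (by rw [h.s_pow, h.sz.e_zero, one_pow])]
    rw [show br 1 x = 1 by simp [br], one_pow, h.sz.lg_one]
  map_add' a b := by
    rw [h.br_pow_congr (h.s_mem (a + b)) (mul_mem (h.s_mem a) (h.s_mem b))
      (by rw [h.s_pow, h.mulPow (h.s_mem a) (h.s_mem b), h.s_pow, h.s_pow, h.sz.add]),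
      h.br_mul (h.s_mem a) (h.s_mem b), h.mulPow (br_mem_Sqs _ _) (br_mem_Sqs _ _),
      h.sz.lg_mul (h.Z1_br (h.s_mem a) x) (h.Z1_br (h.s_mem b) x)]

theorem δ_spec {v : P} (hv : v ∈ Sqs P) (x : P) :
    h.δ x (lg e (v ^ 2 ^ (k + 1))) = lg e ((br v x) ^ 2 ^ k) := by
  show lg e ((br (h.s (lg e (v ^ 2 ^ (k + 1)))) x) ^ 2 ^ k) = _
  rw [h.br_pow_congr (h.s_mem _) hv]
  rw [h.s_pow, h.sz.e_lg (h.Z1_top hv)]

theorem δ_s (b : F) (x : P) : h.δ x b = lg e ((br (h.s b) x) ^ 2 ^ k) := rfl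

theorem δ_mul (x y : P) : h.δ (x * y) = h.δ x + h.δ y := by
  ext b
  rw [AddMonoidHom.add_apply, δ_s, δ_s, δ_s, br_mul_right,
    h.mulPow (mul_mem (br_mem_Sqs _ _) (br_mem_Sqs _ _)) (br_mem_Sqs _ _),
    h.mulPow (br_mem_Sqs _ _) (br_mem_Sqs _ _),
    h.br_kill (br_mem_Sqs _ _) (h.br_kill (h.s_mem b) (h.kill _ (h.s_mem b)) x), mul_one,
    h.sz.lg_mul (h.Z1_br (h.s_mem b) y) (h.Z1_br (h.s_mem b) x), add_comm]

theorem δ_act (c : Fˣ) (x : P) (b : F) : h.δ (ρ c x) (c * b) = c * h.δ x b := by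
  have h1 : (c : F) * b = lg e ((ρ c (h.s b)) ^ 2 ^ (k + 1)) := by
    rw [← map_pow, h.s_pow, h.sz.act, h.sz.lg_e]
  rw [h1, h.δ_spec (h.inv c (h.s_mem b)), ← map_br, ← map_pow,
    h.sz.lg_act (h.Z1_br (h.s_mem b) x), ← δ_s]

theorem δ_Sqs {x : P} (hx : x ∈ Sqs P) : h.δ x = 0 := by
  ext b
  rw [δ_s, br_eq_one.mpr (h.comm _ (h.s_mem b) x hx), one_pow, h.sz.lg_one]
  rfl

theorem δ_one : h.δ 1 = 0 := h.δ_Sqs (one_mem _)

theorem δ_inv (x : P) : h.δ x⁻¹ = h.δ x := by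
  haveI := h.sz.charP
  have h1 := h.δ_mul x x⁻¹
  rw [mul_inv_cancel, h.δ_one] at h1
  rw [eq_neg_of_add_eq_zero_right h1.symm]
  ext b
  exact CharTwo.neg_eq _

theorem key (x z : P) : h.δ z (h.Q x) = h.f x z + h.δ x (h.f x z) := by
  rw [Q_def, h.δ_spec (sq_mem_Sqs x), f_def, h.δ_spec (br_mem_Sqs x z), br_mul_left,
    h.mulPow (mul_mem (br_mem_Sqs _ _) (br_mem_Sqs _ _)) (br_mem_Sqs _ _),
    h.mulPow (br_mem_Sqs _ _) (br_mem_Sqs _ _), ← h.sz.lg_mul (h.Z1_top (br_mem_Sqs _ _))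
      (h.Z1_br (br_mem_Sqs _ _) x), pow_succ_two (br x z), mul_assoc, mul_assoc,
      h.comm _ (pow_mem (br_mem_Sqs (br x z) x) _) _ (pow_mem (br_mem_Sqs x z) _)]

end StB

end Cfsg.Agent.H20.SZ
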