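import Cfsg.Agent.H20.SZ4

/-!
Two-groups with a cyclic group of automorphisms regular on involutions: vanishing of the
commutator maps.
-/

set_option autoImplicit false
set_option linter.style.haveILetI false

namespace Cfsg.Agent.H20.SZ

namespace StB

variable {F : Type*} [Field F] {P : Type*} [Group P] {ρ : Fˣ →* MulAut P} {e : F → P} {k : ℕ}
  (h : StB ρ e k)
include h

/-- The kernel of `δ`. -/
def R0 : Subgroup P where
  carrier := {x | h.δ x = 0}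
  one_mem' := h.δ_one
  mul_mem' := fun {x y} (hx : h.δ x = 0) (hy : h.δ y = 0) => by
    show h.δ (x * y) = 0
    rw [h.δ_mul, hx, hy, add_zero]
  inv_mem' := fun {x} (hx : h.δ x = 0) => by
    show h.δ x⁻¹ = 0
    rw [h.δ_inv, hx]

theorem mem_R0 {x : P} : x ∈ h.R0 ↔ h.δ x = 0 := Iff.rfl

theorem R0_inv (c : Fˣ) {x : P} (hx : x ∈ h.R0) : ρ c x ∈ h.R0 := by
  show h.δ (ρ c x) = 0
  ext b
  have h1 := h.δ_act c x ((c : F)⁻¹ * b)
  rw [mul_inv_cancel_left₀ c.ne_zero, show h.δ x = 0 from hx, AddMonoidHom.zero_apply,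
    mul_zero] at h1
  exact h1

/-- The left radical relative to a subgroup. -/
def Dz (R : Subgroup P) : Subgroup P where
  carrier := {z | ∀ x ∈ R, h.f x z = 0}
  one_mem' := fun x _ => h.f_one x
  mul_mem' := fun {y z} hy hz x hx => by
    show h.f x (y * z) = 0
    rw [h.f_mul_right, hy x hx, hz x hx, add_zero]
  inv_mem' := fun {y} hy x hx => by
    show h.f x y⁻¹ = 0
    rw [h.f_inv_right, hy x hx]

theorem exists_Q_ne_zero : ∃ x, h.Q x ≠ 0 := by
  by_contra hc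
  push Not at hc
  obtain ⟨u, hu, hu1⟩ := h.top
  -- the elements of `Sqs P` killed by `2 ^ (k+1)`
  have h1 : Subgroup.closure (Set.range fun x : P => x * x) ≤ Sqs P := le_rfl
  have h2 : ∀ v ∈ Sqs P, v ^ 2 ^ (k + 1) = 1 := by
    intro v hv
    refine Subgroup.closure_induction (p := fun v _ => v ^ 2 ^ (k + 1) = 1) ?_ (one_pow _) ?_ ?_ hv
    · rintro _ ⟨x, rfl⟩
      exact (h.lg_eq_zero_top (sq_mem_Sqs x)).mp (hc x)
    · intro v w hv hw h3 h4
      rw [h.mulPow hv hw, h3, h4, mul_one]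
    · intro v hv h3
      rw [inv_pow, h3, inv_one]
  exact hu1 (h2 u hu)

theorem δ_eq_zero (x : P) : h.δ x = 0 := by
  classical
  by_contra hne
  haveI := h.sz.finP
  haveI := h.sz.finF
  haveI := h.sz.charP
  haveI : Finite (Subgroup P) := inferInstance
  -- minimal invariant subgroup above `R0`
  let S : Set (Subgroup P) := {N | (∀ c, ∀ x ∈ N, ρ c x ∈ N) ∧ h.R0 ≤ N ∧ ∃ x ∈ N, h.δ x ≠ 0}
  obtain ⟨R, ⟨hRinv, hR0R, hRne⟩, hRmin⟩ := WellFounded.has_min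
    (wellFounded_lt : WellFounded ((· < ·) : Subgroup P → Subgroup P → Prop)) S
    ⟨⊤, fun _ _ _ => Subgroup.mem_top _, le_top, x, Subgroup.mem_top _, hne⟩
  obtain ⟨y₀, hy₀R, hy₀⟩ := hRne
  obtain ⟨σ, a, ha, ha0, haadd, haact, hinj⟩ := K1 (D := R) h.sz.card
    (fun c x => ⟨ρ c x, hRinv c x x.2⟩) (fun x => h.δ x) (fun x y => h.δ_mul x y)
    (fun c x b => h.δ_act c x b)
    (by
      intro N hN hN0 ⟨x, hx, hx1⟩
      have h1 : N.map R.subtype ∈ S := by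
        refine ⟨?_, ?_, ?_⟩
        · rintro c _ ⟨x, hx, rfl⟩
          exact ⟨_, hN c x hx, rfl⟩
        · intro x hx
          exact ⟨⟨x, hR0R hx⟩, hN0 _ hx, rfl⟩
        · exact ⟨x, ⟨x, hx, rfl⟩, hx1⟩
      have h2 := hRmin _ h1
      have h3 : N.map R.subtype ≤ R := by
        rintro _ ⟨x, _, rfl⟩
        exact x.2
      have h4 : N.map R.subtype = R := by
        rcases lt_or_eq_of_le h3 with h5 | h5
        · exact absurd h5 h2
        · exact h5
      rw [eq_top_iff]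
      intro y _
      have h5 : (y : P) ∈ N.map R.subtype := by rw [h4]; exact y.2
      obtain ⟨z, hz, hzy⟩ := h5
      rw [← Subtype.ext hzy]
      exact hz)
    (by
      intro c hc x hx
      apply h.sz.section_fix (N := h.R0) (fun c x hx => h.R0_inv c hx) hc
      show h.δ ((x : P)⁻¹ * ρ c x) = 0
      have hx' : h.δ (ρ c (x : P)) = h.δ x := hx
      rw [h.δ_mul, h.δ_inv, hx']
      ext b
      exact CharTwo.add_self_eq_zero _)
    ⟨⟨y₀, hy₀R⟩, hy₀⟩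
  -- injectivity
  have hδinj : ∀ x ∈ R, x ∉ h.R0 → ∀ b, h.δ x b = 0 → b = 0 := by
    intro x hx hx0 b hb
    have h1 := ha ⟨x, hx⟩ b
    rw [show h.δ ((⟨x, hx⟩ : R) : P) b = h.δ x b from rfl, hb] at h1
    rcases mul_eq_zero.mp h1.symm with h2 | h2
    · exact absurd ((ha0 ⟨x, hx⟩).mp h2) hx0
    · exact (map_eq_zero_iff σ σ.injective).mp h2
  have hfixσ : ∀ c : F, σ c = c → c = 0 ∨ c = 1 := by
    intro c hc
    by_cases hc0 : c = 0
    · exact Or.inl hc0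
    right
    have h1 := hinj (Units.mk0 c hc0) 1 (by
      rw [Units.val_mk0, hc, Units.val_one, map_one, div_self hc0, div_one])
    have h2 := congrArg Units.val h1
    rwa [Units.val_mk0, Units.val_one] at h2
  -- uniqueness of fixed points
  have hfix : ∀ x ∈ R, x ∉ h.R0 → ∀ b b', h.δ x b = b → h.δ x b' = b' → b ≠ 0 → b' ≠ 0 →
      b = b' := by
    intro x hx hx0 b b' hb hb' hb0 hb'0
    have h1 := ha ⟨x, hx⟩ b
    have h1' := ha ⟨x, hx⟩ b'
    rw [show h.δ ((⟨x, hx⟩ : R) : P) b = h.δ x b from rfl, hb] at h1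
    rw [show h.δ ((⟨x, hx⟩ : R) : P) b' = h.δ x b' from rfl, hb'] at h1'
    have hax : a ⟨x, hx⟩ ≠ 0 := fun h3 => hx0 ((ha0 ⟨x, hx⟩).mp h3)
    have h2 : σ (b / b') = b / b' := by
      rw [map_div₀]
      conv_rhs => rw [h1, h1']
      rw [mul_div_mul_left _ _ hax]
    rcases hfixσ _ h2 with h3 | h3
    · exact absurd h3 (div_ne_zero hb0 hb'0)
    · exact (div_eq_one_iff_eq hb'0).mp h3
  have hQR1 : ∀ x ∈ R, x ∉ h.R0 → h.Q x = 0 := by
    intro x hx hx0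
    apply hδinj x hx hx0
    rw [h.key, h.f_self, map_zero, add_zero]
  have hfx : ∀ x ∈ R, x ∉ h.R0 → ∀ z, h.δ x (h.f x z) = h.f x z := by
    intro x hx hx0 z
    have h1 := h.key x z
    rw [hQR1 x hx hx0, map_zero] at h1
    rw [eq_neg_of_add_eq_zero_right h1.symm, CharTwo.neg_eq]
  have hmulR0 : ∀ x ∈ h.R0, ∀ y, y ∉ h.R0 → x * y ∉ h.R0 := by
    intro x hx y hy hxy
    exact hy ((Subgroup.mul_mem_cancel_left _ hx).mp hxy)
  obtain ⟨c₀, hc₀⟩ : ∃ c : Fˣ, c ≠ 1 := by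
    by_contra hc
    push Not at hc
    have h7 : Subsingleton Fˣ := ⟨fun c d => by rw [hc c, hc d]⟩
    have h8 : Nat.card Fˣ ≤ 1 := Finite.card_le_one_iff_subsingleton.mpr h7
    rw [Nat.card_units] at h8
    have := h.sz.card
    omega
  have hQR0 : ∀ x ∈ h.R0, h.Q x = 0 := by
    intro x hx
    have h1 : ∀ y ∈ R, y ∉ h.R0 → h.δ y (h.Q x) = h.Q x := by
      intro y hy hy0
      have h2 := h.Q_mul x y
      rw [hQR1 (x * y) (R.mul_mem (hR0R hx) hy) (hmulR0 x hx y hy0), hQR1 y hy hy0, add_zero] at h2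
      have h3 := h.key x y
      rw [show h.δ x = 0 from hx, AddMonoidHom.zero_apply, add_zero] at h3
      rw [h3, eq_neg_of_add_eq_zero_right h2.symm, CharTwo.neg_eq]
    by_contra hQ
    have hcy : ρ c₀ y₀ ∈ R := hRinv _ _ hy₀R
    have hcy0 : ρ c₀ y₀ ∉ h.R0 := by
      intro hc
      have := h.R0_inv c₀⁻¹ hc
      rw [map_inv, MulAut.inv_apply_self] at this
      exact hy₀ this
    have h2 := h1 y₀ hy₀R hy₀
    have h3 := h1 _ hcy hcy0
    have h4 := ha ⟨y₀, hy₀R⟩ (h.Q x)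
    have h5 := ha ⟨_, hcy⟩ (h.Q x)
    rw [show h.δ ((⟨y₀, hy₀R⟩ : R) : P) = h.δ y₀ from rfl, h2] at h4
    rw [show h.δ ((⟨ρ c₀ y₀, hcy⟩ : R) : P) = h.δ (ρ c₀ y₀) from rfl, h3] at h5
    have h6 := haact c₀ ⟨y₀, hy₀R⟩
    have h6' : a ⟨ρ c₀ y₀, hcy⟩ = (c₀ : F) / σ c₀ * a ⟨y₀, hy₀R⟩ := h6
    rw [h6', mul_assoc, ← h4] at h5
    have h7 : (c₀ : F) / σ c₀ = 1 := by
      have h8 : ((c₀ : F) / σ c₀ - 1) * h.Q x = 0 := by
        rw [sub_mul, ← h5, one_mul, sub_self]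
      rcases mul_eq_zero.mp h8 with h9 | h9
      · exact sub_eq_zero.mp h9
      · exact absurd h9 hQ
    apply hc₀
    apply hinj
    rw [h7, Units.val_one, map_one, div_one]
  have hfR0 : ∀ x ∈ h.R0, ∀ z, h.f x z = 0 := by
    intro x hx z
    have h1 := h.key x z
    rw [hQR0 x hx, map_zero, show h.δ x = 0 from hx, AddMonoidHom.zero_apply, add_zero] at h1
    exact h1.symm
  -- dichotomy
  have hdich : ∀ z, z ∉ h.Dz R → ∀ x ∈ R, x ∉ h.R0 → h.f x z ≠ 0 := by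
    intro z hz x₂ hx₂ hx₂0 hf₂
    have hz' : ∃ x ∈ R, h.f x z ≠ 0 := by
      by_contra hc
      push Not at hc
      exact hz hc
    obtain ⟨x₁, hx₁, hf₁⟩ := hz'
    have hx₁0 : x₁ ∉ h.R0 := fun hc => hf₁ (hfR0 x₁ hc z)
    have h1 : h.f (x₁ * x₂) z = h.f x₁ z := by rw [h.f_mul_left, hf₂, add_zero]
    have h2 : x₁ * x₂ ∉ h.R0 := by
      intro hc
      rw [hfR0 _ hc] at h1
      exact hf₁ h1.symm
    have h3 := hfx _ (R.mul_mem hx₁ hx₂) h2 z
    rw [h1, h.δ_mul, AddMonoidHom.add_apply, hfx x₁ hx₁ hx₁0] at h3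
    exact hf₁ (hδinj x₂ hx₂ hx₂0 _ (left_eq_add.mp h3.symm))
  have hidx : ∀ z z', z ∉ h.Dz R → z' ∉ h.Dz R → z * z' ∈ h.Dz R := by
    intro z z' hz hz' x hx
    rw [h.f_mul_right]
    by_cases hx0 : x ∈ h.R0
    · rw [hfR0 x hx0, hfR0 x hx0, add_zero]
    · rw [hfix x hx hx0 (h.f x z) (h.f x z') (hfx x hx hx0 z) (hfx x hx hx0 z')
        (hdich z hz x hx hx0) (hdich z' hz' x hx hx0)]
      exact CharTwo.add_self_eq_zero _
  have hDinv : ∀ c, ∀ z ∈ h.Dz R, ρ c z ∈ h.Dz R := by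
    intro c z hz x hx
    have h1 := h.f_act c (ρ c⁻¹ x) z
    rw [hz _ (hRinv _ _ hx), mul_zero, map_inv, MulAut.apply_inv_self] at h1
    exact h1
  have hDtop : ∀ z, z ∈ h.Dz R := by
    intro z
    by_contra hz
    have hcz : ρ c₀ z ∉ h.Dz R := by
      intro hc
      have := hDinv c₀⁻¹ _ hc
      rw [map_inv, MulAut.inv_apply_self] at this
      exact hz this
    apply hz
    apply h.sz.section_fix hDinv hc₀
    have h1 : z⁻¹ * ρ c₀ z = (z * z)⁻¹ * (z * ρ c₀ z) := by group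
    rw [h1]
    exact mul_mem (inv_mem (hidx z z hz hz)) (hidx z _ hz hcz)
  obtain ⟨w, hw⟩ := h.exists_Q_ne_zero
  apply hw
  apply hδinj y₀ hy₀R hy₀
  have h1 := h.key w y₀
  rw [h.f_comm, hDtop w y₀ hy₀R, map_zero, add_zero] at h1
  exact h1

theorem f_eq_zero (x z : P) : h.f x z = 0 := by
  have h1 := h.key x z
  rw [h.δ_eq_zero z, h.δ_eq_zero x, AddMonoidHom.zero_apply, AddMonoidHom.zero_apply,
    add_zero] at h1
  exact h1.symm

end StB

end Cfsg.Agent.H20.SZ
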