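import Cfsg.Agent.H20.SZ5

/-!
Two-groups with a cyclic group of automorphisms regular on involutions: Higman's theorem.
-/

set_option autoImplicit false
set_option linter.style.haveILetI false

namespace Cfsg.Agent.H20.SZ

/-- An alternating equivariant product on a group with an additive map onto the field whose
kernel is in the radical vanishes. -/
theorem K2' {F : Type*} [Field F] [Finite F] [CharP F 2] {P : Type*} [Group P]
    (ρ : Fˣ →* MulAut P) (hq : 2 < Nat.card F) (Q : P → F)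
    (hQmul : ∀ x y, Q (x * y) = Q x + Q y) (hQact : ∀ (c : Fˣ) x, Q (ρ c x) = c * Q x)
    (hQsurj : ∀ b, ∃ x, Q x = b) (g : P → P → F)
    (g_mul_left : ∀ x y z, g (x * y) z = g x z + g y z)
    (g_mul_right : ∀ x y z, g x (y * z) = g x y + g x z)
    (g_act : ∀ (c : Fˣ) x z, g (ρ c x) (ρ c z) = c * g x z) (g_self : ∀ x, g x x = 0)
    (g_ker : ∀ x, Q x = 0 → ∀ z, g x z = 0) (x z : P) : g x z = 0 := by
  classical
  have g_comm : ∀ x z, g z x = g x z := by
    intro x z
    have h1 := g_self (x * z)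
    rw [g_mul_left, g_mul_right, g_mul_right, g_self, g_self, zero_add, add_zero] at h1
    rw [eq_neg_of_add_eq_zero_right h1, CharTwo.neg_eq]
  have hQ1 : Q 1 = 0 := by
    have := hQmul 1 1
    rw [mul_one] at this
    exact left_eq_add.mp this
  have hQinv : ∀ x, Q x⁻¹ = - Q x := by
    intro x
    have := hQmul x⁻¹ x
    rw [inv_mul_cancel, hQ1] at this
    exact eq_neg_of_add_eq_zero_left this.symm
  have hcongr : ∀ x x', Q x = Q x' → ∀ z, g x z = g x' z := by
    intro x x' hxx z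
    have h1 : x' = x * (x⁻¹ * x') := by group
    rw [h1, g_mul_left, g_ker (x⁻¹ * x') (by rw [hQmul, hQinv, hxx, neg_add_cancel]), add_zero]
  have hcongr' : ∀ z z', Q z = Q z' → ∀ x, g x z = g x z' := by
    intro z z' hzz x
    rw [← g_comm, hcongr z z' hzz, g_comm]
  choose t ht using hQsurj
  let G : F → F →+ F := fun a =>
    { toFun := fun b => g (t a) (t b)
      map_zero' := by
        show g (t a) (t 0) = 0
        rw [← g_comm, g_ker _ (ht 0)]
      map_add' := fun b b' => by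
        show g (t a) (t (b + b')) = _
        rw [hcongr' (t (b + b')) (t b * t b') (by rw [hQmul, ht, ht, ht]), g_mul_right] }
  have hG : ∀ a b, G a b = g (t a) (t b) := fun _ _ => rfl
  have h1 := K2 hq G (by
      intro a a'
      ext b
      rw [AddMonoidHom.add_apply, hG, hG, hG,
        hcongr (t (a + a')) (t a * t a') (by rw [hQmul, ht, ht, ht]), g_mul_left])
    (by
      intro c a b
      rw [hG, hG, hcongr (t (c * a)) (ρ c (t a)) (by rw [hQact, ht, ht]),
        hcongr' (t (c * b)) (ρ c (t b)) (by rw [hQact, ht, ht]), g_act])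
    (by intro a; rw [hG, g_self]) (Q x)
  have h2 := DFunLike.congr_fun h1 (Q z)
  rw [hG, AddMonoidHom.zero_apply, hcongr (t (Q x)) x (ht _), hcongr' (t (Q z)) z (ht _)] at h2
  exact h2

namespace StB

variable {F : Type*} [Field F] {P : Type*} [Group P] {ρ : Fˣ →* MulAut P} {e : F → P} {k : ℕ}
  (h : StB ρ e k)
include h

theorem Q_add (x y : P) : h.Q (x * y) = h.Q x + h.Q y := by
  rw [h.Q_mul, h.f_eq_zero, add_zero]

theorem Q_Sqs {u : P} (hu : u ∈ Sqs P) : h.Q u = 0 := by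
  rw [h.Q_def, ← pow_succ_two', show k + 1 + 1 = k + 2 from rfl, h.kill u hu, h.sz.lg_one]

/-- The kernel of `Q`. -/
def KQ : Subgroup P where
  carrier := {x | h.Q x = 0}
  one_mem' := h.Q_Sqs (one_mem _)
  mul_mem' := fun {x y} (hx : h.Q x = 0) (hy : h.Q y = 0) => by
    show h.Q (x * y) = 0
    rw [h.Q_add, hx, hy, add_zero]
  inv_mem' := fun {x} (hx : h.Q x = 0) => by
    show h.Q x⁻¹ = 0
    have h1 := h.Q_add x⁻¹ x
    rw [inv_mul_cancel, h.Q_Sqs (one_mem _), hx, add_zero] at h1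
    exact h1.symm

theorem mem_KQ {x : P} : x ∈ h.KQ ↔ h.Q x = 0 := Iff.rfl

theorem KQ_inv (c : Fˣ) : ∀ x ∈ h.KQ, ρ c x ∈ h.KQ := fun x hx => by
  show h.Q (ρ c x) = 0
  rw [h.Q_act, show h.Q x = 0 from hx, mul_zero]

theorem KQ_ne_top : h.KQ ≠ ⊤ := by
  intro hc
  obtain ⟨x, hx⟩ := h.exists_Q_ne_zero
  have : x ∈ h.KQ := by rw [hc]; trivial
  exact hx this

theorem Z1_le_Sqs {x : P} (hx : x ∈ h.sz.Z1) : x ∈ Sqs P := by
  obtain ⟨b, rfl⟩ := (h.sz.sq x).mp hx
  obtain ⟨v, hv, hv1⟩ := h.ex_pow (Nat.zero_le _) b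
  rw [pow_zero, pow_one] at hv1
  rw [← hv1]; exact hv

theorem KQ_ne_bot : h.KQ ≠ ⊥ := by
  intro hc
  have h1 : e 1 ∈ h.KQ := h.Q_Sqs (h.Z1_le_Sqs (h.sz.e_sq 1))
  rw [hc, Subgroup.mem_bot, h.sz.e_eq_one] at h1
  exact one_ne_zero h1

theorem Q_surj (b : F) : ∃ x, h.Q x = b := by
  by_cases hb : b = 0
  · exact ⟨1, by rw [h.Q_Sqs (one_mem _), hb]⟩
  obtain ⟨x, hx⟩ := h.exists_Q_ne_zero
  refine ⟨ρ (Units.mk0 (b / h.Q x) (div_ne_zero hb hx)) x, ?_⟩
  rw [h.Q_act, Units.val_mk0, div_mul_cancel₀ _ hx]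

theorem KQ_le (hIH : (∀ x y : h.KQ, x * y = y * x) ∨ (∀ x : h.KQ, x ^ 4 = 1)) :
    h.KQ ≤ Sqs P := by
  have hSR : ∀ u ∈ Sqs P, u ∈ h.KQ := fun u hu => h.Q_Sqs hu
  rcases hIH with hc | h4
  · have h1 : ∀ j, j ≤ k + 2 → ∀ x ∈ h.KQ, x ^ 2 ^ j = 1 → x ∈ Sqs P := by
      intro j
      induction j with
      | zero =>
        intro _ x _ hx
        rw [pow_zero, pow_one] at hx
        rw [hx]; exact one_mem _
      | succ j ih =>
        intro hj x hxR hx
        rw [pow_succ_two] at hx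
        obtain ⟨b, hb⟩ := (h.sz.sq _).mp hx
        obtain ⟨u, hu, hu1⟩ := h.ex_pow (show j ≤ k + 1 by omega) b
        have hcm : Commute x u⁻¹ := by
          have := hc ⟨x, hxR⟩ ⟨u⁻¹, inv_mem (hSR u hu)⟩
          exact congrArg Subtype.val this
        have h2 := ih (by omega) (x * u⁻¹) (mul_mem hxR (inv_mem (hSR u hu))) (by
          rw [hcm.mul_pow, inv_pow, hu1, ← hb, mul_inv_cancel])
        have h3 := mul_mem h2 hu
        rwa [inv_mul_cancel_right] at h3
    intro x hx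
    refine h1 (k + 2) le_rfl x hx ?_
    rw [show k + 2 = k + 1 + 1 from rfl, pow_succ_two']
    exact (h.lg_eq_zero_top (sq_mem_Sqs x)).mp hx
  · have hk : k = 0 := by
      by_contra hk
      obtain ⟨j, rfl⟩ := Nat.exists_eq_succ_of_ne_zero hk
      obtain ⟨u, hu, hu1⟩ := h.top
      apply hu1
      have h5 : u ^ 4 = 1 := congrArg Subtype.val (h4 ⟨u, hSR u hu⟩)
      have h6 : (2 : ℕ) ^ (Nat.succ j + 1) = 4 * 2 ^ j := by
        rw [Nat.succ_eq_add_one, pow_succ, pow_succ]; ring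
      rw [h6, pow_mul, h5, one_pow]
    subst hk
    intro x hx
    have h5 : x ^ 4 = 1 := congrArg Subtype.val (h4 ⟨x, hx⟩)
    have h6 : (x * x) * (x * x) = 1 := by
      rw [← h5, ← pow_two, ← pow_two, ← pow_mul]
    obtain ⟨b, hb⟩ := (h.sz.sq _).mp h6
    obtain ⟨u, hu, hu1⟩ := h.ex_pow (show 1 ≤ 0 + 1 by omega) b
    rw [pow_one, pow_two] at hu1
    have hcen : ∀ y, br u y = 1 := by
      intro y
      have h7 := h.δ_spec hu y
      rw [h.δ_eq_zero, AddMonoidHom.zero_apply, pow_zero, pow_one] at h7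
      have h8 := h.Z1_br hu y
      rw [pow_zero, pow_one] at h8
      exact (h.sz.lg_eq_zero h8).mp h7.symm
    have hcx := br_eq_one.mp (hcen x)
    have h7 : x * u⁻¹ ∈ h.sz.Z1 := by
      show x * u⁻¹ * (x * u⁻¹) = 1
      have h9 : u⁻¹ * x = x * u⁻¹ := by
        rw [inv_mul_eq_iff_eq_mul, ← mul_assoc, hcx, mul_inv_cancel_right]
      rw [mul_assoc, ← mul_assoc _ x, h9, ← mul_assoc, ← mul_assoc, ← hb, ← hu1]
      group
    have h8 := mul_mem (h.Z1_le_Sqs h7) hu
    rwa [inv_mul_cancel_right] at h8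

theorem descent (hK : h.KQ ≤ Sqs P) : ∀ j, j ≤ k + 1 → (∀ x y : P, (br x y) ^ 2 ^ j = 1) ∧
    (∀ i, j = i + 1 → ∀ v ∈ Sqs P, ∀ x, (br v x) ^ 2 ^ i = 1) := by
  haveI := h.sz.finF
  haveI := h.sz.charP
  intro j hj
  induction hj using Nat.decreasingInduction with
  | self =>
    refine ⟨fun x y => ?_, ?_⟩
    · exact (h.lg_eq_zero_top (br_mem_Sqs x y)).mp (h.f_eq_zero x y)
    · intro i hi v hv x
      obtain rfl : k = i := by omega
      have h7 := h.δ_spec hv x
      rw [h.δ_eq_zero, AddMonoidHom.zero_apply] at h7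
      exact (h.sz.lg_eq_zero (h.Z1_br hv x)).mp h7.symm
  | of_succ j hj ih =>
    obtain ⟨ih1, ih2⟩ := ih
    have ih3 := ih2 j rfl
    have hZ : ∀ x y, (br x y) ^ 2 ^ j ∈ h.sz.Z1 := fun x y => h.mem_Z1_of_pow (ih1 x y)
    have hg : ∀ x z, lg e ((br x z) ^ 2 ^ j) = 0 := by
      have hl : ∀ x y z, lg e ((br (x * y) z) ^ 2 ^ j) =
          lg e ((br x z) ^ 2 ^ j) + lg e ((br y z) ^ 2 ^ j) := by
        intro x y z
        rw [br_mul_left, h.mulPow (mul_mem (br_mem_Sqs _ _) (br_mem_Sqs _ _)) (br_mem_Sqs _ _),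
          h.mulPow (br_mem_Sqs _ _) (br_mem_Sqs _ _), ih3 _ (br_mem_Sqs _ _), mul_one,
          h.sz.lg_mul (hZ _ _) (hZ _ _)]
      have hc : ∀ x z, lg e ((br z x) ^ 2 ^ j) = lg e ((br x z) ^ 2 ^ j) := by
        intro x z
        rw [← br_inv, inv_pow]
        congr 1
        exact inv_eq_of_mul_eq_one_left (hZ x z)
      refine K2' ρ h.sz.card h.Q h.Q_add h.Q_act h.Q_surj (fun x z => lg e ((br x z) ^ 2 ^ j)) hl
        ?_ ?_ ?_ ?_
      · intro x y z
        show lg e ((br x (y * z)) ^ 2 ^ j) = lg e ((br x y) ^ 2 ^ j) + lg e ((br x z) ^ 2 ^ j)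
        rw [hc (y * z) x, hl, hc x y, hc x z]
      · intro c x z
        show lg e ((br (ρ c x) (ρ c z)) ^ 2 ^ j) = c * lg e ((br x z) ^ 2 ^ j)
        rw [← map_br, ← map_pow, h.sz.lg_act (hZ _ _)]
      · intro x
        show lg e ((br x x) ^ 2 ^ j) = 0
        rw [br_self, one_pow, h.sz.lg_one]
      · intro x hx z
        show lg e ((br x z) ^ 2 ^ j) = 0
        rw [ih3 x (hK hx), h.sz.lg_one]
    have h1 : ∀ x y : P, (br x y) ^ 2 ^ j = 1 := fun x y => (h.sz.lg_eq_zero (hZ x y)).mp (hg x y)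
    refine ⟨h1, ?_⟩
    intro i hi v hv x
    refine Subgroup.closure_induction (p := fun v _ => (br v x) ^ 2 ^ i = 1) ?_ ?_ ?_ ?_ hv
    · rintro _ ⟨y, rfl⟩
      show (br (y * y) x) ^ 2 ^ i = 1
      rw [br_mul_left, h.mulPow (mul_mem (br_mem_Sqs _ _) (br_mem_Sqs _ _)) (br_mem_Sqs _ _),
        h.mulPow (br_mem_Sqs _ _) (br_mem_Sqs _ _)]
      have h5 := h1 y x
      rw [hi] at h5
      rw [h.br_kill (br_mem_Sqs y x) h5 y, mul_one, ← pow_succ_two, h5]
    · simp [br]
    · intro v w hv hw h3 h4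
      rw [h.br_mul hv hw, h.mulPow (br_mem_Sqs _ _) (br_mem_Sqs _ _), h3, h4, mul_one]
    · intro v hv h3
      have h4 := h.br_mul hv (inv_mem hv) x
      rw [mul_inv_cancel, show br 1 x = 1 by simp [br]] at h4
      have h5 : br v⁻¹ x = (br v x)⁻¹ := eq_inv_of_mul_eq_one_right h4.symm
      rw [h5, inv_pow, h3, inv_one]

end StB

/-- **Higman's theorem**: a 2-group with a group of automorphisms regular on its involutions
is commutative or has exponent dividing four. -/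
theorem higman {F : Type*} [Field F] (n : ℕ) : ∀ {P : Type*} [Group P] {ρ : Fˣ →* MulAut P}
    {e : F → P}, IsSz ρ e → Nat.card P ≤ n →
    (∀ x y : P, x * y = y * x) ∨ (∀ x : P, x ^ 4 = 1) := by
  induction n with
  | zero =>
    intro P _ ρ e h hn
    haveI := h.finP
    have := Nat.card_pos (α := P)
    omega
  | succ n ih =>
    intro P _ ρ e h hn
    haveI := h.finP
    have hIH : ∀ R : Subgroup P, (∀ c, ∀ x ∈ R, ρ c x ∈ R) → R ≠ ⊥ → R ≠ ⊤ →
        (∀ x y : R, x * y = y * x) ∨ (∀ x : R, x ^ 4 = 1) := by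
      intro R hR hb ht
      obtain ⟨ρ', e', h', -, -⟩ := h.restrict hR hb
      refine ih h' ?_
      have h1 : Nat.card R < Nat.card P := by
        have h2 := Subgroup.card_le_card_group R
        rcases lt_or_eq_of_le h2 with h3 | h3
        · exact h3
        · exact absurd (Subgroup.eq_top_of_card_eq R h3) ht
      omega
    haveI : Nontrivial P := ⟨e 1, 1, fun hc => one_ne_zero (h.e_eq_one.mp hc)⟩
    have hSinv : ∀ c, ∀ x ∈ Sqs P, ρ c x ∈ Sqs P := fun c x hx => map_mem_Sqs (ρ c) hx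
    have hcomm : ∀ x ∈ Sqs P, ∀ y ∈ Sqs P, x * y = y * x := by
      by_cases hb : Sqs P = ⊥
      · intro x hx y hy
        rw [hb, Subgroup.mem_bot] at hx hy
        rw [hx, hy]
      · exact h.Sqs_comm (hIH _ hSinv hb (Sqs_ne_top h.two))
    by_cases hex : ∀ u ∈ Sqs P, u * u = 1
    · right
      intro x
      have h1 := hex _ (sq_mem_Sqs x)
      rw [← h1, ← pow_two, ← pow_two, ← pow_mul]
    push Not at hex
    left
    obtain ⟨u₀, hu₀, hu₀1⟩ := hex
    -- exponent of `Sqs P`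
    have hex2 : ∃ m, ∀ u ∈ Sqs P, u ^ 2 ^ m = 1 := by
      obtain ⟨m, hm⟩ := IsPGroup.iff_card.mp h.two
      refine ⟨m, fun u _ => ?_⟩
      rw [← hm]
      exact pow_card_eq_one'
    classical
    have hm1 := Nat.find_spec hex2
    have hm2 : 2 ≤ Nat.find hex2 := by
      by_contra hlt
      have h3 : Nat.find hex2 = 0 ∨ Nat.find hex2 = 1 := by omega
      rcases h3 with h3 | h3
      · have := hm1 u₀ hu₀
        rw [h3, pow_zero, pow_one] at this
        rw [this, mul_one] at hu₀1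
        exact hu₀1 rfl
      · have := hm1 u₀ hu₀
        rw [h3, pow_one, pow_two] at this
        exact hu₀1 this
    obtain ⟨k, hk⟩ := Nat.exists_eq_add_of_le' hm2
    have hB : StB ρ e k :=
      { sz := h
        comm := hcomm
        kill := by rw [← hk]; exact hm1
        top := by
          have h4 := Nat.find_min hex2 (show k + 1 < Nat.find hex2 by omega)
          push Not at h4
          exact h4 }
    have h5 := (hB.descent (hB.KQ_le (hIH _ hB.KQ_inv hB.KQ_ne_bot hB.KQ_ne_top)) 0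
      (Nat.zero_le _)).1
    intro x y
    have h6 := h5 x y
    rw [pow_zero, pow_one] at h6
    exact br_eq_one.mp h6

end Cfsg.Agent.H20.SZ
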