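import Cfsg.Agent.H20.SZ6
import Cfsg.Agent.H4.RegField

/-!
Suzuki 2-groups: construction of the field; center; order.
-/

set_option autoImplicit false
set_option linter.style.haveILetI false

namespace Cfsg.Agent.H20.SZ

theorem exists_isSz {P : Type*} [Group P] [Finite P] (hP : IsPGroup 2 P)
    (K : Subgroup (MulAut P)) (hK : ∀ a ∈ K, ∀ b ∈ K, a * b = b * a)
    (hreg : ∀ x y : P, x ≠ 1 → x * x = 1 → y ≠ 1 → y * y = 1 → ∃! k : K, (k : MulAut P) x = y)
    (hex : ∃ x y : P, x ≠ y ∧ x ≠ 1 ∧ x * x = 1 ∧ y ≠ 1 ∧ y * y = 1) :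
    ∃ (F : Type) (_ : Field F) (ρ : Fˣ →* MulAut P) (e : F → P), IsSz ρ e ∧
      (∀ k ∈ K, ∃ u, ρ u = k) ∧ ∀ u, ρ u ∈ K := by
  classical
  haveI : Fact (Nat.Prime 2) := ⟨Nat.prime_two⟩
  obtain ⟨x₀, y₀, hxy, hx₀, hx₀2, hy₀, hy₀2⟩ := hex
  -- involutions are central
  have hcen : ∀ x : P, x * x = 1 → ∀ y, y * x = x * y := by
    intro x hx y
    by_cases hx1 : x = 1
    · rw [hx1, mul_one, one_mul]
    haveI : Nontrivial P := ⟨x₀, 1, hx₀⟩
    haveI := hP.center_nontrivial
    have h1 : IsPGroup 2 (Subgroup.center P) := hP.to_subgroup _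
    obtain ⟨n, hn⟩ := IsPGroup.iff_card.mp h1
    have h2 : 2 ∣ Nat.card (Subgroup.center P) := by
      have h3 : 1 < Nat.card (Subgroup.center P) := Finite.one_lt_card
      rw [hn] at h3 ⊢
      have : n ≠ 0 := by rintro rfl; simp at h3
      exact dvd_pow_self 2 this
    obtain ⟨z, hz⟩ := exists_prime_orderOf_dvd_card' 2 h2
    have hz2 : (z : P) * z = 1 := by
      have := pow_orderOf_eq_one z
      rw [hz, pow_two] at this
      exact congrArg Subtype.val this
    have hz1 : (z : P) ≠ 1 := by
      intro h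
      have : z = 1 := Subtype.ext h
      rw [this, orderOf_one] at hz
      omega
    obtain ⟨k, hk, -⟩ := hreg z x hz1 hz2 hx1 hx
    have h5 : y = (k : MulAut P) ((k : MulAut P)⁻¹ y) := by simp
    have hk' : (k : MulAut P) (z : P) = x := hk
    rw [h5, ← hk', ← map_mul, ← map_mul, Subgroup.mem_center_iff.mp z.2]
  -- the group of involutions
  let Z : Subgroup P :=
    { carrier := {x | x * x = 1}
      one_mem' := mul_one 1
      mul_mem' := fun {x y} (hx : x * x = 1) (hy : y * y = 1) => by
        show x * y * (x * y) = 1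
        rw [mul_assoc, ← mul_assoc y, ← hcen y hy x, mul_assoc, hy, mul_one, hx]
      inv_mem' := fun {x} (hx : x * x = 1) => by
        show x⁻¹ * x⁻¹ = 1
        rw [← mul_inv_rev, hx, inv_one] }
  have hmem : ∀ x, x ∈ Z ↔ x * x = 1 := fun x => Iff.rfl
  letI : CommGroup Z := { (inferInstance : Group Z) with
    mul_comm := fun x y => Subtype.ext (hcen y y.2 x) }
  let c : K → AddMonoid.End (Additive Z) := fun k =>
    { toFun := fun a => Additive.ofMul ⟨(k : MulAut P) (a.toMul : P), by
        have h1 : (a.toMul : P) * a.toMul = 1 := a.toMul.2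
        rw [hmem, ← map_mul, h1, map_one]⟩
      map_zero' := by
        apply Additive.toMul.injective
        apply Subtype.ext
        exact map_one (k : MulAut P)
      map_add' := fun a b => by
        apply Additive.toMul.injective
        apply Subtype.ext
        exact map_mul (k : MulAut P) _ _ }
  have hc : ∀ k a, (((c k) a).toMul : P) = (k : MulAut P) (a.toMul : P) := fun _ _ => rfl
  have hx₀Z : x₀ ∈ Z := hx₀2
  obtain ⟨F, instF, instFF, E, hE1, hE⟩ := H4.exists_field_of_regular (A := Additive Z) c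
    (Additive.ofMul ⟨x₀, hx₀Z⟩)
    (by
      intro h
      apply hx₀
      exact congrArg (fun a : Additive Z => ((a.toMul : Z) : P)) h)
    (by
      intro i j
      ext a
      show (i : MulAut P) ((j : MulAut P) (a.toMul : P)) = (j : MulAut P) ((i : MulAut P) _)
      exact DFunLike.congr_fun (hK i i.2 j j.2) _)
    (by
      intro a ha
      have h1 : ((a.toMul : Z) : P) ≠ 1 := by
        intro h
        apply ha
        apply Additive.toMul.injective
        exact Subtype.ext h
      obtain ⟨k, hk, -⟩ := hreg x₀ _ hx₀ hx₀2 h1 a.toMul.2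
      refine ⟨k, ?_⟩
      apply Additive.toMul.injective
      apply Subtype.ext
      exact hk)
    (by
      intro k a b hab
      apply Additive.toMul.injective
      apply Subtype.ext
      apply (k : MulAut P).injective
      exact congrArg (fun a : Additive Z => ((a.toMul : Z) : P)) hab)
  let e : F → P := fun a => ((E a).toMul : Z)
  have he1 : e 1 = x₀ := congrArg (fun a : Additive Z => ((a.toMul : Z) : P)) hE1
  have heinj : Function.Injective e := by
    intro a b hab
    apply E.injective
    apply Additive.toMul.injective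
    exact Subtype.ext hab
  have he0 : e 0 = 1 := by
    show ((E 0).toMul : P) = 1
    rw [map_zero]; rfl
  have hene : ∀ a, a ≠ 0 → e a ≠ 1 := by
    intro a ha h
    rw [← he0] at h
    exact ha (heinj h)
  have hesq : ∀ a, e a * e a = 1 := fun a => (E a).toMul.2
  have hact : ∀ k : K, ∃ s : F, s ≠ 0 ∧ ∀ a, (k : MulAut P) (e a) = e (s * a) := by
    intro k
    obtain ⟨s, hs0, hs⟩ := hE k
    exact ⟨s, hs0, fun a => congrArg (fun a : Additive Z => ((a.toMul : Z) : P)) (hs a)⟩
  choose κ hκ hκu using fun u : Fˣ => hreg x₀ (e u) hx₀ hx₀2 (hene u u.ne_zero) (hesq u)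
  have hκe : ∀ u a, (κ u : MulAut P) (e a) = e (u * a) := by
    intro u a
    obtain ⟨s, hs0, hs⟩ := hact (κ u)
    have h1 := hs 1
    rw [he1, show (κ u : MulAut P) x₀ = e u from hκ u, mul_one] at h1
    rw [hs, heinj h1]
  have hκuniq : ∀ (u : Fˣ) (k : K), (k : MulAut P) x₀ = e u → k = κ u := fun u k hk => hκu u k hk
  let ρ : Fˣ →* MulAut P :=
    { toFun := fun u => (κ u : MulAut P)
      map_one' := by
        have := hκuniq 1 1 (by rw [Units.val_one, he1]; rfl)
        rw [← this]; rfl
      map_mul' := fun u v => by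
        have := hκuniq (u * v) (κ u * κ v) (by
          show (κ u : MulAut P) ((κ v : MulAut P) x₀) = _
          rw [show (κ v : MulAut P) x₀ = e v from hκ v, hκe, Units.val_mul])
        rw [← this]; rfl }
  refine ⟨F, instF, ρ, e, ?_, ?_, fun u => (κ u).2⟩
  · exact
      { finF := inferInstance
        finP := inferInstance
        two := hP
        card := by
          obtain ⟨a, ha⟩ : ∃ a, e a = y₀ := by
            refine ⟨E.symm (Additive.ofMul ⟨y₀, hy₀2⟩), ?_⟩
            show ((E (E.symm _)).toMul : P) = y₀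
            rw [AddEquiv.apply_symm_apply]; rfl
          have h01 : (0 : F) ≠ 1 := zero_ne_one
          have ha0 : a ≠ 0 := by
            rintro rfl
            rw [he0] at ha
            exact hy₀ ha.symm
          have ha1 : a ≠ 1 := by
            rintro rfl
            rw [he1] at ha
            exact hxy ha
          rw [Nat.card_eq_fintype_card]
          have h3 : ({0, 1, a} : Finset F).card = 3 := by
            rw [Finset.card_insert_of_notMem, Finset.card_pair (Ne.symm ha1)]
            simp only [Finset.mem_insert, Finset.mem_singleton, not_or]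
            exact ⟨h01, Ne.symm ha0⟩
          have h4 := Finset.card_le_univ ({0, 1, a} : Finset F)
          omega
        add := fun a b => by
          show ((E (a + b)).toMul : P) = _
          rw [map_add]; rfl
        inj := heinj
        sq := fun x => by
          constructor
          · intro hx
            refine ⟨E.symm (Additive.ofMul ⟨x, hx⟩), ?_⟩
            show ((E (E.symm _)).toMul : P) = x
            rw [AddEquiv.apply_symm_apply]; rfl
          · rintro ⟨a, rfl⟩
            exact hesq a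
        act := hκe }
  · intro k hk
    obtain ⟨s, hs0, hs⟩ := hact ⟨k, hk⟩
    refine ⟨Units.mk0 s hs0, ?_⟩
    have := hκuniq (Units.mk0 s hs0) ⟨k, hk⟩ (by
      rw [← he1, hs, mul_one]; rfl)
    show (κ (Units.mk0 s hs0) : MulAut P) = k
    rw [← this]

namespace IsSz

variable {F : Type*} [Field F] {P : Type*} [Group P] {ρ : Fˣ →* MulAut P} {e : F → P}
  (h : IsSz ρ e)
include h

theorem pow_four (hne : ∃ x y : P, x * y ≠ y * x) (x : P) : x ^ 4 = 1 := by
  rcases higman _ h le_rfl with h1 | h1
  · obtain ⟨x, y, hxy⟩ := hne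
    exact absurd (h1 x y) hxy
  · exact h1 x

theorem sq_mem (h4 : ∀ x : P, x ^ 4 = 1) (x : P) : x * x ∈ h.Z1 := by
  show x * x * (x * x) = 1
  rw [← h4 x, ← pow_two, ← pow_two, ← pow_mul]

theorem br_mem (h4 : ∀ x : P, x ^ 4 = 1) (x y : P) : br x y ∈ h.Z1 := by
  have h1 : Sqs P ≤ h.Z1 := Sqs_le fun x => h.sq_mem h4 x
  exact h1 (br_mem_Sqs x y)

theorem center_eq (hne : ∃ x y : P, x * y ≠ y * x) : Subgroup.center P = h.Z1 := by
  have h4 := h.pow_four hne
  apply le_antisymm
  · intro z hz
    by_contra hz1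
    obtain ⟨a, ha⟩ := (h.sq _).mp (h.sq_mem h4 z)
    have ha0 : a ≠ 0 := by
      rintro rfl
      rw [h.e_zero] at ha
      exact hz1 ha.symm
    obtain ⟨x, y, hxy⟩ := hne
    apply hxy
    obtain ⟨b, hb⟩ := (h.sq _).mp (h.sq_mem h4 x)
    by_cases hb0 : b = 0
    · have : x ∈ h.Z1 := by
        show x * x = 1
        rw [← hb, hb0, h.e_zero]
      exact (h.Z1_central this y).symm
    obtain ⟨c, hc⟩ := h.exists_act ha0 hb0
    have hcen : ∀ w, ρ c z * w = w * ρ c z := by
      intro w
      have h5 : w = ρ c (ρ c⁻¹ w) := by rw [map_inv]; simp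
      rw [h5, ← map_mul, ← map_mul, Subgroup.mem_center_iff.mp hz]
    have hsq : ρ c z * ρ c z = x * x := by rw [← map_mul, ← ha, hc, hb]
    have h6 : x * (ρ c z)⁻¹ ∈ h.Z1 := by
      show x * (ρ c z)⁻¹ * (x * (ρ c z)⁻¹) = 1
      have h9 : (ρ c z)⁻¹ * x = x * (ρ c z)⁻¹ := by
        rw [inv_mul_eq_iff_eq_mul, ← mul_assoc, hcen, mul_inv_cancel_right]
      rw [mul_assoc, ← mul_assoc _ x, h9, ← mul_assoc, ← mul_assoc, ← hsq]
      group
    have h7 : x = (x * (ρ c z)⁻¹) * ρ c z := by group
    rw [h7, mul_assoc, hcen, ← mul_assoc, ← h.Z1_central h6, mul_assoc]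
  · intro z hz
    rw [Subgroup.mem_center_iff]
    exact fun y => h.Z1_central hz y

end IsSz

end Cfsg.Agent.H20.SZ
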