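import Cfsg.Agent.H20.SZ7

/-!
Suzuki 2-groups: the order is `q ^ 2` or `q ^ 3`.
-/

set_option autoImplicit false
set_option linter.style.haveILetI false

namespace Cfsg.Agent.H20.SZ

open Finset

/-- A nontrivial sign character of the additive group of a field of characteristic two. -/
theorem exists_sign (F : Type*) [Field F] [Fintype F] [CharP F 2] :
    ∃ ε : F → ℤ, (∀ a b, ε (a + b) = ε a * ε b) ∧ (∀ a, ε a * ε a = 1) ∧ ε 0 = 1 ∧
      ε 1 = -1 ∧ ∑ a, ε a = 0 := by
  classical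
  letI : Algebra (ZMod 2) F := ZMod.algebra F 2
  obtain ⟨φ, hφ⟩ : ∃ φ : Module.Dual (ZMod 2) F, φ 1 ≠ 0 := by
    by_contra hc
    push Not at hc
    exact one_ne_zero ((Module.forall_dual_apply_eq_zero_iff (ZMod 2) (1 : F)).mp hc)
  have h2 : ∀ x : ZMod 2, x = 0 ∨ x = 1 := by decide
  have hφ1 : φ 1 = 1 := (h2 _).resolve_left hφ
  have hadd : ∀ x y : ZMod 2, (if x + y = 0 then (1 : ℤ) else -1) =
      (if x = 0 then 1 else -1) * (if y = 0 then 1 else -1) := by decide
  refine ⟨fun a => if φ a = 0 then 1 else -1, ?_, ?_, ?_, ?_, ?_⟩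
  · intro a b
    show (if φ (a + b) = 0 then (1 : ℤ) else -1) = _
    rw [map_add]
    exact hadd _ _
  · intro a
    show (if φ a = 0 then (1 : ℤ) else -1) * (if φ a = 0 then (1 : ℤ) else -1) = 1
    split_ifs <;> norm_num
  · show (if φ 0 = 0 then (1 : ℤ) else -1) = 1
    rw [map_zero, if_pos rfl]
  · show (if φ 1 = 0 then (1 : ℤ) else -1) = -1
    rw [if_neg hφ]
  · have h3 : ∑ a : F, (if φ a = 0 then (1 : ℤ) else -1) =
        ∑ a : F, (if φ (1 + a) = 0 then (1 : ℤ) else -1) :=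
      (Fintype.sum_equiv (Equiv.addLeft (1 : F)) _ _ fun a => rfl).symm
    have h4 : ∑ a : F, (if φ (1 + a) = 0 then (1 : ℤ) else -1) =
        - ∑ a : F, (if φ a = 0 then (1 : ℤ) else -1) := by
      rw [← sum_neg_distrib]
      refine sum_congr rfl fun a _ => ?_
      rw [map_add, hadd, hφ1]
      split_ifs <;> norm_num at *
    show ∑ a : F, (if φ a = 0 then (1 : ℤ) else -1) = 0
    linarith [h3.trans h4]

theorem pow_cases {P q n a R : ℕ} {S : ℤ} (hq : q = 2 ^ n) (hP : P = 2 ^ a) (hn : 1 < n)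
    (hS : (q - 1 : ℤ) * S = q ^ 2 - P) (hqP : q < P) (hR : ∃ r, R = 2 ^ r)
    (hS2 : S = 0 ∨ S ^ 2 = P * R) : P = q ^ 2 ∨ P = q ^ 3 := by
  by_cases hS0 : S = 0
  · left
    rw [hS0, mul_zero] at hS
    have : (P : ℤ) = q ^ 2 := by linarith
    exact_mod_cast this
  have hS2' := hS2.resolve_left hS0
  right
  obtain ⟨r, hr⟩ := hR
  have hSabs : ∃ s, S.natAbs = 2 ^ s := by
    have h1 : S.natAbs ^ 2 = 2 ^ (a + r) := by
      rw [← Int.natAbs_pow, hS2', hP, hr]
      rw [pow_add]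
      exact_mod_cast Int.natAbs_natCast _
    have h2 : S.natAbs ∣ 2 ^ (a + r) := by rw [← h1]; exact dvd_pow_self _ two_ne_zero
    obtain ⟨s, -, hs⟩ := (Nat.dvd_prime_pow Nat.prime_two).mp h2
    exact ⟨s, hs⟩
  obtain ⟨s, hs⟩ := hSabs
  have hq4 : 4 ≤ q := by
    rw [hq]
    calc 4 = 2 ^ 2 := by norm_num
      _ ≤ 2 ^ n := Nat.pow_le_pow_right (by norm_num) hn
  have hna : n < a := by
    rw [hq, hP] at hqP
    exact (Nat.pow_lt_pow_iff_right (by norm_num)).mp hqP
  -- if `S > 0`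
  rcases lt_or_gt_of_ne hS0 with hneg | hpos
  · -- `P > q ^ 2`
    have hSs : S = -(2 : ℤ) ^ s := by
      have h1 : S = -(S.natAbs : ℤ) := by omega
      rw [h1, hs]; push_cast; ring
    have h1 : ((2 : ℤ) ^ n - 1) * 2 ^ s = 2 ^ a - 2 ^ (2 * n) := by
      have h2 : ((q : ℤ)) = 2 ^ n := by rw [hq]; push_cast; ring
      have h3 : ((P : ℤ)) = 2 ^ a := by rw [hP]; push_cast; ring
      rw [hSs, h2, h3] at hS
      rw [pow_mul']
      linarith
    have h2n : 2 * n < a := by
      by_contra hc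
      push Not at hc
      have h3 : (2 : ℤ) ^ a ≤ 2 ^ (2 * n) := pow_le_pow_right₀ (by norm_num) hc
      have h4 : (0 : ℤ) < (2 ^ n - 1) * 2 ^ s := by
        apply mul_pos _ (by positivity)
        have : (2 : ℤ) ^ 1 ≤ 2 ^ n := pow_le_pow_right₀ (by norm_num) (by omega)
        linarith
      linarith
    obtain ⟨b, rfl⟩ := Nat.exists_eq_add_of_lt h2n
    have h5 : ((2 : ℕ) ^ n - 1) * 2 ^ s = 2 ^ (2 * n) * (2 ^ (b + 1) - 1) := by
      have h6 : 1 ≤ 2 ^ n := Nat.one_le_two_pow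
      have h7 : 1 ≤ 2 ^ (b + 1) := Nat.one_le_two_pow
      zify [h6, h7]
      rw [h1]
      rw [show 2 * n + b + 1 = 2 * n + (b + 1) by ring, pow_add]
      ring
    have hcop : Nat.Coprime (2 ^ n - 1) (2 ^ (2 * n)) := by
      apply Nat.Coprime.pow_right
      rw [Nat.coprime_two_right]
      exact Nat.Even.sub_odd Nat.one_le_two_pow ((Nat.even_pow.mpr ⟨even_two, by omega⟩)) odd_one
    have hcop2 : Nat.Coprime (2 ^ (b + 1) - 1) (2 ^ s) := by
      apply Nat.Coprime.pow_right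
      rw [Nat.coprime_two_right]
      exact Nat.Even.sub_odd Nat.one_le_two_pow ((Nat.even_pow.mpr ⟨even_two, by omega⟩)) odd_one
    have h8 : 2 ^ n - 1 ∣ 2 ^ (b + 1) - 1 :=
      hcop.dvd_of_dvd_mul_left (Dvd.intro _ h5)
    have h9 : 2 ^ (b + 1) - 1 ∣ 2 ^ n - 1 :=
      hcop2.dvd_of_dvd_mul_right (Dvd.intro_left _ h5.symm)
    have h10 := Nat.dvd_antisymm h8 h9
    have h11 : 2 ^ n = 2 ^ (b + 1) := by
      have h6 : 1 ≤ 2 ^ n := Nat.one_le_two_pow
      have h7 : 1 ≤ 2 ^ (b + 1) := Nat.one_le_two_pow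
      omega
    have h12 := Nat.pow_right_injective le_rfl h11
    rw [hP, hq, ← pow_mul]
    congr 1
    omega
  · have hSs : S = (2 : ℤ) ^ s := by
      have h1 : S = (S.natAbs : ℤ) := by omega
      rw [h1, hs]; push_cast; ring
    exfalso
    have h1 : ((2 : ℤ) ^ n - 1) * 2 ^ s = 2 ^ (2 * n) - 2 ^ a := by
      have h2 : ((q : ℤ)) = 2 ^ n := by rw [hq]; push_cast; ring
      have h3 : ((P : ℤ)) = 2 ^ a := by rw [hP]; push_cast; ring
      rw [hSs, h2, h3] at hS
      rw [pow_mul']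
      linarith
    have h2n : a < 2 * n := by
      by_contra hc
      push Not at hc
      have h3 : (2 : ℤ) ^ (2 * n) ≤ 2 ^ a := pow_le_pow_right₀ (by norm_num) hc
      have h4 : (0 : ℤ) < (2 ^ n - 1) * 2 ^ s := by
        apply mul_pos _ (by positivity)
        have : (2 : ℤ) ^ 1 ≤ 2 ^ n := pow_le_pow_right₀ (by norm_num) (by omega)
        linarith
      linarith
    obtain ⟨c, hc⟩ := Nat.exists_eq_add_of_lt h2n
    have h5 : ((2 : ℕ) ^ n - 1) * 2 ^ s = 2 ^ a * (2 ^ (c + 1) - 1) := by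
      have h6 : 1 ≤ 2 ^ n := Nat.one_le_two_pow
      have h7 : 1 ≤ 2 ^ (c + 1) := Nat.one_le_two_pow
      zify [h6, h7]
      rw [h1, hc]
      rw [show a + c + 1 = a + (c + 1) by ring, pow_add]
      ring
    have hcop : Nat.Coprime (2 ^ n - 1) (2 ^ a) := by
      apply Nat.Coprime.pow_right
      rw [Nat.coprime_two_right]
      exact Nat.Even.sub_odd Nat.one_le_two_pow ((Nat.even_pow.mpr ⟨even_two, by omega⟩)) odd_one
    have h8 : 2 ^ n - 1 ∣ 2 ^ (c + 1) - 1 :=
      hcop.dvd_of_dvd_mul_left (Dvd.intro _ h5)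
    have h9 := Nat.le_of_dvd (by
      have : 2 ^ 1 ≤ 2 ^ (c + 1) := Nat.pow_le_pow_right (by norm_num) (by omega)
      omega) h8
    have h10 : 2 ^ n ≤ 2 ^ (c + 1) := by
      have h7 : 1 ≤ 2 ^ (c + 1) := Nat.one_le_two_pow
      omega
    have h11 : n ≤ c + 1 := (Nat.pow_le_pow_iff_right (by norm_num)).mp h10
    omega

namespace IsSz

variable {F : Type*} [Field F] {P : Type*} [Group P] {ρ : Fˣ →* MulAut P} {e : F → P}
  (h : IsSz ρ e)
include h

theorem exists_card_F : ∃ n, 1 < n ∧ Nat.card F = 2 ^ n := by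
  haveI := h.finP
  haveI : Fact (Nat.Prime 2) := ⟨Nat.prime_two⟩
  obtain ⟨n, hn⟩ := IsPGroup.iff_card.mp (h.two.to_subgroup h.Z1)
  rw [h.card_Z1] at hn
  refine ⟨n, ?_, hn⟩
  have := h.card
  rw [hn] at this
  by_contra hc
  have h3 : n = 0 ∨ n = 1 := by omega
  rcases h3 with rfl | rfl <;> omega

theorem card_cases (h4 : ∀ x : P, x ^ 4 = 1) (hne : ∃ x : P, x * x ≠ 1) :
    Nat.card P = Nat.card F ^ 2 ∨ Nat.card P = Nat.card F ^ 3 := by
  classical
  haveI := h.finP
  haveI := h.finF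
  haveI := h.charP
  haveI : Fintype F := Fintype.ofFinite F
  haveI : Fintype P := Fintype.ofFinite P
  haveI : Fact (Nat.Prime 2) := ⟨Nat.prime_two⟩
  obtain ⟨n, hn, hq⟩ := h.exists_card_F
  obtain ⟨a, ha⟩ := IsPGroup.iff_card.mp h.two
  obtain ⟨ε, εadd, εsq, ε0, ε1, εsum⟩ := exists_sign F
  let ψ : P → ℤ := fun x => ε (lg e (x * x))
  let B : P → P → ℤ := fun x y => ε (lg e (br x y))
  have hψ : ∀ x, ψ x = ε (lg e (x * x)) := fun _ => rfl
  have hB : ∀ x y, B x y = ε (lg e (br x y)) := fun _ _ => rfl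
  have hZsq : ∀ x : P, x * x ∈ h.Z1 := h.sq_mem h4
  have hZbr : ∀ x y : P, br x y ∈ h.Z1 := h.br_mem h4
  have hbl : ∀ x y z : P, br (x * y) z = br x z * br y z := by
    intro x y z
    rw [br_mul_left, h.br_Z1_left (hZbr x z) y, mul_one]
  have hbr' : ∀ x y z : P, br x (y * z) = br x z * br x y := by
    intro x y z
    rw [br_mul_right, h.br_Z1_left (hZbr x y) z, mul_one]
  have hBl : ∀ x y z, B (x * y) z = B x z * B y z := by
    intro x y z
    rw [hB, hbl, h.lg_mul (hZbr _ _) (hZbr _ _), εadd]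
  have hBr : ∀ x y z, B x (y * z) = B x z * B x y := by
    intro x y z
    rw [hB, hbr', h.lg_mul (hZbr _ _) (hZbr _ _), εadd]
  have hbinv : ∀ x y : P, br x y⁻¹ = br x y := by
    intro x y
    have h1 := hbr' x y y⁻¹
    rw [mul_inv_cancel, show br x 1 = 1 by simp [br]] at h1
    have h2 : br x y * br x y = 1 := hZbr x y
    rw [eq_inv_of_mul_eq_one_left h1.symm]
    exact inv_eq_of_mul_eq_one_left h2
  have hψmul : ∀ x y, ψ (x * y) = ψ x * ψ y * B x y := by
    intro x y
    rw [hψ, mul_mul_self, hbinv, h.lg_mul (h.mul_self_mul (hZsq x) (hZbr x y)) (hZsq y),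
      h.lg_mul (hZsq x) (hZbr x y), εadd, εadd]
    rw [hψ, hψ, hB]; ring
  have hψsq : ∀ x, ψ x * ψ x = 1 := fun x => εsq _
  set S : ℤ := ∑ x : P, ψ x with hS
  -- first computation
  have hcardZ : (univ.filter fun x : P => x * x = 1).card = Nat.card F := by
    rw [← h.card_Z1, Nat.card_eq_fintype_card, Fintype.card_subtype]
    rfl
  have hcompl : ((univ.filter fun x : P => ¬ x * x = 1).card : ℤ) = Nat.card P - Nat.card F := by
    have h1 := Finset.card_filter_add_card_filter_not (s := (univ : Finset P))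
      (fun x : P => x * x = 1)
    rw [hcardZ, card_univ, ← Nat.card_eq_fintype_card] at h1
    rw [← h1]; push_cast; ring
  have hfirst : ((Nat.card F : ℤ) - 1) * S = (Nat.card F : ℤ) ^ 2 - Nat.card P := by
    have h1 : S = ∑ x ∈ univ.filter (fun x : P => x * x = 1), ψ x +
        ∑ x ∈ univ.filter (fun x : P => ¬ x * x = 1), ψ x :=
      (sum_filter_add_sum_filter_not _ _ _).symm
    have h2 : ∑ x ∈ univ.filter (fun x : P => x * x = 1), ψ x = Nat.card F := by
      rw [sum_congr rfl (g := fun _ => (1 : ℤ))]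
      · rw [sum_const, hcardZ]; simp
      · intro x hx
        rw [mem_filter] at hx
        rw [hψ, hx.2, h.lg_one, ε0]
    have h3 : ((Nat.card F : ℤ) - 1) * ∑ x ∈ univ.filter (fun x : P => ¬ x * x = 1), ψ x =
        ∑ c : Fˣ, ∑ x ∈ univ.filter (fun x : P => ¬ x * x = 1), ε (c * lg e (x * x)) := by
      have h5 : ∀ c : Fˣ, ∑ x ∈ univ.filter (fun x : P => ¬ x * x = 1), ε (c * lg e (x * x)) =
          ∑ x ∈ univ.filter (fun x : P => ¬ x * x = 1), ψ x := by
        intro c
        refine sum_bij' (fun x _ => ρ c x) (fun x _ => ρ c⁻¹ x) ?_ ?_ ?_ ?_ ?_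
        · intro x hx
          rw [mem_filter] at hx ⊢
          refine ⟨mem_univ _, ?_⟩
          rw [← map_mul]
          intro h7
          exact hx.2 ((MulEquiv.map_eq_one_iff _).mp h7)
        · intro x hx
          rw [mem_filter] at hx ⊢
          refine ⟨mem_univ _, ?_⟩
          rw [← map_mul]
          intro h7
          exact hx.2 ((MulEquiv.map_eq_one_iff _).mp h7)
        · intro x _
          rw [map_inv, MulAut.inv_apply_self]
        · intro x _
          rw [map_inv, MulAut.apply_inv_self]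
        · intro x _
          rw [hψ, ← map_mul, h.lg_act (hZsq x)]
      rw [sum_congr rfl (fun c _ => h5 c), sum_const, card_univ, ← Nat.card_eq_fintype_card,
        Nat.card_units, nsmul_eq_mul, Nat.cast_sub (by have := h.card; omega)]
      simp
    rw [sum_comm] at h3
    have h6 : ∀ b : F, b ≠ 0 → ∑ c : Fˣ, ε (c * b) = -1 := by
      intro b hb
      have h7 : ∑ c : Fˣ, ε (c * b) = ∑ c : Fˣ, ε c := by
        refine Fintype.sum_equiv (Equiv.mulRight (Units.mk0 b hb)) _ _ fun c => ?_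
        simp
      have h8 : ∑ c : Fˣ, ε c = ∑ x ∈ univ.erase (0 : F), ε x := by
        refine sum_bij (fun c _ => (c : F)) ?_ ?_ ?_ ?_
        · intro c _
          rw [mem_erase]; exact ⟨c.ne_zero, mem_univ _⟩
        · intro c _ d _ hcd
          exact Units.ext hcd
        · intro x hx
          rw [mem_erase] at hx
          exact ⟨Units.mk0 x hx.1, mem_univ _, rfl⟩
        · intro c _; rfl
      have h9 := Finset.add_sum_erase univ ε (mem_univ (0 : F))
      rw [εsum, ε0] at h9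
      rw [h7, h8]; linarith
    have h10 : ∑ x ∈ univ.filter (fun x : P => ¬ x * x = 1), ∑ c : Fˣ, ε (c * lg e (x * x)) =
        - ((Nat.card P : ℤ) - Nat.card F) := by
      rw [sum_congr rfl (g := fun _ => (-1 : ℤ))]
      · rw [sum_const, ← hcompl]; simp
      · intro x hx
        rw [mem_filter] at hx
        refine h6 _ fun h11 => hx.2 ((h.lg_eq_zero (hZsq x)).mp h11)
    rw [h1, mul_add, h2, h3, h10]
    ring
  -- second computation
  have hsecond : S ^ 2 = ∑ y : P, ψ y * ∑ x : P, B x y := by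
    have h1 : S ^ 2 = ∑ x : P, ∑ y : P, ψ x * ψ y := by
      rw [pow_two, hS, sum_mul_sum]
    rw [h1]
    have h2 : ∀ x : P, ∑ y : P, ψ x * ψ y = ∑ y : P, ψ y * B x y := by
      intro x
      rw [← Equiv.sum_comp (Equiv.mulLeft x)]
      refine sum_congr rfl fun y _ => ?_
      show ψ x * ψ (x * y) = _
      rw [hψmul, ← mul_assoc, ← mul_assoc, hψsq, one_mul]
    rw [sum_congr rfl fun x _ => h2 x, sum_comm]
    refine sum_congr rfl fun y _ => ?_
    rw [mul_sum]
  let R : Subgroup P :=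
    { carrier := {y | ∀ x, B x y = 1}
      one_mem' := fun x => by
        show B x 1 = 1
        rw [hB, show br x 1 = 1 by simp [br], h.lg_one, ε0]
      mul_mem' := fun {y z} hy hz x => by
        show B x (y * z) = 1
        rw [hBr, hy x, hz x, one_mul]
      inv_mem' := fun {y} hy x => by
        show B x y⁻¹ = 1
        rw [hB, hbinv, ← hB]
        exact hy x }
  have hR : ∀ y, y ∈ R ↔ ∀ x, B x y = 1 := fun _ => Iff.rfl
  have hε : ∀ b, ε b = 1 ∨ ε b = -1 := fun b => by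
    have h1 : (ε b - 1) * (ε b + 1) = 0 := by linarith [εsq b]
    rcases mul_eq_zero.mp h1 with h2 | h2
    · left; linarith
    · right; linarith
  have hnotR : ∀ y, y ∉ R → ∑ x : P, B x y = 0 := by
    intro y hy
    rw [hR] at hy
    push Not at hy
    obtain ⟨x₀, hx₀⟩ := hy
    have hx₀' : B x₀ y = -1 := (hε _).resolve_left hx₀
    have h1 : ∑ x : P, B x y = ∑ x : P, B (x₀ * x) y :=
      (Equiv.sum_comp (Equiv.mulLeft x₀) (fun x => B x y)).symm
    have h2 : ∑ x : P, B (x₀ * x) y = - ∑ x : P, B x y := by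
      rw [← sum_neg_distrib]
      refine sum_congr rfl fun x _ => ?_
      rw [hBl, hx₀']; ring
    linarith
  have hthird : S ^ 2 = Nat.card P * ∑ y : R, ψ y := by
    rw [hsecond]
    have h1 : ∀ y : P, ψ y * ∑ x : P, B x y = if y ∈ R then (Nat.card P : ℤ) * ψ y else 0 := by
      intro y
      split_ifs with hy
      · rw [sum_congr rfl (fun x _ => hy x), sum_const, card_univ, ← Nat.card_eq_fintype_card]
        simp; ring
      · rw [hnotR y hy, mul_zero]
    rw [sum_congr rfl fun y _ => h1 y, ← sum_filter, mul_sum]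
    refine (sum_subtype _ (fun y => ?_) _)
    simp
  have hψR : ∀ x y : R, ψ (x * y : P) = ψ x * ψ y := by
    intro x y
    rw [hψmul, y.2 x, mul_one]
  have hfourth : S = 0 ∨ S ^ 2 = (Nat.card P : ℤ) * (Nat.card R : ℕ) := by
    by_cases hall : ∀ y : R, ψ y = 1
    · right
      rw [hthird, sum_congr rfl (fun y _ => hall y), sum_const, card_univ,
        ← Nat.card_eq_fintype_card]
      simp
    · left
      push Not at hall
      obtain ⟨y₀, hy₀⟩ := hall
      have hy₀' : ψ y₀ = -1 := (hε _).resolve_left hy₀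
      have h1 : ∑ y : R, ψ y = ∑ y : R, ψ ((y₀ * y : R) : P) :=
        (Equiv.sum_comp (Equiv.mulLeft y₀) (fun x : R => ψ x)).symm
      have h2 : ∑ y : R, ψ ((y₀ * y : R) : P) = - ∑ y : R, ψ y := by
        rw [← sum_neg_distrib]
        refine sum_congr rfl fun x _ => ?_
        rw [Subgroup.coe_mul, hψR, hy₀']; ring
      have h3 : ∑ y : R, ψ y = 0 := by linarith
      rw [h3, mul_zero] at hthird
      exact pow_eq_zero_iff (two_ne_zero) |>.mp hthird
  obtain ⟨r, hr⟩ := IsPGroup.iff_card.mp (h.two.to_subgroup R)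
  refine pow_cases (R := Nat.card R) hq ha hn hfirst ?_ ⟨r, hr⟩ hfourth
  rw [← h.card_Z1]
  have h5 := Subgroup.card_le_card_group h.Z1
  rcases lt_or_eq_of_le h5 with h6 | h6
  · exact h6
  · exfalso
    obtain ⟨x, hx⟩ := hne
    apply hx
    have : x ∈ h.Z1 := by
      rw [Subgroup.eq_top_of_card_eq _ h6]; trivial
    exact this

end IsSz

end Cfsg.Agent.H20.SZ
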