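import Cfsg.Agent.H20.SZ8
import Cfsg.Prelude.Def_LieRecognition

/-!
Suzuki 2-groups: from the definition.
-/

set_option autoImplicit false
set_option linter.style.haveILetI false

namespace Cfsg.Agent.H20.SZ

theorem exists_of_isSuzukiTwoGroup {P : Type*} [Group P] (hP : Cfsg.IsSuzukiTwoGroup P) :
    ∃ (F : Type) (_ : Field F) (ρ : Fˣ →* MulAut P) (e : F → P), IsSz ρ e := by
  obtain ⟨hfin, h2, hne, hex, K, hK, hreg⟩ := hP
  obtain ⟨F, inst, ρ, e, h, -, -⟩ := exists_isSz h2 K (by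
    intro a ha b hb
    have := (IsCyclic.commGroup (α := K)).mul_comm ⟨a, ha⟩ ⟨b, hb⟩
    exact congrArg Subtype.val this) hreg hex
  exact ⟨F, inst, ρ, e, h⟩

end Cfsg.Agent.H20.SZ
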