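import Cfsg.Agent.H4.ZStarF
import Cfsg.Agent.H4.Isolated
import Cfsg.Agent.S0111
import Mathlib.GroupTheory.FixedPointFree

set_option autoImplicit false
set_option linter.unusedSectionVars false
set_option linter.style.haveILetI false
set_option linter.unusedVariables false
set_option linter.unusedSimpArgs false

/-! Groups with a central involution `t` whose centralizer is `Z₂ × S₄`: local structure. -/

namespace Cfsg.Agent.H20.TS

open Cfsg

abbrev S4 := Equiv.Perm (Fin 4)
abbrev X := Multiplicative (ZMod 2) × S4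

def v1 : S4 := Equiv.swap 0 1 * Equiv.swap 2 3
def v2 : S4 := Equiv.swap 0 2 * Equiv.swap 1 3
def sw : S4 := Equiv.swap 0 1
def rr : S4 := Equiv.swap 1 2 * Equiv.swap 2 3

def t0 : X := (Multiplicative.ofAdd 1, 1)
def z0 : X := (1, v1)
def v0 : X := (1, v2)
def s0 : X := (1, sw)
def r0 : X := (1, rr)

theorem F1 : ∀ x : X, x * z0 = z0 * x → ∀ y : X, y * z0 = z0 * y → x * y = y * x ∨ x * y = z0 * y * x := by
  decide +kernel

theorem F1' : s0 * v0 = z0 * v0 * s0 ∧ z0 ≠ 1 ∧ s0 * z0 = z0 * s0 ∧ v0 * z0 = z0 * v0 := by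
  decide +kernel

set_option synthInstance.maxSize 100000 in
set_option synthInstance.maxHeartbeats 400000 in
theorem F2 : ∀ x : X, x * z0 = z0 * x → x * x = 1 → x = 1 ∨ x = t0 ∨ x = z0 ∨ x = t0 * z0 ∨ x = v0 ∨ x = z0 * v0 ∨
    x = t0 * v0 ∨ x = t0 * (z0 * v0) ∨ x = s0 ∨ x = z0 * s0 ∨ x = t0 * s0 ∨ x = t0 * (z0 * s0) := by
  decide +kernel

theorem F3 : ∀ x : X, x * z0 = z0 * x → x * s0 = s0 * x → x = 1 ∨ x = t0 ∨ x = z0 ∨ x = t0 * z0 ∨
    x = s0 ∨ x = z0 * s0 ∨ x = t0 * s0 ∨ x = t0 * (z0 * s0) := by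
  decide +kernel

theorem F4 : ∀ x : X, x * t0 = t0 * x := by decide +kernel

theorem F5 : ∀ x : X, (∀ y : X, x * y = y * x) → x = 1 ∨ x = t0 := by decide +kernel

theorem F6 : r0 * z0 = v0 * r0 ∧ r0 * v0 = (z0 * v0) * r0 ∧ v0 * s0 = (z0 * s0) * v0 ∧ t0 * t0 = 1 ∧ z0 * z0 = 1 ∧ v0 * v0 = 1 ∧ s0 * s0 = 1
    ∧ t0 ≠ 1 := by
  decide +kernel

theorem cardC : Fintype.card {x : X // x * z0 = z0 * x} = 16 := by decide +kernel


/-- the twisting automorphism `(a, σ) ↦ (a · sgn σ, σ)` -/
def tw (x : X) : X := if Equiv.Perm.sign x.2 = 1 then x else (x.1 * Multiplicative.ofAdd 1, x.2)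

theorem tw_tw : ∀ x : X, tw (tw x) = x := by decide +kernel

theorem tw_mul (x y : X) : tw (x * y) = tw x * tw y := by
  have h2 : (Multiplicative.ofAdd (1 : ZMod 2)) * Multiplicative.ofAdd 1 = 1 := by decide
  unfold tw
  rcases Int.units_eq_one_or (Equiv.Perm.sign x.2) with hx | hx <;>
    rcases Int.units_eq_one_or (Equiv.Perm.sign y.2) with hy | hy
  · simp [hx, hy]
  · have : (-1 : ℤˣ) ≠ 1 := by decide
    simp only [Prod.snd_mul, map_mul, hx, hy, one_mul, if_neg this, if_true]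
    ext1
    · simp only [Prod.fst_mul, mul_assoc]
    · rfl
  · have : (-1 : ℤˣ) ≠ 1 := by decide
    simp only [Prod.snd_mul, map_mul, hx, hy, mul_one, if_neg this, if_true]
    ext1
    · simp only [Prod.fst_mul, mul_right_comm]
    · rfl
  · have : (-1 : ℤˣ) ≠ 1 := by decide
    have h1 : (-1 : ℤˣ) * -1 = 1 := by decide
    simp only [Prod.snd_mul, map_mul, hx, hy, h1, if_neg this, if_true]
    ext1
    · simp only [Prod.fst_mul]
      rw [mul_mul_mul_comm, h2, mul_one]
    · rfl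

def twE : X ≃* X where
  toFun := tw
  invFun := tw
  left_inv := tw_tw
  right_inv := tw_tw
  map_mul' := tw_mul

theorem tw_vals : tw t0 = t0 ∧ tw z0 = z0 ∧ tw v0 = v0 ∧ tw s0 = t0 * s0 := by decide +kernel

universe u
variable {G : Type u} [Group G]

/-- the configuration -/
structure Cf (t : G) (j : X →* G) : Prop where
  inj : Function.Injective j
  jt : j t0 = t
  cov : ∀ g, g * t = t * g → ∃ x, g = j x

theorem Cf.twist {t : G} {j : X →* G} (c : Cf t j) : Cf t (j.comp twE.toMonoidHom) where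
  inj := by
    intro x y h
    exact twE.injective (c.inj h)
  jt := by
    change j (tw t0) = t
    rw [tw_vals.1, c.jt]
  cov := by
    intro g hg
    obtain ⟨x, hx⟩ := c.cov g hg
    refine ⟨tw x, ?_⟩
    change g = j (tw (tw x))
    rw [tw_tw, hx]

theorem exists_cf {t : G} (ht : orderOf t = 2) (e : ↥(Subgroup.centralizer ({t} : Set G)) ≃* X) : ∃ j : X →* G, Cf t j := by
  refine ⟨(Subgroup.subtype _).comp e.symm.toMonoidHom, ?_, ?_, ?_⟩
  · intro x y h
    exact e.symm.injective (Subtype.ext h)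
  · have htC : t ∈ Subgroup.centralizer ({t} : Set G) := Subgroup.mem_centralizer_singleton_iff.mpr rfl
    have h1 : ∀ y : X, e ⟨t, htC⟩ * y = y * e ⟨t, htC⟩ := by
      intro y
      obtain ⟨g, rfl⟩ := e.surjective y
      rw [← map_mul, ← map_mul]
      congr 1
      apply Subtype.ext
      exact (Subgroup.mem_centralizer_singleton_iff.mp g.2).symm
    rcases F5 _ h1 with h2 | h2
    · exfalso
      have h3 : (⟨t, htC⟩ : Subgroup.centralizer ({t} : Set G)) = 1 := e.injective (by rw [h2, map_one])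
      have h4 : t = 1 := congrArg Subtype.val h3
      rw [h4, orderOf_one] at ht
      omega
    · change ((e.symm t0 : Subgroup.centralizer ({t} : Set G)) : G) = t
      rw [← h2, e.symm_apply_apply]
  · intro g hg
    refine ⟨e ⟨g, Subgroup.mem_centralizer_singleton_iff.mpr hg⟩, ?_⟩
    change g = ((e.symm _ : Subgroup.centralizer ({t} : Set G)) : G)
    rw [e.symm_apply_apply]

theorem Cf.comm {t : G} {j : X →* G} (c : Cf t j) (x : X) : j x * t = t * j x := by
  rw [← c.jt, ← map_mul, ← map_mul, F4]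

/-- the Sylow subgroup -/
def Tm (j : X →* G) : Subgroup G := (Subgroup.centralizer ({z0} : Set X)).map j

theorem mem_Tm {j : X →* G} {g : G} : g ∈ Tm j ↔ ∃ x : X, x * z0 = z0 * x ∧ j x = g := by
  unfold Tm
  rw [Subgroup.mem_map]
  constructor
  · rintro ⟨x, hx, rfl⟩
    exact ⟨x, Subgroup.mem_centralizer_singleton_iff.mp hx, rfl⟩
  · rintro ⟨x, hx, rfl⟩
    exact ⟨x, Subgroup.mem_centralizer_singleton_iff.mpr hx, rfl⟩

theorem Cf.cardT {t : G} {j : X →* G} (c : Cf t j) : Nat.card (Tm j) = 16 := by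
  unfold Tm
  rw [Subgroup.card_map_of_injective c.inj]
  rw [← cardC, Nat.card_eq_fintype_card.symm]
  apply Nat.card_congr
  exact Equiv.subtypeEquivRight (fun x => Subgroup.mem_centralizer_singleton_iff)

theorem Cf.cardC [Finite G] {t : G} {j : X →* G} (c : Cf t j) : Nat.card (Subgroup.centralizer ({t} : Set G)) = 48 := by
  have h1 : Subgroup.centralizer ({t} : Set G) = (⊤ : Subgroup X).map j := by
    ext g
    rw [Subgroup.mem_centralizer_singleton_iff, Subgroup.mem_map]
    constructor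
    · intro h
      obtain ⟨x, hx⟩ := c.cov g h
      exact ⟨x, Subgroup.mem_top _, hx.symm⟩
    · rintro ⟨x, -, rfl⟩
      exact c.comm x
  rw [h1, Subgroup.card_map_of_injective c.inj, Subgroup.card_top, Nat.card_prod]
  simp [Nat.card_eq_fintype_card, Fintype.card_perm]
  rfl

/-- the Sylow subgroup of the configuration -/
theorem Cf.sylow [Finite G] {t : G} {j : X →* G} (c : Cf t j) (T : Sylow 2 G) (htT : ∀ s ∈ (T : Subgroup G), s * t = t * s) :
    ∃ P : Sylow 2 G, (P : Subgroup G) = Tm j := by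
  haveI : Fact (Nat.Prime 2) := ⟨Nat.prime_two⟩
  have h1 : (T : Subgroup G) ≤ Subgroup.centralizer ({t} : Set G) := fun s hs => Subgroup.mem_centralizer_singleton_iff.mpr (htT s hs)
  have h2 : Nat.card (T : Subgroup G) ∣ 48 := by
    rw [← c.cardC]
    exact Subgroup.card_dvd_of_le h1
  have h3 : Nat.card (T : Subgroup G) = 2 ^ (Nat.card G).factorization 2 := T.card_eq_multiplicity
  have h4 : 16 ∣ Nat.card (T : Subgroup G) := by
    have h5 : Nat.card (Tm j) ∣ Nat.card G := Subgroup.card_subgroup_dvd_card _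
    rw [c.cardT] at h5
    rw [h3, show (16 : ℕ) = 2 ^ 4 by norm_num]
    apply pow_dvd_pow
    rw [← Nat.Prime.pow_dvd_iff_le_factorization Nat.prime_two Nat.card_pos.ne']
    norm_num
    exact h5
  have h6 : Nat.card (T : Subgroup G) = 16 := by
    rw [h3] at h2 h4 ⊢
    have h7 : (2:ℕ) ^ (Nat.card G).factorization 2 ∣ 16 := by
      have h8 : Nat.Coprime (2 ^ (Nat.card G).factorization 2) 3 := Nat.Coprime.pow_left _ (by norm_num)
      exact h8.dvd_of_dvd_mul_right (by norm_num; exact h2)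
    exact Nat.dvd_antisymm h7 h4
  refine ⟨Sylow.ofCard (Tm j) ?_, rfl⟩
  rw [← h3, h6, c.cardT]

end Cfsg.Agent.H20.TS
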