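import Cfsg.Agent.H20.TSa

set_option autoImplicit false
set_option linter.unusedSectionVars false
set_option linter.style.haveILetI false
set_option linter.unusedVariables false
set_option linter.unusedSimpArgs false

/-! Groups with a central involution `t` whose centralizer is `Z₂ × S₄`: fusion. -/

namespace Cfsg.Agent.H20.TS

open Cfsg

universe u
variable {G : Type u} [Group G]

structure Cg (t : G) (j : X →* G) (P : Sylow 2 G) : Prop extends Cf t j where
  hP : (P : Subgroup G) = Tm j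
  cz : ∀ g, g * j z0 = j z0 * g → ∃ x, x * z0 = z0 * x ∧ j x = g

theorem Cf.toCg [Finite G] {t : G} {j : X →* G} (c : Cf t j) (P : Sylow 2 G) (hP : (P : Subgroup G) = Tm j)
    (h2 : Subgroup.centralizer ((⁅(P : Subgroup G), (P : Subgroup G)⁆ : Subgroup G) : Set G) = (P : Subgroup G)) :
    Cg t j P := by
  refine ⟨c, hP, fun g hg => ?_⟩
  have h3 : ⁅(P : Subgroup G), (P : Subgroup G)⁆ ≤ Subgroup.centralizer ({g} : Set G) := by
    rw [Subgroup.commutator_le]
    intro a ha b hb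
    rw [hP, mem_Tm] at ha hb
    obtain ⟨x, hx, rfl⟩ := ha
    obtain ⟨y, hy, rfl⟩ := hb
    rw [Subgroup.mem_centralizer_singleton_iff, commutatorElement_def, ← map_mul, ← map_inv, ← map_mul, ← map_inv, ← map_mul]
    rcases F1 x hx y hy with h | h
    · have h4 : x * y * x⁻¹ * y⁻¹ = 1 := by rw [h]; group
      rw [h4, map_one, one_mul, mul_one]
    · have h4 : x * y * x⁻¹ * y⁻¹ = z0 := by rw [h]; group
      rw [h4, hg]
  have h4 : g ∈ (P : Subgroup G) := by
    rw [← h2, Subgroup.mem_centralizer_iff]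
    intro a ha
    exact Subgroup.mem_centralizer_singleton_iff.mp (h3 ha)
  rw [hP, mem_Tm] at h4
  exact h4

namespace Cg
variable {t : G} {j : X →* G} {P : Sylow 2 G}

theorem jr (c : Cg t j P) : j r0 * t = t * j r0 := c.comm r0

theorem memP (c : Cg t j P) {g : G} : g ∈ (P : Subgroup G) ↔ g * j z0 = j z0 * g := by
  rw [c.hP, mem_Tm]
  constructor
  · rintro ⟨x, hx, rfl⟩
    rw [← map_mul, ← map_mul, hx]
  · exact c.cz g

/-- elements of `C(z)` commute with `t` -/
theorem z_t (c : Cg t j P) {g : G} (hg : g * j z0 = j z0 * g) : g * t = t * g := by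
  obtain ⟨x, -, rfl⟩ := c.cz g hg
  exact c.comm x

theorem z_ne (c : Cg t j P) : j z0 ≠ 1 := by
  intro h
  exact F1'.2.1 (c.inj (by rw [h, map_one]))

/-- elements normalizing `P` centralize `z` -/
theorem norm (c : Cg t j P) {n : G} (hn : ∀ a ∈ (P : Subgroup G), n * a * n⁻¹ ∈ (P : Subgroup G)) :
    n * j z0 = j z0 * n := by
  have hs : j s0 ∈ (P : Subgroup G) := by
    rw [c.memP, ← map_mul, ← map_mul, F1'.2.2.1]
  have hv : j v0 ∈ (P : Subgroup G) := by
    rw [c.memP, ← map_mul, ← map_mul, F1'.2.2.2]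
  have h1 := hn _ hs
  have h2 := hn _ hv
  rw [c.hP, mem_Tm] at h1 h2
  obtain ⟨x, hx, hxs⟩ := h1
  obtain ⟨y, hy, hyv⟩ := h2
  have hz : j z0 = j s0 * j v0 * (j s0)⁻¹ * (j v0)⁻¹ := by
    rw [← map_mul, F1'.1, map_mul, map_mul]; group
  have h3 : n * j z0 * n⁻¹ = (n * j s0 * n⁻¹) * (n * j v0 * n⁻¹) * (n * j s0 * n⁻¹)⁻¹ * (n * j v0 * n⁻¹)⁻¹ := by
    rw [hz]; group
  rw [← hxs, ← hyv, ← map_mul] at h3
  rcases F1 x hx y hy with h | h
  · exfalso
    rw [h, map_mul] at h3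
    have h4 : n * j z0 * n⁻¹ = 1 := by rw [h3]; group
    apply c.z_ne
    have : j z0 = n⁻¹ * (n * j z0 * n⁻¹) * n := by group
    rw [this, h4]; group
  · rw [h, map_mul, map_mul] at h3
    have h4 : n * j z0 * n⁻¹ = j z0 := by rw [h3]; group
    rwa [mul_inv_eq_iff_eq_mul] at h4

/-- `z` is not conjugate to another element of `Z(T)` -/
theorem z_unique (c : Cg t j P) {g y : G} (h : g * j z0 * g⁻¹ = y) (hy : ∀ a ∈ (P : Subgroup G), a * y = y * a) :
    y = j z0 := by
  have h1 : ∀ a ∈ (P : Subgroup G), g⁻¹ * a * g⁻¹⁻¹ ∈ (P : Subgroup G) := by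
    intro a ha
    rw [c.memP, inv_inv]
    have h2 := hy a ha
    rw [← h] at h2
    calc g⁻¹ * a * g * j z0 = g⁻¹ * (a * (g * j z0 * g⁻¹)) * g := by group
      _ = g⁻¹ * ((g * j z0 * g⁻¹) * a) * g := by rw [h2]
      _ = _ := by group
  have h2 := c.norm h1
  rw [← h]
  have h3 : j z0 * g = g * j z0 := by
    calc j z0 * g = g * (g⁻¹ * j z0) * g := by group
      _ = g * (j z0 * g⁻¹) * g := by rw [h2]
      _ = _ := by group
  rw [← h3]; group

theorem z_ne_t (c : Cg t j P) : j z0 ≠ t := by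
  intro h
  rw [← c.jt] at h
  have := c.inj h
  revert this
  decide

theorem not_zt (c : Cg t j P) (g : G) : g * j z0 * g⁻¹ ≠ t := by
  intro h
  exact c.z_ne_t (c.z_unique h (fun a ha => by
    rw [c.memP] at ha
    exact c.z_t ha)).symm

theorem not_ztz (c : Cg t j P) (g : G) : g * j z0 * g⁻¹ ≠ t * j z0 := by
  intro h
  have h1 := c.z_unique h (fun a ha => by
    rw [c.memP] at ha
    rw [← mul_assoc, c.z_t ha, mul_assoc, ha, mul_assoc])
  have h2 : t = 1 := by
    have : t * j z0 = 1 * j z0 := by rw [h1, one_mul]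
    exact mul_right_cancel this
  have h3 : j t0 = j 1 := by rw [c.jt, h2, map_one]
  exact F6.2.2.2.2.2.2.2 (c.inj h3)

end Cg

/-- conjugation into a Sylow subgroup inside a subgroup -/
theorem sylow_conj_in [Finite G] (P : Sylow 2 G) {C : Subgroup G} (hPC : (P : Subgroup G) ≤ C) (E : Subgroup G) (hE : IsPGroup 2 E)
    (hEC : E ≤ C) : ∃ c ∈ C, ∀ x ∈ E, c * x * c⁻¹ ∈ (P : Subgroup G) := by
  haveI : Fact (Nat.Prime 2) := ⟨Nat.prime_two⟩
  obtain ⟨g, hg⟩ := H4.mem_sylow_conj (P.subtype hPC) (E.subgroupOf C) (by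
    have h1 : IsPGroup 2 (E.subgroupOf C) := hE.comap_subtype
    exact h1)
  refine ⟨g, g.2, fun x hx => ?_⟩
  have h2 := hg ⟨x, hEC hx⟩ hx
  exact h2

namespace Cg
variable {t : G} {j : X →* G} {P : Sylow 2 G}

theorem not_ttz [Finite G] (c : Cg t j P) (g : G) : g * t * g⁻¹ ≠ t * j z0 := by
  intro h
  have hPC : (P : Subgroup G) ≤ Subgroup.centralizer ({t * j z0} : Set G) := by
    intro a ha
    rw [c.memP] at ha
    rw [Subgroup.mem_centralizer_singleton_iff, ← mul_assoc, c.z_t ha, mul_assoc, ha, mul_assoc]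
  have h1 : IsPGroup 2 ((P : Subgroup G).map (MulAut.conj g).toMonoidHom) := P.isPGroup'.map _
  obtain ⟨d, hd, hdx⟩ := sylow_conj_in P hPC _ h1 (by
    rintro _ ⟨a, ha, rfl⟩
    rw [Subgroup.mem_centralizer_singleton_iff]
    change g * a * g⁻¹ * (t * j z0) = t * j z0 * (g * a * g⁻¹)
    rw [← h]
    rw [SetLike.mem_coe, c.memP] at ha
    calc g * a * g⁻¹ * (g * t * g⁻¹) = g * (a * t) * g⁻¹ := by group
      _ = g * (t * a) * g⁻¹ := by rw [c.z_t ha]
      _ = _ := by group)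
  have h2 : ∀ a ∈ (P : Subgroup G), (d * g) * a * (d * g)⁻¹ ∈ (P : Subgroup G) := by
    intro a ha
    have h3 := hdx _ (Subgroup.mem_map_of_mem _ ha)
    have h4 : (d * g) * a * (d * g)⁻¹ = d * ((MulAut.conj g).toMonoidHom a) * d⁻¹ := by
      change _ = d * (g * a * g⁻¹) * d⁻¹
      group
    rw [h4]; exact h3
  have h3 := c.z_t (c.norm h2)
  rw [Subgroup.mem_centralizer_singleton_iff] at hd
  have h4 : t = t * j z0 := by
    calc t = (d * g) * t * (d * g)⁻¹ := by rw [h3]; group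
      _ = d * (g * t * g⁻¹) * d⁻¹ := by group
      _ = d * (t * j z0) * d⁻¹ := by rw [h]
      _ = t * j z0 := by rw [hd]; group
  apply c.z_ne
  have h5 : t * j z0 = t * 1 := by rw [← h4, mul_one]
  exact mul_left_cancel h5

/-- `z` is conjugate to `v` and `zv` -/
theorem zv (c : Cg t j P) : j r0 * j z0 * (j r0)⁻¹ = j v0 ∧ j r0 * j v0 * (j r0)⁻¹ = j (z0 * v0) := by
  constructor
  · rw [← map_mul, F6.1, map_mul]; group
  · rw [← map_mul, F6.2.1, map_mul]; group

theorem vs (c : Cg t j P) : j v0 * j s0 * (j v0)⁻¹ = j (z0 * s0) := by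
  rw [← map_mul, F6.2.2.1, map_mul]; group

/-- an odd order normal subgroup is trivial -/
theorem odd_bot [Finite G] (c : Cg t j P) (N : Subgroup G) (hN : N.Normal) (hodd : Odd (Nat.card N)) : N = ⊥ := by
  haveI : Fact (Nat.Prime 2) := ⟨Nat.prime_two⟩
  have key : ∀ g : G, ∀ x ∈ N, (g * j z0 * g⁻¹) * x = x * (g * j z0 * g⁻¹) → x = 1 := by
    intro g x hx hc
    have h1 : g⁻¹ * x * g ∈ (P : Subgroup G) := by
      rw [c.memP]
      calc g⁻¹ * x * g * j z0 = g⁻¹ * (x * (g * j z0 * g⁻¹)) * g := by group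
        _ = g⁻¹ * ((g * j z0 * g⁻¹) * x) * g := by rw [hc]
        _ = _ := by group
    have h2 : g⁻¹ * x * g ∈ N := by
      have := hN.conj_mem x hx g⁻¹
      rwa [inv_inv] at this
    have h3 : orderOf (g⁻¹ * x * g) ∣ Nat.card N := Subgroup.orderOf_dvd_natCard _ h2
    have h4 : orderOf (g⁻¹ * x * g) ∣ 16 := by
      rw [← c.cardT, ← c.hP]
      exact Subgroup.orderOf_dvd_natCard _ h1
    have h5 : Nat.Coprime 16 (Nat.card N) := by
      rw [show (16 : ℕ) = 2 ^ 4 by norm_num]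
      exact Nat.Coprime.pow_left _ (Nat.coprime_two_left.mpr hodd)
    have h6 := Nat.dvd_gcd h4 h3
    rw [h5] at h6
    have h7 : g⁻¹ * x * g = 1 := orderOf_eq_one_iff.mp (Nat.dvd_one.mp h6)
    calc x = g * (g⁻¹ * x * g) * g⁻¹ := by group
      _ = 1 := by rw [h7]; group
  have hinv : ∀ g : G, ∀ x ∈ N, (g * j z0 * g⁻¹) * x * (g * j z0 * g⁻¹)⁻¹ = x⁻¹ := by
    intro g x hx
    set u := g * j z0 * g⁻¹ with hu
    have huu : u * u = 1 := by
      rw [hu]
      calc g * j z0 * g⁻¹ * (g * j z0 * g⁻¹) = g * (j z0 * j z0) * g⁻¹ := by group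
        _ = 1 := by rw [← map_mul, F6.2.2.2.2.1, map_one]; group
    have huinv : u⁻¹ = u := inv_eq_of_mul_eq_one_left huu
    let φ : N →* N := {
      toFun := fun y => ⟨u * y * u⁻¹, hN.conj_mem y y.2 u⟩
      map_one' := by ext; simp
      map_mul' := fun y z => by ext; simp only [Subgroup.coe_mul]; group }
    have hφ : MonoidHom.FixedPointFree φ := by
      intro y hy
      have h1 : u * (y : G) * u⁻¹ = y := congrArg Subtype.val hy
      exact Subtype.ext (key g y y.2 (by rw [mul_inv_eq_iff_eq_mul] at h1; exact h1))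
    have h2 : Function.Involutive φ := by
      intro y
      ext
      change u * (u * (y : G) * u⁻¹) * u⁻¹ = y
      rw [huinv]
      calc u * (u * (y : G) * u) * u = (u * u) * y * (u * u) := by group
        _ = y := by rw [huu, one_mul, mul_one]
    have h3 := hφ.coe_eq_inv_of_involutive h2
    have h4 := congrFun h3 ⟨x, hx⟩
    exact congrArg Subtype.val h4
  rw [Subgroup.eq_bot_iff_forall]
  intro x hx
  obtain ⟨hz1, hz2⟩ := c.zv
  have e1 : j v0 = j r0 * j z0 * (j r0)⁻¹ := hz1.symm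
  have e2 : j z0 * j v0 = (j r0 * j r0) * j z0 * (j r0 * j r0)⁻¹ := by
    rw [← map_mul, ← hz2, ← hz1]; group
  apply key (j r0 * j r0) x hx
  rw [← e2]
  have h1 : j v0 * x * (j v0)⁻¹ = x⁻¹ := by rw [e1]; exact hinv _ x hx
  have h2 : j z0 * x⁻¹ * (j z0)⁻¹ = x := by
    have := hinv 1 x⁻¹ (inv_mem hx)
    simpa using this
  calc j z0 * j v0 * x = j z0 * (j v0 * x * (j v0)⁻¹) * (j z0)⁻¹ * (j z0 * j v0) := by group
    _ = x * (j z0 * j v0) := by rw [h1, h2]

end Cg

end Cfsg.Agent.H20.TS
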