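import Cfsg.Agent.H20.TSb
import Cfsg.Agent.H9.BSWQ

set_option autoImplicit false
set_option linter.unusedSectionVars false
set_option linter.style.haveILetI false
set_option linter.unusedVariables false
set_option linter.unusedSimpArgs false

/-! Groups with a central involution `t` whose centralizer is `Z₂ × S₄`: transfer. -/

namespace Cfsg.Agent.H20.TS

open Cfsg

universe u
variable {G : Type u} [Group G]

theorem conj_comp (g h x : G) : g * (h * x * h⁻¹) * g⁻¹ = (g * h) * x * (g * h)⁻¹ := by group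

namespace Cg
variable {t : G} {j : X →* G} {P : Sylow 2 G}

theorem t_ne (c : Cg t j P) : t ≠ 1 := by
  intro h
  rw [← c.jt] at h
  exact F6.2.2.2.2.2.2.2 (c.inj (by rw [h, map_one]))

/-- an involution of `⟨t⟩ × ⟨z,v⟩` -/
theorem fus_t [Finite G] (c : Cg t j P) {x : X} (hx : x * z0 = z0 * x) (hxx : x * x = 1) {g : G} (hg : g * t * g⁻¹ = j x) :
    x = t0 ∨ (∃ k, k * t * k⁻¹ = j s0) ∨ (∃ k, k * t * k⁻¹ = j (t0 * s0)) := by
  obtain ⟨hz1, hz2⟩ := c.zv
  have htz : j (t0 * z0) = t * j z0 := by rw [map_mul, c.jt]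
  have hv' : j v0 * j (z0 * s0) * (j v0)⁻¹ = j s0 := by
    rw [← c.vs]
    have : j v0 * j v0 = 1 := by rw [← map_mul, F6.2.2.2.2.2.1, map_one]
    calc j v0 * (j v0 * j s0 * (j v0)⁻¹) * (j v0)⁻¹ = (j v0 * j v0) * j s0 * (j v0 * j v0)⁻¹ := by group
      _ = j s0 := by rw [this]; group
  have hnz : ∀ k : G, k * t * k⁻¹ ≠ j z0 := by
    intro k hk
    apply c.not_zt k⁻¹
    rw [← hk]; group
  have hnv : ∀ k : G, k * t * k⁻¹ ≠ j v0 := by
    intro k hk
    apply hnz ((j r0)⁻¹ * k)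
    rw [← conj_comp, hk, ← hz1]; group
  have hrt : ∀ y : G, t * (j r0 * y * (j r0)⁻¹) = j r0 * (t * y) * (j r0)⁻¹ := by
    intro y
    calc t * (j r0 * y * (j r0)⁻¹) = (t * j r0) * y * (j r0)⁻¹ := by group
      _ = (j r0 * t) * y * (j r0)⁻¹ := by rw [c.jr]
      _ = _ := by group
  have hvt : ∀ y : G, t * (j v0 * y * (j v0)⁻¹) = j v0 * (t * y) * (j v0)⁻¹ := by
    intro y
    calc t * (j v0 * y * (j v0)⁻¹) = (t * j v0) * y * (j v0)⁻¹ := by group
      _ = (j v0 * t) * y * (j v0)⁻¹ := by rw [c.comm v0]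
      _ = _ := by group
  have hntv : ∀ k : G, k * t * k⁻¹ ≠ t * j v0 := by
    intro k hk
    apply c.not_ttz ((j r0)⁻¹ * k)
    rw [← conj_comp, hk, ← hz1, hrt]; group
  rcases F2 x hx hxx with h | h | h | h | h | h | h | h | h | h | h | h
  · exfalso
    rw [h, map_one] at hg
    apply c.t_ne
    calc t = g⁻¹ * (g * t * g⁻¹) * g := by group
      _ = 1 := by rw [hg]; group
  · exact Or.inl h
  · exact absurd (by rw [hg, h]) (hnz g)
  · exact absurd (by rw [hg, h, htz]) (c.not_ttz g)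
  · exact absurd (by rw [hg, h]) (hnv g)
  · exfalso
    apply hnv ((j r0)⁻¹ * g)
    rw [← conj_comp, hg, h, ← hz2]; group
  · exact absurd (by rw [hg, h, map_mul, c.jt]) (hntv g)
  · exfalso
    apply hntv ((j r0)⁻¹ * g)
    rw [← conj_comp, hg, h, map_mul, c.jt, ← hz2, hrt]; group
  · exact Or.inr (Or.inl ⟨g, by rw [hg, h]⟩)
  · refine Or.inr (Or.inl ⟨j v0 * g, ?_⟩)
    rw [← conj_comp, hg, h, hv']
  · exact Or.inr (Or.inr ⟨g, by rw [hg, h]⟩)
  · refine Or.inr (Or.inr ⟨j v0 * g, ?_⟩)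
    rw [← conj_comp, hg, h, map_mul, c.jt, map_mul j t0, c.jt, ← hvt, hv']

theorem caseI [Finite G] (c : Cg t j P) (ht : orderOf t = 2) (h1 : ∀ k, k * t * k⁻¹ ≠ j s0) (h2 : ∀ k, k * t * k⁻¹ ≠ j (t0 * s0)) :
    Subgroup.centralizer ({t} : Set G) = ⊤ := by
  have hiso : IsIsolatedInvolution t := by
    apply H4.isolated_of_sylow P ht
    intro g hg
    have hg' : g * t * g⁻¹ ∈ (P : Subgroup G) := hg
    rw [c.hP, mem_Tm] at hg'
    obtain ⟨x, hx, hxg⟩ := hg'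
    have hxx : x * x = 1 := by
      apply c.inj
      rw [map_mul, hxg, map_one]
      have : t * t = 1 := by rw [← c.jt, ← map_mul, F6.2.2.2.1, map_one]
      calc g * t * g⁻¹ * (g * t * g⁻¹) = g * (t * t) * g⁻¹ := by group
        _ = 1 := by rw [this]; group
    rcases c.fus_t hx hxx hxg.symm with h | ⟨k, hk⟩ | ⟨k, hk⟩
    · rw [← hxg, h, c.jt]
    · exact absurd hk (h1 k)
    · exact absurd hk (h2 k)
  have hO : oddCore G = ⊥ := H4.oddCore_eq_bot_of (fun N hN ho => c.odd_bot N hN ho)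
  have h3 := H4.zstar_central hO hiso
  rw [Subgroup.mem_center_iff] at h3
  rw [eq_top_iff]
  intro g _
  rw [Subgroup.mem_centralizer_singleton_iff]
  exact h3 g

theorem ts_v (c : Cg t j P) : j v0 * j (t0 * s0) * (j v0)⁻¹ = j (t0 * (z0 * s0)) := by
  rw [map_mul, map_mul j t0, ← c.vs, c.jt]
  calc j v0 * (t * j s0) * (j v0)⁻¹ = (j v0 * t) * j s0 * (j v0)⁻¹ := by group
    _ = (t * j v0) * j s0 * (j v0)⁻¹ := by rw [c.comm v0]
    _ = _ := by group

theorem caseII1 [Finite G] (c : Cg t j P) {g : G} (h : g * t * g⁻¹ = j (t0 * s0)) :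
    ∃ k, k * j z0 * k⁻¹ = j s0 := by
  set E : Subgroup G := (P : Subgroup G) ⊓ Subgroup.centralizer ({j (t0 * s0)} : Set G) with hE
  have hEp : IsPGroup 2 E := P.isPGroup'.to_le inf_le_left
  have hPC : (P : Subgroup G) ≤ Subgroup.centralizer ({t} : Set G) := by
    intro a ha
    rw [c.memP] at ha
    rw [Subgroup.mem_centralizer_singleton_iff]
    exact c.z_t ha
  obtain ⟨d, hd, hdx⟩ := sylow_conj_in P hPC (E.map (MulAut.conj g⁻¹).toMonoidHom) (hEp.map _) (by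
    rintro _ ⟨a, ha, rfl⟩
    have h1 := Subgroup.mem_centralizer_singleton_iff.mp ha.2
    rw [Subgroup.mem_centralizer_singleton_iff]
    change g⁻¹ * a * g⁻¹⁻¹ * t = t * (g⁻¹ * a * g⁻¹⁻¹)
    rw [← h] at h1
    calc g⁻¹ * a * g⁻¹⁻¹ * t = g⁻¹ * (a * (g * t * g⁻¹)) * g := by group
      _ = g⁻¹ * ((g * t * g⁻¹) * a) * g := by rw [h1]
      _ = _ := by group)
  rw [Subgroup.mem_centralizer_singleton_iff] at hd
  set k := d * g⁻¹ with hk
  have hkE : ∀ x : X, x * z0 = z0 * x → x * s0 = s0 * x → k * j x * k⁻¹ * j z0 = j z0 * (k * j x * k⁻¹) := by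
    intro x hx hxs
    have h1 : j x ∈ E := by
      rw [hE, Subgroup.mem_inf, c.memP, Subgroup.mem_centralizer_singleton_iff, ← map_mul, ← map_mul, ← map_mul, ← map_mul]
      refine ⟨by rw [hx], ?_⟩
      rw [← mul_assoc, F4, mul_assoc, hxs, mul_assoc]
    have h2 := hdx _ (Subgroup.mem_map_of_mem _ h1)
    rw [c.memP] at h2
    have h3 : d * ((MulAut.conj g⁻¹).toMonoidHom (j x)) * d⁻¹ = k * j x * k⁻¹ := by
      change d * (g⁻¹ * j x * g⁻¹⁻¹) * d⁻¹ = _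
      rw [hk]; group
    rw [h3] at h2
    exact h2
  have hks : k * j (t0 * s0) * k⁻¹ = t := by
    rw [← h, hk]
    calc d * g⁻¹ * (g * t * g⁻¹) * (d * g⁻¹)⁻¹ = (d * t) * d⁻¹ := by group
      _ = t := by rw [hd]; group
  -- `k⁻¹ z k` centralizes everything in `E`
  have hkz : ∀ x : X, x * z0 = z0 * x → x * s0 = s0 * x → (k⁻¹ * j z0 * k) * j x = j x * (k⁻¹ * j z0 * k) := by
    intro x hx hxs
    have h1 := hkE x hx hxs
    calc (k⁻¹ * j z0 * k) * j x = k⁻¹ * (j z0 * (k * j x * k⁻¹)) * k := by group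
      _ = k⁻¹ * ((k * j x * k⁻¹) * j z0) * k := by rw [h1]
      _ = _ := by group
  obtain ⟨y, hy, hyk⟩ := c.cz _ (hkz z0 rfl F1'.2.2.1.symm)
  have hys : y * s0 = s0 * y := by
    apply c.inj
    rw [map_mul, map_mul, hyk]
    exact hkz s0 F1'.2.2.1 rfl
  have hv' : j v0 * j (z0 * s0) * (j v0)⁻¹ = j s0 := by
    rw [← c.vs]
    have : j v0 * j v0 = 1 := by rw [← map_mul, F6.2.2.2.2.2.1, map_one]
    calc j v0 * (j v0 * j s0 * (j v0)⁻¹) * (j v0)⁻¹ = (j v0 * j v0) * j s0 * (j v0 * j v0)⁻¹ := by group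
      _ = j s0 := by rw [this]; group
  have hkk : k⁻¹ * j z0 * k⁻¹⁻¹ = j y := by rw [inv_inv, hyk]
  have htts : j (t0 * s0) = k⁻¹ * t * k⁻¹⁻¹ := by rw [← hks]; group
  rcases F3 y hy hys with h' | h' | h' | h' | h' | h' | h' | h'
  · exfalso
    rw [h', map_one] at hkk
    apply c.z_ne
    calc j z0 = k * (k⁻¹ * j z0 * k⁻¹⁻¹) * k⁻¹ := by group
      _ = 1 := by rw [hkk]; group
  · rw [h', c.jt] at hkk
    exact absurd hkk (c.not_zt _)
  · exfalso
    rw [h'] at hkk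
    have h1 : k * j z0 = j z0 * k := by
      calc k * j z0 = k * (k⁻¹ * j z0 * k⁻¹⁻¹) := by rw [hkk]
        _ = _ := by group
    have h2 := c.z_t h1
    have h3 : j (t0 * s0) = t := by
      rw [htts, inv_inv]
      calc k⁻¹ * t * k = k⁻¹ * (t * k) := by group
        _ = k⁻¹ * (k * t) := by rw [h2]
        _ = t := by group
    rw [← c.jt] at h3
    have h4 := c.inj h3
    revert h4
    decide
  · rw [h', map_mul, c.jt] at hkk
    exact absurd hkk (c.not_ztz _)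
  · exact ⟨k⁻¹, by rw [hkk, h']⟩
  · exact ⟨j v0 * k⁻¹, by rw [← conj_comp, hkk, h', hv']⟩
  · exfalso
    rw [h', htts] at hkk
    apply c.not_zt 1
    have : j z0 = t := by
      have h5 : k⁻¹ * j z0 = k⁻¹ * t := mul_right_cancel hkk
      exact mul_left_cancel h5
    rw [this]; group
  · exfalso
    rw [h', ← c.ts_v, ← h] at hkk
    apply c.not_zt ((j v0 * g)⁻¹ * k⁻¹)
    rw [← conj_comp, hkk]; group

/-- the dihedral subgroup -/
def D0 (j : X →* G) : Subgroup G := (Subgroup.centralizer ({z0} : Set X) ⊓ (MonoidHom.fst (Multiplicative (ZMod 2)) S4).ker).map j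

theorem mem_D0 {j : X →* G} {g : G} : g ∈ D0 j ↔ ∃ x : X, (x * z0 = z0 * x ∧ x.1 = 1) ∧ j x = g := by
  unfold D0
  rw [Subgroup.mem_map]
  constructor
  · rintro ⟨x, ⟨hx, hx2⟩, rfl⟩
    exact ⟨x, ⟨Subgroup.mem_centralizer_singleton_iff.mp hx, hx2⟩, rfl⟩
  · rintro ⟨x, ⟨hx, hx2⟩, rfl⟩
    exact ⟨x, ⟨Subgroup.mem_centralizer_singleton_iff.mpr hx, hx2⟩, rfl⟩

end Cg

theorem cardD : Fintype.card {x : X // x * z0 = z0 * x ∧ x.1 = 1} = 8 := by decide +kernel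

set_option synthInstance.maxSize 100000 in
set_option synthInstance.maxHeartbeats 400000 in
theorem F7 : ∀ x : X, x * z0 = z0 * x → x.1 = 1 → x * x = 1 → x = 1 ∨ x = z0 ∨ x = v0 ∨ x = z0 * v0 ∨ x = s0 ∨ x = z0 * s0 := by
  decide +kernel

set_option synthInstance.maxSize 100000 in
set_option synthInstance.maxHeartbeats 400000 in
theorem F8 : ∀ x : X, x * z0 = z0 * x → x.1 = 1 → ((∃ n : Fin 4, x = (v0 * s0) ^ (n : ℕ)) ∨ ∃ n : Fin 4, x * s0 = (v0 * s0) ^ (n : ℕ)) := by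
  decide +kernel

theorem F9 : (v0 * s0) * (v0 * s0) = z0 ∧ s0 * (v0 * s0) * s0⁻¹ = (v0 * s0)⁻¹ ∧ (v0 * s0) * z0 = z0 * (v0 * s0) ∧
    (∀ n : Fin 4, s0 ≠ (v0 * s0) ^ (n : ℕ)) := by
  decide +kernel

theorem F10 : ∀ x : X, x.1 = 1 ∨ (t0 * x).1 = 1 := by decide +kernel

set_option synthInstance.maxSize 100000 in
set_option synthInstance.maxHeartbeats 400000 in
theorem F11 : ∀ x : X, x * z0 = z0 * x → x.1 ≠ 1 → x * x = 1 → x = t0 ∨ x = t0 * z0 ∨ x = t0 * v0 ∨ x = t0 * (z0 * v0) ∨ x = t0 * s0 ∨ x = t0 * (z0 * s0) := by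
  decide +kernel

theorem F12 : z0.1 = 1 ∧ v0.1 = 1 ∧ s0.1 = 1 ∧ t0.1 ≠ 1 := by decide +kernel

end Cfsg.Agent.H20.TS
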