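import Cfsg.Agent.H20.TSc

set_option autoImplicit false
set_option linter.unusedSectionVars false
set_option linter.style.haveILetI false
set_option linter.unusedVariables false
set_option linter.unusedSimpArgs false

/-! Groups with a central involution `t` whose centralizer is `Z₂ × S₄`: a subgroup of index two. -/

namespace Cfsg.Agent.H20.TS

open Cfsg

universe u
variable {G : Type u} [Group G]

structure Ch (t : G) (j : X →* G) (P : Sylow 2 G) (M : Subgroup G) : Prop extends Cg t j P where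
  nor : M.Normal
  idx : M.index = 2
  tM : t ∉ M
  zs : ∃ k, k * j z0 * k⁻¹ = j s0

namespace Cg
variable {t : G} {j : X →* G} {P : Sylow 2 G}

theorem zv0 (c : Cg t j P) : ∃ k, k * j z0 * k⁻¹ = j v0 := ⟨_, c.zv.1⟩
theorem zzv (c : Cg t j P) : ∃ k, k * j z0 * k⁻¹ = j (z0 * v0) := ⟨j r0 * j r0, by rw [← c.zv.2, ← c.zv.1]; group⟩
theorem zzs (c : Cg t j P) (h : ∃ k, k * j z0 * k⁻¹ = j s0) : ∃ k, k * j z0 * k⁻¹ = j (z0 * s0) := by
  obtain ⟨k, hk⟩ := h
  exact ⟨j v0 * k, by rw [← conj_comp, hk, c.vs]⟩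

theorem caseII2 [Finite G] (c : Cg t j P) (hs : ∃ k, k * j z0 * k⁻¹ = j s0) : ∃ M : Subgroup G, Ch t j P M := by
  have hDP : Cg.D0 j ≤ (P : Subgroup G) := by
    intro g hg
    obtain ⟨x, hx, rfl⟩ := Cg.mem_D0.mp hg
    rw [c.hP, mem_Tm]
    exact ⟨x, hx.1, rfl⟩
  have hcD : Nat.card (Cg.D0 j) = 8 := by
    unfold Cg.D0
    rw [Subgroup.card_map_of_injective c.inj, ← cardD, Nat.card_eq_fintype_card.symm]
    apply Nat.card_congr
    refine Equiv.subtypeEquivRight (fun x => ?_)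
    rw [Subgroup.mem_inf, Subgroup.mem_centralizer_singleton_iff]
    rfl
  have hrel : (Cg.D0 j).relIndex (P : Subgroup G) = 2 := by
    have h1 := Subgroup.card_mul_index ((Cg.D0 j).subgroupOf (P : Subgroup G))
    rw [Nat.card_congr (Subgroup.subgroupOfEquivOfLe hDP).toEquiv, hcD, c.hP, c.cardT] at h1
    have h2 : ((Cg.D0 j).subgroupOf (P : Subgroup G)).index = 2 := by
      rw [c.hP]; omega
    exact h2
  have hto : orderOf t = 2 := by
    apply orderOf_eq_prime _ c.t_ne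
    rw [pow_two, ← c.jt, ← map_mul, F6.2.2.2.1, map_one]
  have htP : t ∈ (P : Subgroup G) := by
    rw [c.memP, c.comm]
  have htD : t ∉ Cg.D0 j := by
    intro h
    obtain ⟨x, hx, hxt⟩ := Cg.mem_D0.mp h
    rw [← c.jt] at hxt
    have := c.inj hxt
    rw [this] at hx
    exact F12.2.2.2 hx.2
  rcases S0111.result P (Cg.D0 j) hDP hrel t hto htP htD with ⟨M, hM1, hM2, hM3⟩ | ⟨g, hg⟩
  · exact ⟨M, c, hM1, hM2, hM3, hs⟩
  · exfalso
    obtain ⟨x, hx, hxg⟩ := Cg.mem_D0.mp hg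
    have hxx : x * x = 1 := by
      apply c.inj
      rw [map_mul, hxg, map_one]
      have : t * t = 1 := by rw [← c.jt, ← map_mul, F6.2.2.2.1, map_one]
      calc g * t * g⁻¹ * (g * t * g⁻¹) = g * (t * t) * g⁻¹ := by group
        _ = 1 := by rw [this]; group
    have key : ∀ y : X, (∃ k, k * j z0 * k⁻¹ = j y) → x ≠ y := by
      rintro y ⟨k, hk⟩ rfl
      apply c.not_zt (g⁻¹ * k)
      rw [← conj_comp, hk, hxg]; group
    rcases F7 x hx.1 hx.2 hxx with h | h | h | h | h | h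
    · apply c.t_ne
      rw [h, map_one] at hxg
      calc t = g⁻¹ * (g * t * g⁻¹) * g := by group
        _ = 1 := by rw [← hxg]; group
    · exact key z0 ⟨1, by group⟩ h
    · exact key v0 c.zv0 h
    · exact key _ c.zzv h
    · exact key _ hs h
    · exact key _ (c.zzs hs) h

end Cg

namespace Ch
variable {t : G} {j : X →* G} {P : Sylow 2 G} {M : Subgroup G}

theorem zM (c : Ch t j P M) : j z0 ∈ M := by
  rw [← F9.1, map_mul, ← pow_two]
  exact Subgroup.sq_mem_of_index_two c.idx _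

theorem conjM (c : Ch t j P M) {x : G} (h : ∃ k, k * j z0 * k⁻¹ = x) : x ∈ M := by
  obtain ⟨k, rfl⟩ := h
  exact c.nor.conj_mem _ c.zM k

theorem D_le (c : Ch t j P M) {x : X} (hx : x * z0 = z0 * x) (hx1 : x.1 = 1) : j x ∈ M := by
  have ha : j (v0 * s0) ∈ M := by
    rw [map_mul]
    exact mul_mem (c.conjM c.zv0) (c.conjM c.zs)
  rcases F8 x hx hx1 with ⟨n, hn⟩ | ⟨n, hn⟩
  · rw [hn, map_pow]
    exact pow_mem ha _
  · have h1 : j x * j s0 ∈ M := by
      rw [← map_mul, hn, map_pow]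
      exact pow_mem ha _
    exact (Subgroup.mul_mem_cancel_right _ (c.conjM c.zs)).mp h1

theorem mem_M (c : Ch t j P M) {x : X} (hx : x * z0 = z0 * x) : j x ∈ M ↔ x.1 = 1 := by
  constructor
  · intro h
    rcases F10 x with h1 | h1
    · exact h1
    · exfalso
      have h2 : (t0 * x) * z0 = z0 * (t0 * x) := by
        rw [mul_assoc, hx, ← mul_assoc, ← mul_assoc, F4]
      have h3 := c.D_le h2 h1
      rw [map_mul, c.jt] at h3
      exact c.tM ((Subgroup.mul_mem_cancel_right _ h).mp h3)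
  · exact c.D_le hx

theorem conj_in_M (c : Ch t j P M) {x : G} (h : ∃ k, k * j z0 * k⁻¹ = x) : ∃ k ∈ M, k * j z0 * k⁻¹ = x := by
  obtain ⟨k, hk⟩ := h
  by_cases hkM : k ∈ M
  · exact ⟨k, hkM, hk⟩
  · refine ⟨k * t, ?_, ?_⟩
    · rw [Subgroup.mul_mem_iff_of_index_two c.idx]
      simp [hkM, c.tM]
    · have h1 := c.comm z0
      rw [← hk]
      calc k * t * j z0 * (k * t)⁻¹ = k * (t * j z0) * t⁻¹ * k⁻¹ := by group
        _ = k * (j z0 * t) * t⁻¹ * k⁻¹ := by rw [h1]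
        _ = _ := by group

theorem card_G [Finite G] (c : Ch t j P M) : ∃ m, Odd m ∧ Nat.card G = 16 * m ∧ Nat.card M = 8 * m := by
  haveI : Fact (Nat.Prime 2) := ⟨Nat.prime_two⟩
  have h1 := Subgroup.card_mul_index (P : Subgroup G)
  rw [c.hP, c.cardT, ← c.hP] at h1
  have h2 := Subgroup.card_mul_index M
  rw [c.idx] at h2
  refine ⟨(P : Subgroup G).index, ?_, h1.symm, by omega⟩
  rw [← Nat.not_even_iff_odd, even_iff_two_dvd]
  exact P.not_dvd_index

/-- `M` has no subgroup of index two -/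
theorem no_two [Finite G] (c : Ch t j P M) (N : Subgroup M) : N.index ≠ 2 := by
  intro hN
  haveI := c.nor
  have hNn : N.Normal := Subgroup.normal_of_index_eq_two hN
  have hconj : ∀ x : G, (h : ∃ k, k * j z0 * k⁻¹ = x) → ((⟨x, c.conjM h⟩ : M) ∈ N ↔ (⟨j z0, c.zM⟩ : M) ∈ N) := by
    intro x h
    obtain ⟨k, hkM, hk⟩ := c.conj_in_M h
    have h1 : (⟨x, c.conjM h⟩ : M) = (⟨k, hkM⟩ : M) * ⟨j z0, c.zM⟩ * (⟨k, hkM⟩ : M)⁻¹ := Subtype.ext hk.symm
    rw [h1]
    constructor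
    · intro h2
      have h3 := hNn.conj_mem _ h2 (⟨k, hkM⟩ : M)⁻¹
      have h4 : (⟨k, hkM⟩ : M)⁻¹ * ((⟨k, hkM⟩ : M) * ⟨j z0, c.zM⟩ * (⟨k, hkM⟩ : M)⁻¹) * (⟨k, hkM⟩ : M)⁻¹⁻¹ = ⟨j z0, c.zM⟩ := by group
      rwa [h4] at h3
    · intro h2
      exact hNn.conj_mem _ h2 _
  have hv := hconj _ c.zv0
  have hzv := hconj _ c.zzv
  have hs := hconj _ c.zs
  have hprod : (⟨j (z0 * v0), c.conjM c.zzv⟩ : M) = (⟨j z0, c.zM⟩ : M) * ⟨j v0, c.conjM c.zv0⟩ := by
    apply Subtype.ext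
    change j (z0 * v0) = j z0 * j v0
    rw [map_mul]
  have hzN : (⟨j z0, c.zM⟩ : M) ∈ N := by
    rw [hprod, Subgroup.mul_mem_iff_of_index_two hN] at hzv
    by_contra hcon
    simp [hcon, hv] at hzv
  have hvN := hv.mpr hzN
  have hsN := hs.mpr hzN
  -- D₀ lies in N
  have hD : Cg.D0 j ≤ N.map M.subtype := by
    intro g hg
    obtain ⟨x, hx, rfl⟩ := Cg.mem_D0.mp hg
    have hvm : j v0 ∈ N.map M.subtype := ⟨_, hvN, rfl⟩
    have hsm : j s0 ∈ N.map M.subtype := ⟨_, hsN, rfl⟩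
    have ha : j (v0 * s0) ∈ N.map M.subtype := by
      rw [map_mul]; exact mul_mem hvm hsm
    rcases F8 x hx.1 hx.2 with ⟨n, hn⟩ | ⟨n, hn⟩
    · rw [hn, map_pow]
      exact pow_mem ha _
    · have h1 : j x * j s0 ∈ N.map M.subtype := by
        rw [← map_mul, hn, map_pow]
        exact pow_mem ha _
      exact (Subgroup.mul_mem_cancel_right _ hsm).mp h1
  have hcD : Nat.card (Cg.D0 j) = 8 := by
    unfold Cg.D0
    rw [Subgroup.card_map_of_injective c.inj, ← cardD, Nat.card_eq_fintype_card.symm]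
    apply Nat.card_congr
    refine Equiv.subtypeEquivRight (fun x => ?_)
    rw [Subgroup.mem_inf, Subgroup.mem_centralizer_singleton_iff]
    rfl
  have h1 := Subgroup.card_dvd_of_le hD
  rw [hcD, Subgroup.card_map_of_injective M.subtype_injective] at h1
  obtain ⟨m, hm, -, hM8⟩ := c.card_G
  have h2 := Subgroup.card_mul_index N
  rw [hN, hM8] at h2
  obtain ⟨q, hq⟩ := h1
  obtain ⟨k, hk⟩ := hm
  omega

theorem d8 [Finite G] (c : Ch t j P M) : ∃ (A : Subgroup M) (s : M), H9.BSW.D8 M A ⟨j z0, c.zM⟩ s := by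
  have haM : j (v0 * s0) ∈ M := by
    rw [map_mul]
    exact mul_mem (c.conjM c.zv0) (c.conjM c.zs)
  set a : M := ⟨j (v0 * s0), haM⟩ with ha
  set z : M := ⟨j z0, c.zM⟩ with hz
  set s : M := ⟨j s0, c.conjM c.zs⟩ with hs
  have hz1 : z ≠ 1 := fun h => c.z_ne (congrArg Subtype.val h)
  have haa : a * a = z := by
    apply Subtype.ext
    change j (v0 * s0) * j (v0 * s0) = j z0
    rw [← map_mul, F9.1]
  have hzz : z * z = 1 := by
    apply Subtype.ext
    change j z0 * j z0 = 1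
    rw [← map_mul, F6.2.2.2.2.1, map_one]
  have hoa : orderOf a = 4 := by
    have := orderOf_eq_prime_pow (p := 2) (n := 1) (x := a) (by rw [pow_one, pow_two, haa]; exact hz1)
      (by
        have : (2:ℕ) ^ (1 + 1) = 2 + 2 := by norm_num
        rw [this, pow_add, pow_two, haa, hzz])
    rw [this]; norm_num
  have hcov : ∀ g : M, g * z = z * g → ∃ x : X, (x * z0 = z0 * x ∧ x.1 = 1) ∧ j x = g := by
    intro g hg
    have h1 : (g : G) * j z0 = j z0 * g := congrArg Subtype.val hg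
    obtain ⟨x, hx, hxg⟩ := c.cz _ h1
    refine ⟨x, ⟨hx, ?_⟩, hxg⟩
    rw [← c.mem_M hx, hxg]
    exact g.2
  refine ⟨Subgroup.zpowers a, s, ?_⟩
  refine ⟨inferInstance, by rw [Nat.card_zpowers, hoa], ?_, ?_, hz1, hzz, ?_, ?_, ?_, ?_, ?_⟩
  · rw [Subgroup.zpowers_le, Subgroup.mem_centralizer_singleton_iff, ← haa, mul_assoc]
  · rw [← haa]
    exact mul_mem (Subgroup.mem_zpowers a) (Subgroup.mem_zpowers a)
  · apply Subtype.ext
    change j s0 * j z0 = j z0 * j s0
    rw [← map_mul, F1'.2.2.1, map_mul]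
  · intro h
    rw [Subgroup.mem_zpowers_iff] at h
    obtain ⟨k, hk⟩ := h
    have h1 : a ^ (k % 4) = s := by
      rw [← hk]
      have := zpow_mod_orderOf a k
      rw [hoa] at this
      exact_mod_cast this
    have h2 : 0 ≤ k % 4 := Int.emod_nonneg _ (by norm_num)
    have h3 : k % 4 < 4 := Int.emod_lt_of_pos _ (by norm_num)
    obtain ⟨n, hn⟩ := Int.eq_ofNat_of_zero_le h2
    rw [hn] at h1 h3
    have hn4 : n < 4 := by exact_mod_cast h3
    apply F9.2.2.2 ⟨n, hn4⟩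
    apply c.inj
    rw [map_pow]
    have h4 : a ^ n = s := by exact_mod_cast h1
    have h5 := congrArg Subtype.val h4
    exact h5.symm
  · apply Subtype.ext
    change j s0 * j s0 = 1
    rw [← map_mul, F6.2.2.2.2.2.2.1, map_one]
  · intro x hx
    rw [Subgroup.mem_zpowers_iff] at hx
    obtain ⟨k, rfl⟩ := hx
    have h1 : s * a * s⁻¹ = a⁻¹ := by
      apply Subtype.ext
      change j s0 * j (v0 * s0) * (j s0)⁻¹ = (j (v0 * s0))⁻¹
      rw [← map_inv, ← map_inv, ← map_mul, ← map_mul, F9.2.1]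
    rw [← conj_zpow, h1, inv_zpow]
  · intro g hg
    obtain ⟨x, hx, hxg⟩ := hcov g hg
    rcases F8 x hx.1 hx.2 with ⟨n, hn⟩ | ⟨n, hn⟩
    · left
      have : g = a ^ (n : ℕ) := by
        apply Subtype.ext
        rw [← hxg, hn, map_pow]; rfl
      rw [this]
      exact pow_mem (Subgroup.mem_zpowers a) _
    · right
      have : g * s = a ^ (n : ℕ) := by
        apply Subtype.ext
        change (g : G) * j s0 = _
        rw [← hxg, ← map_mul, hn, map_pow]; rfl
      rw [this]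
      exact pow_mem (Subgroup.mem_zpowers a) _

theorem psl [Finite G] (c : Ch t j P M) :
    (Nat.card M = 360 ∧ ∃ (F : Type) (_ : Field F) (_ : Fintype F), Fintype.card F = 9 ∧
      Nonempty (M ≃* Matrix.ProjectiveSpecialLinearGroup (Fin 2) F)) ∨
    (Nat.card M = 168 ∧ ∃ (F : Type) (_ : Field F) (_ : Fintype F), Fintype.card F = 7 ∧
      Nonempty (M ≃* Matrix.ProjectiveSpecialLinearGroup (Fin 2) F)) := by
  obtain ⟨A, s, hd⟩ := c.d8
  obtain ⟨Q, hQ, hAQ, hrel⟩ := hd.sylow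
  have hone := H9.BSW.one_class (fun N _ => c.no_two N) Q hAQ hrel (fun x hx hx2 => hd.uniq hx hx2)
  exact H9.BSW.psl_of_four (hd.setup hone)

end Ch

end Cfsg.Agent.H20.TS
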