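import Cfsg.Agent.H20.TSd
import Cfsg.Agent.H20.AltSix
import Cfsg.Agent.H5.PSLSimple
import Mathlib.GroupTheory.SpecificGroups.Alternating.Simple

set_option autoImplicit false
set_option linter.unusedSectionVars false
set_option linter.style.haveILetI false
set_option linter.unusedVariables false
set_option linter.unusedSimpArgs false

/-! Groups with a central involution `t` whose centralizer is `Z₂ × S₄`: identification. -/

namespace Cfsg.Agent.H20.TS

open Cfsg

universe u
variable {G : Type u} [Group G]

open AltSix in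
/-- recognition of `S6` as an extension of `A6` -/
theorem perm6_of_index_two [Finite G] (M : Subgroup G) (hM : M.Normal) (hidx : M.index = 2) (e : M ≃* A6) {t x : G} (ht : t * t = 1)
    (htM : t ∉ M) (hx : orderOf x = 3) (hxt : x * t = t * x) (hcen : ∀ K : Subgroup G, K.Normal → K ⊓ M = ⊥ → K = ⊥) :
    Nonempty (G ≃* Equiv.Perm (Fin 6)) := by
  classical
  haveI := hM
  have hti : t⁻¹ = t := inv_eq_of_mul_eq_one_left ht
  have hxM : x ∈ M := by
    have h1 : x = (x ^ 2) ^ 2 := by
      rw [← pow_mul]
      have h2 : x ^ (2 * 2) = x ^ 3 * x := by group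
      rw [h2, ← hx, pow_orderOf_eq_one, one_mul]
    rw [h1]
    exact Subgroup.sq_mem_of_index_two hidx _
  obtain ⟨e', i, hi⟩ := exists_three_cycle_iso e (x := (⟨x, hxM⟩ : M)) (by rw [Subgroup.orderOf_mk, hx])
  let τ : M ≃* M := MulAut.conjNormal t
  have hτ : ∀ m : M, ((τ m : M) : G) = t * m * t⁻¹ := fun m => MulAut.conjNormal_apply _ _
  have hττ : ∀ m : M, τ (τ m) = m := by
    intro m
    apply Subtype.ext
    rw [hτ, hτ, hti]
    calc t * (t * (m : G) * t) * t = (t * t) * m * (t * t) := by group
      _ = m := by rw [ht, one_mul, mul_one]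
  let ψ : A6 ≃* A6 := (e'.symm.trans τ).trans e'
  have hψ : ∀ y, ψ y = e' (τ (e'.symm y)) := fun y => rfl
  obtain ⟨K, hK, hKψ⟩ := exists_invariant ψ (by
      intro y
      rw [hψ, hψ, e'.symm_apply_apply, hττ, e'.apply_symm_apply]) (c := e' ⟨x, hxM⟩)
    (by rw [MulEquiv.orderOf_eq, Subgroup.orderOf_mk, hx]) ⟨i, hi⟩ (by
      rw [hψ, e'.symm_apply_apply]
      congr 1
      apply Subtype.ext
      rw [hτ]
      change t * x * t⁻¹ = x
      rw [← hxt]; group)
  let H : Subgroup G := (K.comap e'.toMonoidHom).map M.subtype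
  have hHM : H ≤ M := by
    rintro _ ⟨m, -, rfl⟩
    exact m.2
  have hHt : ∀ h ∈ H, t * h * t ∈ H := by
    rintro _ ⟨m, hm, rfl⟩
    refine ⟨τ m, ?_, ?_⟩
    · have h1 := hKψ _ hm
      rw [hψ] at h1
      change e' (τ (e'.symm (e' m))) ∈ K at h1
      rw [e'.symm_apply_apply] at h1
      exact h1
    · change ((τ m : M) : G) = _
      rw [hτ, hti]; rfl
  have hHidx : H.index = 12 := by
    have h1 : (K.comap e'.toMonoidHom).index = 6 := by
      rw [Subgroup.index_comap_of_surjective _ e'.surjective, hK]
    have h2 : H.relIndex M = 6 := by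
      have h3 : H.subgroupOf M = K.comap e'.toMonoidHom := by
        ext m
        rw [Subgroup.mem_subgroupOf]
        constructor
        · rintro ⟨m', hm', h4⟩
          have : m' = m := Subtype.ext h4
          rw [← this]; exact hm'
        · intro hm
          exact ⟨m, hm, rfl⟩
      change (H.subgroupOf M).index = 6
      rw [h3, h1]
    have h3 := Subgroup.relIndex_mul_index hHM
    rw [h2, hidx] at h3
    omega
  let L : Subgroup G :=
    { carrier := {g | g ∈ H ∨ g * t ∈ H}
      one_mem' := Or.inl (one_mem _)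
      mul_mem' := by
        rintro a b (ha | ha) (hb | hb)
        · exact Or.inl (mul_mem ha hb)
        · right
          rw [mul_assoc]; exact mul_mem ha hb
        · right
          have h1 : a * b * t = (a * t) * (t * b * t) := by
            calc a * b * t = a * 1 * b * t := by group
              _ = a * (t * t) * b * t := by rw [ht]
              _ = _ := by group
          rw [h1]
          exact mul_mem ha (hHt b hb)
        · left
          have h1 : a * b = (a * t) * (t * (b * t) * t) := by
            calc a * b = a * 1 * b * 1 := by group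
              _ = a * (t * t) * b * (t * t) := by rw [ht]
              _ = _ := by group
          rw [h1]
          exact mul_mem ha (hHt _ hb)
      inv_mem' := by
        rintro a (ha | ha)
        · exact Or.inl (inv_mem ha)
        · right
          have h1 : a⁻¹ * t = t * (a * t)⁻¹ * t := by
            rw [mul_inv_rev, hti]
            calc a⁻¹ * t = 1 * a⁻¹ * t := by group
              _ = (t * t) * a⁻¹ * t := by rw [ht]
              _ = _ := by group
          rw [h1]
          exact hHt _ (inv_mem ha) }
  have hmemL : ∀ g, g ∈ L ↔ g ∈ H ∨ g * t ∈ H := fun g => Iff.rfl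
  have hHL : H ≤ L := fun g hg => Or.inl hg
  have htL : t ∈ L := by
    rw [hmemL]; right
    rw [ht]; exact one_mem _
  have hLM : L ⊓ M = H := by
    ext g
    rw [Subgroup.mem_inf, hmemL]
    constructor
    · rintro ⟨h1 | h1, h2⟩
      · exact h1
      · exfalso
        exact htM ((Subgroup.mul_mem_cancel_left _ h2).mp (hHM h1))
    · intro h
      exact ⟨Or.inl h, hHM h⟩
  have hrel : H.relIndex L = 2 := by
    change (H.subgroupOf L).index = 2
    rw [Subgroup.index_eq_two_iff]
    refine ⟨⟨t, htL⟩, ?_⟩
    rintro ⟨g, hg⟩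
    rw [Subgroup.mem_subgroupOf, Subgroup.mem_subgroupOf]
    change Xor' (g * t ∈ H) (g ∈ H)
    rcases (hmemL g).mp hg with h | h
    · right
      refine ⟨h, fun h2 => htM ((Subgroup.mul_mem_cancel_left _ (hHM h)).mp (hHM h2))⟩
    · left
      refine ⟨h, fun h2 => htM ((Subgroup.mul_mem_cancel_left _ (hHM h2)).mp (hHM h))⟩
  have hLidx : L.index = 6 := by
    have h1 := Subgroup.relIndex_mul_index hHL
    rw [hrel, hHidx] at h1
    omega
  have hA6 : IsSimpleGroup A6 := alternatingGroup.isSimpleGroup (by simp)
  have hsM : IsSimpleGroup M := e.isSimpleGroup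
  have hker : (MulAction.toPermHom G (G ⧸ L)).ker = ⊥ := by
    rw [← Subgroup.normalCore_eq_ker]
    apply hcen _ (Subgroup.normalCore_normal L)
    haveI : (L.normalCore).Normal := Subgroup.normalCore_normal L
    have h1 : ((L.normalCore).subgroupOf M).Normal := inferInstance
    rcases h1.eq_bot_or_eq_top with h2 | h2
    · rw [Subgroup.subgroupOf_eq_bot] at h2
      exact disjoint_iff.mp h2
    · exfalso
      rw [Subgroup.subgroupOf_eq_top] at h2
      have h3 : M ≤ L := h2.trans (Subgroup.normalCore_le L)
      have h4 : H = M := by rw [← hLM]; exact inf_eq_right.mpr h3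
      rw [h4, hidx] at hHidx
      omega
  have hcardG : Nat.card G = 720 := by
    have h1 := Subgroup.card_mul_index M
    rw [hidx, Nat.card_congr e.toEquiv, card_A6] at h1
    omega
  have hinj : Function.Injective (MulAction.toPermHom G (G ⧸ L)) := (MonoidHom.ker_eq_bot_iff _).mp hker
  have hcq : Nat.card (G ⧸ L) = 6 := hLidx
  haveI : Finite (G ⧸ L) := inferInstance
  have hbij : Function.Bijective (MulAction.toPermHom G (G ⧸ L)) := by
    rw [Nat.bijective_iff_injective_and_card]
    refine ⟨hinj, ?_⟩
    rw [hcardG, Nat.card_perm, hcq]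
    rfl
  have he : Nonempty ((G ⧸ L) ≃ Fin 6) := by
    rw [← hcq]
    exact ⟨Finite.equivFin _⟩
  obtain ⟨f⟩ := he
  exact ⟨(MulEquiv.ofBijective _ hbij).trans f.permCongrHom⟩

end Cfsg.Agent.H20.TS
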