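import Cfsg.Agent.H20.TSe

set_option autoImplicit false
set_option linter.unusedSectionVars false
set_option linter.style.haveILetI false
set_option linter.unusedVariables false
set_option linter.unusedSimpArgs false

/-! Groups with a central involution `t` whose centralizer is `Z₂ × S₄`: the main theorem. -/

namespace Cfsg.Agent.H20.TS

open Cfsg
open scoped Pointwise

universe u
variable {G : Type u} [Group G]

theorem t0s0_ne : t0 ≠ t0 * s0 := by decide

theorem tz_ne : t0 * z0 ≠ 1 := by decide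

theorem F13 : (∀ y : X, y * t0 = t0 * y) ∧ ∀ y : X, y * z0 = z0 * y → y * (t0 * z0) = (t0 * z0) * y := by
  constructor
  · exact F4
  · intro y hy
    rw [← mul_assoc, F4, mul_assoc, hy, mul_assoc]

namespace Ch
variable {t : G} {j : X →* G} {P : Sylow 2 G} {M : Subgroup G}

theorem no_cent [Finite G] (c : Ch t j P M) (hts : ∃ k, k * t * k⁻¹ = j (t0 * s0)) (K : Subgroup G) (hK : K.Normal)
    (hKM : K ⊓ M = ⊥) : K = ⊥ := by
  rw [Subgroup.eq_bot_iff_forall]
  intro y hy
  have hcen : ∀ g, g * y = y * g := by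
    intro g
    have h1 : g * y * g⁻¹ * y⁻¹ ∈ K := mul_mem (hK.conj_mem y hy g) (inv_mem hy)
    have h2 : g * y * g⁻¹ * y⁻¹ ∈ M := by
      rw [Subgroup.mul_mem_iff_of_index_two c.idx, Subgroup.mul_mem_iff_of_index_two c.idx,
        Subgroup.mul_mem_iff_of_index_two c.idx, inv_mem_iff, inv_mem_iff]
      tauto
    have h3 : g * y * g⁻¹ * y⁻¹ ∈ K ⊓ M := ⟨h1, h2⟩
    rw [hKM, Subgroup.mem_bot, mul_inv_eq_one, mul_inv_eq_iff_eq_mul] at h3
    exact h3
  obtain ⟨x, hx, hxy⟩ := c.cz y (hcen _).symm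
  have h1 : ∀ w : X, x * w = w * x := by
    intro w
    apply c.inj
    rw [map_mul, map_mul, hxy, hcen]
  rcases F5 x h1 with h2 | h2
  · rw [← hxy, h2, map_one]
  · exfalso
    obtain ⟨k, hk⟩ := hts
    rw [h2, c.jt] at hxy
    rw [hxy, hcen, ← hxy] at hk
    have h3 : t = j (t0 * s0) := by rw [← hk]; group
    rw [← c.jt] at h3
    exact t0s0_ne (c.inj h3)

theorem not_168 [Finite G] (c : Ch t j P M) (hts : ∃ k, k * t * k⁻¹ = j (t0 * s0)) (hcard : Nat.card M = 168)
    (hs : IsSimpleGroup M) : False := by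
  classical
  haveI : Fact (Nat.Prime 7) := ⟨by norm_num⟩
  haveI : Fact (Nat.Prime 2) := ⟨Nat.prime_two⟩
  haveI hMn := c.nor
  have hG : Nat.card G = 336 := by
    have h1 := Subgroup.card_mul_index M
    rw [c.idx, hcard] at h1
    omega
  obtain ⟨Q⟩ : Nonempty (Sylow 7 G) := inferInstance
  have hQ : Nat.card (Q : Subgroup G) = 7 := by
    have h1 := Q.card_eq_multiplicity
    rw [hG] at h1
    have h2 : (336 : ℕ).factorization 7 = 1 := by
      have h3 : 336 = 7 * 48 := by norm_num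
      rw [h3, Nat.factorization_mul (by norm_num) (by norm_num), Finsupp.add_apply, Nat.Prime.factorization_self (by norm_num),
        Nat.factorization_eq_zero_of_not_dvd (by norm_num)]
    rw [h2] at h1
    simpa using h1
  have hQM : (Q : Subgroup G) ≤ M := by
    intro x hx
    have h1 : x ^ 7 = 1 := by
      have := H4.pow_card_of_mem hx
      rwa [hQ] at this
    have h2 : x = (x ^ 4) ^ 2 := by
      rw [← pow_mul]
      have h3 : x ^ (4 * 2) = x ^ 7 * x := by group
      rw [h3, h1, one_mul]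
    rw [h2]
    exact Subgroup.sq_mem_of_index_two c.idx _
  have hn : Nat.card (Sylow 7 G) = 8 := by
    have h1 := card_sylow_modEq_one 7 G
    have h2 := Q.card_dvd_index
    have h3 := Subgroup.card_mul_index (Q : Subgroup G)
    rw [hQ, hG] at h3
    have h4 : (Q : Subgroup G).index = 48 := by omega
    rw [h4] at h2
    have h5 : Nat.card (Sylow 7 G) ≤ 48 := Nat.le_of_dvd (by norm_num) h2
    have h6 : Nat.card (Sylow 7 G) = 1 ∨ Nat.card (Sylow 7 G) = 8 := by
      generalize Nat.card (Sylow 7 G) = n at h1 h2 h5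
      unfold Nat.ModEq at h1
      interval_cases n <;> omega
    rcases h6 with h6 | h6
    · exfalso
      haveI : Subsingleton (Sylow 7 G) := (Nat.card_eq_one_iff_unique.mp h6).1
      have h7 : (Q : Subgroup G).Normal := Sylow.normal_of_subsingleton Q
      have h8 : ((Q : Subgroup G).subgroupOf M).Normal := inferInstance
      rcases h8.eq_bot_or_eq_top with h9 | h9
      · rw [Subgroup.subgroupOf_eq_bot, disjoint_iff, inf_eq_left.mpr hQM] at h9
        rw [h9, Subgroup.card_bot] at hQ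
        omega
      · rw [Subgroup.subgroupOf_eq_top] at h9
        have h10 := Subgroup.card_dvd_of_le h9
        rw [hcard, hQ] at h10
        have := Nat.le_of_dvd (by norm_num) h10
        omega
    · exact h6
  have hstab : ∀ R : Sylow 7 G, Nat.card (MulAction.stabilizer G R) = 42 := by
    intro R
    have h1 := (MulAction.stabilizer G R).index_mul_card
    rw [MulAction.index_stabilizer_of_transitive, hn, hG] at h1
    omega
  have hQM' : ∀ R : Sylow 7 G, (R : Subgroup G) ≤ M := by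
    intro R
    obtain ⟨g, hg⟩ := MulAction.exists_smul_eq G Q R
    rw [← hg]
    intro x hx
    have h1 : x ∈ MulAut.conj g • (Q : Subgroup G) := hx
    rw [Subgroup.mem_pointwise_smul_iff_inv_smul_mem] at h1
    have h2 := hQM h1
    have h3 : (MulAut.conj g)⁻¹ • x = g⁻¹ * x * g := by simp [MulAut.smul_def]
    rw [h3] at h2
    have h4 := hMn.conj_mem _ h2 g
    have h5 : g * (g⁻¹ * x * g) * g⁻¹ = x := by group
    rwa [h5] at h4
  have hnle : ∀ R : Sylow 7 G, ¬ MulAction.stabilizer G R ≤ M := by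
    intro R hle
    have h1 := Sylow.normalizer_sup_eq_top' R (hQM' R)
    rw [← Sylow.stabilizer_eq_normalizer, sup_eq_right.mpr hle] at h1
    have h2 := c.idx
    rw [h1, Subgroup.index_top] at h2
    omega
  have h21 : ∀ R : Sylow 7 G, ∀ d ∈ M, d ∈ MulAction.stabilizer G R → orderOf d ∣ 21 := by
    intro R d hdM hdR
    have h1 : M.relIndex (MulAction.stabilizer G R) ∣ 2 := by
      rw [← c.idx]; exact Subgroup.relIndex_dvd_index_of_normal _ _
    have h2 : M.relIndex (MulAction.stabilizer G R) ≠ 1 := by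
      rw [Ne, Subgroup.relIndex_eq_one]
      exact hnle R
    have h3 : M.relIndex (MulAction.stabilizer G R) = 2 := ((Nat.dvd_prime Nat.prime_two).mp h1).resolve_left h2
    have h4 := Subgroup.card_mul_index (M.subgroupOf (MulAction.stabilizer G R))
    rw [hstab R] at h4
    change _ * M.relIndex (MulAction.stabilizer G R) = 42 at h4
    rw [h3] at h4
    have h5 : Nat.card (M.subgroupOf (MulAction.stabilizer G R)) = 21 := by omega
    rw [← h5]
    have h6 : (⟨d, hdR⟩ : MulAction.stabilizer G R) ∈ M.subgroupOf (MulAction.stabilizer G R) := hdM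
    have h7 := Subgroup.orderOf_dvd_natCard _ h6
    rwa [Subgroup.orderOf_mk] at h7
  -- an involution outside `M` normalizing `Q`
  obtain ⟨w, hwQ, hwM⟩ : ∃ w, w ∈ MulAction.stabilizer G Q ∧ w ∉ M := by
    by_contra hcon
    push Not at hcon
    exact hnle Q hcon
  set u : G := w ^ 21 with hu
  have huQ : u ∈ MulAction.stabilizer G Q := pow_mem hwQ _
  have huM : u ∉ M := by
    intro h
    apply hwM
    have h1 : w = (w ^ 21) * ((w ^ 10) ^ 2)⁻¹ := by group
    rw [h1]
    exact mul_mem h (inv_mem (Subgroup.sq_mem_of_index_two c.idx _))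
  have huu : u * u = 1 := by
    rw [hu, ← pow_add]
    have h1 := H4.pow_card_of_mem hwQ
    rw [hstab Q] at h1
    exact h1
  have hu1 : u ≠ 1 := fun h => huM (h ▸ one_mem _)
  obtain ⟨g, hg⟩ := H9.BSW.exists_conj_sylow P (H9.BSW.orderOf_two hu1 huu)
  have hg' := hg
  rw [c.hP, mem_Tm] at hg'
  obtain ⟨x, hx, hxg⟩ := hg'
  have hxM : x.1 ≠ 1 := by
    intro h
    have h1 := c.D_le hx h
    rw [hxg] at h1
    apply huM
    have h2 := hMn.conj_mem _ h1 g⁻¹
    have h3 : g⁻¹ * (g * u * g⁻¹) * g⁻¹⁻¹ = u := by group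
    rwa [h3] at h2
  have hxx : x * x = 1 := by
    apply c.inj
    rw [map_mul, hxg, map_one]
    calc g * u * g⁻¹ * (g * u * g⁻¹) = g * (u * u) * g⁻¹ := by group
      _ = 1 := by rw [huu]; group
  obtain ⟨hz1, hz2⟩ := c.zv
  have hrt : ∀ y : G, t * (j r0 * y * (j r0)⁻¹) = j r0 * (t * y) * (j r0)⁻¹ := by
    intro y
    calc t * (j r0 * y * (j r0)⁻¹) = (t * j r0) * y * (j r0)⁻¹ := by group
      _ = (j r0 * t) * y * (j r0)⁻¹ := by rw [c.jr]
      _ = _ := by group
  obtain ⟨k, y, hky, hyx⟩ : ∃ (k : G) (y : X), k * u * k⁻¹ = j y ∧ (y = t0 ∨ y = t0 * z0) := by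
    obtain ⟨m, hm⟩ := hts
    rcases F11 x hx hxM hxx with h | h | h | h | h | h
    · exact ⟨g, t0, by rw [← hxg, h], Or.inl rfl⟩
    · exact ⟨g, t0 * z0, by rw [← hxg, h], Or.inr rfl⟩
    · refine ⟨(j r0)⁻¹ * g, t0 * z0, ?_, Or.inr rfl⟩
      rw [← conj_comp, ← hxg, h, map_mul, map_mul, c.jt, ← hz1, hrt]; group
    · refine ⟨(j r0)⁻¹ * (j r0)⁻¹ * g, t0 * z0, ?_, Or.inr rfl⟩
      rw [← conj_comp, ← hxg, h, map_mul, map_mul j t0 z0, c.jt, ← hz2, ← hz1, hrt, hrt]; group
    · refine ⟨m⁻¹ * g, t0, ?_, Or.inl rfl⟩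
      rw [← conj_comp, ← hxg, h, ← hm, c.jt]; group
    · refine ⟨m⁻¹ * (j v0)⁻¹ * g, t0, ?_, Or.inl rfl⟩
      rw [← conj_comp, ← hxg, h, ← c.ts_v, ← hm, c.jt]; group
  -- `j y` stabilizes `R = k • Q`
  have hyR : j y ∈ MulAction.stabilizer G (k • Q) := by
    rw [← hky, MulAction.mem_stabilizer_iff]
    have h1 : u • Q = Q := huQ
    rw [← mul_smul]
    have h2 : k * u * k⁻¹ * k = k * u := by group
    rw [h2, mul_smul, h1]
  have hyc : ∀ d ∈ Cg.D0 j, d * j y = j y * d := by
    intro d hd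
    obtain ⟨e, he, rfl⟩ := Cg.mem_D0.mp hd
    rw [← map_mul, ← map_mul]
    congr 1
    rcases hyx with h | h
    · rw [h, F13.1]
    · rw [h, F13.2 e he.1]
  have hcD : Nat.card (Cg.D0 j) = 8 := by
    unfold Cg.D0
    rw [Subgroup.card_map_of_injective c.inj, ← cardD, Nat.card_eq_fintype_card.symm]
    apply Nat.card_congr
    refine Equiv.subtypeEquivRight (fun x => ?_)
    rw [Subgroup.mem_inf, Subgroup.mem_centralizer_singleton_iff]
    rfl
  have horb : ∀ R : Sylow 7 G, ∃ d ∈ Cg.D0 j, d • (k • Q) = R := by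
    have h1 : Nat.card (MulAction.stabilizer (Cg.D0 j) (k • Q)) = 1 := by
      rw [Subgroup.card_eq_one, Subgroup.eq_bot_iff_forall]
      intro d hd
      have hd' : (d : G) ∈ MulAction.stabilizer G (k • Q) := hd
      have hdM : (d : G) ∈ M := by
        obtain ⟨e, he, hed⟩ := Cg.mem_D0.mp d.2
        rw [← hed]
        exact c.D_le he.1 he.2
      have h2 := h21 _ _ hdM hd'
      have h3 : orderOf (d : G) ∣ 8 := by
        rw [← hcD]
        exact Subgroup.orderOf_dvd_natCard _ d.2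
      have h4 := Nat.dvd_gcd h2 h3
      norm_num at h4
      exact h4
    have h2 := (MulAction.stabilizer (Cg.D0 j) (k • Q)).index_mul_card
    rw [h1, hcD, mul_one, MulAction.index_stabilizer] at h2
    have h3 : MulAction.orbit (Cg.D0 j) (k • Q) = Set.univ := by
      apply Set.eq_of_subset_of_ncard_le (Set.subset_univ _)
      rw [Set.ncard_univ, hn, h2]
    intro R
    have h4 : R ∈ MulAction.orbit (Cg.D0 j) (k • Q) := by rw [h3]; trivial
    obtain ⟨d, hd⟩ := h4
    exact ⟨d, d.2, hd⟩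
  have hker : j y ∈ (MulAction.toPermHom G (Sylow 7 G)).ker := by
    rw [MonoidHom.mem_ker]
    ext1 R
    obtain ⟨d, hd, rfl⟩ := horb R
    change j y • (d • (k • Q)) = d • (k • Q)
    rw [← mul_smul, ← hyc d hd, mul_smul]
    congr 1
  have hKbot : (MulAction.toPermHom G (Sylow 7 G)).ker = ⊥ := by
    apply c.no_cent hts _ inferInstance
    have h1 : ((MulAction.toPermHom G (Sylow 7 G)).ker.subgroupOf M).Normal := inferInstance
    rcases h1.eq_bot_or_eq_top with h2 | h2
    · rw [Subgroup.subgroupOf_eq_bot] at h2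
      exact disjoint_iff.mp h2
    · exfalso
      rw [Subgroup.subgroupOf_eq_top] at h2
      have h3 : M ≤ MulAction.stabilizer G Q := by
        intro m hm
        have h4 := h2 hm
        rw [MonoidHom.mem_ker] at h4
        have h5 := congrArg (fun f : Equiv.Perm (Sylow 7 G) => f Q) h4
        exact h5
      have h4 := Subgroup.card_dvd_of_le h3
      rw [hcard, hstab] at h4
      have := Nat.le_of_dvd (by norm_num) h4
      omega
  rw [hKbot, Subgroup.mem_bot] at hker
  have h1 : y = 1 := c.inj (by rw [hker, map_one])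
  rcases hyx with h | h
  · rw [h] at h1
    exact F6.2.2.2.2.2.2.2 h1
  · rw [h] at h1
    exact tz_ne h1

theorem perm6 [Finite G] (c : Ch t j P M) (hts : ∃ k, k * t * k⁻¹ = j (t0 * s0)) : Nonempty (G ≃* Equiv.Perm (Fin 6)) := by
  rcases c.psl with ⟨hc, F, iF, iFt, hF, ⟨e⟩⟩ | ⟨hc, F, iF, iFt, hF, ⟨e⟩⟩
  · obtain ⟨F', iF', iFt', hF', ⟨e'⟩⟩ := H9.BSW.Alt6.psl
    obtain ⟨i⟩ := H9.BSW.psl_iso_of_card (F := F) (F' := F') (by rw [hF, hF'])
    have hr : r0 * r0 * r0 = 1 ∧ r0 ≠ 1 := by decide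
    refine perm6_of_index_two M c.nor c.idx ((e.trans i).trans e'.symm) (t := t) (x := j r0) ?_ c.tM ?_ c.jr (c.no_cent hts)
    · rw [← c.jt, ← map_mul, F6.2.2.2.1, map_one]
    · rw [orderOf_injective j c.inj]
      apply orderOf_eq_prime
      · rw [pow_succ, pow_two]; exact hr.1
      · exact hr.2
  · exfalso
    apply c.not_168 hts hc
    haveI : IsSimpleGroup (Matrix.ProjectiveSpecialLinearGroup (Fin 2) F) := H5.PSL2_isSimple (by
      rw [Nat.card_eq_fintype_card, hF]; norm_num)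
    exact e.isSimpleGroup

end Ch

/-- the main theorem -/
theorem main [Finite G] (t : G) (ht : orderOf t = 2) (T : Sylow 2 G)
    (htc : ∀ s ∈ (T : Subgroup G), s * t = t * s)
    (e : ↥(Subgroup.centralizer ({t} : Set G)) ≃* (Multiplicative (ZMod 2) × Equiv.Perm (Fin 4)))
    (h2 : ∀ S : Sylow 2 G, Subgroup.centralizer ((⁅(S : Subgroup G), (S : Subgroup G)⁆ : Subgroup G) : Set G) = (S : Subgroup G)) :
    Subgroup.centralizer ({t} : Set G) = ⊤ ∨ Nonempty (G ≃* Equiv.Perm (Fin 6)) := by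
  obtain ⟨j, cf⟩ := exists_cf ht e
  -- reduction to `t ~ t s`
  have key : ∀ j' : X →* G, Cf t j' → (∃ k, k * t * k⁻¹ = j' (t0 * s0)) → Nonempty (G ≃* Equiv.Perm (Fin 6)) := by
    intro j' cf' hts
    obtain ⟨P, hP⟩ := cf'.sylow T htc
    have cg := cf'.toCg P hP (h2 P)
    obtain ⟨k, hk⟩ := hts
    obtain ⟨M, ch⟩ := cg.caseII2 (cg.caseII1 hk)
    exact ch.perm6 ⟨k, hk⟩
  by_cases h3 : ∃ k, k * t * k⁻¹ = j (t0 * s0)
  · exact Or.inr (key j cf h3)
  by_cases h4 : ∃ k, k * t * k⁻¹ = j s0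
  · right
    apply key _ cf.twist
    obtain ⟨k, hk⟩ := h4
    refine ⟨k, ?_⟩
    rw [hk]
    change j s0 = j (tw (t0 * s0))
    congr 1
  · left
    push Not at h3 h4
    obtain ⟨P, hP⟩ := cf.sylow T htc
    exact (cf.toCg P hP (h2 P)).caseI ht h4 h3

end Cfsg.Agent.H20.TS
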