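import Mathlib
import Cfsg.Prelude.Def_Transfer
import Cfsg.Agent.H2.NComp
import Cfsg.Agent.H20.Basic

set_option autoImplicit false

namespace Cfsg.Agent.H20

open Subgroup

/-- A group with a cyclic Sylow `2`-subgroup has a normal `2`-complement. -/
theorem hasNormalPComplement_of_cyclic {G : Type*} [Group G] [Finite G] (S : Sylow 2 G)
    (hS : IsCyclic S) : HasNormalPComplement 2 G := by
  have hf : Fact (Nat.Prime 2) := ⟨Nat.prime_two⟩
  by_cases h2 : 2 ∣ Nat.card G
  · have hmin : (Nat.card G).minFac = 2 := (Nat.minFac_eq_two_iff _).mpr h2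
    exact ⟨S, _, inferInstance, IsCyclic.isComplement' hmin hS⟩
  · exact H2.HasNormalPComplement.of_not_dvd h2

/-- Burnside's normal complement theorem. -/
theorem hasNormalPComplement_of_normalizer_le {G : Type*} [Group G] [Finite G] {p : ℕ}
    [Fact p.Prime] (S : Sylow p G)
    (hS : normalizer ((S : Subgroup G) : Set G) ≤ centralizer ((S : Subgroup G) : Set G)) :
    HasNormalPComplement p G :=
  ⟨S, _, inferInstance, MonoidHom.ker_transferSylow_isComplement' S hS⟩

/-- If a normal subgroup of `p`-power index has a normal `p`-complement, so has the group. -/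
theorem hasNormalPComplement_of_normal {G : Type*} [Group G] [Finite G] {p : ℕ} [Fact p.Prime]
    (N : Subgroup G) [hN : N.Normal] {k : ℕ} (hk : N.index = p ^ k)
    (h : HasNormalPComplement p N) : HasNormalPComplement p G := by
  obtain ⟨K, hK, hpK, j, hj⟩ := H2.hasNormalPComplement_iff.mp h
  rw [H2.hasNormalPComplement_iff]
  refine ⟨K.map N.subtype, ?_, ?_, k + j, ?_⟩
  · refine ⟨fun n hn g => ?_⟩
    obtain ⟨m, hm, rfl⟩ := hn
    have h1 : (⟨g * m * g⁻¹, hN.conj_mem m m.2 g⟩ : N) ∈ K := by
      have hm' : m ∈ K := hm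
      rw [H2.mem_normal_complement_iff hpK hj] at hm' ⊢
      have : orderOf (⟨g * m * g⁻¹, hN.conj_mem m m.2 g⟩ : N) = orderOf m := by
        rw [← Subgroup.orderOf_coe, ← Subgroup.orderOf_coe]
        change orderOf (g * m * g⁻¹) = orderOf (m : G)
        exact (orderOf_injective (MulAut.conj g).toMonoidHom (MulAut.conj g).injective (m : G))
      rwa [this]
    exact ⟨_, h1, rfl⟩
  · rwa [Subgroup.card_map_of_injective N.subtype_injective]
  · have h1 := Subgroup.index_map_subtype K
    rw [h1, hk, hj, mul_comm, ← pow_add]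

/-- An element of a cyclic-type group: if the Sylow `2`-subgroup contains an element whose order is
the order of the Sylow subgroup, it is cyclic. -/
theorem isCyclic_of_orderOf_eq {G : Type*} [Group G] [Finite G] {A : Subgroup G} {x : G}
    (hx : x ∈ A) (h : orderOf x = Nat.card A) : IsCyclic A := by
  apply isCyclic_of_orderOf_eq_card (⟨x, hx⟩ : A)
  rw [Subgroup.orderOf_mk]; exact h

end Cfsg.Agent.H20
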