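import Cfsg.Agent.H20.Zass9
import Cfsg.Agent.H3.Ind
import Cfsg.Agent.H3.Perm
import Cfsg.Agent.H3.Frob
import Cfsg.Agent.H3.Isometry

/-!
Zassenhaus groups with inverted two-point stabilisers of odd order: characters induced from a
point stabiliser.
-/

set_option autoImplicit false
set_option linter.style.haveILetI false

open Cfsg MulAction
open scoped Pointwise ComplexConjugate

namespace Cfsg.Agent.H20.Zass

open Cfsg.Agent.H3

universe u v

variable {G : Type u} [Group G] [Fintype G] {Ω : Type v} [MulAction G Ω]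

/-- Induction from a point stabiliser as a sum over fixed points. -/
theorem indFun_stabilizer [Finite Ω] [IsPretransitive G Ω] (a : Ω)
    (θ : stabilizer G a → ℂ) (hθ : IsClassFunction (stabilizer G a) θ) (x : G)
    (g : Ω → G) (hg : ∀ c, g c • a = c) [Fintype Ω] [DecidableEq Ω] :
    indFun (stabilizer G a) θ x = ∑ c : Ω, if x • c = c then
      extendByZero (stabilizer G a) θ ((g c)⁻¹ * x * g c) else 0 := by
  classical
  have hS : (Nat.card (stabilizer G a) : ℂ) ≠ 0 := by exact_mod_cast Nat.card_pos.ne'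
  have key : ∀ y : G, extendByZero (stabilizer G a) θ (y⁻¹ * x * y) =
      if x • (y • a) = y • a then
        extendByZero (stabilizer G a) θ ((g (y • a))⁻¹ * x * g (y • a)) else 0 := by
    intro y
    have h2 : y⁻¹ * x * y ∈ stabilizer G a ↔ x • (y • a) = y • a := by
      rw [mem_stabilizer_iff, mul_smul, mul_smul, inv_smul_eq_iff]
    split_ifs with h3
    · have h4 := h2.mpr h3
      have hk : (g (y • a))⁻¹ * y ∈ stabilizer G a := by
        rw [mem_stabilizer_iff, mul_smul, inv_smul_eq_iff, hg]
      have h5 : (g (y • a))⁻¹ * x * g (y • a) ∈ stabilizer G a := by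
        have h6 := (stabilizer G a).mul_mem ((stabilizer G a).mul_mem hk h4)
          ((stabilizer G a).inv_mem hk)
        convert h6 using 1
        group
      rw [extendByZero_mem _ _ h4, extendByZero_mem _ _ h5]
      have h7 := hθ ⟨_, h4⟩ ⟨_, hk⟩
      rw [← h7]
      congr 1
      apply Subtype.ext
      show (g (y • a))⁻¹ * y * (y⁻¹ * x * y) * ((g (y • a))⁻¹ * y)⁻¹ = _
      group
    · exact extendByZero_not_mem _ _ (fun h => h3 (h2.mp h))
  rw [indFun, Finset.sum_congr rfl fun y _ => key y]
  have h3 : ∑ y : G, (if x • (y • a) = y • a then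
      extendByZero (stabilizer G a) θ ((g (y • a))⁻¹ * x * g (y • a)) else 0) =
      (Nat.card (stabilizer G a) : ℂ) * ∑ c : Ω, if x • c = c then
      extendByZero (stabilizer G a) θ ((g c)⁻¹ * x * g c) else 0 := by
    rw [← Finset.sum_fiberwise (s := Finset.univ) (g := fun y : G => y • a)
      (f := fun y => if x • (y • a) = y • a then
      extendByZero (stabilizer G a) θ ((g (y • a))⁻¹ * x * g (y • a)) else 0), Finset.mul_sum]
    refine Finset.sum_congr rfl fun c _ => ?_
    rw [Finset.sum_congr rfl (g := fun _ => if x • c = c then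
      extendByZero (stabilizer G a) θ ((g c)⁻¹ * x * g c) else 0) (fun y hy => by
      rw [(Finset.mem_filter.mp hy).2])]
    rw [Finset.sum_const, nsmul_eq_mul]
    congr 1
    rw [Nat.card_eq_fintype_card, ← Finset.card_univ]
    norm_cast
    refine Finset.card_bij' (fun y _ => if h : (g c)⁻¹ * y ∈ stabilizer G a then
      (⟨(g c)⁻¹ * y, h⟩ : stabilizer G a) else 1) (fun y _ => g c * y) ?_ ?_ ?_ ?_
    · intro y _; exact Finset.mem_univ _
    · intro y _
      rw [Finset.mem_filter]
      refine ⟨Finset.mem_univ _, ?_⟩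
      have := y.2
      rw [mem_stabilizer_iff] at this
      rw [mul_smul, this, hg]
    · intro y hy
      have h4 : y • a = c := (Finset.mem_filter.mp hy).2
      have h5 : (g c)⁻¹ * y ∈ stabilizer G a := by
        rw [mem_stabilizer_iff, mul_smul, h4, inv_smul_eq_iff, hg]
      simp [h5]
    · intro y _
      simp
  rw [h3, ← mul_assoc, inv_mul_cancel₀ hS, one_mul]

omit [Fintype G] in
theorem pretransitive (hZ : IsZassenhausGroup G Ω) : IsPretransitive G Ω :=
  ⟨fun a c => exists_smul_one hZ a c⟩

/-- value of an induced character at elements fixing exactly one point -/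
theorem indFun_one_fix [Finite Ω] (hZ : IsZassenhausGroup G Ω) {a : Ω} (θ : stabilizer G a → ℂ)
    (hθ : IsClassFunction (stabilizer G a) θ) {x : G} (hx : x • a = a)
    (hx' : ∀ c : Ω, x • c = c → c = a) : indFun (stabilizer G a) θ x = θ ⟨x, hx⟩ := by
  classical
  haveI := pretransitive hZ
  haveI : Fintype Ω := Fintype.ofFinite Ω
  choose g0 hg0 using fun c : Ω => exists_smul_one hZ a c
  let g : Ω → G := fun c => if c = a then 1 else g0 c
  have hg : ∀ c, g c • a = c := by
    intro c
    by_cases h : c = a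
    · simp [g, h]
    · simp [g, h, hg0]
  rw [indFun_stabilizer a θ hθ x g hg, Finset.sum_eq_single a]
  · rw [if_pos hx]
    have : (g a)⁻¹ * x * g a = x := by simp [g]
    rw [this, extendByZero_mem _ _ hx]
  · intro c _ hc
    rw [if_neg (fun h => hc (hx' c h))]
  · intro h; exact absurd (Finset.mem_univ a) h

namespace OddInv

variable (h : OddInv G Ω)
include h

/-- value of an induced character at non-identity elements fixing two points -/
theorem indFun_two_fix {a : Ω} (θ : stabilizer G a → ℂ)
    (hθ : IsClassFunction (stabilizer G a) θ) {x : G} (hx1 : x ≠ 1) (hx : x • a = a) {c : Ω}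
    (hac : a ≠ c) (hc : x • c = c) :
    indFun (stabilizer G a) θ x = θ ⟨x, hx⟩ + θ ⟨x, hx⟩⁻¹ := by
  classical
  haveI := h.fin
  haveI := pretransitive h.zass
  haveI : Fintype Ω := Fintype.ofFinite Ω
  choose g0 hg0 using fun c : Ω => exists_smul_one h.zass a c
  obtain ⟨s, hsa, hsc⟩ := exists_smul h.zass hac (Ne.symm hac)
  let g : Ω → G := fun d => if d = a then 1 else if d = c then s else g0 d
  have hg : ∀ d, g d • a = d := by
    intro d
    by_cases h1 : d = a
    · simp [g, h1]
    · by_cases h2 : d = c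
      · simp [g, h2, hsa, Ne.symm hac]
      · simp [g, h1, h2, hg0]
  rw [indFun_stabilizer a θ hθ x g hg]
  have hsum : ∀ d : Ω, (if x • d = d then extendByZero (stabilizer G a) θ ((g d)⁻¹ * x * g d) else 0)
      = (if d = a then θ ⟨x, hx⟩ else 0) + (if d = c then θ ⟨x, hx⟩⁻¹ else 0) := by
    intro d
    by_cases h1 : d = a
    · subst h1
      have : (g d)⁻¹ * x * g d = x := by simp [g]
      rw [if_pos hx, this, extendByZero_mem _ _ hx, if_pos rfl, if_neg hac, add_zero]
    · by_cases h2 : d = c
      · subst h2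
        have h3 : (g d)⁻¹ * x * g d = x⁻¹ := by
          have h4 : g d = s := by simp [g, h1]
          rw [h4]
          have h5 := h.inv a d hac s⁻¹ (inv_smul_eq_iff.mpr hsc.symm) (inv_smul_eq_iff.mpr hsa.symm)
            x ⟨hx, hc⟩
          rwa [inv_inv] at h5
        rw [if_pos hc, h3, extendByZero_mem _ _ ((stabilizer G a).inv_mem hx), if_neg h1,
          if_pos rfl, zero_add]
        rfl
      · have h3 : x • d ≠ d := by
          intro h4
          rcases pair_of_fix h.zass hac hx1 hx hc h4 with h5 | h5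
          · exact h1 h5
          · exact h2 h5
        rw [if_neg h3, if_neg h1, if_neg h2, add_zero]
  rw [Finset.sum_congr rfl (fun d _ => hsum d), Finset.sum_add_distrib, Finset.sum_ite_eq',
    Finset.sum_ite_eq', if_pos (Finset.mem_univ _), if_pos (Finset.mem_univ _)]

/-- In the point stabiliser: sum over `G_a ∖ K_a`. -/
theorem inner_ind_lin {a : Ω} [Fintype (stabilizer G a)] (θ η : stabilizer G a → ℂ)
    (hθ : IsClassFunction (stabilizer G a) θ) (hη : IsClassFunction (stabilizer G a) η)
    (hθK : ∀ x : stabilizer G a, (x : G) ∈ (haveI := h.fin; K h.zass a) → θ x = 1)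
    (hηK : ∀ x : stabilizer G a, (x : G) ∈ (haveI := h.fin; K h.zass a) → η x = 1) :
    classInner (indFun (stabilizer G a) θ) (indFun (stabilizer G a) η) =
      classInner θ η + classInner (fun x => θ x⁻¹) η := by
  classical
  haveI := h.fin
  rw [frobenius_reciprocity' (stabilizer G a) η (indFun_classFun _ _), classInner, classInner,
    classInner, ← mul_add, ← Finset.sum_add_distrib]
  congr 1
  -- compare pointwise except at the identity
  have hK1 : ∀ x : stabilizer G a, (x : G) ∈ K h.zass a → x ≠ 1 →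
      indFun (stabilizer G a) θ x = 1 := by
    intro x hx hx1
    have hx1' : (x : G) ≠ 1 := fun h' => hx1 (Subtype.ext h')
    rw [indFun_one_fix h.zass θ hθ x.2 (fun c hc => K_fix h.zass hx hx1' hc)]
    exact hθK x hx
  have hE : ∀ x : stabilizer G a, (x : G) ∉ K h.zass a →
      indFun (stabilizer G a) θ x = θ x + θ x⁻¹ := by
    intro x hx
    rw [mem_K] at hx
    push Not at hx
    obtain ⟨hx1, hx2⟩ := hx
    obtain ⟨c, hc, hca⟩ := hx2 x.2
    exact h.indFun_two_fix θ hθ hx1 x.2 (Ne.symm hca) hc
  have hone : indFun (stabilizer G a) θ 1 = (Nat.card Ω : ℂ) := by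
    haveI := pretransitive h.zass
    rw [indFun_one_apply, index_stabilizer_of_transitive, hθK 1 (one_mem _), mul_one]
  -- the difference summed
  have hdiff : ∑ x : stabilizer G a, (indFun (stabilizer G a) θ x * conj (η x) -
      (θ x * conj (η x) + θ x⁻¹ * conj (η x))) = 0 := by
    have h1 : ∀ x : stabilizer G a, (indFun (stabilizer G a) θ x * conj (η x) -
      (θ x * conj (η x) + θ x⁻¹ * conj (η x))) =
        if (x : G) ∈ K h.zass a then ((if x = 1 then (Nat.card Ω : ℂ) - 1 else 0) - 1) else 0 := by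
      intro x
      by_cases hx : (x : G) ∈ K h.zass a
      · rw [if_pos hx]
        have hxi : ((x⁻¹ : stabilizer G a) : G) ∈ K h.zass a := by
          rw [Subgroup.coe_inv]; exact (K h.zass a).inv_mem hx
        by_cases hx1 : x = 1
        · rw [if_pos hx1, hθK x hx, hθK x⁻¹ hxi, hηK x hx, hx1]
          show indFun (stabilizer G a) θ 1 * conj (1 : ℂ) - _ = _
          rw [hone, map_one]
          ring
        · rw [if_neg hx1, hθK x hx, hθK x⁻¹ hxi, hηK x hx, hK1 x hx hx1, map_one]
          ring
      · rw [if_neg hx, hE x hx]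
        ring
    rw [Finset.sum_congr rfl (fun x _ => h1 x), ← Finset.sum_filter, Finset.sum_sub_distrib,
      Finset.sum_ite_eq', if_pos (by
        rw [Finset.mem_filter]; exact ⟨Finset.mem_univ _, one_mem _⟩), Finset.sum_const,
      nsmul_eq_mul, mul_one]
    have h2 : (Finset.univ.filter (fun x : stabilizer G a => (x : G) ∈ K h.zass a)).card =
        Nat.card (K h.zass a) := by
      rw [← Fintype.card_subtype, ← Nat.card_eq_fintype_card]
      exact Nat.card_congr ⟨fun x => ⟨x.1.1, x.2⟩, fun x => ⟨⟨x.1, K_le h.zass a x.2⟩, x.2⟩,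
        fun x => rfl, fun x => rfl⟩
    rw [h2, ← card_K h.zass a]
    push_cast
    ring
  rw [Finset.sum_sub_distrib, sub_eq_zero] at hdiff
  exact hdiff

/-- A linear character of the point stabiliser, trivial on the kernel, which is real is trivial. -/
theorem lin_real {a : Ω} {μ : stabilizer G a → ℂ} (hμ : IsCharacter (stabilizer G a) μ)
    (hμ1 : μ 1 = 1) (hK : ∀ x : stabilizer G a, (x : G) ∈ (haveI := h.fin; K h.zass a) → μ x = 1)
    (hreal : ∀ x, μ x⁻¹ = μ x) : ∀ x, μ x = 1 := by
  classical
  haveI := h.fin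
  obtain ⟨m, rfl⟩ := exists_hom_of_char_one hμ hμ1
  intro x
  obtain ⟨b, hab⟩ := exists_ne_pt h.zass a
  obtain ⟨u, hu, k, hka, hkb, hk⟩ := exists_mul h.zass hab x.2
  have hx : x = ⟨u, K_le h.zass a hu⟩ * ⟨k, hka⟩ := Subtype.ext hk
  have h1 : (m ⟨u, K_le h.zass a hu⟩ : ℂ) = 1 := hK _ hu
  set y : stabilizer G a := ⟨k, hka⟩ with hy
  have h2 : (m x : ℂ) = m y := by
    rw [hx, map_mul, Units.val_mul, h1, one_mul]
  have h3 : (m y : ℂ) * m y = 1 := by
    have h4 := hreal y
    simp only [map_inv] at h4
    nth_rw 1 [← h4]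
    rw [Units.inv_mul]
  have hodd : Odd (orderOf y) := by
    have h4 : orderOf y = orderOf k := by
      rw [hy]; exact Subgroup.orderOf_mk _ _
    rw [h4]
    exact Odd.of_dvd_nat (h.odd a b hab) (Subgroup.orderOf_dvd_natCard _ ⟨hka, hkb⟩)
  obtain ⟨j, hj⟩ := hodd
  have h4 : m y ^ (2 * j + 1) = 1 := by
    rw [← map_pow, ← hj, pow_orderOf_eq_one, map_one]
  have h5 : m y * m y = 1 := Units.ext h3
  rw [pow_succ, pow_mul, pow_two, h5, one_pow, one_mul] at h4
  show (m x : ℂ) = 1
  rw [h2, h4]; rfl

theorem classInner_lin_inv {a : Ω} [Fintype (stabilizer G a)] {μ ν : stabilizer G a → ℂ}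
    (hμ : IsCharacter (stabilizer G a) μ) (hμ1 : μ 1 = 1) (hν : IsIrrCharacter (stabilizer G a) ν) :
    classInner (fun x => μ x⁻¹) ν = if (fun x => conj (μ x)) = ν then 1 else 0 := by
  have h1 : (fun x => μ x⁻¹) = fun x => conj (μ x) := by
    ext x; exact char_inv hμ x
  rw [h1]
  have h2 : IsIrrCharacter (stabilizer G a) (fun x => conj (μ x)) := by
    apply isIrr_conj
    obtain ⟨m, rfl⟩ := exists_hom_of_char_one hμ hμ1
    exact isIrr_of_hom m
  exact classInner_irr h2 hν

/-- Non-principal linear characters trivial on the kernel induce irreducibly. -/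
theorem isIrr_ind_lin {a : Ω} {μ : stabilizer G a → ℂ} (hμ : IsCharacter (stabilizer G a) μ)
    (hμ1 : μ 1 = 1) (hK : ∀ x : stabilizer G a, (x : G) ∈ (haveI := h.fin; K h.zass a) → μ x = 1)
    (hne : μ ≠ fun _ => 1) : IsIrrCharacter G (indFun (stabilizer G a) μ) := by
  classical
  haveI := h.fin
  haveI : Fintype (stabilizer G a) := Fintype.ofFinite _
  have hirr : IsIrrCharacter (stabilizer G a) μ := by
    obtain ⟨m, rfl⟩ := exists_hom_of_char_one hμ hμ1
    exact isIrr_of_hom m
  apply isIrr_of_char_norm (isChar_ind _ hμ)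
  rw [h.inner_ind_lin μ μ (char_classFun hμ) (char_classFun hμ) hK hK, classInner_self_of_irr hirr,
    h.classInner_lin_inv hμ hμ1 hirr, if_neg, add_zero]
  intro hc
  apply hne
  ext x
  exact h.lin_real hμ hμ1 hK (fun x => by rw [char_inv hμ]; exact congrFun hc x) x

theorem ind_lin_kernel {a : Ω} {μ : stabilizer G a → ℂ}
    (hμ : IsClassFunction (stabilizer G a) μ)
    (hK : ∀ x : stabilizer G a, (x : G) ∈ (haveI := h.fin; K h.zass a) → μ x = 1)
    {u : G} (hu : u ∈ (haveI := h.fin; K h.zass a)) (hu1 : u ≠ 1) :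
    indFun (stabilizer G a) μ u = 1 := by
  haveI := h.fin
  rw [indFun_one_fix h.zass μ hμ (K_le h.zass a hu) (fun c hc => K_fix h.zass hu hu1 hc)]
  exact hK _ hu

end OddInv

end Cfsg.Agent.H20.Zass
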