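import Cfsg.Agent.H20.ZChar1
import Cfsg.Agent.H20.Coh1
import Cfsg.Agent.H3.TIFrob
import Cfsg.Agent.H3.Basic2
import Cfsg.Agent.H3.Counting

/-!
Zassenhaus groups with inverted two-point stabilisers of odd order: the irreducible characters of
the point stabiliser and the basic inner products in Feit's argument.
-/

set_option autoImplicit false
set_option linter.style.haveILetI false

open Cfsg MulAction
open scoped Pointwise ComplexConjugate

namespace Cfsg.Agent.H20.Zass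

open Cfsg.Agent.H3

universe u v

variable {G : Type u} [Group G] {Ω : Type v} [MulAction G Ω] [Finite Ω]

/-- The Frobenius kernel inside the point stabiliser. -/
noncomputable def KB (hZ : IsZassenhausGroup G Ω) (a : Ω) : Subgroup (stabilizer G a) :=
  (K hZ a).subgroupOf (stabilizer G a)

theorem mem_KB (hZ : IsZassenhausGroup G Ω) {a : Ω} {x : stabilizer G a} :
    x ∈ KB hZ a ↔ (x : G) ∈ K hZ a := Subgroup.mem_subgroupOf

theorem KB_normal (hZ : IsZassenhausGroup G Ω) (a : Ω) : (KB hZ a).Normal := K_normal hZ a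

theorem card_KB (hZ : IsZassenhausGroup G Ω) (a : Ω) :
    Nat.card (KB hZ a) = Nat.card (K hZ a) :=
  Nat.card_congr (Subgroup.subgroupOfEquivOfLe (K_le hZ a)).toEquiv

theorem KB_fpf (hZ : IsZassenhausGroup G Ω) (a : Ω) :
    ∀ x : stabilizer G a, x ∉ KB hZ a → ∀ k ∈ KB hZ a, x * k = k * x → k = 1 := by
  intro x hx k hk hxk
  by_contra hk1
  apply hx
  rw [mem_KB] at hk ⊢
  exact mem_K_of_commute hZ hk (fun h => hk1 (Subtype.ext h)) (congrArg Subtype.val hxk)

theorem K_TI (hZ : IsZassenhausGroup G Ω) (a : Ω) :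
    ∀ g : G, g ∉ stabilizer G a → ∀ t ∈ (K hZ a : Set G), g * t * g⁻¹ ∈ (K hZ a : Set G) →
      t = 1 := by
  intro g hg t ht ht'
  by_contra ht1
  apply hg
  rw [mem_stabilizer_iff]
  apply K_fix hZ ht' (u := g * t * g⁻¹)
  · intro h
    apply ht1
    rw [mul_inv_eq_one] at h
    exact mul_left_cancel (h.trans (mul_one g).symm)
  · have h2 : t • a = a := K_le hZ a ht
    rw [mul_smul, mul_smul, inv_smul_smul, h2]

/-- Indicator function of the kernel. -/
noncomputable def uK (hZ : IsZassenhausGroup G Ω) (a : Ω) : stabilizer G a → ℂ :=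
  haveI := Classical.decPred (fun x : stabilizer G a => (x : G) ∈ K hZ a)
  fun x => if (x : G) ∈ K hZ a then 1 else 0

theorem uK_mem (hZ : IsZassenhausGroup G Ω) {a : Ω} {x : stabilizer G a} (h : (x : G) ∈ K hZ a) :
    uK hZ a x = 1 := by
  simp only [uK]
  rw [if_pos h]

theorem uK_not_mem (hZ : IsZassenhausGroup G Ω) {a : Ω} {x : stabilizer G a}
    (h : (x : G) ∉ K hZ a) : uK hZ a x = 0 := by
  simp only [uK]
  rw [if_neg h]

theorem uK_conj (hZ : IsZassenhausGroup G Ω) {a : Ω} (x : stabilizer G a) :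
    conj (uK hZ a x) = uK hZ a x := by
  by_cases h : (x : G) ∈ K hZ a
  · rw [uK_mem hZ h, map_one]
  · rw [uK_not_mem hZ h, map_zero]

theorem uK_classFun (hZ : IsZassenhausGroup G Ω) (a : Ω) :
    IsClassFunction (stabilizer G a) (uK hZ a) := by
  intro g x
  have h1 : ((x * g * x⁻¹ : stabilizer G a) : G) ∈ K hZ a ↔ (g : G) ∈ K hZ a := by
    have := (KB_normal hZ a).mem_comm_iff (a := x) (b := g * x⁻¹)
    rw [mem_KB, mem_KB] at this
    rw [show x * g * x⁻¹ = x * (g * x⁻¹) by group, this]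
    rw [show g * x⁻¹ * x = g by group]
  by_cases h : (g : G) ∈ K hZ a
  · rw [uK_mem hZ h, uK_mem hZ (h1.mpr h)]
  · rw [uK_not_mem hZ h, uK_not_mem hZ (fun h' => h (h1.mp h'))]

section inner

variable (hZ : IsZassenhausGroup G Ω) {a : Ω} [Fintype (stabilizer G a)]

/-- If `F` vanishes off the kernel then its product with `uK` is `F`. -/
theorem inner_uK_of_vanish {F φ : stabilizer G a → ℂ}
    (hF : ∀ x : stabilizer G a, (x : G) ∉ K hZ a → F x = 0)
    (hφ : ∀ x : stabilizer G a, (x : G) ∈ K hZ a → φ x = 1) :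
    classInner F φ = classInner F (fun _ => 1) := by
  simp only [classInner]
  congr 1
  refine Finset.sum_congr rfl fun x _ => ?_
  by_cases h : (x : G) ∈ K hZ a
  · rw [hφ x h]
  · rw [hF x h, zero_mul, zero_mul]

theorem inner_uK_one : classInner (uK hZ a) (fun _ => 1) =
    (Nat.card (K hZ a) : ℂ) / (Nat.card (stabilizer G a) : ℂ) := by
  classical
  simp only [classInner, map_one, mul_one]
  have h1 : ∀ x : stabilizer G a, uK hZ a x = if (x : G) ∈ K hZ a then 1 else 0 := by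
    intro x
    split_ifs with h
    · exact uK_mem hZ h
    · exact uK_not_mem hZ h
  rw [Finset.sum_congr rfl fun x _ => h1 x, Finset.sum_ite, Finset.sum_const, Finset.sum_const_zero,
    add_zero, nsmul_eq_mul, mul_one]
  have h2 : (Finset.univ.filter (fun x : stabilizer G a => (x : G) ∈ K hZ a)).card =
      Nat.card (K hZ a) := by
    rw [← card_KB, ← Fintype.card_subtype, ← Nat.card_eq_fintype_card]
    exact Nat.card_congr (Equiv.refl _)
  rw [h2, mul_comm, div_eq_mul_inv]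

theorem inner_uK_one' {b : Ω} (hab : a ≠ b) : classInner (uK hZ a) (fun _ => 1) =
    ((Nat.card ↥(stabilizer G a ⊓ stabilizer G b) : ℂ))⁻¹ := by
  rw [inner_uK_one hZ, card_K_mul hZ hab]
  have h1 : (Nat.card (K hZ a) : ℂ) ≠ 0 := by
    haveI := finite_group hZ
    exact_mod_cast Nat.card_pos.ne'
  have h2 : (Nat.card ↥(stabilizer G a ⊓ stabilizer G b) : ℂ) ≠ 0 := by
    haveI := finite_group hZ
    exact_mod_cast Nat.card_pos.ne'
  push_cast
  field_simp

theorem inner_uK_lin {b : Ω} (hab : a ≠ b) {φ : stabilizer G a → ℂ}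
    (hφ : ∀ x : stabilizer G a, (x : G) ∈ K hZ a → φ x = 1) : classInner (uK hZ a) φ =
    ((Nat.card ↥(stabilizer G a ⊓ stabilizer G b) : ℂ))⁻¹ := by
  rw [inner_uK_of_vanish hZ (fun x hx => uK_not_mem hZ hx) hφ, inner_uK_one' hZ hab]

theorem inner_uK_self {b : Ω} (hab : a ≠ b) : classInner (uK hZ a) (uK hZ a) =
    ((Nat.card ↥(stabilizer G a ⊓ stabilizer G b) : ℂ))⁻¹ :=
  inner_uK_lin hZ hab (fun _ hx => uK_mem hZ hx)

end inner

namespace OddInv

variable (h : OddInv G Ω)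
include h

/-- Commutators of the point stabiliser lie in the kernel. -/
theorem comm_mem_K {a : Ω} (x y : stabilizer G a) :
    x * y * x⁻¹ * y⁻¹ ∈ KB h.zass a := by
  obtain ⟨b, hab⟩ := exists_ne_pt h.zass a
  haveI := KB_normal h.zass a
  obtain ⟨u, hu, k, hka, hkb, hk⟩ := exists_mul h.zass hab x.2
  obtain ⟨v, hv, l, hla, hlb, hl⟩ := exists_mul h.zass hab y.2
  have h1 : x = (⟨u, K_le h.zass a hu⟩ : stabilizer G a) * ⟨k, hka⟩ := Subtype.ext hk
  have h2 : y = (⟨v, K_le h.zass a hv⟩ : stabilizer G a) * ⟨l, hla⟩ := Subtype.ext hl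
  have h3 : (⟨k, hka⟩ : stabilizer G a) * ⟨l, hla⟩ = ⟨l, hla⟩ * ⟨k, hka⟩ :=
    Subtype.ext (h.comm_two_pt hab k ⟨hka, hkb⟩ l ⟨hla, hlb⟩)
  rw [← QuotientGroup.eq_one_iff]
  have h4 : ((⟨u, K_le h.zass a hu⟩ : stabilizer G a) : (stabilizer G a) ⧸ KB h.zass a) = 1 := by
    rw [QuotientGroup.eq_one_iff, mem_KB]; exact hu
  have h5 : ((⟨v, K_le h.zass a hv⟩ : stabilizer G a) : (stabilizer G a) ⧸ KB h.zass a) = 1 := by
    rw [QuotientGroup.eq_one_iff, mem_KB]; exact hv
  have h6 : ((⟨k, hka⟩ : stabilizer G a) : (stabilizer G a) ⧸ KB h.zass a) *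
      ((⟨l, hla⟩ : stabilizer G a) : (stabilizer G a) ⧸ KB h.zass a) =
      ((⟨l, hla⟩ : stabilizer G a) : (stabilizer G a) ⧸ KB h.zass a) *
      ((⟨k, hka⟩ : stabilizer G a) : (stabilizer G a) ⧸ KB h.zass a) := by
    rw [← QuotientGroup.mk_mul, ← QuotientGroup.mk_mul, h3]
  rw [h1, h2]
  rw [QuotientGroup.mk_mul, QuotientGroup.mk_mul, QuotientGroup.mk_mul, QuotientGroup.mk_inv,
    QuotientGroup.mk_inv, QuotientGroup.mk_mul, QuotientGroup.mk_mul, h4, h5, one_mul, one_mul, h6]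
  group

/-- An irreducible character of the point stabiliser constant on the kernel is linear. -/
theorem lin_of_const {a : Ω} {θ : stabilizer G a → ℂ} (hθ : IsIrrCharacter (stabilizer G a) θ)
    (hc : ∀ k : stabilizer G a, (k : G) ∈ K h.zass a → θ k = θ 1) : θ 1 = 1 := by
  haveI := finite_group h.zass
  haveI : Fintype (stabilizer G a) := Fintype.ofFinite _
  have h1 := sum_irr_commutator hθ
  have h2 : ∀ x y : stabilizer G a, θ (x * y * x⁻¹ * y⁻¹) = θ 1 := fun x y =>
    hc _ ((mem_KB h.zass).mp (h.comm_mem_K x y))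
  simp only [h2, Finset.sum_const, Finset.card_univ, nsmul_eq_mul] at h1
  obtain ⟨n, hn0, hn⟩ := irr_one_eq_nat hθ
  rw [← Nat.card_eq_fintype_card, hn] at h1
  rw [hn]
  have h3 : (Nat.card (stabilizer G a) : ℂ) ≠ 0 := by exact_mod_cast Nat.card_pos.ne'
  have h4 : (n : ℂ) ≠ 0 := by exact_mod_cast hn0.ne'
  have h5 : (n : ℂ) * n = 1 := by
    field_simp at h1
    linear_combination h1
  have h6 : n * n = 1 := by exact_mod_cast h5
  have h7 : n = 1 := Nat.eq_one_of_mul_eq_one_right h6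
  rw [h7]; norm_num

theorem const_one {a : Ω} {θ : stabilizer G a → ℂ} (hθ : IsIrrCharacter (stabilizer G a) θ)
    (hc : ∀ k : stabilizer G a, (k : G) ∈ K h.zass a → θ k = θ 1) :
    ∀ k : stabilizer G a, (k : G) ∈ K h.zass a → θ k = 1 := fun k hk => by
  rw [hc k hk, h.lin_of_const hθ hc]

/-- A relevant character is induced from the kernel. -/
theorem rel_ind {a : Ω} [Fintype (stabilizer G a)] {θ : stabilizer G a → ℂ}
    (hθ : IsIrrCharacter (stabilizer G a) θ)
    (hr : ∃ k : stabilizer G a, (k : G) ∈ K h.zass a ∧ θ k ≠ θ 1) :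
    ∃ τ : KB h.zass a → ℂ, IsIrrCharacter (KB h.zass a) τ ∧ τ ≠ (fun _ => 1) ∧
      θ = indFun (KB h.zass a) τ := by
  obtain ⟨k, hk, hk1⟩ := hr
  exact (relevant_iff (KB_normal h.zass a) (KB_fpf h.zass a) hθ).mp ⟨k, (mem_KB h.zass).mpr hk, hk1⟩

theorem rel_vanish {a : Ω} {θ : stabilizer G a → ℂ}
    (hθ : IsIrrCharacter (stabilizer G a) θ)
    (hr : ∃ k : stabilizer G a, (k : G) ∈ K h.zass a ∧ θ k ≠ θ 1) :
    ∀ x : stabilizer G a, (x : G) ∉ K h.zass a → θ x = 0 := by
  haveI := finite_group h.zass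
  haveI : Fintype (stabilizer G a) := Fintype.ofFinite _
  obtain ⟨τ, -, -, rfl⟩ := h.rel_ind hθ hr
  intro x hx
  exact indFun_not_mem_normal (hH := KB_normal h.zass a) τ (fun hc => hx ((mem_KB h.zass).mp hc))

theorem index_KB {a b : Ω} (hab : a ≠ b) :
    (KB h.zass a).index = Nat.card ↥(stabilizer G a ⊓ stabilizer G b) := by
  haveI := finite_group h.zass
  have h1 := (KB h.zass a).index_mul_card
  rw [card_KB, card_K_mul h.zass hab, mul_comm] at h1
  exact Nat.eq_of_mul_eq_mul_left Nat.card_pos h1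

theorem rel_degree {a b : Ω} (hab : a ≠ b) {θ : stabilizer G a → ℂ}
    (hθ : IsIrrCharacter (stabilizer G a) θ)
    (hr : ∃ k : stabilizer G a, (k : G) ∈ K h.zass a ∧ θ k ≠ θ 1) :
    ∃ d : ℕ, 0 < d ∧ θ 1 = (Nat.card ↥(stabilizer G a ⊓ stabilizer G b) : ℂ) * d := by
  haveI := finite_group h.zass
  haveI : Fintype (stabilizer G a) := Fintype.ofFinite _
  obtain ⟨τ, hτ, -, rfl⟩ := h.rel_ind hθ hr
  obtain ⟨n, hn, hn'⟩ := irr_one_eq_nat hτ
  exact ⟨n, hn, by rw [indFun_one_apply, hn', h.index_KB hab]⟩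

/-- relevant characters are orthogonal to `uK` -/
theorem inner_rel_uK {a : Ω} [Fintype (stabilizer G a)] {θ φ : stabilizer G a → ℂ}
    (hθ : IsIrrCharacter (stabilizer G a) θ)
    (hr : ∃ k : stabilizer G a, (k : G) ∈ K h.zass a ∧ θ k ≠ θ 1)
    (hφ : ∀ x : stabilizer G a, (x : G) ∈ K h.zass a → φ x = 1) :
    classInner θ φ = 0 := by
  rw [inner_uK_of_vanish h.zass (h.rel_vanish hθ hr) hφ]
  apply classInner_of_irr_ne hθ isIrr_one
  rintro rfl
  obtain ⟨k, -, hk⟩ := hr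
  exact hk rfl

end OddInv

end Cfsg.Agent.H20.Zass
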