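import Cfsg.Agent.H20.ZChar2

/-!
Zassenhaus groups with inverted two-point stabilisers of odd order: Feit's Gram relation.
-/

set_option autoImplicit false
set_option linter.style.haveILetI false

open Cfsg MulAction
open scoped Pointwise ComplexConjugate

namespace Cfsg.Agent.H20.Zass

open Cfsg.Agent.H3

universe u v

variable {G : Type u} [Group G] [Fintype G] {Ω : Type v} [MulAction G Ω] [Finite Ω]

namespace OddInv

variable (h : OddInv G Ω)
include h

theorem isIrr_St : IsIrrCharacter G (fun g => permChar G Ω g - 1) := by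
  haveI := pretransitive h.zass
  rw [isIrr_permChar_sub_one_iff Ω (by have := three_le_card h.zass; omega)]
  exact h.zass.2.1

theorem permChar_K {a : Ω} {u : G} (hu : u ∈ K h.zass a) (hu1 : u ≠ 1) : permChar G Ω u = 1 := by
  haveI := pretransitive h.zass
  rw [permChar_eq_indFun Ω a]
  exact h.ind_lin_kernel (classFun_const 1) (fun _ _ => rfl) hu hu1

theorem permChar_one : permChar G Ω 1 = (Nat.card Ω : ℂ) := by
  obtain ⟨a, -⟩ := exists_ne_pts h.zass
  haveI := pretransitive h.zass
  rw [permChar_eq_indFun Ω a, indFun_one_apply, index_stabilizer_of_transitive, mul_one]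

/-- Irreducible characters of `G` whose restriction is not orthogonal to `uK`. -/
theorem nonX_cases {a : Ω} [Fintype (stabilizer G a)] {χ : G → ℂ} (hχ : IsIrrCharacter G χ)
    (hX : classInner (fun x : stabilizer G a => χ x) (uK h.zass a) ≠ 0) :
    χ = (fun _ => 1) ∨ χ = (fun g => permChar G Ω g - 1) ∨
      ∃ μ : stabilizer G a → ℂ, IsIrrCharacter (stabilizer G a) μ ∧
        (∀ x : stabilizer G a, (x : G) ∈ K h.zass a → μ x = 1) ∧ μ ≠ (fun _ => 1) ∧
        χ = indFun (stabilizer G a) μ := by
  classical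
  haveI := Fintype.ofFinite (IrrCharacter (stabilizer G a))
  haveI := pretransitive h.zass
  rw [classInner_eq_sum (classFun_restrict _ (irr_classFun hχ))] at hX
  obtain ⟨ψ, -, hψ⟩ := Finset.exists_ne_zero_of_sum_ne_zero hX
  have h1 : classInner (fun x : stabilizer G a => χ x) (ψ : stabilizer G a → ℂ) ≠ 0 :=
    left_ne_zero_of_mul hψ
  have h2 : classInner (ψ : stabilizer G a → ℂ) (uK h.zass a) ≠ 0 := by
    rw [← classInner_conj_symm]
    exact right_ne_zero_of_mul hψ
  have h3 : ∀ k : stabilizer G a, (k : G) ∈ K h.zass a →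
      (ψ : stabilizer G a → ℂ) k = (ψ : stabilizer G a → ℂ) 1 := by
    intro k hk
    by_contra hc
    exact h2 (h.inner_rel_uK ψ.2 ⟨k, hk, hc⟩ (fun x hx => uK_mem h.zass hx))
  have h4 := h.lin_of_const ψ.2 h3
  have h5 := h.const_one ψ.2 h3
  rw [← frobenius_reciprocity' (stabilizer G a) _ (irr_classFun hχ)] at h1
  by_cases h6 : (ψ : stabilizer G a → ℂ) = fun _ => 1
  · rw [h6, ← permChar_eq_indFun Ω a] at h1
    have h7 : permChar G Ω = (fun _ => (1 : ℂ)) + (fun g => permChar G Ω g - 1) := by
      ext g; simp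
    rw [h7, classInner_add_right] at h1
    by_cases h8 : χ = fun _ => 1
    · exact Or.inl h8
    · right; left
      by_contra h9
      rw [classInner_of_irr_ne hχ isIrr_one h8, classInner_of_irr_ne hχ h.isIrr_St h9,
        add_zero] at h1
      exact h1 rfl
  · right; right
    refine ⟨ψ, ψ.2, h5, h6, ?_⟩
    by_contra h9
    exact h1 (classInner_of_irr_ne hχ (h.isIrr_ind_lin (irr_isChar ψ.2) h4 h5 h6) h9)

/-- Inner product with `uK` of a class function constant on the non-identity elements of the
kernel. -/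
theorem inner_uK_val {a : Ω} [Fintype (stabilizer G a)]
    {φ : stabilizer G a → ℂ} {v w : ℂ}
    (h1 : φ 1 = w) (hφ : ∀ x : stabilizer G a, (x : G) ∈ K h.zass a → x ≠ 1 → φ x = v) :
    classInner (uK h.zass a) φ = (conj w + ((Nat.card Ω : ℂ) - 2) * conj v) /
      (Nat.card (stabilizer G a) : ℂ) := by
  classical
  have e1 : ∀ x : stabilizer G a, uK h.zass a x * conj (φ x) =
      conj v * (uK h.zass a x * conj 1) + (if x = 1 then conj w - conj v else 0) := by
    intro x
    by_cases hx : (x : G) ∈ K h.zass a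
    · rw [uK_mem h.zass hx]
      by_cases hx1 : x = 1
      · rw [if_pos hx1, hx1, h1, map_one]; ring
      · rw [if_neg hx1, hφ x hx hx1, map_one]; ring
    · rw [uK_not_mem h.zass hx, if_neg (fun hc => hx (by rw [hc]; exact one_mem _))]
      ring
  have e2 := inner_uK_one (a := a) h.zass
  simp only [classInner] at e2 ⊢
  rw [Finset.sum_congr rfl fun x _ => e1 x, Finset.sum_add_distrib, ← Finset.mul_sum,
    Finset.sum_ite_eq', if_pos (Finset.mem_univ _), mul_add, mul_left_comm, e2]
  have e3 : (Nat.card Ω : ℂ) = Nat.card (K h.zass a) + 1 := by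
    rw [← card_K h.zass a]; push_cast; ring
  have e4 : (Nat.card (stabilizer G a) : ℂ) ≠ 0 := by
    have := finite_group h.zass
    exact_mod_cast Nat.card_pos.ne'
  rw [e3]
  field_simp
  ring

omit [Fintype G] in
/-- `⟨uK, χ⟩` for the characters outside `X`. -/
theorem inner_uK_triv {a b : Ω} (hab : a ≠ b) [Fintype (stabilizer G a)] :
    classInner (uK h.zass a) (fun _ => 1) =
      ((Nat.card ↥(stabilizer G a ⊓ stabilizer G b) : ℂ))⁻¹ := inner_uK_one' h.zass hab

omit [Fintype G] in
theorem card_stab {a b : Ω} (hab : a ≠ b) : (Nat.card (stabilizer G a) : ℂ) =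
    ((Nat.card Ω : ℂ) - 1) * Nat.card ↥(stabilizer G a ⊓ stabilizer G b) := by
  rw [card_K_mul h.zass hab, ← card_K h.zass a]; push_cast; ring

theorem inner_uK_St {a b : Ω} (hab : a ≠ b) [Fintype (stabilizer G a)] :
    classInner (uK h.zass a) (fun x : stabilizer G a => permChar G Ω x - 1) =
      ((Nat.card ↥(stabilizer G a ⊓ stabilizer G b) : ℂ))⁻¹ := by
  rw [h.inner_uK_val (v := 0) (w := (Nat.card Ω : ℂ) - 1), h.card_stab hab]
  · have h3 := three_le_card h.zass
    have e1 : (Nat.card Ω : ℂ) - 1 ≠ 0 := by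
      intro hc
      have : (Nat.card Ω : ℂ) = 1 := by linear_combination hc
      have : Nat.card Ω = 1 := by exact_mod_cast this
      omega
    have e2 : (Nat.card ↥(stabilizer G a ⊓ stabilizer G b) : ℂ) ≠ 0 := by
      have := finite_group h.zass
      exact_mod_cast Nat.card_pos.ne'
    simp only [map_sub, Complex.conj_natCast, map_one, map_zero, mul_zero, add_zero]
    field_simp
  · show permChar G Ω ((1 : stabilizer G a) : G) - 1 = _
    rw [Subgroup.coe_one, h.permChar_one]
  · intro x hx hx1
    rw [h.permChar_K hx (fun hc => hx1 (Subtype.ext hc)), sub_self]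

theorem inner_uK_ind {a b : Ω} (hab : a ≠ b) [Fintype (stabilizer G a)]
    {μ : stabilizer G a → ℂ} (hμ : IsIrrCharacter (stabilizer G a) μ)
    (hK : ∀ x : stabilizer G a, (x : G) ∈ K h.zass a → μ x = 1) :
    classInner (uK h.zass a) (fun x : stabilizer G a => indFun (stabilizer G a) μ x) =
      2 * ((Nat.card ↥(stabilizer G a ⊓ stabilizer G b) : ℂ))⁻¹ := by
  haveI := pretransitive h.zass
  rw [h.inner_uK_val (v := 1) (w := (Nat.card Ω : ℂ)), h.card_stab hab]
  · have h3 := three_le_card h.zass
    have e1 : (Nat.card Ω : ℂ) - 1 ≠ 0 := by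
      intro hc
      have : (Nat.card Ω : ℂ) = 1 := by linear_combination hc
      have : Nat.card Ω = 1 := by exact_mod_cast this
      omega
    have e2 : (Nat.card ↥(stabilizer G a ⊓ stabilizer G b) : ℂ) ≠ 0 := by
      have := finite_group h.zass
      exact_mod_cast Nat.card_pos.ne'
    simp only [Complex.conj_natCast, map_one, mul_one]
    field_simp
    ring
  · show indFun _ μ ((1 : stabilizer G a) : G) = _
    rw [Subgroup.coe_one, indFun_one_apply, index_stabilizer_of_transitive, hK 1 (one_mem _),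
      mul_one]
  · intro x hx hx1
    exact h.ind_lin_kernel (irr_classFun hμ) hK hx (fun hc => hx1 (Subtype.ext hc))

/-- norm of the induced function of `uK` -/
theorem norm_ind_uK {a b : Ω} (hab : a ≠ b) [Fintype (stabilizer G a)] :
    classInner (indFun (stabilizer G a) (uK h.zass a)) (indFun (stabilizer G a) (uK h.zass a)) =
      2 * ((Nat.card ↥(stabilizer G a ⊓ stabilizer G b) : ℂ))⁻¹ := by
  rw [h.inner_ind_lin _ _ (uK_classFun h.zass a) (uK_classFun h.zass a)
    (fun x hx => uK_mem h.zass hx) (fun x hx => uK_mem h.zass hx)]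
  have h1 : (fun x => uK h.zass a x⁻¹) = uK h.zass a := by
    ext x
    by_cases hx : (x : G) ∈ K h.zass a
    · rw [uK_mem h.zass hx, uK_mem h.zass (by rw [Subgroup.coe_inv]; exact inv_mem hx)]
    · rw [uK_not_mem h.zass hx, uK_not_mem h.zass (by
        rw [Subgroup.coe_inv, inv_mem_iff]; exact hx)]
  rw [h1, inner_uK_self h.zass hab, two_mul]

end OddInv

end Cfsg.Agent.H20.Zass
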