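import Cfsg.Agent.H20.ZChar3

/-!
Zassenhaus groups with inverted two-point stabilisers of odd order: Feit's Gram relation.
-/

set_option autoImplicit false
set_option linter.style.haveILetI false

open Cfsg MulAction
open scoped Pointwise ComplexConjugate

namespace Cfsg.Agent.H20.Zass

open Cfsg.Agent.H3

universe u v

variable {G : Type u} [Group G] [Fintype G] {Ω : Type v} [MulAction G Ω] [Finite Ω]

namespace OddInv

variable (h : OddInv G Ω)

/-- the principal character -/
def one' (_ : OddInv G Ω) : IrrCharacter G := ⟨fun _ => 1, isIrr_one⟩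

/-- the Steinberg character -/
noncomputable def St' : IrrCharacter G := ⟨_, h.isIrr_St⟩

/-- inner product of `uK` with the restriction. -/
noncomputable def ru (a : Ω) [Fintype (stabilizer G a)] (χ : IrrCharacter G) : ℂ :=
  classInner (uK h.zass a) (fun x : stabilizer G a => (χ : G → ℂ) x)

/-- The irreducible characters orthogonal to `uK`. -/
def XX (a : Ω) [Fintype (stabilizer G a)] : Type u :=
  {χ : IrrCharacter G // h.ru a χ = 0}

/-- The relevant irreducible characters of the point stabiliser. -/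
def JJ (a : Ω) : Type u :=
  {θ : IrrCharacter (stabilizer G a) //
    ∃ k : stabilizer G a, (k : G) ∈ K h.zass a ∧ (θ : stabilizer G a → ℂ) k ≠
      (θ : stabilizer G a → ℂ) 1}

instance (a : Ω) [Fintype (stabilizer G a)] : Finite (h.XX a) := by
  unfold XX; infer_instance

instance (a : Ω) : Finite (h.JJ a) := by
  unfold JJ; infer_instance

open Classical in
/-- characters outside `X` other than `1` and the Steinberg character. -/
noncomputable def YY (a : Ω) [Fintype (stabilizer G a)] [Fintype (IrrCharacter G)] :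
    Finset (IrrCharacter G) :=
  Finset.univ.filter (fun χ => h.ru a χ ≠ 0 ∧ χ ≠ h.one' ∧ χ ≠ h.St')

theorem mem_YY {a : Ω} [Fintype (stabilizer G a)] [Fintype (IrrCharacter G)]
    {χ : IrrCharacter G} : χ ∈ h.YY a ↔ h.ru a χ ≠ 0 ∧ χ ≠ h.one' ∧ χ ≠ h.St' := by
  unfold YY
  rw [Finset.mem_filter]
  exact ⟨fun h => h.2, fun h => ⟨Finset.mem_univ _, h⟩⟩

theorem one_ne_St : h.one' ≠ h.St' := by
  intro hc
  have h1 : (1 : ℂ) = permChar G Ω 1 - 1 := congrFun (congrArg Subtype.val hc) 1
  rw [h.permChar_one] at h1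
  have h3 := three_le_card h.zass
  have h2 : (Nat.card Ω : ℂ) = 2 := by linear_combination -h1
  have h4 : Nat.card Ω = 2 := by exact_mod_cast h2
  omega

omit [Fintype G] in
theorem ru_one {a b : Ω} (hab : a ≠ b) [Fintype (stabilizer G a)] :
    h.ru a h.one' = ((Nat.card ↥(stabilizer G a ⊓ stabilizer G b) : ℂ))⁻¹ :=
  h.inner_uK_triv hab

theorem ru_St {a b : Ω} (hab : a ≠ b) [Fintype (stabilizer G a)] :
    h.ru a h.St' = ((Nat.card ↥(stabilizer G a ⊓ stabilizer G b) : ℂ))⁻¹ :=
  h.inner_uK_St hab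

include h in
omit [Fintype G] in
theorem card_two_ne_zero {a b : Ω} :
    (Nat.card ↥(stabilizer G a ⊓ stabilizer G b) : ℂ) ≠ 0 := by
  have := finite_group h.zass
  exact_mod_cast Nat.card_pos.ne'

theorem YY_spec {a : Ω} [Fintype (stabilizer G a)] [Fintype (IrrCharacter G)]
    {χ : IrrCharacter G} (hχ : χ ∈ h.YY a) :
    ∃ μ : stabilizer G a → ℂ, IsIrrCharacter (stabilizer G a) μ ∧
        (∀ x : stabilizer G a, (x : G) ∈ K h.zass a → μ x = 1) ∧ μ ≠ (fun _ => 1) ∧
        (χ : G → ℂ) = indFun (stabilizer G a) μ := by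
  obtain ⟨h1, h2, h3⟩ := h.mem_YY.mp hχ
  rcases h.nonX_cases (a := a) χ.2 (fun hc => h1 (by
    unfold ru
    rw [← classInner_conj_symm, hc, map_zero])) with h4 | h4 | h4
  · exact absurd (Subtype.ext h4) h2
  · exact absurd (Subtype.ext h4) h3
  · exact h4

theorem ru_YY {a b : Ω} (hab : a ≠ b) [Fintype (stabilizer G a)] [Fintype (IrrCharacter G)]
    {χ : IrrCharacter G} (hχ : χ ∈ h.YY a) :
    h.ru a χ = 2 * ((Nat.card ↥(stabilizer G a ⊓ stabilizer G b) : ℂ))⁻¹ := by
  obtain ⟨μ, h1, h2, -, h3⟩ := h.YY_spec hχ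
  unfold ru
  rw [h3, h.inner_uK_ind hab h1 h2]

/-- Decomposition of sums over all irreducible characters. -/
theorem sum_decomp (a : Ω) {b : Ω} (hab : a ≠ b) [Fintype (stabilizer G a)]
    [Fintype (IrrCharacter G)] [Fintype (h.XX a)] (F : IrrCharacter G → ℂ) :
    ∑ χ, F χ = ∑ χ : h.XX a, F χ.1 + (F h.one' + F h.St' + ∑ χ ∈ h.YY a, F χ) := by
  classical
  have e1 : ∑ χ : h.XX a, F χ.1 = ∑ χ ∈ Finset.univ.filter (fun χ => h.ru a χ = 0), F χ :=
    (Finset.sum_subtype (p := fun χ => h.ru a χ = 0) _ (fun x => by simp) F).symm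
  have e2 : Finset.univ.filter (fun χ => ¬ h.ru a χ = 0) =
      insert h.one' (insert h.St' (h.YY a)) := by
    ext χ
    rw [Finset.mem_filter, Finset.mem_insert, Finset.mem_insert, h.mem_YY]
    constructor
    · rintro ⟨-, h1⟩
      by_cases h2 : χ = h.one'
      · exact Or.inl h2
      · by_cases h3 : χ = h.St'
        · exact Or.inr (Or.inl h3)
        · exact Or.inr (Or.inr ⟨h1, h2, h3⟩)
    · rintro (h1 | h1 | h1)
      · rw [h1, h.ru_one hab]
        exact ⟨Finset.mem_univ _, inv_ne_zero h.card_two_ne_zero⟩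
      · rw [h1, h.ru_St hab]
        exact ⟨Finset.mem_univ _, inv_ne_zero h.card_two_ne_zero⟩
      · exact ⟨Finset.mem_univ _, h1.1⟩
  rw [← Finset.sum_filter_add_sum_filter_not Finset.univ (fun χ => h.ru a χ = 0) F, e1, e2,
    Finset.sum_insert, Finset.sum_insert, add_assoc]
  · intro hc; exact (h.mem_YY.mp hc).2.2 rfl
  · intro hc
    rcases Finset.mem_insert.mp hc with hc | hc
    · exact h.one_ne_St hc
    · exact (h.mem_YY.mp hc).2.1 rfl

/-- The number of characters induced from non-principal linear characters. -/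
theorem card_YY {a b : Ω} (hab : a ≠ b) [Fintype (stabilizer G a)] [Fintype (IrrCharacter G)] :
    2 * (h.YY a).card + 1 = Nat.card ↥(stabilizer G a ⊓ stabilizer G b) := by
  classical
  haveI : Fintype (h.XX a) := Fintype.ofFinite _
  have e0 := h.card_two_ne_zero (a := a) (b := b)
  have e1 := h.norm_ind_uK hab
  rw [classInner_eq_sum (indFun_classFun _ _)] at e1
  have e2 : ∀ χ : IrrCharacter G, classInner (indFun (stabilizer G a) (uK h.zass a)) χ =
      h.ru a χ := fun χ => frobenius_reciprocity _ _ (irr_classFun χ.2)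
  simp only [e2] at e1
  rw [h.sum_decomp a hab] at e1
  have e3 : ∑ χ : h.XX a, h.ru a χ.1 * conj (h.ru a χ.1) = 0 :=
    Finset.sum_eq_zero fun χ _ => by rw [χ.2, zero_mul]
  have e4 : ∑ χ ∈ h.YY a, h.ru a χ * conj (h.ru a χ) = ∑ χ ∈ h.YY a,
      4 * (((Nat.card ↥(stabilizer G a ⊓ stabilizer G b) : ℂ))⁻¹ ^ 2) := by
    refine Finset.sum_congr rfl fun χ hχ => ?_
    rw [h.ru_YY hab hχ]
    simp only [map_mul, map_inv₀, Complex.conj_natCast, Complex.conj_ofNat]
    ring
  rw [e3, e4, h.ru_one hab, h.ru_St hab, Finset.sum_const, nsmul_eq_mul] at e1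
  simp only [map_inv₀, Complex.conj_natCast] at e1
  field_simp at e1
  have e5 : ((2 * (h.YY a).card + 1 : ℕ) : ℂ) =
      (Nat.card ↥(stabilizer G a ⊓ stabilizer G b) : ℂ) := by
    push_cast
    linear_combination e1 / 2
  exact_mod_cast e5

end OddInv

end Cfsg.Agent.H20.Zass
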