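import Cfsg.Agent.H20.ZChar4

/-!
Zassenhaus groups with inverted two-point stabilisers of odd order: Feit's Gram relation.
-/

set_option autoImplicit false
set_option linter.style.haveILetI false

open Cfsg MulAction
open scoped Pointwise ComplexConjugate

namespace Cfsg.Agent.H20.Zass

open Cfsg.Agent.H3

universe u v

/-- Integer part of an inner product. -/
noncomputable def nI {B : Type u} [Group B] [Fintype B] (φ ψ : B → ℂ) : ℤ :=
  ⌊(classInner φ ψ).re⌋

theorem nI_spec {B : Type u} [Group B] [Fintype B] {φ ψ : B → ℂ} (hφ : IsCharacter B φ)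
    (hψ : IsCharacter B ψ) : ((nI φ ψ : ℤ) : ℂ) = classInner φ ψ ∧ 0 ≤ nI φ ψ := by
  obtain ⟨n, hn⟩ := classInner_char_nat hφ hψ
  have : nI φ ψ = (n : ℤ) := by
    unfold nI
    rw [hn]
    simp
  rw [this, hn]
  exact ⟨by push_cast; rfl, by positivity⟩

variable {G : Type u} [Group G] {Ω : Type v} [MulAction G Ω] [Finite Ω]

/-- `θ - θ(1) uK`. -/
noncomputable def al (hZ : IsZassenhausGroup G Ω) (a : Ω) (θ : stabilizer G a → ℂ) :
    stabilizer G a → ℂ := θ - (θ 1) • uK hZ a

namespace OddInv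

section

variable (h : OddInv G Ω)
include h

theorem al_one {a : Ω} (θ : stabilizer G a → ℂ) : al h.zass a θ 1 = 0 := by
  simp only [al, Pi.sub_apply, Pi.smul_apply, smul_eq_mul]
  rw [uK_mem h.zass (one_mem _)]; ring

theorem al_vanish {a : Ω} {θ : stabilizer G a → ℂ}
    (hθ : IsIrrCharacter (stabilizer G a) θ)
    (hr : ∃ k : stabilizer G a, (k : G) ∈ K h.zass a ∧ θ k ≠ θ 1) (x : stabilizer G a)
    (hx : (x : G) ∉ K h.zass a) : al h.zass a θ x = 0 := by
  simp only [al, Pi.sub_apply, Pi.smul_apply, smul_eq_mul]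
  rw [uK_not_mem h.zass hx, h.rel_vanish hθ hr x hx]; ring

theorem al_classFun {a : Ω} {θ : stabilizer G a → ℂ}
    (hθ : IsIrrCharacter (stabilizer G a) θ) : IsClassFunction (stabilizer G a) (al h.zass a θ) :=
  classFun_sub (irr_classFun hθ) (classFun_smul _ (uK_classFun h.zass a))

theorem inner_al_val {a : Ω} [Fintype (stabilizer G a)] {θ φ : stabilizer G a → ℂ} {v : ℂ}
    (hθ : IsIrrCharacter (stabilizer G a) θ)
    (hr : ∃ k : stabilizer G a, (k : G) ∈ K h.zass a ∧ θ k ≠ θ 1)
    (hφ : ∀ x : stabilizer G a, (x : G) ∈ K h.zass a → x ≠ 1 → φ x = v) :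
    classInner (al h.zass a θ) φ = conj v * classInner (al h.zass a θ) (fun _ => 1) := by
  simp only [classInner]
  rw [mul_left_comm]
  congr 1
  rw [Finset.mul_sum]
  refine Finset.sum_congr rfl fun x _ => ?_
  by_cases hx : (x : G) ∈ K h.zass a
  · by_cases hx1 : x = 1
    · rw [hx1, h.al_one]; ring
    · rw [hφ x hx hx1, map_one]; ring
  · rw [h.al_vanish hθ hr x hx]; ring

theorem inner_al_one {a b : Ω} (hab : a ≠ b) [Fintype (stabilizer G a)] {θ : stabilizer G a → ℂ}
    (hθ : IsIrrCharacter (stabilizer G a) θ)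
    (hr : ∃ k : stabilizer G a, (k : G) ∈ K h.zass a ∧ θ k ≠ θ 1) :
    classInner (al h.zass a θ) (fun _ => 1) =
      - θ 1 * ((Nat.card ↥(stabilizer G a ⊓ stabilizer G b) : ℂ))⁻¹ := by
  rw [al, classInner_sub_left, classInner_smul_left, h.inner_uK_triv hab,
    h.inner_rel_uK hθ hr (fun _ _ => rfl)]
  ring

theorem inner_al_al {a b : Ω} (hab : a ≠ b) [Fintype (stabilizer G a)]
    {θ η : stabilizer G a → ℂ}
    (hθ : IsIrrCharacter (stabilizer G a) θ)
    (hr : ∃ k : stabilizer G a, (k : G) ∈ K h.zass a ∧ θ k ≠ θ 1)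
    (hη : IsIrrCharacter (stabilizer G a) η)
    (hs : ∃ k : stabilizer G a, (k : G) ∈ K h.zass a ∧ η k ≠ η 1) :
    classInner (al h.zass a θ) (al h.zass a η) = classInner θ η +
      θ 1 * conj (η 1) * ((Nat.card ↥(stabilizer G a ⊓ stabilizer G b) : ℂ))⁻¹ := by
  have h1 : classInner (uK h.zass a) η = 0 := by
    rw [← classInner_conj_symm, h.inner_rel_uK hη hs (fun x hx => uK_mem h.zass hx), map_zero]
  rw [al, al, classInner_sub_left, classInner_sub_right, classInner_sub_right,
    classInner_smul_left, classInner_smul_right, classInner_smul_left, classInner_smul_right,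
    inner_uK_self h.zass hab, h.inner_rel_uK hθ hr (fun x hx => uK_mem h.zass hx), h1]
  ring

end

variable (h : OddInv G Ω) [Fintype G]
include h

/-- Values outside `X`. -/
theorem val_one {a : Ω} [Fintype (stabilizer G a)] {θ : stabilizer G a → ℂ} :
    classInner (indFun (stabilizer G a) (al h.zass a θ)) (h.one' : G → ℂ) =
      classInner (al h.zass a θ) (fun _ => 1) :=
  frobenius_reciprocity _ _ (irr_classFun h.one'.2)

theorem val_St {a : Ω} [Fintype (stabilizer G a)]
    {θ : stabilizer G a → ℂ} (hθ : IsIrrCharacter (stabilizer G a) θ)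
    (hr : ∃ k : stabilizer G a, (k : G) ∈ K h.zass a ∧ θ k ≠ θ 1) :
    classInner (indFun (stabilizer G a) (al h.zass a θ)) (h.St' : G → ℂ) = 0 := by
  rw [frobenius_reciprocity _ _ (irr_classFun h.St'.2), h.inner_al_val hθ hr (v := 0)]
  · rw [map_zero, zero_mul]
  · intro x hx hx1
    show permChar G Ω x - 1 = 0
    rw [h.permChar_K hx (fun hc => hx1 (Subtype.ext hc)), sub_self]

theorem val_YY {a : Ω} [Fintype (stabilizer G a)] [Fintype (IrrCharacter G)]
    {θ : stabilizer G a → ℂ} (hθ : IsIrrCharacter (stabilizer G a) θ)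
    (hr : ∃ k : stabilizer G a, (k : G) ∈ K h.zass a ∧ θ k ≠ θ 1) {χ : IrrCharacter G}
    (hχ : χ ∈ h.YY a) :
    classInner (indFun (stabilizer G a) (al h.zass a θ)) (χ : G → ℂ) =
      classInner (al h.zass a θ) (fun _ => 1) := by
  obtain ⟨μ, h1, h2, -, h3⟩ := h.YY_spec hχ
  rw [frobenius_reciprocity _ _ (irr_classFun χ.2), h.inner_al_val hθ hr (v := 1)]
  · rw [map_one, one_mul]
  · intro x hx hx1
    rw [h3]
    exact h.ind_lin_kernel (irr_classFun h1) h2 hx (fun hc => hx1 (Subtype.ext hc))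

theorem val_XX {a : Ω} [Fintype (stabilizer G a)]
    {θ : stabilizer G a → ℂ} (χ : h.XX a) :
    classInner (indFun (stabilizer G a) (al h.zass a θ)) (χ.1 : G → ℂ) =
      classInner θ (fun x : stabilizer G a => (χ.1 : G → ℂ) x) := by
  rw [frobenius_reciprocity _ _ (irr_classFun χ.1.2), al, classInner_sub_left,
    classInner_smul_left]
  have : classInner (uK h.zass a) (fun x : stabilizer G a => (χ.1 : G → ℂ) x) = 0 := χ.2
  rw [this, mul_zero, sub_zero]

/-- Feit's Gram relation. -/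
theorem gram {a b : Ω} (hab : a ≠ b) [Fintype (stabilizer G a)] [Fintype (IrrCharacter G)]
    [Fintype (h.XX a)]
    {θ η : stabilizer G a → ℂ}
    (hθ : IsIrrCharacter (stabilizer G a) θ)
    (hr : ∃ k : stabilizer G a, (k : G) ∈ K h.zass a ∧ θ k ≠ θ 1)
    (hη : IsIrrCharacter (stabilizer G a) η)
    (hs : ∃ k : stabilizer G a, (k : G) ∈ K h.zass a ∧ η k ≠ η 1) {d d' : ℕ}
    (hd : θ 1 = (Nat.card ↥(stabilizer G a ⊓ stabilizer G b) : ℂ) * d)
    (hd' : η 1 = (Nat.card ↥(stabilizer G a ⊓ stabilizer G b) : ℂ) * d') :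
    ∑ χ : h.XX a, classInner θ (fun x : stabilizer G a => (χ.1 : G → ℂ) x) *
      conj (classInner η (fun x : stabilizer G a => (χ.1 : G → ℂ) x)) =
      classInner θ η + (h.YY a).card * d * d' := by
  have e0 := h.card_two_ne_zero (a := a) (b := b)
  have e1 := classInner_indFun_of_TI (stabilizer G a) (K h.zass a : Set G) (K_TI h.zass a)
    (al h.zass a θ) (al h.zass a η) (h.al_classFun hη) (h.al_vanish hθ hr) (h.al_vanish hη hs)
    (h.al_one θ)
  rw [h.inner_al_al hab hθ hr hη hs, classInner_eq_sum (indFun_classFun _ _),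
    h.sum_decomp a hab, h.val_St hθ hr, h.val_one, h.val_one,
    h.inner_al_one hab hθ hr, h.inner_al_one hab hη hs, zero_mul, add_zero] at e1
  simp only [h.val_XX] at e1
  have e2 : ∑ χ ∈ h.YY a, classInner (indFun (stabilizer G a) (al h.zass a θ)) (χ : G → ℂ) *
      conj (classInner (indFun (stabilizer G a) (al h.zass a η)) (χ : G → ℂ)) =
      ∑ χ ∈ h.YY a, (d : ℂ) * d' := by
    refine Finset.sum_congr rfl fun χ hχ => ?_
    rw [h.val_YY hθ hr hχ, h.val_YY hη hs hχ, h.inner_al_one hab hθ hr, h.inner_al_one hab hη hs,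
      hd, hd']
    simp only [map_mul, map_neg, map_inv₀, Complex.conj_natCast]
    field_simp
  rw [e2, Finset.sum_const, nsmul_eq_mul, hd, hd'] at e1
  simp only [map_mul, map_neg, map_inv₀, Complex.conj_natCast] at e1
  have e3 : (Nat.card ↥(stabilizer G a ⊓ stabilizer G b) : ℂ) = 2 * (h.YY a).card + 1 := by
    rw [← h.card_YY hab]; push_cast; ring
  have e4 : ∑ χ : h.XX a, classInner θ (fun x : stabilizer G a => (χ.1 : G → ℂ) x) *
      conj (classInner η (fun x : stabilizer G a => (χ.1 : G → ℂ) x)) =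
      classInner θ η + (Nat.card ↥(stabilizer G a ⊓ stabilizer G b) : ℂ) * d * d' - d * d' -
      (h.YY a).card * (d * d') := by
    field_simp at e1
    linear_combination e1
  rw [e4, e3]; ring

end OddInv

end Cfsg.Agent.H20.Zass
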