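import Cfsg.Agent.H20.ZChar5

/-!
Zassenhaus groups with inverted two-point stabilisers of odd order: counting irreducible
characters.
-/

set_option autoImplicit false
set_option linter.style.haveILetI false

open Cfsg MulAction
open scoped Pointwise ComplexConjugate

namespace Cfsg.Agent.H20.Zass

open Cfsg.Agent.H3

universe u v

variable {G : Type u} [Group G] {Ω : Type v} [MulAction G Ω] [Finite Ω]

theorem card_subtype_add_not {T : Type*} [Finite T] (p : T → Prop) :
    Nat.card {x // p x} + Nat.card {x // ¬ p x} = Nat.card T := by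
  classical
  rw [← Nat.card_sum]
  exact Nat.card_congr (Equiv.sumCompl p)

namespace OddInv

variable (h : OddInv G Ω)
include h

/-- classes of the point stabiliser outside the kernel -/
theorem card_out_le {a b : Ω} (hab : a ≠ b) :
    Nat.card {C : ConjClasses (stabilizer G a) //
      ∀ x : stabilizer G a, ConjClasses.mk x = C → (x : G) ∉ K h.zass a} ≤
      Nat.card ↥(stabilizer G a ⊓ stabilizer G b) - 1 := by
  classical
  haveI := finite_group h.zass
  have h1 : Nat.card {y : ↥(stabilizer G a ⊓ stabilizer G b) // y ≠ 1} =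
      Nat.card ↥(stabilizer G a ⊓ stabilizer G b) - 1 := by
    haveI := Fintype.ofFinite ↥(stabilizer G a ⊓ stabilizer G b)
    rw [Nat.card_eq_fintype_card, Nat.card_eq_fintype_card, Fintype.card_subtype_compl,
      Fintype.card_subtype_eq]
  rw [← h1]
  have hout : ∀ y : ↥(stabilizer G a ⊓ stabilizer G b), y ≠ 1 → (y : G) ∉ K h.zass a := by
    intro y hy hyK
    exact hab (K_fix h.zass hyK (fun hc => hy (Subtype.ext hc)) y.2.2).symm
  refine Nat.card_le_card_of_surjective
    (fun y => ⟨ConjClasses.mk (⟨y.1.1, y.1.2.1⟩ : stabilizer G a), ?_⟩) ?_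
  · intro x hx hxK
    rw [ConjClasses.mk_eq_mk_iff_isConj, isConj_iff] at hx
    obtain ⟨c, hc⟩ := hx
    apply hout y.1 y.2
    have := (KB_normal h.zass a).conj_mem x ((mem_KB h.zass).mpr hxK) c
    rw [hc, mem_KB] at this
    exact this
  · rintro ⟨C, hC⟩
    obtain ⟨x, rfl⟩ := ConjClasses.exists_rep C
    have hx := hC x rfl
    rw [mem_K] at hx
    push Not at hx
    obtain ⟨hx1, hx2⟩ := hx
    obtain ⟨c, hc, hca⟩ := hx2 x.2
    obtain ⟨k, hk, hkc⟩ := exists_K h.zass hca (Ne.symm hab)
    have hka : k • a = a := K_le h.zass a hk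
    have hxa : (x : G) • a = a := x.2
    have e1 : (k * x * k⁻¹) • a = a := by
      rw [mul_smul, mul_smul, inv_smul_eq_iff.mpr hka.symm, hxa, hka]
    have e2 : (k * x * k⁻¹) • b = b := by
      rw [mul_smul, mul_smul, inv_smul_eq_iff.mpr hkc.symm, hc, hkc]
    refine ⟨⟨⟨k * x * k⁻¹, e1, e2⟩, ?_⟩, ?_⟩
    · intro hc
      apply hx1
      have h3 : k * x * k⁻¹ = 1 := congrArg Subtype.val hc
      rw [mul_inv_eq_one] at h3
      exact mul_left_cancel (h3.trans (mul_one k).symm)
    · apply Subtype.ext
      show ConjClasses.mk _ = ConjClasses.mk _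
      rw [ConjClasses.mk_eq_mk_iff_isConj, isConj_comm, isConj_iff]
      exact ⟨⟨k, hka⟩, Subtype.ext rfl⟩

/-- classes of the point stabiliser in the kernel do not fuse -/
theorem card_in_le (a : Ω) :
    Nat.card {C : ConjClasses (stabilizer G a) //
      ¬ ∀ x : stabilizer G a, ConjClasses.mk x = C → (x : G) ∉ K h.zass a} ≤
    Nat.card {C : ConjClasses G // ¬ ∀ g : G, ConjClasses.mk g = C → g ∉ K h.zass a} := by
  classical
  haveI := finite_group h.zass
  haveI : Finite (ConjClasses G) := Quotient.finite _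
  have hrep : ∀ C : {C : ConjClasses (stabilizer G a) //
      ¬ ∀ x : stabilizer G a, ConjClasses.mk x = C → (x : G) ∉ K h.zass a},
      ∃ x : stabilizer G a, ConjClasses.mk x = C.1 ∧ (x : G) ∈ K h.zass a := by
    rintro ⟨C, hC⟩
    push Not at hC
    exact hC
  choose r hr1 hr2 using hrep
  refine Nat.card_le_card_of_injective
    (fun C => ⟨ConjClasses.mk (r C : G), fun hc => hc _ rfl (hr2 C)⟩) ?_
  intro C D hCD
  have h1 : ConjClasses.mk (r C : G) = ConjClasses.mk (r D : G) := congrArg Subtype.val hCD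
  rw [ConjClasses.mk_eq_mk_iff_isConj, isConj_iff] at h1
  obtain ⟨g, hg⟩ := h1
  apply Subtype.ext
  rw [← hr1 C, ← hr1 D, ConjClasses.mk_eq_mk_iff_isConj, isConj_iff]
  by_cases hga : g ∈ stabilizer G a
  · exact ⟨⟨g, hga⟩, Subtype.ext hg⟩
  · have h2 := K_TI h.zass a g hga _ (hr2 C) (by rw [hg]; exact hr2 D)
    refine ⟨1, Subtype.ext ?_⟩
    rw [h2] at hg
    simp only [mul_one, mul_inv_cancel] at hg
    push_cast
    rw [h2, ← hg]; simp

theorem card_irr_lt [Finite G] {a b : Ω} (hab : a ≠ b) :
    Nat.card (IrrCharacter (stabilizer G a)) + 1 ≤ Nat.card (IrrCharacter G) := by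
  rw [card_irr_eq, card_irr_eq]
  haveI : Finite (ConjClasses G) := Quotient.finite _
  haveI : Finite (ConjClasses (stabilizer G a)) := Quotient.finite _
  have h1 := card_subtype_add_not (fun C : ConjClasses (stabilizer G a) =>
    ∀ x : stabilizer G a, ConjClasses.mk x = C → (x : G) ∉ K h.zass a)
  have h2 := card_subtype_add_not (fun C : ConjClasses G =>
    ∀ g : G, ConjClasses.mk g = C → g ∉ K h.zass a)
  have h3 := h.card_out_le hab
  have h4 := h.card_in_le a
  have h5 := h.le_card_outside hab
  have h6 : 0 < Nat.card ↥(stabilizer G a ⊓ stabilizer G b) := Nat.card_pos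
  omega

/-- Characters of the point stabiliser constant on the kernel. -/
theorem card_lin [Finite G] {a b : Ω} (hab : a ≠ b) :
    Nat.card {θ : IrrCharacter (stabilizer G a) //
    ¬ ∃ k : stabilizer G a, (k : G) ∈ K h.zass a ∧ (θ : stabilizer G a → ℂ) k ≠
      (θ : stabilizer G a → ℂ) 1} = Nat.card ↥(stabilizer G a ⊓ stabilizer G b) := by
  classical
  haveI : Fintype (stabilizer G a) := Fintype.ofFinite _
  haveI : Fintype (IrrCharacter (stabilizer G a)) := Fintype.ofFinite _
  have e0 := h.card_two_ne_zero (a := a) (b := b)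
  have e1 := inner_uK_self (a := a) h.zass hab
  rw [classInner_eq_sum (uK_classFun h.zass a)] at e1
  have e2 : ∀ θ : IrrCharacter (stabilizer G a),
      classInner (uK h.zass a) θ * conj (classInner (uK h.zass a) θ) =
      if ∃ k : stabilizer G a, (k : G) ∈ K h.zass a ∧ (θ : stabilizer G a → ℂ) k ≠
      (θ : stabilizer G a → ℂ) 1 then 0 else
        ((Nat.card ↥(stabilizer G a ⊓ stabilizer G b) : ℂ))⁻¹ ^ 2 := by
    intro θ
    split_ifs with hr
    · have : classInner (uK h.zass a) θ = 0 := by
        rw [← classInner_conj_symm, h.inner_rel_uK θ.2 hr (fun x hx => uK_mem h.zass hx), map_zero]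
      rw [this, zero_mul]
    · push Not at hr
      rw [inner_uK_lin h.zass hab (h.const_one θ.2 hr)]
      simp only [map_inv₀, Complex.conj_natCast]
      ring
  rw [Finset.sum_congr rfl fun θ _ => e2 θ, Finset.sum_ite, Finset.sum_const_zero, zero_add,
    Finset.sum_const, nsmul_eq_mul] at e1
  rw [Nat.card_eq_fintype_card, Fintype.card_subtype]
  field_simp at e1
  exact_mod_cast e1

theorem card_JJ [Finite G] {a b : Ω} (hab : a ≠ b) :
    Nat.card (h.JJ a) + Nat.card ↥(stabilizer G a ⊓ stabilizer G b) =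
      Nat.card (IrrCharacter (stabilizer G a)) := by
  rw [← h.card_lin hab]
  exact card_subtype_add_not _

variable [Fintype G]

theorem card_XX {a b : Ω} (hab : a ≠ b) [Fintype (stabilizer G a)] [Fintype (IrrCharacter G)] :
    Nat.card (h.XX a) + 2 + (h.YY a).card = Nat.card (IrrCharacter G) := by
  classical
  haveI : Fintype (h.XX a) := Fintype.ofFinite _
  have e1 := h.sum_decomp a hab (fun _ => 1)
  simp only [Finset.sum_const, nsmul_eq_mul, mul_one, Finset.card_univ] at e1
  rw [Nat.card_eq_fintype_card, Nat.card_eq_fintype_card]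
  have e2 : ((Fintype.card (h.XX a) + 2 + (h.YY a).card : ℕ) : ℂ) =
      (Fintype.card (IrrCharacter G) : ℂ) := by
    rw [e1]; push_cast; ring
  exact_mod_cast e2

theorem le_card_XX {a b : Ω} (hab : a ≠ b) [Fintype (stabilizer G a)]
    [Fintype (IrrCharacter G)] :
    Nat.card (h.JJ a) + (h.YY a).card ≤ Nat.card (h.XX a) := by
  have h1 := h.card_XX hab
  have h2 := h.card_JJ hab
  have h3 := h.card_irr_lt hab
  have h4 := h.card_YY hab
  omega

end OddInv

end Cfsg.Agent.H20.Zass
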