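import Cfsg.Agent.H20.ZChar6

/-!
Zassenhaus groups with inverted two-point stabilisers of odd order: the Feit system.
-/

set_option autoImplicit false
set_option linter.style.haveILetI false

open Cfsg MulAction
open scoped Pointwise ComplexConjugate

namespace Cfsg.Agent.H20.Zass

open Cfsg.Agent.H3

universe u v

variable {G : Type u} [Group G] [Fintype G] {Ω : Type v} [MulAction G Ω] [Finite Ω]

namespace OddInv

variable (h : OddInv G Ω)

/-- multiplicities -/
noncomputable def nn {a : Ω} [Fintype (stabilizer G a)] (θ : h.JJ a) (χ : h.XX a) : ℤ :=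
  nI (θ.1 : stabilizer G a → ℂ) (fun x : stabilizer G a => (χ.1 : G → ℂ) x)

omit [Fintype G] in
theorem nn_spec {a : Ω} [Fintype (stabilizer G a)] (θ : h.JJ a) (χ : h.XX a) :
    ((h.nn θ χ : ℤ) : ℂ) = classInner (θ.1 : stabilizer G a → ℂ)
      (fun x : stabilizer G a => (χ.1 : G → ℂ) x) ∧ 0 ≤ h.nn θ χ :=
  nI_spec (irr_isChar θ.1.2) (isChar_restrict _ (irr_isChar χ.1.2))

omit [Fintype G] in
theorem nn_spec' {a : Ω} [Fintype (stabilizer G a)] (θ : h.JJ a) (χ : h.XX a) :
    ((h.nn θ χ : ℤ) : ℂ) = classInner (fun x : stabilizer G a => (χ.1 : G → ℂ) x)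
      (θ.1 : stabilizer G a → ℂ) := by
  rw [(h.nn_spec θ χ).1, classInner_char_symm (irr_isChar θ.1.2)
    (isChar_restrict _ (irr_isChar χ.1.2))]

/-- normalised degrees -/
noncomputable def dd {a b : Ω} (hab : a ≠ b) (θ : h.JJ a) : ℕ :=
  (h.rel_degree hab θ.1.2 θ.2).choose

omit [Fintype G] in
theorem dd_pos {a b : Ω} (hab : a ≠ b) (θ : h.JJ a) : 0 < h.dd hab θ :=
  (h.rel_degree hab θ.1.2 θ.2).choose_spec.1

omit [Fintype G] in
theorem dd_spec {a b : Ω} (hab : a ≠ b) (θ : h.JJ a) :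
    (θ.1 : stabilizer G a → ℂ) 1 =
      (Nat.card ↥(stabilizer G a ⊓ stabilizer G b) : ℂ) * h.dd hab θ :=
  (h.rel_degree hab θ.1.2 θ.2).choose_spec.2

include h in
theorem feitSys {a b : Ω} (hab : a ≠ b) [Fintype (stabilizer G a)] [Fintype (IrrCharacter G)]
    [Fintype (h.XX a)] [DecidableEq (h.JJ a)] :
    Coh.FeitSys (h.nn (a := a)) (fun θ => (h.dd hab θ : ℤ)) ((h.YY a).card : ℤ) := by
  refine ⟨fun θ χ => (h.nn_spec θ χ).2, fun θ => by exact_mod_cast h.dd_pos hab θ, fun θ η => ?_⟩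
  have h1 := h.gram hab θ.1.2 θ.2 η.1.2 η.2 (h.dd_spec hab θ) (h.dd_spec hab η)
  have h2 : ∀ χ : h.XX a, classInner (θ.1 : stabilizer G a → ℂ)
      (fun x : stabilizer G a => (χ.1 : G → ℂ) x) *
      conj (classInner (η.1 : stabilizer G a → ℂ)
      (fun x : stabilizer G a => (χ.1 : G → ℂ) x)) = ((h.nn θ χ * h.nn η χ : ℤ) : ℂ) := by
    intro χ
    rw [← (h.nn_spec θ χ).1, ← (h.nn_spec η χ).1, map_intCast]
    push_cast; ring
  rw [Finset.sum_congr rfl fun χ _ => h2 χ, classInner_irr θ.1.2 η.1.2] at h1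
  have h3 : ((if (θ.1 : stabilizer G a → ℂ) = (η.1 : stabilizer G a → ℂ) then 1 else 0 : ℂ)) =
      ((if θ = η then 1 else 0 : ℤ) : ℂ) := by
    by_cases hc : θ = η
    · rw [if_pos hc, if_pos (by rw [hc])]; norm_num
    · rw [if_neg hc, if_neg (fun hc' => hc (Subtype.ext (Subtype.ext hc')))]; norm_num
  have h4 : ((∑ χ : h.XX a, h.nn θ χ * h.nn η χ : ℤ) : ℂ) =
      (((if θ = η then 1 else 0) + (h.YY a).card * (h.dd hab θ) * (h.dd hab η) : ℤ) : ℂ) := by
    rw [Int.cast_add, ← h3]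
    push_cast
    push_cast at h1
    exact h1
  exact_mod_cast h4

omit [Fintype G] in
include h in
/-- Characters in `X` are orthogonal to the linear characters. -/
theorem inner_XX_lin {a : Ω} [Fintype (stabilizer G a)] (χ : h.XX a)
    {ψ : stabilizer G a → ℂ} (hψ : IsIrrCharacter (stabilizer G a) ψ)
    (hc : ∀ k : stabilizer G a, (k : G) ∈ K h.zass a → ψ k = ψ 1) :
    classInner (fun x : stabilizer G a => (χ.1 : G → ℂ) x) ψ = 0 := by
  classical
  haveI : Fintype (IrrCharacter (stabilizer G a)) := Fintype.ofFinite _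
  obtain ⟨b, hab⟩ := exists_ne_pt h.zass a
  have e0 := h.card_two_ne_zero (a := a) (b := b)
  have e1 : classInner (uK h.zass a) (fun x : stabilizer G a => (χ.1 : G → ℂ) x) = 0 := χ.2
  have hres : IsCharacter (stabilizer G a) (fun x : stabilizer G a => (χ.1 : G → ℂ) x) :=
    isChar_restrict _ (irr_isChar χ.1.2)
  rw [classInner_eq_sum (uK_classFun h.zass a)] at e1
  have e2 : ∀ θ : IrrCharacter (stabilizer G a),
      classInner (uK h.zass a) θ *
        conj (classInner (fun x : stabilizer G a => (χ.1 : G → ℂ) x) θ) =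
      (((if ∃ k : stabilizer G a, (k : G) ∈ K h.zass a ∧ (θ : stabilizer G a → ℂ) k ≠
      (θ : stabilizer G a → ℂ) 1 then 0 else
        ((Nat.card ↥(stabilizer G a ⊓ stabilizer G b) : ℝ))⁻¹ *
        (nI (fun x : stabilizer G a => (χ.1 : G → ℂ) x) (θ : stabilizer G a → ℂ) : ℝ) : ℝ)) : ℂ) := by
    intro θ
    split_ifs with hr
    · have : classInner (uK h.zass a) θ = 0 := by
        rw [← classInner_conj_symm, h.inner_rel_uK θ.2 hr (fun x hx => uK_mem h.zass hx), map_zero]
      rw [this, zero_mul]; norm_num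
    · push Not at hr
      rw [inner_uK_lin h.zass hab (h.const_one θ.2 hr),
        ← (nI_spec hres (irr_isChar θ.2)).1, map_intCast]
      push_cast; ring
  rw [Finset.sum_congr rfl fun θ _ => e2 θ, ← Complex.ofReal_sum] at e1
  have e3 : ∑ θ : IrrCharacter (stabilizer G a),
      (if ∃ k : stabilizer G a, (k : G) ∈ K h.zass a ∧ (θ : stabilizer G a → ℂ) k ≠
      (θ : stabilizer G a → ℂ) 1 then 0 else
        ((Nat.card ↥(stabilizer G a ⊓ stabilizer G b) : ℝ))⁻¹ *
        (nI (fun x : stabilizer G a => (χ.1 : G → ℂ) x) (θ : stabilizer G a → ℂ) : ℝ) : ℝ) = 0 := by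
    exact_mod_cast e1
  rw [Finset.sum_eq_zero_iff_of_nonneg] at e3
  · have e4 := e3 ⟨ψ, hψ⟩ (Finset.mem_univ _)
    rw [if_neg (by push Not; exact hc)] at e4
    have e5 : ((Nat.card ↥(stabilizer G a ⊓ stabilizer G b) : ℝ))⁻¹ ≠ 0 := by
      apply inv_ne_zero
      exact_mod_cast e0
    have e6 := (mul_eq_zero.mp e4).resolve_left e5
    have e7 : nI (fun x : stabilizer G a => (χ.1 : G → ℂ) x) ψ = 0 := by exact_mod_cast e6
    rw [← (nI_spec hres (irr_isChar hψ)).1, e7, Int.cast_zero]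
  · intro θ _
    split_ifs
    · exact le_rfl
    · have := (nI_spec hres (irr_isChar θ.2)).2
      have h2 : (0 : ℝ) ≤ (nI (fun x : stabilizer G a => (χ.1 : G → ℂ) x)
        (θ : stabilizer G a → ℂ) : ℝ) := by exact_mod_cast this
      positivity

omit [Fintype G] in
include h in
/-- Restriction of characters in `X`. -/
theorem res_XX {a : Ω} [Fintype (stabilizer G a)] [Fintype (h.JJ a)] (χ : h.XX a)
    (x : stabilizer G a) : (χ.1 : G → ℂ) x =
      ∑ θ : h.JJ a, (h.nn θ χ : ℂ) * (θ.1 : stabilizer G a → ℂ) x := by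
  classical
  haveI : Fintype (IrrCharacter (stabilizer G a)) := Fintype.ofFinite _
  have e1 := classFun_expand_apply (classFun_restrict (stabilizer G a) (irr_classFun χ.1.2)) x
  rw [e1, ← Finset.sum_filter_add_sum_filter_not Finset.univ
    (fun θ : IrrCharacter (stabilizer G a) => ∃ k : stabilizer G a, (k : G) ∈ K h.zass a ∧
      (θ : stabilizer G a → ℂ) k ≠ (θ : stabilizer G a → ℂ) 1)]
  have e2 : ∑ ψ ∈ Finset.univ.filter (fun θ : IrrCharacter (stabilizer G a) =>
      ¬ ∃ k : stabilizer G a, (k : G) ∈ K h.zass a ∧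
      (θ : stabilizer G a → ℂ) k ≠ (θ : stabilizer G a → ℂ) 1),
      classInner (fun x : stabilizer G a => (χ.1 : G → ℂ) x) ψ * (ψ : stabilizer G a → ℂ) x = 0 := by
    refine Finset.sum_eq_zero fun ψ hψ => ?_
    have h1 := (Finset.mem_filter.mp hψ).2
    push Not at h1
    rw [h.inner_XX_lin χ ψ.2 h1, zero_mul]
  rw [e2, add_zero]
  have e3 : ∑ θ : h.JJ a, classInner (fun x : stabilizer G a => (χ.1 : G → ℂ) x) θ.1 *
      (θ.1 : stabilizer G a → ℂ) x = _ :=
    (Finset.sum_subtype (p := fun θ : IrrCharacter (stabilizer G a) =>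
      ∃ k : stabilizer G a, (k : G) ∈ K h.zass a ∧
      (θ : stabilizer G a → ℂ) k ≠ (θ : stabilizer G a → ℂ) 1)
      (F := (inferInstance : Fintype (h.JJ a))) (Finset.univ.filter (fun θ : IrrCharacter (stabilizer G a) =>
      ∃ k : stabilizer G a, (k : G) ∈ K h.zass a ∧
      (θ : stabilizer G a → ℂ) k ≠ (θ : stabilizer G a → ℂ) 1)) (fun x => by simp)
      (fun θ => classInner (fun x : stabilizer G a => (χ.1 : G → ℂ) x) θ *
        (θ : stabilizer G a → ℂ) x)).symm
  rw [← e3]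
  refine Finset.sum_congr rfl fun θ _ => ?_
  rw [h.nn_spec' θ χ]

omit [Fintype G] in
include h in
theorem XX_vanish {a : Ω} [Fintype (stabilizer G a)] (χ : h.XX a)
    (x : stabilizer G a) (hx : (x : G) ∉ K h.zass a) : (χ.1 : G → ℂ) x = 0 := by
  haveI := finite_group h.zass
  haveI : Fintype G := Fintype.ofFinite G
  haveI : Fintype (h.JJ a) := Fintype.ofFinite _
  rw [h.res_XX χ x]
  refine Finset.sum_eq_zero fun θ _ => ?_
  rw [h.rel_vanish θ.1.2 θ.2 x hx, mul_zero]

omit [Fintype G] in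
include h in
theorem XX_one {a b : Ω} (hab : a ≠ b) [Fintype (stabilizer G a)] [Fintype (h.JJ a)]
    (χ : h.XX a) : (χ.1 : G → ℂ) 1 = (Nat.card ↥(stabilizer G a ⊓ stabilizer G b) : ℂ) *
      ((∑ θ : h.JJ a, h.nn θ χ * h.dd hab θ : ℤ) : ℂ) := by
  have e1 := h.res_XX χ 1
  rw [Subgroup.coe_one] at e1
  rw [e1]
  push_cast
  rw [Finset.mul_sum]
  refine Finset.sum_congr rfl fun θ _ => ?_
  rw [h.dd_spec hab θ]; ring

omit [Fintype G] in
include h in
theorem XX_cover {a : Ω} [Fintype (stabilizer G a)] (χ : h.XX a) : ∃ θ : h.JJ a, h.nn θ χ ≠ 0 := by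
  haveI := finite_group h.zass
  haveI : Fintype G := Fintype.ofFinite G
  haveI : Fintype (h.JJ a) := Fintype.ofFinite _
  by_contra hc
  push Not at hc
  have e1 := h.res_XX χ 1
  simp only [hc, Int.cast_zero, zero_mul, Finset.sum_const_zero, Subgroup.coe_one] at e1
  exact irr_one_ne_zero χ.1.2 e1

include h in
/-- The degree inequality. -/
theorem degree_ineq {a : Ω} [Fintype (stabilizer G a)] [Fintype (IrrCharacter G)]
    (χ : h.XX a) {m : ℕ} (hm : (χ.1 : G → ℂ) 1 = m) :
    1 + (h.YY a).card * Nat.card Ω ≤ m ^ 2 := by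
  classical
  haveI := pretransitive h.zass
  set F : G → ℂ := (χ.1 : G → ℂ) * (fun g => conj ((χ.1 : G → ℂ) g)) with hF
  have hFc : IsCharacter G F := isChar_mul (irr_isChar χ.1.2) (isChar_conj (irr_isChar χ.1.2))
  obtain ⟨c, hc, hexp⟩ := char_expand hFc
  choose dg hdg0 hdg using fun ψ : IrrCharacter G => irr_one_eq_nat ψ.2
  have e1 : m ^ 2 = ∑ ψ : IrrCharacter G, c ψ * dg ψ := by
    have e2 := congrFun hexp 1
    rw [hF] at e2
    simp only [Pi.mul_apply, Finset.sum_apply, Pi.smul_apply, smul_eq_mul] at e2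
    rw [hm, Complex.conj_natCast] at e2
    simp only [hdg] at e2
    have e3 : ((m ^ 2 : ℕ) : ℂ) = ((∑ ψ : IrrCharacter G, c ψ * dg ψ : ℕ) : ℂ) := by
      push_cast
      rw [← e2]; ring
    exact_mod_cast e3
  have e4 : c h.one' = 1 := by
    have e5 := hc h.one'
    have e6 : classInner F (h.one' : G → ℂ) = classInner (χ.1 : G → ℂ) (χ.1 : G → ℂ) := by
      simp only [classInner]
      congr 1
      refine Finset.sum_congr rfl fun g _ => ?_
      show _ * _ * conj (1 : ℂ) = _
      rw [map_one, mul_one]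
    rw [e6, classInner_self_of_irr χ.1.2] at e5
    exact_mod_cast e5.symm
  have e5 : dg h.one' = 1 := by
    have : (1 : ℂ) = (dg h.one' : ℂ) := hdg h.one'
    exact_mod_cast this.symm
  have e6 : ∀ ψ ∈ h.YY a, 1 ≤ c ψ ∧ dg ψ = Nat.card Ω := by
    intro ψ hψ
    obtain ⟨μ, h1, h2, -, h3⟩ := h.YY_spec hψ
    constructor
    · rw [Nat.one_le_iff_ne_zero]
      intro h0
      have h4 := hc ψ
      rw [h0, h3, frobenius_reciprocity' _ _ (char_classFun hFc), Nat.cast_zero,
        inner_uK_of_vanish h.zass (fun x hx => by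
          show F x = 0
          rw [hF, Pi.mul_apply, h.XX_vanish χ x hx, zero_mul]) h2] at h4
      -- norm of the restriction is zero
      have h5 : classInner (fun x : stabilizer G a => (χ.1 : G → ℂ) x)
          (fun x : stabilizer G a => (χ.1 : G → ℂ) x) = 0 := by
        refine Eq.trans ?_ h4
        simp only [classInner]
        congr 1
        refine Finset.sum_congr rfl fun x _ => ?_
        rw [map_one, mul_one]
        rfl
      obtain ⟨n, hn⟩ := classInner_char_nat
        (isChar_restrict (stabilizer G a) (irr_isChar χ.1.2))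
        (isChar_restrict (stabilizer G a) (irr_isChar χ.1.2))
      obtain ⟨θ, hθ⟩ := h.XX_cover χ
      haveI : Fintype (IrrCharacter (stabilizer G a)) := Fintype.ofFinite _
      rw [classInner_eq_sum (classFun_restrict _ (irr_classFun χ.1.2))] at h5
      have h6 : ∀ ψ : IrrCharacter (stabilizer G a),
          classInner (fun x : stabilizer G a => (χ.1 : G → ℂ) x) ψ *
          conj (classInner (fun x : stabilizer G a => (χ.1 : G → ℂ) x) ψ) =
          ((nI (fun x : stabilizer G a => (χ.1 : G → ℂ) x) (ψ : stabilizer G a → ℂ) *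
          nI (fun x : stabilizer G a => (χ.1 : G → ℂ) x) (ψ : stabilizer G a → ℂ) : ℤ) : ℂ) := by
        intro ψ
        rw [← (nI_spec (isChar_restrict (stabilizer G a) (irr_isChar χ.1.2))
          (irr_isChar ψ.2)).1, map_intCast]
        push_cast; ring
      rw [Finset.sum_congr rfl fun ψ _ => h6 ψ, ← Int.cast_sum, Int.cast_eq_zero,
        Finset.sum_eq_zero_iff_of_nonneg (fun ψ _ => mul_self_nonneg _)] at h5
      have h7 := mul_self_eq_zero.mp (h5 θ.1 (Finset.mem_univ _))
      apply hθ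
      have h8 := h.nn_spec' θ χ
      rw [← (nI_spec (isChar_restrict (stabilizer G a) (irr_isChar χ.1.2))
          (irr_isChar θ.1.2)).1, h7] at h8
      exact_mod_cast h8
    · have h4 := hdg ψ
      rw [h3, indFun_one_apply, h2 1 (one_mem _), mul_one, index_stabilizer_of_transitive] at h4
      exact_mod_cast h4.symm
  rw [e1]
  have e7 : h.one' ∉ h.YY a := fun hc => (h.mem_YY.mp hc).2.1 rfl
  calc 1 + (h.YY a).card * Nat.card Ω ≤ c h.one' * dg h.one' + ∑ ψ ∈ h.YY a, c ψ * dg ψ := by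
        rw [e4, e5]
        gcongr
        · rw [← smul_eq_mul, ← Finset.sum_const]
          refine Finset.sum_le_sum fun ψ hψ => ?_
          rw [(e6 ψ hψ).2]
          exact Nat.le_mul_of_pos_left _ (e6 ψ hψ).1
    _ = ∑ ψ ∈ insert h.one' (h.YY a), c ψ * dg ψ := by rw [Finset.sum_insert e7]
    _ ≤ ∑ ψ : IrrCharacter G, c ψ * dg ψ :=
        Finset.sum_le_sum_of_subset_of_nonneg (Finset.subset_univ _) (fun _ _ _ => Nat.zero_le _)

end OddInv

end Cfsg.Agent.H20.Zass
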