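import Cfsg.Agent.H20.ZChar7

/-!
Zassenhaus groups with inverted two-point stabilisers of odd order: base of the coherence
argument and the abelian case of Feit's theorem.
-/

set_option autoImplicit false
set_option linter.style.haveILetI false

open Cfsg MulAction
open scoped Pointwise ComplexConjugate

namespace Cfsg.Agent.H20.Zass

open Cfsg.Agent.H3

universe u v

variable {G : Type u} [Group G] [Fintype G] {Ω : Type v} [MulAction G Ω] [Finite Ω]

namespace OddInv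

variable (h : OddInv G Ω)
include h

theorem val_nonX_eq {a b : Ω} (hab : a ≠ b) [Fintype (stabilizer G a)]
    {χ : IrrCharacter G} (hχ : h.ru a χ ≠ 0)
    {θ η : stabilizer G a → ℂ}
    (hθ : IsIrrCharacter (stabilizer G a) θ)
    (hr : ∃ k : stabilizer G a, (k : G) ∈ K h.zass a ∧ θ k ≠ θ 1)
    (hη : IsIrrCharacter (stabilizer G a) η)
    (hs : ∃ k : stabilizer G a, (k : G) ∈ K h.zass a ∧ η k ≠ η 1) (h1 : θ 1 = η 1) :
    classInner (indFun (stabilizer G a) (al h.zass a θ)) (χ : G → ℂ) =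
    classInner (indFun (stabilizer G a) (al h.zass a η)) (χ : G → ℂ) := by
  classical
  haveI : Fintype (IrrCharacter G) := Fintype.ofFinite _
  by_cases h2 : χ = h.one'
  · rw [h2, h.val_one, h.val_one, h.inner_al_one hab hθ hr, h.inner_al_one hab hη hs, h1]
  by_cases h3 : χ = h.St'
  · rw [h3, h.val_St hθ hr, h.val_St hη hs]
  have h4 : χ ∈ h.YY a := h.mem_YY.mpr ⟨hχ, h2, h3⟩
  rw [h.val_YY hθ hr h4, h.val_YY hη hs h4, h.inner_al_one hab hθ hr, h.inner_al_one hab hη hs, h1]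

/-- Sum of the squares of the normalised degrees. -/
theorem sum_dd_sq {a b : Ω} (hab : a ≠ b) [Fintype (stabilizer G a)] [Fintype (h.JJ a)] :
    Nat.card ↥(stabilizer G a ⊓ stabilizer G b) * ∑ θ : h.JJ a, (h.dd hab θ) ^ 2 + 2 =
      Nat.card Ω := by
  classical
  haveI : Fintype (IrrCharacter (stabilizer G a)) := Fintype.ofFinite _
  have e0 := h.card_two_ne_zero (a := a) (b := b)
  have e1 := sum_degree_sq (G := stabilizer G a)
  rw [← Finset.sum_filter_add_sum_filter_not Finset.univ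
    (fun θ : IrrCharacter (stabilizer G a) => ∃ k : stabilizer G a, (k : G) ∈ K h.zass a ∧
      (θ : stabilizer G a → ℂ) k ≠ (θ : stabilizer G a → ℂ) 1)] at e1
  have e2 : ∑ ψ ∈ Finset.univ.filter (fun θ : IrrCharacter (stabilizer G a) =>
      ¬ ∃ k : stabilizer G a, (k : G) ∈ K h.zass a ∧
      (θ : stabilizer G a → ℂ) k ≠ (θ : stabilizer G a → ℂ) 1),
      (ψ : stabilizer G a → ℂ) 1 ^ 2 = Nat.card ↥(stabilizer G a ⊓ stabilizer G b) := by
    rw [Finset.sum_congr rfl (g := fun _ => (1 : ℂ)) fun ψ hψ => by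
      have h1 := (Finset.mem_filter.mp hψ).2
      push Not at h1
      rw [h.lin_of_const ψ.2 h1, one_pow]]
    rw [Finset.sum_const, nsmul_eq_mul, mul_one, ← h.card_lin hab, Nat.card_eq_fintype_card,
      Fintype.card_subtype]
  have e3 : ∑ θ : h.JJ a, (θ.1 : stabilizer G a → ℂ) 1 ^ 2 = _ :=
    (Finset.sum_subtype (p := fun θ : IrrCharacter (stabilizer G a) =>
      ∃ k : stabilizer G a, (k : G) ∈ K h.zass a ∧
      (θ : stabilizer G a → ℂ) k ≠ (θ : stabilizer G a → ℂ) 1)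
      (F := (inferInstance : Fintype (h.JJ a)))
      (Finset.univ.filter (fun θ : IrrCharacter (stabilizer G a) =>
      ∃ k : stabilizer G a, (k : G) ∈ K h.zass a ∧
      (θ : stabilizer G a → ℂ) k ≠ (θ : stabilizer G a → ℂ) 1)) (fun x => by simp)
      (fun θ => (θ : stabilizer G a → ℂ) 1 ^ 2)).symm
  rw [e2, ← e3, h.card_stab hab] at e1
  have e4 : ∑ θ : h.JJ a, (θ.1 : stabilizer G a → ℂ) 1 ^ 2 =
      (Nat.card ↥(stabilizer G a ⊓ stabilizer G b) : ℂ) ^ 2 *
        ((∑ θ : h.JJ a, (h.dd hab θ) ^ 2 : ℕ) : ℂ) := by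
    push_cast
    rw [Finset.mul_sum]
    refine Finset.sum_congr rfl fun θ _ => ?_
    rw [h.dd_spec hab θ]; ring
  rw [e4] at e1
  have e5 : ((Nat.card ↥(stabilizer G a ⊓ stabilizer G b) *
      ∑ θ : h.JJ a, (h.dd hab θ) ^ 2 + 2 : ℕ) : ℂ) = (Nat.card Ω : ℂ) := by
    rw [Nat.cast_add, Nat.cast_mul]
    have e6 : (Nat.card ↥(stabilizer G a ⊓ stabilizer G b) : ℂ) *
        ((Nat.card ↥(stabilizer G a ⊓ stabilizer G b) : ℂ) *
        ((∑ θ : h.JJ a, (h.dd hab θ) ^ 2 : ℕ) : ℂ) + 2 - (Nat.card Ω : ℂ)) = 0 := by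
      linear_combination e1
    have e7 := (mul_eq_zero.mp e6).resolve_left e0
    linear_combination e7
  exact_mod_cast e5

/-- The base of the coherence argument. -/
theorem coh_start {a b : Ω} (hab : a ≠ b) [Fintype (stabilizer G a)] [Fintype (IrrCharacter G)]
    [Fintype (h.XX a)] [DecidableEq (h.JJ a)] [DecidableEq (h.XX a)] (S₀ : Finset (h.JJ a))
    (h3 : 3 ≤ S₀.card) (hd : ∀ θ ∈ S₀, h.dd hab θ = 1) :
    ∃ (ε : ℤ) (r : h.XX a → ℤ) (c : ℤ), ε * ε = 1 ∧
      (∑ x, r x * r x + 2 * ε * c = ((h.YY a).card : ℤ)) ∧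
      ∀ i ∈ S₀, ∃ z, Coh.CohAt (h.nn (a := a)) (fun θ => (h.dd hab θ : ℤ)) ε r c i z := by
  classical
  obtain ⟨i₁, hi₁⟩ : S₀.Nonempty := Finset.card_pos.mp (by omega)
  obtain ⟨ε, hε, μ, hμ, hinj, hdiff⟩ := exceptional_characters (stabilizer G a)
    (K h.zass a : Set G) (K_TI h.zass a) (ι := S₀) ⟨i₁, hi₁⟩
    (fun θ => (θ.1.1 : stabilizer G a → ℂ)) (fun θ => θ.1.1.2)
    (fun θ η hθη => Subtype.ext (Subtype.ext (Subtype.ext hθη)))
    (fun θ η x hx => by
      rw [h.rel_vanish θ.1.1.2 θ.1.2 x hx, h.rel_vanish η.1.1.2 η.1.2 x hx])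
    (fun θ η => by
      rw [h.dd_spec hab θ.1, h.dd_spec hab η.1, hd θ.1 θ.2, hd η.1 η.2])
  have hdeg : ∀ θ η : S₀, (θ.1.1 : stabilizer G a → ℂ) 1 = (η.1.1 : stabilizer G a → ℂ) 1 := by
    intro θ η
    rw [h.dd_spec hab θ.1, h.dd_spec hab η.1, hd θ.1 θ.2, hd η.1 η.2]
  have hε0 : ε ≠ 0 := by rcases hε with h | h <;> rw [h] <;> norm_num
  -- the exceptional characters lie in X
  have hX : ∀ θ : S₀, h.ru a ⟨μ θ, hμ θ⟩ = 0 := by
    intro θ
    by_contra hc
    obtain ⟨η, hη⟩ : ∃ η : S₀, η ≠ θ := by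
      by_contra hc'
      push Not at hc'
      have : S₀.card ≤ 1 := Finset.card_le_one.mpr fun x hx y hy => by
        have h1 := congrArg Subtype.val (hc' ⟨x, hx⟩)
        have h2 := congrArg Subtype.val (hc' ⟨y, hy⟩)
        exact h1.trans h2.symm
      omega
    have h1 := hdiff θ η
    have h2 : classInner (indFun (stabilizer G a) (θ.1.1 : stabilizer G a → ℂ) -
        indFun (stabilizer G a) (η.1.1 : stabilizer G a → ℂ)) (μ θ) = 0 := by
      have h5 := h.val_nonX_eq hab hc θ.1.1.2 θ.1.2 η.1.1.2 η.1.2 (hdeg θ η)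
      rw [al, al, indFun_sub, indFun_sub, hdeg θ η] at h5
      simp only [classInner_sub_left] at h5 ⊢
      linear_combination h5
    rw [h1, classInner_smul_left, classInner_sub_left, classInner_self_of_irr (hμ θ),
      classInner_of_irr_ne (hμ η) (hμ θ) (fun hc => hη (hinj hc)), sub_zero, mul_one] at h2
    exact hε0 h2
  -- integral sign
  obtain ⟨e, he, hee⟩ : ∃ e : ℤ, (e : ℂ) = ε ∧ e * e = 1 := by
    rcases hε with h | h
    · exact ⟨1, by rw [h]; norm_num, by norm_num⟩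
    · exact ⟨-1, by rw [h]; norm_num, by norm_num⟩
  let Θ' : S₀ → h.XX a := fun θ => ⟨⟨μ θ, hμ θ⟩, hX θ⟩
  have hΘ' : Function.Injective Θ' := by
    intro θ η hc
    exact hinj (congrArg (fun z : h.XX a => (z.1 : G → ℂ)) hc)
  have key : ∀ θ η : S₀, ∀ y : h.XX a, h.nn θ.1 y - h.nn η.1 y =
      e * ((if y = Θ' θ then 1 else 0) - (if y = Θ' η then 1 else 0)) := by
    intro θ η y
    have h1 := congrArg (fun F : G → ℂ => classInner F (y.1 : G → ℂ)) (hdiff θ η)
    simp only [classInner_sub_left, classInner_smul_left] at h1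
    rw [frobenius_reciprocity _ _ (irr_classFun y.1.2),
      frobenius_reciprocity _ _ (irr_classFun y.1.2), ← (h.nn_spec θ.1 y).1,
      ← (h.nn_spec η.1 y).1, classInner_irr (hμ θ) y.1.2, classInner_irr (hμ η) y.1.2, ← he] at h1
    have h2 : ∀ ζ : S₀, (if μ ζ = (y.1 : G → ℂ) then (1 : ℂ) else 0) =
        ((if y = Θ' ζ then 1 else 0 : ℤ) : ℂ) := by
      intro ζ
      by_cases hc : y = Θ' ζ
      · rw [if_pos hc, if_pos (by rw [hc])]; norm_num
      · rw [if_neg hc, if_neg (fun hc' => hc (Subtype.ext (Subtype.ext hc'.symm)))]; norm_num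
    rw [h2 θ, h2 η] at h1
    exact_mod_cast h1
  haveI : Nonempty (h.XX a) := ⟨Θ' ⟨i₁, hi₁⟩⟩
  let Θ : h.JJ a → h.XX a := fun θ => if hθ : θ ∈ S₀ then Θ' ⟨θ, hθ⟩ else Classical.arbitrary _
  have hΘ : ∀ θ (hθ : θ ∈ S₀), Θ θ = Θ' ⟨θ, hθ⟩ := fun θ hθ => by simp only [Θ]; rw [dif_pos hθ]
  obtain ⟨c, hc1, hc2⟩ := Coh.coh_base (n := h.nn (a := a)) (d := fun θ => (h.dd hab θ : ℤ))
    (f := ((h.YY a).card : ℤ)) (ε := e)
    (r := fun y => h.nn i₁ y - e * (if y = Θ' ⟨i₁, hi₁⟩ then 1 else 0))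
    (h.feitSys hab) hee S₀ h3 (fun θ hθ => by simp only [hd θ hθ, Nat.cast_one]) Θ
    (fun θ hθ η hη hc => by
      rw [hΘ θ hθ, hΘ η hη] at hc
      exact congrArg Subtype.val (hΘ' hc))
    (fun θ hθ y => by
      have := key ⟨θ, hθ⟩ ⟨i₁, hi₁⟩ y
      rw [hΘ θ hθ]
      linear_combination this)
  exact ⟨e, _, c, hee, hc1, fun i hi => ⟨_, hc2 i hi⟩⟩

omit [Fintype G] in
theorem two_lt_two_pt {a b : Ω} (hab : a ≠ b) :
    3 ≤ Nat.card ↥(stabilizer G a ⊓ stabilizer G b) := by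
  have := finite_group h.zass
  have h1 : 1 < Nat.card ↥(stabilizer G a ⊓ stabilizer G b) := by
    rw [Finite.one_lt_card_iff_nontrivial]
    obtain ⟨g, hg1, hga, hgb⟩ := exists_two_pt h.zass hab
    exact ⟨⟨g, hga, hgb⟩, 1, fun hc => hg1 (congrArg Subtype.val hc)⟩
  obtain ⟨k, hk⟩ := h.odd a b hab
  omega

/-- A character of degree `e` in `X` forces `h - 1 ≤ 2e`. -/
theorem card_le_of_degree {a b : Ω} (hab : a ≠ b) [Fintype (stabilizer G a)]
    (χ : h.XX a) (hχ : (χ.1 : G → ℂ) 1 = (Nat.card ↥(stabilizer G a ⊓ stabilizer G b) : ℂ)) :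
    Nat.card Ω - 2 ≤ 2 * Nat.card ↥(stabilizer G a ⊓ stabilizer G b) := by
  haveI : Fintype (IrrCharacter G) := Fintype.ofFinite _
  have h1 := h.degree_ineq χ hχ
  have h2 := h.card_YY hab
  have h3 := h.two_lt_two_pt hab
  rw [← h2] at h1 h3 ⊢
  set f := (h.YY a).card with hf
  have h4 : 1 ≤ f := by omega
  have h5 : f * Nat.card Ω ≤ f * (4 * f + 4) := by nlinarith
  have h6 := Nat.le_of_mul_le_mul_left h5 h4
  omega

/-- Full coherence forces `h - 1 ≤ 2e`. -/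
theorem card_le_of_coh {a b : Ω} (hab : a ≠ b) [Fintype (stabilizer G a)]
    [Fintype (IrrCharacter G)]
    [Fintype (h.XX a)] [DecidableEq (h.JJ a)] [DecidableEq (h.XX a)] {ε : ℤ} {r : h.XX a → ℤ}
    {c : ℤ} (hε : ε * ε = 1) (hr : ∑ x, r x * r x + 2 * ε * c = ((h.YY a).card : ℤ))
    (hall : ∀ i, ∃ z, Coh.CohAt (h.nn (a := a)) (fun θ => (h.dd hab θ : ℤ)) ε r c i z)
    {i₀ : h.JJ a} (hi₀ : h.dd hab i₀ = 1) :
    Nat.card Ω - 2 ≤ 2 * Nat.card ↥(stabilizer G a ⊓ stabilizer G b) := by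
  haveI : Fintype (h.JJ a) := Fintype.ofFinite _
  by_contra hcon
  push Not at hcon
  have hsum := h.sum_dd_sq hab
  have h0 : 0 < Nat.card ↥(stabilizer G a ⊓ stabilizer G b) := by
    have := h.two_lt_two_pt hab
    omega
  have hD : 3 ≤ ∑ θ : h.JJ a, (h.dd hab θ) ^ 2 := by
    by_contra hc
    have : Nat.card ↥(stabilizer G a ⊓ stabilizer G b) * ∑ θ : h.JJ a, (h.dd hab θ) ^ 2 ≤
        Nat.card ↥(stabilizer G a ⊓ stabilizer G b) * 2 := Nat.mul_le_mul_left _ (by omega)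
    omega
  obtain ⟨z, hz⟩ := Coh.coh_final (h.feitSys hab) hr hε hall
    (by
      have := h.le_card_XX hab
      rw [Nat.card_eq_fintype_card, Nat.card_eq_fintype_card] at this
      exact_mod_cast this)
    (fun χ => h.XX_cover χ)
    (by
      have : ((3 : ℕ) : ℤ) ≤ ((∑ θ : h.JJ a, (h.dd hab θ) ^ 2 : ℕ) : ℤ) := by exact_mod_cast hD
      push_cast at this
      simp only [← sq]
      exact this) i₀
  apply absurd (h.card_le_of_degree hab z ?_) (by omega)
  rw [h.XX_one hab]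
  have : ∑ θ : h.JJ a, h.nn θ z * (h.dd hab θ : ℤ) = 1 := by
    rw [Finset.sum_congr rfl (g := fun θ => if θ = i₀ then (1 : ℤ) else 0) fun θ _ => by
      rw [hz θ]
      split_ifs with h1
      · rw [h1, hi₀]; norm_num
      · rw [zero_mul]]
    simp
  rw [this]
  norm_num

/-- Feit's theorem when the kernel is abelian. -/
theorem card_le_of_abelian {a b : Ω} (hab : a ≠ b)
    (hcomm : ∀ x ∈ K h.zass a, ∀ y ∈ K h.zass a, x * y = y * x) :
    Nat.card Ω - 2 ≤ 2 * Nat.card ↥(stabilizer G a ⊓ stabilizer G b) := by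
  classical
  haveI : Fintype (stabilizer G a) := Fintype.ofFinite _
  haveI : Fintype (IrrCharacter G) := Fintype.ofFinite _
  haveI : Fintype (h.JJ a) := Fintype.ofFinite _
  haveI : Fintype (h.XX a) := Fintype.ofFinite _
  by_contra hcon
  push Not at hcon
  have hd : ∀ θ : h.JJ a, h.dd hab θ = 1 := by
    intro θ
    obtain ⟨τ, hτ, -, h2⟩ := h.rel_ind θ.1.2 θ.2
    haveI : IsMulCommutative (KB h.zass a) := ⟨⟨fun x y => by
      apply Subtype.ext
      apply Subtype.ext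
      exact hcomm _ ((mem_KB h.zass).mp x.2) _ ((mem_KB h.zass).mp y.2)⟩⟩
    have h3 := irr_degree_one_of_comm hτ
    have h4 := h.dd_spec hab θ
    rw [h2, indFun_one_apply, h3, h.index_KB hab] at h4
    have h5 : (Nat.card ↥(stabilizer G a ⊓ stabilizer G b) : ℂ) ≠ 0 := h.card_two_ne_zero
    have h6 := mul_left_cancel₀ h5 h4
    exact_mod_cast h6.symm
  have hsum := h.sum_dd_sq hab
  simp only [hd, one_pow, Finset.sum_const, smul_eq_mul, mul_one] at hsum
  have h3 : 3 ≤ (Finset.univ : Finset (h.JJ a)).card := by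
    by_contra hc
    have : Nat.card ↥(stabilizer G a ⊓ stabilizer G b) * (Finset.univ : Finset (h.JJ a)).card ≤
        Nat.card ↥(stabilizer G a ⊓ stabilizer G b) * 2 := Nat.mul_le_mul_left _ (by omega)
    omega
  obtain ⟨ε, r, c, hε, hr, hall⟩ := h.coh_start hab Finset.univ h3 (fun θ _ => hd θ)
  obtain ⟨i₀, -⟩ : (Finset.univ : Finset (h.JJ a)).Nonempty := Finset.card_pos.mp (by omega)
  have := h.card_le_of_coh hab hε hr (fun i => hall i (Finset.mem_univ _)) (hd i₀)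
  omega

end OddInv

end Cfsg.Agent.H20.Zass
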