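import Cfsg.Agent.H20.ZChar8
import Cfsg.Agent.H27.Kernel

/-!
Degrees of irreducible characters of the point stabiliser with a given normal subgroup in the
kernel.
-/

set_option autoImplicit false
set_option linter.style.haveILetI false

open Cfsg MulAction
open scoped Pointwise ComplexConjugate commutatorElement

namespace Cfsg.Agent.H20.Zass

open Cfsg.Agent.H3

universe u v

section general

variable {A : Type u} [Group A] [Fintype A]

/-- Sum of the squares of the degrees of the characters with `M` in the kernel. -/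
theorem sum_degree_sq_normal [Fintype (IrrCharacter A)] [DecidableEq (IrrCharacter A)]
    (M : Subgroup A) [M.Normal]
    [DecidablePred (fun χ : IrrCharacter A => ∀ m ∈ M, (χ : A → ℂ) m = (χ : A → ℂ) 1)] :
    ∑ χ ∈ Finset.univ.filter (fun χ : IrrCharacter A => ∀ m ∈ M, (χ : A → ℂ) m = (χ : A → ℂ) 1),
      (χ : A → ℂ) 1 ^ 2 = (M.index : ℂ) := by
  classical
  haveI : Finite (A ⧸ M) := inferInstance
  haveI : Fintype (IrrCharacter (A ⧸ M)) := Fintype.ofFinite _
  have h1 := sum_degree_sq (G := A ⧸ M)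
  rw [← Subgroup.index_eq_card] at h1
  rw [← h1, Finset.sum_subtype (p := fun χ : IrrCharacter A => ∀ m ∈ M, (χ : A → ℂ) m =
    (χ : A → ℂ) 1) _ (fun x => by simp)]
  symm
  refine Fintype.sum_equiv (H27.irrQuotEquiv M) _ _ fun ψ => ?_
  rw [H27.irrQuotEquiv_apply M ψ 1]
  rfl

theorem sum_mul_zero {ψ : A → ℂ} (hψ : IsIrrCharacter A ψ) (N : Subgroup A) (hN : N.Normal)
    [Fintype N] (hne : ∃ n ∈ N, ψ n ≠ ψ 1) (g : A) : ∑ n : N, ψ (n * g) = 0 := by
  obtain ⟨k, ρ, hρ, rfl⟩ := hψ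
  haveI := hρ
  have h1 := sum_rep_normal_eq_zero ρ N hN (by
    obtain ⟨n, hn, hne⟩ := hne
    refine ⟨n, hn, fun hc => hne ?_⟩
    show LinearMap.trace ℂ _ (ρ n) = LinearMap.trace ℂ _ (ρ 1)
    rw [hc, map_one]; rfl)
  have h2 : ∑ n : N, ρ.character ((n : A) * g) =
      LinearMap.trace ℂ _ ((∑ n : N, ρ (n : A)) * ρ g) := by
    rw [Finset.sum_mul, map_sum]
    refine Finset.sum_congr rfl fun n _ => ?_
    show LinearMap.trace ℂ _ (ρ ((n : A) * g)) = _
    rw [map_mul]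
  rw [h2, h1, zero_mul, map_zero]

theorem ker_of_constituent {χ ψ : A → ℂ} (hχ : IsCharacter A χ) (hψ : IsIrrCharacter A ψ)
    (N : Subgroup A) (hN : N.Normal) (hNχ : ∀ n ∈ N, χ n = χ 1) (hne : classInner χ ψ ≠ 0) :
    ∀ n ∈ N, ψ n = ψ 1 := by
  classical
  haveI : Fintype N := Fintype.ofFinite N
  by_contra hcon
  push Not at hcon
  apply hne
  have h0 : (Nat.card N : ℂ) ≠ 0 := by exact_mod_cast Nat.card_pos.ne'
  have h1 : ∀ n : N, ∑ g : A, χ g * conj (ψ g) = ∑ g : A, χ g * conj (ψ (n * g)) := by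
    intro n
    rw [← Equiv.sum_comp (Equiv.mulLeft (n : A))]
    refine Finset.sum_congr rfl fun g _ => ?_
    show χ (n * g) * conj (ψ (n * g)) = _
    rw [H27.char_ker_mul hχ (hNχ n n.2)]
  have h2 : (Nat.card N : ℂ) * ∑ g : A, χ g * conj (ψ g) = 0 := by
    have h3 : ∑ n : N, ∑ g : A, χ g * conj (ψ g) =
        ∑ n : N, ∑ g : A, χ g * conj (ψ (n * g)) := Finset.sum_congr rfl fun n _ => h1 n
    rw [Finset.sum_const, nsmul_eq_mul, Finset.card_univ, ← Nat.card_eq_fintype_card] at h3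
    rw [h3, Finset.sum_comm]
    refine Finset.sum_eq_zero fun g _ => ?_
    rw [← Finset.mul_sum, ← map_sum, sum_mul_zero hψ N hN hcon g, map_zero, mul_zero]
  rw [classInner, (mul_eq_zero.mp h2).resolve_left h0, mul_zero]

/-- Central modulo the kernel: the absolute value is the degree. -/
theorem norm_of_central {τ : A → ℂ} (hτ : IsIrrCharacter A τ) {m : A}
    (hm : ∀ k : A, τ (k * m * k⁻¹ * m⁻¹) = τ 1) : τ m * conj (τ m) = τ 1 * τ 1 := by
  have h1 := sum_irr_conj_mul hτ m m⁻¹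
  simp only [hm, Finset.sum_const, Finset.card_univ, nsmul_eq_mul] at h1
  rw [char_inv (irr_isChar hτ), ← Nat.card_eq_fintype_card] at h1
  have h2 : (Nat.card A : ℂ) ≠ 0 := by exact_mod_cast Nat.card_pos.ne'
  have h3 := irr_one_ne_zero hτ
  field_simp at h1
  linear_combination -h1

theorem degree_sq_mul_card_le {τ : A → ℂ} (hτ : IsIrrCharacter A τ) {d : ℕ} (hd : τ 1 = d)
    (M : Subgroup A) (hM : ∀ m ∈ M, ∀ k : A, τ (k * m * k⁻¹ * m⁻¹) = τ 1) :
    d ^ 2 * Nat.card M ≤ Nat.card A := by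
  classical
  have h1 := classInner_self_of_irr hτ
  have h2 : (Nat.card A : ℂ) ≠ 0 := by exact_mod_cast Nat.card_pos.ne'
  rw [classInner, inv_mul_eq_iff_eq_mul₀ h2, mul_one] at h1
  have h3 : ∀ g, τ g * conj (τ g) = ((Complex.normSq (τ g) : ℝ) : ℂ) := fun g => Complex.mul_conj _
  simp only [h3] at h1
  have h4 : ∑ g : A, Complex.normSq (τ g) = (Nat.card A : ℝ) := by exact_mod_cast h1
  have h5 : ∀ m ∈ M, Complex.normSq (τ m) = (d : ℝ) ^ 2 := by
    intro m hm
    have h6 := norm_of_central hτ (hM m hm)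
    rw [h3, hd] at h6
    have h7 : (Complex.normSq (τ m) : ℝ) = (d : ℝ) * d := by exact_mod_cast h6
    rw [h7]; ring
  have h6 : ((d ^ 2 * Nat.card M : ℕ) : ℝ) ≤ Nat.card A := by
    rw [← h4]
    calc ((d ^ 2 * Nat.card M : ℕ) : ℝ) =
        ∑ g ∈ Finset.univ.filter (fun g => g ∈ M), Complex.normSq (τ g) := by
          rw [Finset.sum_congr rfl (g := fun _ => (d : ℝ) ^ 2) fun g hg =>
            h5 g (Finset.mem_filter.mp hg).2, Finset.sum_const, nsmul_eq_mul]
          have : (Finset.univ.filter (fun g => g ∈ M)).card = Nat.card M := by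
            rw [← Fintype.card_subtype, ← Nat.card_eq_fintype_card]
          rw [this]
          push_cast; ring
      _ ≤ ∑ g : A, Complex.normSq (τ g) :=
          Finset.sum_le_sum_of_subset_of_nonneg (Finset.filter_subset _ _)
            (fun _ _ _ => Complex.normSq_nonneg _)
  exact_mod_cast h6

/-- Characters trivial on commutators are linear. -/
theorem degree_one_of_comm {τ : A → ℂ} (hτ : IsIrrCharacter A τ)
    (h : ∀ x y : A, τ (x * y * x⁻¹ * y⁻¹) = τ 1) : τ 1 = 1 := by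
  have h1 := sum_irr_commutator hτ
  simp only [h, Finset.sum_const, Finset.card_univ, nsmul_eq_mul] at h1
  obtain ⟨n, hn0, hn⟩ := irr_one_eq_nat hτ
  rw [← Nat.card_eq_fintype_card, hn] at h1
  rw [hn]
  have h3 : (Nat.card A : ℂ) ≠ 0 := by exact_mod_cast Nat.card_pos.ne'
  have h4 : (n : ℂ) ≠ 0 := by exact_mod_cast hn0.ne'
  have h5 : (n : ℂ) * n = 1 := by
    field_simp at h1
    linear_combination h1
  have h6 : n * n = 1 := by exact_mod_cast h5
  have h7 : n = 1 := Nat.eq_one_of_mul_eq_one_right h6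
  rw [h7]; norm_num

end general

variable {G : Type u} [Group G] {Ω : Type v} [MulAction G Ω] [Finite Ω]

namespace OddInv

variable (h : OddInv G Ω)
include h

/-- The kernel character of a relevant character. -/
theorem exists_tau {a b : Ω} (hab : a ≠ b) (θ : h.JJ a) :
    ∃ τ : KB h.zass a → ℂ, IsIrrCharacter (KB h.zass a) τ ∧ τ 1 = (h.dd hab θ : ℂ) ∧
      ∀ N : Subgroup (stabilizer G a), N.Normal →
        (∀ n ∈ N, (θ.1 : stabilizer G a → ℂ) n = (θ.1 : stabilizer G a → ℂ) 1) →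
        ∀ n : KB h.zass a, (n : stabilizer G a) ∈ N → τ n = τ 1 := by
  classical
  haveI := finite_group h.zass
  haveI : Fintype (stabilizer G a) := Fintype.ofFinite _
  haveI : Fintype (KB h.zass a) := Fintype.ofFinite _
  obtain ⟨τ, hτ, -, hθ⟩ := h.rel_ind θ.1.2 θ.2
  refine ⟨τ, hτ, ?_, ?_⟩
  · have h4 := h.dd_spec hab θ
    rw [hθ, indFun_one_apply, h.index_KB hab] at h4
    exact mul_left_cancel₀ h.card_two_ne_zero h4
  · intro N hN hNθ n hn
    have h1 : classInner (fun k : KB h.zass a => (θ.1 : stabilizer G a → ℂ) k) τ ≠ 0 := by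
      rw [← frobenius_reciprocity' (KB h.zass a) τ (irr_classFun θ.1.2), ← hθ,
        classInner_self_of_irr θ.1.2]
      exact one_ne_zero
    haveI := hN
    exact ker_of_constituent (isChar_restrict _ (irr_isChar θ.1.2)) hτ
      (N.subgroupOf (KB h.zass a)) inferInstance (fun k hk => hNθ _ hk) h1 n hn

/-- Degree bound. -/
theorem dd_sq_mul_le {a b : Ω} (hab : a ≠ b) (θ : h.JJ a) (N M : Subgroup (stabilizer G a))
    (hN : N.Normal)
    (hNθ : ∀ n ∈ N, (θ.1 : stabilizer G a → ℂ) n = (θ.1 : stabilizer G a → ℂ) 1)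
    (hM : M ≤ KB h.zass a) (hMN : ∀ m ∈ M, ∀ k ∈ KB h.zass a, k * m * k⁻¹ * m⁻¹ ∈ N) :
    (h.dd hab θ) ^ 2 * Nat.card M ≤ Nat.card (KB h.zass a) := by
  haveI := finite_group h.zass
  haveI : Fintype (KB h.zass a) := Fintype.ofFinite _
  obtain ⟨τ, hτ, hd, hker⟩ := h.exists_tau hab θ
  have h1 : Nat.card M = Nat.card (M.subgroupOf (KB h.zass a)) :=
    (Nat.card_congr (Subgroup.subgroupOfEquivOfLe hM).toEquiv).symm
  rw [h1]
  refine degree_sq_mul_card_le hτ hd _ fun m hm k => ?_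
  apply hker N hN hNθ
  exact hMN m hm k k.2

theorem dd_dvd {a b : Ω} (hab : a ≠ b) (θ : h.JJ a) :
    h.dd hab θ ∣ Nat.card (KB h.zass a) := by
  haveI := finite_group h.zass
  haveI : Fintype (KB h.zass a) := Fintype.ofFinite _
  obtain ⟨τ, hτ, hd, -⟩ := h.exists_tau hab θ
  exact irr_degree_dvd_card hτ hd

theorem dd_eq_one {a b : Ω} (hab : a ≠ b) (θ : h.JJ a)
    (hθ : ∀ n ∈ ⁅KB h.zass a, KB h.zass a⁆,
      (θ.1 : stabilizer G a → ℂ) n = (θ.1 : stabilizer G a → ℂ) 1) : h.dd hab θ = 1 := by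
  haveI := finite_group h.zass
  haveI : Fintype (KB h.zass a) := Fintype.ofFinite _
  haveI := KB_normal h.zass a
  obtain ⟨τ, hτ, hd, hker⟩ := h.exists_tau hab θ
  have h1 := degree_one_of_comm hτ (fun x y => hker ⁅KB h.zass a, KB h.zass a⁆ inferInstance hθ _
    (Subgroup.commutator_mem_commutator x.2 y.2))
  rw [hd] at h1
  exact_mod_cast h1

open Classical in
/-- Relevant characters with `M` in the kernel. -/
noncomputable def JM {a : Ω} [Fintype (h.JJ a)] (M : Subgroup (stabilizer G a)) :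
    Finset (h.JJ a) :=
  Finset.univ.filter (fun θ => ∀ m ∈ M, (θ.1 : stabilizer G a → ℂ) m =
    (θ.1 : stabilizer G a → ℂ) 1)

theorem mem_JM {a : Ω} [Fintype (h.JJ a)] {M : Subgroup (stabilizer G a)} {θ : h.JJ a} :
    θ ∈ h.JM M ↔ ∀ m ∈ M, (θ.1 : stabilizer G a → ℂ) m = (θ.1 : stabilizer G a → ℂ) 1 := by
  classical
  unfold JM
  rw [Finset.mem_filter]
  exact ⟨fun h => h.2, fun h => ⟨Finset.mem_univ _, h⟩⟩

theorem sum_JM {a b : Ω} (hab : a ≠ b) [Fintype (h.JJ a)] (M : Subgroup (stabilizer G a))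
    [M.Normal] (hM : M ≤ KB h.zass a) :
    (Nat.card ↥(stabilizer G a ⊓ stabilizer G b) * ∑ θ ∈ h.JM M, (h.dd hab θ) ^ 2 + 1) *
      Nat.card M = Nat.card (KB h.zass a) := by
  classical
  haveI := finite_group h.zass
  haveI : Fintype (stabilizer G a) := Fintype.ofFinite _
  haveI : Fintype (IrrCharacter (stabilizer G a)) := Fintype.ofFinite _
  have e0 := h.card_two_ne_zero (a := a) (b := b)
  have e1 := sum_degree_sq_normal M
  rw [← Finset.sum_filter_add_sum_filter_not _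
    (fun θ : IrrCharacter (stabilizer G a) => ∃ k : stabilizer G a, (k : G) ∈ K h.zass a ∧
      (θ : stabilizer G a → ℂ) k ≠ (θ : stabilizer G a → ℂ) 1), Finset.filter_filter,
      Finset.filter_filter] at e1
  have e2 : ∑ ψ ∈ Finset.univ.filter (fun θ : IrrCharacter (stabilizer G a) =>
      (∀ m ∈ M, (θ : stabilizer G a → ℂ) m = (θ : stabilizer G a → ℂ) 1) ∧
      ¬ ∃ k : stabilizer G a, (k : G) ∈ K h.zass a ∧
      (θ : stabilizer G a → ℂ) k ≠ (θ : stabilizer G a → ℂ) 1),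
      (ψ : stabilizer G a → ℂ) 1 ^ 2 = Nat.card ↥(stabilizer G a ⊓ stabilizer G b) := by
    rw [Finset.sum_congr rfl (g := fun _ => (1 : ℂ)) fun ψ hψ => by
      have h1 := (Finset.mem_filter.mp hψ).2.2
      push Not at h1
      rw [h.lin_of_const ψ.2 h1, one_pow]]
    rw [Finset.sum_const, nsmul_eq_mul, mul_one, ← h.card_lin hab, Nat.card_eq_fintype_card,
      Fintype.card_subtype]
    congr 2
    ext ψ
    simp only [Finset.mem_filter, Finset.mem_univ, true_and]
    constructor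
    · exact fun h => h.2
    · intro h1
      refine ⟨fun m hm => ?_, h1⟩
      push Not at h1
      exact h1 m ((mem_KB h.zass).mp (hM hm))
  have e3 : ∑ ψ ∈ Finset.univ.filter (fun θ : IrrCharacter (stabilizer G a) =>
      (∀ m ∈ M, (θ : stabilizer G a → ℂ) m = (θ : stabilizer G a → ℂ) 1) ∧
      ∃ k : stabilizer G a, (k : G) ∈ K h.zass a ∧
      (θ : stabilizer G a → ℂ) k ≠ (θ : stabilizer G a → ℂ) 1),
      (ψ : stabilizer G a → ℂ) 1 ^ 2 =
      (Nat.card ↥(stabilizer G a ⊓ stabilizer G b) : ℂ) ^ 2 *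
        ((∑ θ ∈ h.JM M, (h.dd hab θ) ^ 2 : ℕ) : ℂ) := by
    push_cast
    rw [Finset.mul_sum]
    symm
    refine Finset.sum_bij (fun θ _ => θ.1) ?_ ?_ ?_ ?_
    · intro θ hθ
      exact Finset.mem_filter.mpr ⟨Finset.mem_univ _, h.mem_JM.mp hθ, θ.2⟩
    · intro θ _ η _ hc
      exact Subtype.ext hc
    · intro ψ hψ
      obtain ⟨-, h1, h2⟩ := Finset.mem_filter.mp hψ
      exact ⟨⟨ψ, h2⟩, h.mem_JM.mpr h1, rfl⟩
    · intro θ _
      rw [h.dd_spec hab θ]; ring
  rw [e2, e3] at e1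
  have e4 : M.index * Nat.card M =
      Nat.card ↥(stabilizer G a ⊓ stabilizer G b) * Nat.card (KB h.zass a) := by
    rw [M.index_mul_card, card_KB, card_K_mul h.zass hab, mul_comm]
  have e5 : Nat.card ↥(stabilizer G a ⊓ stabilizer G b) *
      (Nat.card ↥(stabilizer G a ⊓ stabilizer G b) * ∑ θ ∈ h.JM M, (h.dd hab θ) ^ 2 + 1) =
      M.index := by
    have : ((Nat.card ↥(stabilizer G a ⊓ stabilizer G b) *
      (Nat.card ↥(stabilizer G a ⊓ stabilizer G b) * ∑ θ ∈ h.JM M, (h.dd hab θ) ^ 2 + 1) : ℕ) : ℂ)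
        = (M.index : ℂ) := by
      rw [← e1]; push_cast; ring
    exact_mod_cast this
  rw [← e5, mul_assoc] at e4
  exact Nat.eq_of_mul_eq_mul_left Nat.card_pos e4

end OddInv

end Cfsg.Agent.H20.Zass
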