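import Cfsg.Agent.H20.ZCoh1
import Cfsg.Agent.H2.Fusion

/-!
The chain argument: coherence of the set of relevant characters.
-/

set_option autoImplicit false
set_option linter.style.haveILetI false

open Cfsg MulAction
open scoped Pointwise ComplexConjugate commutatorElement

namespace Cfsg.Agent.H20.Zass

open Cfsg.Agent.H3

universe u v

variable {G : Type u} [Group G] {Ω : Type v} [MulAction G Ω] [Finite Ω]

namespace OddInv

variable (h : OddInv G Ω)
include h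

theorem card_le_of_bounds [Fintype G] {a b : Ω} (hab : a ≠ b)
    (hnil : Group.IsNilpotent (KB h.zass a)) (Z₀ : Subgroup (stabilizer G a))
    (hZ₀ : Z₀ ≤ KB h.zass a) (hZ₀c : ∀ z ∈ Z₀, ∀ k ∈ KB h.zass a, k * z = z * k)
    (hZ₀d : Z₀ ⊓ ⁅KB h.zass a, KB h.zass a⁆ = ⊥)
    (m₁ : ℕ) (hm₁ : m₁ * Nat.card ↥⁅KB h.zass a, KB h.zass a⁆ = Nat.card (KB h.zass a))
    (hbase : 3 * Nat.card ↥(stabilizer G a ⊓ stabilizer G b) + 1 ≤ m₁)
    (hnum : ∀ k d : ℕ, 0 < d → m₁ ≤ Nat.card ↥(stabilizer G a ⊓ stabilizer G b) * k + 1 →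
      d ^ 2 * Nat.card Z₀ ≤ Nat.card ↥(stabilizer G a ⊓ stabilizer G b) * k + 1 →
      d ∣ Nat.card (KB h.zass a) → 2 * d + 1 < k) :
    Nat.card Ω - 2 ≤ 2 * Nat.card ↥(stabilizer G a ⊓ stabilizer G b) := by
  classical
  haveI : Fintype (stabilizer G a) := Fintype.ofFinite _
  haveI : Fintype (IrrCharacter G) := Fintype.ofFinite _
  haveI : Fintype (h.JJ a) := Fintype.ofFinite _
  haveI : Fintype (h.XX a) := Fintype.ofFinite _
  haveI := KB_normal h.zass a
  set e := Nat.card ↥(stabilizer G a ⊓ stabilizer G b) with he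
  have he0 : 0 < e := Nat.card_pos
  set K' := ⁅KB h.zass a, KB h.zass a⁆ with hK'
  haveI : K'.Normal := inferInstance
  have hK'le : K' ≤ KB h.zass a := Subgroup.commutator_le_left _ _
  have hK'pos : 0 < Nat.card K' := Nat.card_pos
  have hd1 : ∀ θ ∈ h.JM K', h.dd hab θ = 1 := fun θ hθ => h.dd_eq_one hab θ (h.mem_JM.mp hθ)
  have h3 : 3 ≤ (h.JM K').card := by
    have h1 := h.sum_JM hab K' hK'le
    rw [Finset.sum_congr rfl (g := fun _ => 1) fun θ hθ => by rw [hd1 θ hθ, one_pow],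
      Finset.sum_const, smul_eq_mul, mul_one, ← hm₁] at h1
    have h2 := Nat.eq_of_mul_eq_mul_right hK'pos h1
    rw [← he] at h2
    by_contra hc
    have h4 : e * (h.JM K').card ≤ e * 2 := Nat.mul_le_mul_left _ (by omega)
    omega
  obtain ⟨ε, r, c, hε, hr, hS₀⟩ := h.coh_start hab (h.JM K') h3 hd1
  obtain ⟨i₀, hi₀⟩ : (h.JM K').Nonempty := Finset.card_pos.mp (by omega)
  have hall := Coh.coh_all (h.feitSys hab) hr hε (h.JM K') hS₀ hi₀
    (by simp only [hd1 i₀ hi₀, Nat.cast_one]) (by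
    intro S hS₀S hS
    -- minimal M
    let 𝓜 : Set (Subgroup (stabilizer G a)) := {M | M.Normal ∧ M ≤ K' ∧ h.JM M ⊆ S}
    obtain ⟨M, hM⟩ := (Set.toFinite 𝓜).exists_minimal ⟨K', inferInstance, le_rfl, hS₀S⟩
    obtain ⟨⟨hMn, hMK, hMS⟩, hmin⟩ := hM
    have hM1 : M ≠ ⊥ := by
      rintro rfl
      apply hS
      apply Finset.eq_univ_of_forall
      intro θ
      apply hMS
      rw [h.mem_JM]
      intro m hm
      rw [Subgroup.mem_bot.mp hm]
    haveI := hMn
    set N := ⁅M, KB h.zass a⁆ with hN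
    have hNM : N ≤ M := Subgroup.commutator_le_left _ _
    have hNlt : ¬ M ≤ N := fun hc => hM1
      (H2.eq_bot_of_le_commutator_of_isNilpotent hnil (hMK.trans hK'le) hc)
    have hNS : ¬ h.JM N ⊆ S := fun hc => hNlt (hmin ⟨inferInstance, hNM.trans hMK, hc⟩ hNM)
    rw [Finset.not_subset] at hNS
    obtain ⟨η, hη, hηS⟩ := hNS
    refine ⟨η, hηS, ?_⟩
    have hb1 := h.sum_JM hab M (hMK.trans hK'le)
    have hb2 := h.dd_sq_mul_le hab η N (M ⊔ Z₀) inferInstance (h.mem_JM.mp hη)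
      (sup_le (hMK.trans hK'le) hZ₀) (by
        intro m hm k hk
        rw [Subgroup.mem_sup_of_normal_left] at hm
        obtain ⟨m', hm', z, hz, rfl⟩ := hm
        have h1 : k * (m' * z) * k⁻¹ * (m' * z)⁻¹ = ⁅m', k⁆⁻¹ := by
          have h2 : k * z = z * k := hZ₀c z hz k hk
          have h3 : z * k⁻¹ = k⁻¹ * z := by
            rw [eq_inv_mul_iff_mul_eq, ← mul_assoc, h2, mul_assoc, mul_inv_cancel, mul_one]
          rw [commutatorElement_def]
          calc k * (m' * z) * k⁻¹ * (m' * z)⁻¹ = k * m' * (z * k⁻¹) * z⁻¹ * m'⁻¹ := by group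
            _ = k * m' * (k⁻¹ * z) * z⁻¹ * m'⁻¹ := by rw [h3]
            _ = (m' * k * m'⁻¹ * k⁻¹)⁻¹ := by group
        rw [h1]
        exact inv_mem (Subgroup.commutator_mem_commutator hm' hk))
    have hcardMZ : Nat.card M * Nat.card Z₀ ≤ Nat.card ↥(M ⊔ Z₀) := by
      have h2 : Disjoint M Z₀ := by
        rw [disjoint_iff, eq_bot_iff, ← hZ₀d]
        exact le_inf inf_le_right (inf_le_left.trans hMK)
      rw [← Nat.card_prod]
      exact Nat.card_le_card_of_injective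
        (fun p : M × Z₀ => (⟨p.1 * p.2, mul_mem (Subgroup.mem_sup_left p.1.2)
          (Subgroup.mem_sup_right p.2.2)⟩ : ↥(M ⊔ Z₀)))
        (fun p q hpq => Subgroup.mul_injective_of_disjoint h2 (congrArg Subtype.val hpq))
    replace hb2 := (Nat.mul_le_mul_left (h.dd hab η ^ 2) hcardMZ).trans hb2
    set k := ∑ θ ∈ h.JM M, (h.dd hab θ) ^ 2 with hk
    have hMpos : 0 < Nat.card M := Nat.card_pos
    have hb3 : (h.dd hab η) ^ 2 * Nat.card Z₀ ≤ e * k + 1 := by
      rw [← hb1] at hb2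
      apply Nat.le_of_mul_le_mul_right _ hMpos
      calc (h.dd hab η) ^ 2 * Nat.card Z₀ * Nat.card M =
          (h.dd hab η) ^ 2 * (Nat.card M * Nat.card Z₀) := by ring
        _ ≤ _ := hb2
    have hb4 : m₁ ≤ e * k + 1 := by
      apply Nat.le_of_mul_le_mul_right _ hK'pos
      rw [hm₁, ← hb1]
      exact Nat.mul_le_mul_left _ (Subgroup.card_le_of_le hMK)
    have hb5 := hnum k (h.dd hab η) (h.dd_pos hab η) hb4 hb3 (h.dd_dvd hab η)
    have hb6 : k ≤ ∑ θ ∈ S, (h.dd hab θ) ^ 2 := Finset.sum_le_sum_of_subset hMS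
    have hb7 : 2 * h.dd hab η + 1 < ∑ θ ∈ S, (h.dd hab θ) ^ 2 := lt_of_lt_of_le hb5 hb6
    have hb8 : ((2 * h.dd hab η + 1 : ℕ) : ℤ) < ((∑ θ ∈ S, (h.dd hab θ) ^ 2 : ℕ) : ℤ) := by
      exact_mod_cast hb7
    push_cast at hb8
    simp only [← sq]
    exact hb8)
  exact h.card_le_of_coh hab hε hr hall (hd1 i₀ hi₀)

/-- Case A: `[K : K'] ≥ 4e² + 2`. -/
theorem card_le_of_large [Fintype G] {a b : Ω} (hab : a ≠ b)
    (hnil : Group.IsNilpotent (KB h.zass a))
    (m₁ : ℕ) (hm₁ : m₁ * Nat.card ↥⁅KB h.zass a, KB h.zass a⁆ = Nat.card (KB h.zass a))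
    (hlarge : 4 * Nat.card ↥(stabilizer G a ⊓ stabilizer G b) ^ 2 + 2 ≤ m₁) :
    Nat.card Ω - 2 ≤ 2 * Nat.card ↥(stabilizer G a ⊓ stabilizer G b) := by
  haveI := finite_group h.zass
  have he3 := h.two_lt_two_pt hab
  have hcop := coprime_two_pt_K h.zass hab
  refine h.card_le_of_bounds hab hnil ⊥ bot_le ?_ (by simp) m₁ hm₁ (by nlinarith) ?_
  · intro z hz k _
    rw [Subgroup.mem_bot.mp hz, mul_one, one_mul]
  · intro k d hd0 hk hd hdK
    rw [Subgroup.card_bot, mul_one] at hd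
    set e := Nat.card ↥(stabilizer G a ⊓ stabilizer G b) with he
    by_contra hcon
    push Not at hcon
    have h1 : 4 * e + 1 ≤ k := by
      by_contra hc
      have : e * k ≤ e * (4 * e) := Nat.mul_le_mul_left _ (by omega)
      nlinarith
    have h2 : d ≤ 2 * e := by
      by_contra hc
      push Not at hc
      have h3 : e * k ≤ e * (2 * d + 1) := Nat.mul_le_mul_left _ hcon
      nlinarith
    have h3 : d = 2 * e := by omega
    rw [card_KB] at hdK
    have h4 : e ∣ Nat.card (K h.zass a) := (Dvd.intro_left 2 h3.symm).trans hdK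
    have h5 : e ∣ 1 := by
      rw [← hcop.gcd_eq_one]
      exact Nat.dvd_gcd dvd_rfl h4
    have := Nat.le_of_dvd one_pos h5
    omega

/-- Case B: a central subgroup of order `2e + 1` avoiding `K'`. -/
theorem card_le_of_central [Fintype G] {a b : Ω} (hab : a ≠ b)
    (hnil : Group.IsNilpotent (KB h.zass a)) (Z₀ : Subgroup (stabilizer G a))
    (hZ₀ : Z₀ ≤ KB h.zass a) (hZ₀c : ∀ z ∈ Z₀, ∀ k ∈ KB h.zass a, k * z = z * k)
    (hZ₀d : Z₀ ⊓ ⁅KB h.zass a, KB h.zass a⁆ = ⊥)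
    (hZcard : Nat.card Z₀ = 2 * Nat.card ↥(stabilizer G a ⊓ stabilizer G b) + 1)
    (m₁ : ℕ) (hm₁ : m₁ * Nat.card ↥⁅KB h.zass a, KB h.zass a⁆ = Nat.card (KB h.zass a))
    (hbase : 3 * Nat.card ↥(stabilizer G a ⊓ stabilizer G b) + 2 ≤ m₁) :
    Nat.card Ω - 2 ≤ 2 * Nat.card ↥(stabilizer G a ⊓ stabilizer G b) := by
  haveI := finite_group h.zass
  have he3 := h.two_lt_two_pt hab
  refine h.card_le_of_bounds hab hnil Z₀ hZ₀ hZ₀c hZ₀d m₁ hm₁ (by omega) ?_
  intro k d hd0 hk hd _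
  rw [hZcard] at hd
  set e := Nat.card ↥(stabilizer G a ⊓ stabilizer G b) with he
  by_contra hcon
  push Not at hcon
  have h3 : e * k ≤ e * (2 * d + 1) := Nat.mul_le_mul_left _ hcon
  rcases Nat.lt_or_ge d 2 with hd2 | hd2
  · have h4 : d = 1 := by omega
    rw [h4] at h3
    omega
  · nlinarith

end OddInv

end Cfsg.Agent.H20.Zass
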