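import Cfsg.Agent.H20.ZCoh2

/-!
Values at an involution without fixed points.
-/

set_option autoImplicit false
set_option linter.style.haveILetI false

open Cfsg MulAction
open scoped Pointwise ComplexConjugate commutatorElement

namespace Cfsg.Agent.H20.Zass

open Cfsg.Agent.H3

universe u v

/-- character values at involutions are integers -/
theorem involution_value {G : Type u} [Group G] [Finite G] {χ : G → ℂ} (hχ : IsCharacter G χ)
    {t : G} (ht : t * t = 1) : ∃ n : ℤ, χ t = n := by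
  classical
  obtain ⟨n, ρ, rfl⟩ := hχ
  obtain ⟨ι, hι, ω, h0, h1, h2⟩ := exists_eigenvalues ρ t
  have h3 : ∀ i, ∃ e : ℤ, ω i = e := by
    intro i
    have h4 : orderOf t ∣ 2 := orderOf_dvd_of_pow_eq_one (by rw [pow_two, ht])
    have : ω i ^ 2 = 1 := by
      obtain ⟨k, hk⟩ := h4
      rw [hk, pow_mul, h1 i, one_pow]
    rcases (sq_eq_one_iff.mp this) with h | h
    · exact ⟨1, by simpa using h⟩
    · exact ⟨-1, by simpa using h⟩
  choose e he using h3
  refine ⟨∑ i, e i, ?_⟩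
  have := h2 1
  rw [zpow_one] at this
  rw [this]; push_cast
  refine Finset.sum_congr rfl fun i _ => ?_
  rw [zpow_one, he]

variable {G : Type u} [Group G] {Ω : Type v} [MulAction G Ω] [Finite Ω]

namespace OddInv

variable (h : OddInv G Ω) [Fintype G]
include h

theorem ind_al_support {a : Ω} {θ : stabilizer G a → ℂ}
    (hθ : IsIrrCharacter (stabilizer G a) θ)
    (hr : ∃ k : stabilizer G a, (k : G) ∈ K h.zass a ∧ θ k ≠ θ 1) {g : G}
    (hne : indFun (stabilizer G a) (al h.zass a θ) g ≠ 0) :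
    ∃ x : G, x⁻¹ * g * x ∈ K h.zass a ∧ x⁻¹ * g * x ≠ 1 := by
  rw [indFun] at hne
  obtain ⟨x, -, hx⟩ := Finset.exists_ne_zero_of_sum_ne_zero (right_ne_zero_of_mul hne)
  refine ⟨x, ?_⟩
  have h1 : x⁻¹ * g * x ∈ stabilizer G a := by
    by_contra hc
    exact hx (extendByZero_not_mem _ _ hc)
  rw [extendByZero_mem _ _ h1] at hx
  constructor
  · by_contra hc
    exact hx (h.al_vanish hθ hr ⟨_, h1⟩ hc)
  · intro hc
    apply hx
    have : (⟨x⁻¹ * g * x, h1⟩ : stabilizer G a) = 1 := Subtype.ext hc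
    rw [this, h.al_one]

theorem eq_C {a b : Ω} (hab : a ≠ b) [Fintype (stabilizer G a)] [Fintype (h.XX a)]
    (θ : h.JJ a) {t : G} (ht : ∀ c : Ω, t • c ≠ c) :
    ∑ χ : h.XX a, (h.nn θ χ : ℂ) * (χ.1 : G → ℂ) t = h.dd hab θ := by
  classical
  haveI : Fintype (IrrCharacter G) := Fintype.ofFinite _
  have e0 := h.card_two_ne_zero (a := a) (b := b)
  have h1 : indFun (stabilizer G a) (al h.zass a (θ.1 : stabilizer G a → ℂ)) t = 0 := by
    by_contra hc
    obtain ⟨x, hx, -⟩ := h.ind_al_support θ.1.2 θ.2 hc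
    have h2 : (x⁻¹ * t * x) • a = a := K_le h.zass a hx
    apply ht (x • a)
    rw [mul_smul, mul_smul, inv_smul_eq_iff] at h2
    exact h2
  rw [classFun_expand_apply (indFun_classFun _ _) t, h.sum_decomp a hab, h.val_St θ.1.2 θ.2,
    h.val_one, h.inner_al_one hab θ.1.2 θ.2, h.dd_spec hab θ, zero_mul, add_zero] at h1
  simp only [h.val_XX] at h1
  have h2 : ∑ χ ∈ h.YY a, classInner (indFun (stabilizer G a)
      (al h.zass a (θ.1 : stabilizer G a → ℂ))) (χ : G → ℂ) * (χ : G → ℂ) t = 0 := by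
    refine Finset.sum_eq_zero fun χ hχ => ?_
    obtain ⟨μ, -, -, -, h3⟩ := h.YY_spec hχ
    have h4 : (χ : G → ℂ) t = 0 := by
      rw [h3, indFun]
      rw [Finset.sum_eq_zero, mul_zero]
      intro x _
      apply extendByZero_not_mem
      intro hc
      rw [mem_stabilizer_iff, mul_smul, mul_smul, inv_smul_eq_iff] at hc
      exact ht _ hc
    rw [h4, mul_zero]
  rw [h2, add_zero] at h1
  have h3 : ∑ χ : h.XX a, (h.nn θ χ : ℂ) * (χ.1 : G → ℂ) t =
      ∑ χ : h.XX a, classInner (θ.1 : stabilizer G a → ℂ)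
        (fun x : stabilizer G a => (χ.1 : G → ℂ) x) * (χ.1 : G → ℂ) t :=
    Finset.sum_congr rfl fun χ _ => by rw [(h.nn_spec θ χ).1]
  rw [h3]
  have h4 : (h.one' : G → ℂ) t = 1 := rfl
  rw [h4] at h1
  field_simp at h1
  linear_combination h1

theorem eq_D {a b : Ω} (hab : a ≠ b) [Fintype (stabilizer G a)] [Fintype (h.XX a)]
    (θ : h.JJ a) {t : G} (ht1 : t ≠ 1) (ht2 : t * t = 1) (ht : ∀ c : Ω, t • c ≠ c)
    (hodd : Odd (Nat.card (K h.zass a))) :
    ∑ χ : h.XX a, (h.nn θ χ : ℂ) * ((χ.1 : G → ℂ) t * (χ.1 : G → ℂ) t / (χ.1 : G → ℂ) 1) =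
      h.dd hab θ := by
  classical
  haveI : Fintype (IrrCharacter G) := Fintype.ofFinite _
  have e0 := h.card_two_ne_zero (a := a) (b := b)
  set F := indFun (stabilizer G a) (al h.zass a (θ.1 : stabilizer G a → ℂ)) with hF
  have h1 : ∀ x : G, F (x * t * x⁻¹ * t) = 0 := by
    intro x
    by_contra hc
    obtain ⟨y, hy, hy1⟩ := h.ind_al_support θ.1.2 θ.2 hc
    set u := y⁻¹ * (x * t * x⁻¹ * t) * y with hu
    have hfix : ∀ c : Ω, u • c = c ↔ c = a :=
      fun c => ⟨fun hc' => K_fix h.zass hy hy1 hc', fun hc' => by rw [hc']; exact K_le h.zass a hy⟩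
    have h2 := h.fix_of_mul (a := a) (x := y⁻¹ * (x * t * x⁻¹) * y) (y := y⁻¹ * t * y) (u := u)
      (by
        intro hc'
        apply ht1
        have : t = x⁻¹ * y * (y⁻¹ * (x * t * x⁻¹) * y) * y⁻¹ * x := by group
        rw [this, hc']; group)
      (by
        have : y⁻¹ * (x * t * x⁻¹) * y * (y⁻¹ * (x * t * x⁻¹) * y) =
          y⁻¹ * (x * (t * t) * x⁻¹) * y := by group
        rw [this, ht2]; group)
      (by
        intro hc'
        apply ht1
        have : t = y * (y⁻¹ * t * y) * y⁻¹ := by group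
        rw [this, hc']; group)
      (by
        have : y⁻¹ * t * y * (y⁻¹ * t * y) = y⁻¹ * (t * t) * y := by group
        rw [this, ht2]; group) hfix (by rw [hu]; group)
    have h3 : orderOf u ∣ 2 := orderOf_dvd_of_pow_eq_one (by rw [pow_two, h2.2.2])
    have h4 : orderOf u ∣ Nat.card (K h.zass a) := Subgroup.orderOf_dvd_natCard _ hy
    have h5 : orderOf u = 1 := by
      rcases (Nat.dvd_prime Nat.prime_two).mp h3 with h6 | h6
      · exact h6
      · rw [h6] at h4
        obtain ⟨j, hj⟩ := hodd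
        omega
    exact hy1 (orderOf_eq_one_iff.mp h5)
  have h2 : ∑ χ : IrrCharacter G, classInner F χ * ((χ : G → ℂ) t * (χ : G → ℂ) t /
      (χ : G → ℂ) 1) = 0 := by
    have h3 : (Nat.card G : ℂ) ≠ 0 := by exact_mod_cast Nat.card_pos.ne'
    have h4 : (Nat.card G : ℂ) * ∑ χ : IrrCharacter G, classInner F χ *
        ((χ : G → ℂ) t * (χ : G → ℂ) t / (χ : G → ℂ) 1) = ∑ x : G, F (x * t * x⁻¹ * t) := by
      rw [Finset.sum_congr rfl fun x _ => classFun_expand_apply (indFun_classFun _ _)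
        (x * t * x⁻¹ * t), Finset.sum_comm, Finset.mul_sum]
      refine Finset.sum_congr rfl fun χ _ => ?_
      rw [← Finset.mul_sum, sum_irr_conj_mul χ.2 t t]
      ring
    rw [Finset.sum_eq_zero fun x _ => h1 x] at h4
    exact (mul_eq_zero.mp h4).resolve_left h3
  rw [h.sum_decomp a hab, h.val_St θ.1.2 θ.2,
    h.val_one, h.inner_al_one hab θ.1.2 θ.2, h.dd_spec hab θ, zero_mul, add_zero] at h2
  rw [Finset.sum_congr (s₂ := (Finset.univ : Finset (h.XX a))) rfl fun χ _ => by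
    rw [hF, h.val_XX χ]] at h2
  have h3 : ∑ χ ∈ h.YY a, classInner F (χ : G → ℂ) * ((χ : G → ℂ) t * (χ : G → ℂ) t /
      (χ : G → ℂ) 1) = 0 := by
    refine Finset.sum_eq_zero fun χ hχ => ?_
    obtain ⟨μ, -, -, -, h3⟩ := h.YY_spec hχ
    have h4 : (χ : G → ℂ) t = 0 := by
      rw [h3, indFun]
      rw [Finset.sum_eq_zero, mul_zero]
      intro x _
      apply extendByZero_not_mem
      intro hc
      rw [mem_stabilizer_iff, mul_smul, mul_smul, inv_smul_eq_iff] at hc
      exact ht _ hc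
    rw [h4]; simp
  rw [h3, add_zero] at h2
  have h4 : ∑ χ : h.XX a, (h.nn θ χ : ℂ) * ((χ.1 : G → ℂ) t * (χ.1 : G → ℂ) t /
      (χ.1 : G → ℂ) 1) = ∑ χ : h.XX a, classInner (θ.1 : stabilizer G a → ℂ)
        (fun x : stabilizer G a => (χ.1 : G → ℂ) x) * ((χ.1 : G → ℂ) t * (χ.1 : G → ℂ) t /
      (χ.1 : G → ℂ) 1) :=
    Finset.sum_congr rfl fun χ _ => by rw [(h.nn_spec θ χ).1]
  rw [h4]
  have h5 : (h.one' : G → ℂ) t = 1 := rfl
  have h6 : (h.one' : G → ℂ) 1 = 1 := rfl
  rw [h5, h6] at h2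
  generalize (∑ χ : h.XX a, classInner (θ.1 : stabilizer G a → ℂ)
        (fun x : stabilizer G a => (χ.1 : G → ℂ) x) * ((χ.1 : G → ℂ) t * (χ.1 : G → ℂ) t /
      (χ.1 : G → ℂ) 1)) = S at h2 ⊢
  field_simp at h2
  linear_combination h2

end OddInv

end Cfsg.Agent.H20.Zass
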