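import Cfsg.Agent.H20.ZCoh3

/-!
The kernel is not a large `p`-group for odd `p`.
-/

set_option autoImplicit false
set_option linter.style.haveILetI false

open Cfsg MulAction
open scoped Pointwise ComplexConjugate commutatorElement

namespace Cfsg.Agent.H20.Zass

open Cfsg.Agent.H3

universe u v

variable {G : Type u} [Group G] {Ω : Type v} [MulAction G Ω] [Finite Ω]

namespace OddInv

variable (h : OddInv G Ω) [Fintype G]
include h

theorem false_of_odd_pgroup {a b : Ω} (hab : a ≠ b) {p n : ℕ} (hp : p.Prime) (hp2 : p ≠ 2)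
    (hK : Nat.card (K h.zass a) = p ^ n)
    (hlarge : (2 * Nat.card ↥(stabilizer G a ⊓ stabilizer G b) + 1) ^ 3 ≤
      Nat.card (K h.zass a)) : False := by
  classical
  haveI : Fintype (stabilizer G a) := Fintype.ofFinite _
  haveI : Fintype (IrrCharacter G) := Fintype.ofFinite _
  haveI : Fintype (h.JJ a) := Fintype.ofFinite _
  haveI : Fintype (h.XX a) := Fintype.ofFinite _
  have hKΩ := card_K h.zass a
  have hp_odd : Odd p := hp.odd_of_ne_two hp2
  have hKodd : Odd (Nat.card (K h.zass a)) := by rw [hK]; exact hp_odd.pow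
  have hΩeven : Even (Nat.card Ω) := by rw [← hKΩ]; exact hKodd.add_one
  have he3 := h.two_lt_two_pt hab
  set e := Nat.card ↥(stabilizer G a ⊓ stabilizer G b) with he
  have e0 : (e : ℂ) ≠ 0 := by rw [he]; exact h.card_two_ne_zero (a := a) (b := b)
  obtain ⟨t, ht1, ht2, hta, htb⟩ := exists_involution_swap h.zass hab
  have htf : ∀ c : Ω, t • c ≠ c := by
    intro c hc
    have h4 := h.card_fixedBy ht1 ht2
    rw [Nat.even_iff.mp hΩeven, Finite.card_eq_zero_iff] at h4
    exact h4.elim ⟨c, hc⟩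
  -- integers
  choose c hc using fun χ : h.XX a => involution_value (irr_isChar χ.1.2) ht2
  have hm : ∀ χ : h.XX a, (χ.1 : G → ℂ) 1 =
      (e : ℂ) * ((∑ θ : h.JJ a, h.nn θ χ * h.dd hab θ : ℤ) : ℂ) := fun χ => h.XX_one hab χ
  set m : h.XX a → ℤ := fun χ => ∑ θ : h.JJ a, h.nn θ χ * h.dd hab θ with hmdef
  have hmpos : ∀ χ, 0 < m χ := by
    intro χ
    have h1 : 0 ≤ m χ := Finset.sum_nonneg fun θ _ =>
      mul_nonneg (h.nn_spec θ χ).2 (by positivity)
    rcases h1.lt_or_eq with h2 | h2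
    · exact h2
    · exfalso
      have h3 := hm χ
      have h4 : ((m χ : ℤ) : ℂ) = 0 := by rw [← h2]; norm_num
      rw [show (∑ θ : h.JJ a, h.nn θ χ * h.dd hab θ : ℤ) = m χ from rfl, h4, mul_zero] at h3
      exact irr_one_ne_zero χ.1.2 h3
  have hC : ∀ θ : h.JJ a, ∑ χ : h.XX a, h.nn θ χ * c χ = h.dd hab θ := by
    intro θ
    have h1 := h.eq_C hab θ htf
    simp only [hc] at h1
    exact_mod_cast h1
  -- (D): termwise bound
  have hD : ∀ θ : h.JJ a, h.dd hab θ = 1 → ∀ χ : h.XX a, h.nn θ χ * (c χ * c χ) ≤ e * m χ := by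
    intro θ hθ χ
    have h1 := h.eq_D hab θ ht1 ht2 htf hKodd
    have h2 : ∀ χ : h.XX a, (h.nn θ χ : ℂ) * ((χ.1 : G → ℂ) t * (χ.1 : G → ℂ) t /
        (χ.1 : G → ℂ) 1) = (((h.nn θ χ : ℝ) * ((c χ : ℝ) * c χ / (e * m χ)) : ℝ) : ℂ) := by
      intro χ
      rw [hc, hm χ, show (∑ θ : h.JJ a, h.nn θ χ * h.dd hab θ : ℤ) = m χ from rfl]
      push_cast
      rfl
    rw [Finset.sum_congr rfl fun χ _ => h2 χ, ← Complex.ofReal_sum, hθ] at h1
    have h3 : ∑ χ : h.XX a, (h.nn θ χ : ℝ) * ((c χ : ℝ) * c χ / (e * m χ)) = 1 := by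
      exact_mod_cast h1
    have hepos : (0 : ℝ) < e := by
      have : 0 < e := by omega
      exact_mod_cast this
    have hmpos' : ∀ χ, (0 : ℝ) < m χ := fun χ => by exact_mod_cast hmpos χ
    have h4 : (h.nn θ χ : ℝ) * ((c χ : ℝ) * c χ / (e * m χ)) ≤ 1 := by
      rw [← h3]
      exact Finset.single_le_sum (f := fun χ : h.XX a => (h.nn θ χ : ℝ) *
        ((c χ : ℝ) * c χ / (e * m χ))) (fun ψ _ => by
          have h5 : (0 : ℝ) ≤ h.nn θ ψ := by exact_mod_cast (h.nn_spec θ ψ).2
          have := hmpos' ψ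
          have h6 : (0 : ℝ) ≤ (c ψ : ℝ) * c ψ := mul_self_nonneg _
          positivity) (Finset.mem_univ χ)
    have h5 : (0 : ℝ) < e * m χ := mul_pos hepos (hmpos' χ)
    rw [← mul_div_assoc, div_le_one h5] at h4
    exact_mod_cast h4
  -- integrality
  have hdvd : ∀ χ : h.XX a, m χ ∣ (Nat.card (K h.zass a) : ℤ) * c χ := by
    intro χ
    have h1 := isIntegral_central_char χ.1.2 t
    have h2 : (Subgroup.centralizer ({t} : Set G)).index = e * Nat.card (K h.zass a) := by
      rw [index_centralizer_eq]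
      have h3 := h.card_involutions_even hab hΩeven
      have h4 : Nat.card {x : G // IsConj t x} = Nat.card {x : G // x ≠ 1 ∧ x * x = 1} := by
        refine Nat.card_congr (Equiv.subtypeEquivRight fun x => ?_)
        constructor
        · intro hx
          obtain ⟨g, rfl⟩ := isConj_iff.mp hx
          refine ⟨fun hc' => ht1 ?_, ?_⟩
          · rw [mul_inv_eq_one] at hc'
            exact mul_left_cancel (hc'.trans (mul_one g).symm)
          · have : g * t * g⁻¹ * (g * t * g⁻¹) = g * (t * t) * g⁻¹ := by group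
            rw [this, ht2]; group
        · rintro ⟨hx1, hx2⟩
          exact h.isConj_of_involutions ht1 ht2 hx1 hx2
      rw [h4, h3, ← hKΩ, Nat.add_sub_cancel]
    rw [h2, hc χ, hm χ] at h1
    apply int_dvd_of_isIntegral (hmpos χ).ne'
    convert h1 using 1
    push_cast
    have h5 : ((m χ : ℤ) : ℂ) ≠ 0 := by exact_mod_cast (hmpos χ).ne'
    rw [show (∑ θ : h.JJ a, ((h.nn θ χ : ℂ) * (h.dd hab θ : ℂ))) = ((m χ : ℤ) : ℂ) by
      rw [hmdef]; push_cast; rfl]
    field_simp
  -- the congruence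
  have hkey : ∀ χ : h.XX a, (p : ℤ) ∣
      (∑ θ ∈ Finset.univ.filter (fun θ : h.JJ a => h.dd hab θ = 1), h.nn θ χ) * c χ := by
    intro χ
    by_cases hpm : (p : ℤ) ∣ m χ
    · apply Dvd.dvd.mul_right
      have h1 : m χ = ∑ θ ∈ Finset.univ.filter (fun θ : h.JJ a => h.dd hab θ = 1), h.nn θ χ +
          ∑ θ ∈ Finset.univ.filter (fun θ : h.JJ a => ¬ h.dd hab θ = 1),
            h.nn θ χ * h.dd hab θ := by
        rw [hmdef]
        show ∑ θ : h.JJ a, h.nn θ χ * h.dd hab θ = _
        rw [← Finset.sum_filter_add_sum_filter_not Finset.univ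
          (fun θ : h.JJ a => h.dd hab θ = 1)]
        congr 1
        refine Finset.sum_congr rfl fun θ hθ => ?_
        rw [(Finset.mem_filter.mp hθ).2, Nat.cast_one, mul_one]
      have h2 : (p : ℤ) ∣ ∑ θ ∈ Finset.univ.filter (fun θ : h.JJ a => ¬ h.dd hab θ = 1),
            h.nn θ χ * h.dd hab θ := by
        apply Finset.dvd_sum
        intro θ hθ
        apply Dvd.dvd.mul_left
        have h3 := h.dd_dvd hab θ
        rw [card_KB, hK] at h3
        obtain ⟨j, -, hj⟩ := (Nat.dvd_prime_pow hp).mp h3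
        have h4 : j ≠ 0 := by
          rintro rfl
          rw [pow_zero] at hj
          exact (Finset.mem_filter.mp hθ).2 hj
        rw [hj]
        exact_mod_cast dvd_pow_self p h4
      rw [h1] at hpm
      exact (dvd_add_left h2).mp hpm
    · have hz : (∑ θ ∈ Finset.univ.filter (fun θ : h.JJ a => h.dd hab θ = 1), h.nn θ χ) * c χ
          = 0 := by
        by_contra hne
        have hc0 : c χ ≠ 0 := right_ne_zero_of_mul hne
        obtain ⟨θ, hθ, hθn⟩ := Finset.exists_ne_zero_of_sum_ne_zero (left_ne_zero_of_mul hne)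
        have hθ1 := (Finset.mem_filter.mp hθ).2
        have hn1 : 1 ≤ h.nn θ χ := by
          have := (h.nn_spec θ χ).2
          omega
        have hmc : m χ ∣ c χ := by
          have hcop : IsCoprime (m χ) (Nat.card (K h.zass a) : ℤ) := by
            rw [hK]
            push_cast
            apply IsCoprime.pow_right
            rw [isCoprime_comm]
            exact (Int.prime_iff_natAbs_prime.mpr (by simpa using hp)).coprime_iff_not_dvd.mpr hpm
          exact hcop.dvd_of_dvd_mul_left (hdvd χ)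
        have h1 : m χ * m χ ≤ c χ * c χ := by
          obtain ⟨k, hk⟩ := hmc
          have hk0 : k ≠ 0 := by rintro rfl; rw [mul_zero] at hk; exact hc0 hk
          have hk1 : 1 ≤ k * k := by
            have : 0 < k * k := mul_self_pos.mpr hk0
            omega
          rw [hk]
          nlinarith [mul_self_nonneg (m χ)]
        have h2 := hD θ hθ1 χ
        have h3 : c χ * c χ ≤ h.nn θ χ * (c χ * c χ) := by
          nlinarith [mul_self_nonneg (c χ)]
        have h4 : m χ ≤ e := by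
          have h5 : m χ * m χ ≤ e * m χ := h1.trans (h3.trans h2)
          exact le_of_mul_le_mul_right h5 (hmpos χ)
        obtain ⟨M, hM⟩ := Int.eq_ofNat_of_zero_le (hmpos χ).le
        have h5 : M ≤ e := by
          rw [hM] at h4
          exact_mod_cast h4
        have h6 : (χ.1 : G → ℂ) 1 = ((e * M : ℕ) : ℂ) := by
          rw [hm χ]
          rw [show (∑ θ : h.JJ a, h.nn θ χ * h.dd hab θ : ℤ) = m χ from rfl, hM]
          push_cast; rfl
        have h7 := h.degree_ineq χ h6
        have h8 := h.card_YY hab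
        have h9 : (e * M) ^ 2 ≤ e ^ 4 := by
          calc (e * M) ^ 2 ≤ (e * e) ^ 2 := Nat.pow_le_pow_left (Nat.mul_le_mul_left _ h5) 2
            _ = e ^ 4 := by ring
        set f := (h.YY a).card with hf
        rw [← hKΩ] at h7
        have h10 : e = 2 * f + 1 := by omega
        have h11 : f * (2 * e + 1) ^ 3 ≤ f * (Nat.card (K h.zass a) + 1) :=
          Nat.mul_le_mul_left _ (by omega)
        have h12 : 1 + f * (2 * e + 1) ^ 3 ≤ e ^ 4 := by omega
        rw [h10] at h12
        have h13 : 0 < f := by omega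
        have h14 : (2 * f + 1) ^ 4 < 1 + f * (2 * (2 * f + 1) + 1) ^ 3 := by
          nlinarith [pow_pos h13 2, pow_pos h13 3, pow_pos h13 4]
        omega
      rw [hz]
      exact dvd_zero _
  have hsum : (p : ℤ) ∣ ((Finset.univ.filter (fun θ : h.JJ a => h.dd hab θ = 1)).card : ℤ) := by
    have h1 : ∑ χ : h.XX a, (∑ θ ∈ Finset.univ.filter (fun θ : h.JJ a => h.dd hab θ = 1),
        h.nn θ χ) * c χ = ((Finset.univ.filter (fun θ : h.JJ a => h.dd hab θ = 1)).card : ℤ) := by
      simp only [Finset.sum_mul]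
      rw [Finset.sum_comm, Finset.sum_congr rfl (g := fun _ => (1 : ℤ)) fun θ hθ => by
        rw [hC θ, (Finset.mem_filter.mp hθ).2, Nat.cast_one]]
      simp
    rw [← h1]
    exact Finset.dvd_sum fun χ _ => hkey χ
  have hn0 : n ≠ 0 := by
    rintro rfl
    rw [pow_zero] at hK
    have := Nat.one_le_pow 3 (2 * e + 1) (by omega)
    nlinarith [hlarge, Nat.pow_le_pow_left (show 2 ≤ 2 * e + 1 by omega) 3]
  have h1 := h.sum_dd_sq hab
  rw [← he] at h1
  rw [← Finset.sum_filter_add_sum_filter_not Finset.univ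
    (fun θ : h.JJ a => h.dd hab θ = 1)] at h1
  have h2 : p ∣ ∑ θ ∈ Finset.univ.filter (fun θ : h.JJ a => h.dd hab θ = 1),
      (h.dd hab θ) ^ 2 := by
    rw [Finset.sum_congr rfl (g := fun _ => 1) fun θ hθ => by
      rw [(Finset.mem_filter.mp hθ).2, one_pow], Finset.sum_const, smul_eq_mul, mul_one]
    exact_mod_cast hsum
  have h3 : p ∣ ∑ θ ∈ Finset.univ.filter (fun θ : h.JJ a => ¬ h.dd hab θ = 1),
      (h.dd hab θ) ^ 2 := by
    apply Finset.dvd_sum
    intro θ hθ
    apply Dvd.dvd.pow _ two_ne_zero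
    have h3 := h.dd_dvd hab θ
    rw [card_KB, hK] at h3
    obtain ⟨j, -, hj⟩ := (Nat.dvd_prime_pow hp).mp h3
    have h4 : j ≠ 0 := by
      rintro rfl
      rw [pow_zero] at hj
      exact (Finset.mem_filter.mp hθ).2 hj
    rw [hj]
    exact dvd_pow_self p h4
  have h4 : p ∣ e * (∑ θ ∈ Finset.univ.filter (fun θ : h.JJ a => h.dd hab θ = 1),
      (h.dd hab θ) ^ 2 + ∑ θ ∈ Finset.univ.filter (fun θ : h.JJ a => ¬ h.dd hab θ = 1),
      (h.dd hab θ) ^ 2) := Dvd.dvd.mul_left (dvd_add h2 h3) _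
  have h5 : p ∣ Nat.card (K h.zass a) := by rw [hK]; exact dvd_pow_self p hn0
  have h6 : Nat.card (K h.zass a) = e * (∑ θ ∈ Finset.univ.filter
      (fun θ : h.JJ a => h.dd hab θ = 1), (h.dd hab θ) ^ 2 +
      ∑ θ ∈ Finset.univ.filter (fun θ : h.JJ a => ¬ h.dd hab θ = 1),
      (h.dd hab θ) ^ 2) + 1 := by omega
  rw [h6] at h5
  have h7 := (Nat.dvd_add_right h4).mp h5
  exact hp.one_lt.ne' (Nat.dvd_one.mp h7)

end OddInv

end Cfsg.Agent.H20.Zass
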