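import Cfsg.Agent.H20.ZCoh4
import Cfsg.Agent.H20.Fpf2
import Cfsg.Agent.H23.MaxClass3
import Cfsg.Agent.H2.Hall

/-!
Group theory of the kernel for Feit's theorem on Zassenhaus groups.
-/

set_option autoImplicit false
set_option linter.style.haveILetI false

open Cfsg MulAction
open scoped Pointwise commutatorElement

namespace Cfsg.Agent.H20.Zass

section numeric

theorem dvd_sub_one_of_mul {e c f : ℕ} (hc : 0 < c) (hf : 0 < f) (h1 : e ∣ c - 1)
    (h2 : e ∣ c * f - 1) : e ∣ f - 1 := by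
  obtain ⟨k, hk⟩ := h1
  have h3 : c = e * k + 1 := by omega
  have h4 : c * f - 1 = e * (k * f) + (f - 1) := by
    rw [h3, add_mul, one_mul, mul_assoc]
    omega
  rw [h4] at h2
  exact (Nat.dvd_add_right (Dvd.intro _ rfl)).mp h2

theorem two_mul_dvd_of_odd {e f : ℕ} (he : Odd e) (hf : Odd f) (h : e ∣ f - 1) :
    2 * e ∣ f - 1 := by
  apply Nat.Coprime.mul_dvd_of_dvd_of_dvd _ _ h
  · rw [Nat.coprime_two_left]
    exact he
  · obtain ⟨k, hk⟩ := hf
    exact ⟨k, by omega⟩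

theorem le_of_dvd_sub_one {e f : ℕ} (hf : 1 < f) (h : e ∣ f - 1) : e + 1 ≤ f := by
  have := Nat.le_of_dvd (by omega) h
  omega

theorem eq_or_le_of_dvd_sub_one {e f : ℕ} (hf : 1 < f) (h : e ∣ f - 1) :
    f = e + 1 ∨ 2 * e + 1 ≤ f := by
  obtain ⟨k, hk⟩ := h
  rcases Nat.lt_or_ge k 2 with h1 | h1
  · interval_cases k
    · omega
    · left; omega
  · right
    have : e * 2 ≤ e * k := Nat.mul_le_mul_left _ h1
    omega

/-- `q ^ v + 1` a power of two, `q ^ v ≡ 3 (mod 4)` forces `v ≤ 1`. -/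
theorem mersenne {q v s : ℕ} (hq : 1 < q) (h : q ^ v + 1 = 2 ^ s) (hs : 2 ≤ s) : v ≤ 1 := by
  have hqodd : Odd q := by
    by_contra hc
    rw [Nat.not_odd_iff_even] at hc
    rcases Nat.eq_zero_or_pos v with h0 | h0
    · subst h0
      rw [pow_zero] at h
      have : 2 ^ 2 ≤ 2 ^ s := Nat.pow_le_pow_right (by norm_num) hs
      omega
    · have h1 : Even (q ^ v) := Nat.even_pow.mpr ⟨hc, h0.ne'⟩
      have h2 : Even (2 ^ s) := Nat.even_pow.mpr ⟨even_two, by omega⟩
      rw [← h] at h2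
      exact (Nat.even_add_one.mp h2) h1
  obtain ⟨r, hr⟩ := hqodd
  have h4 : 4 ∣ q ^ v + 1 := by
    rw [h]
    exact pow_dvd_pow 2 hs
  have hsq : q * q ≡ 1 [MOD 4] := by
    rw [hr, Nat.ModEq]
    have : (2 * r + 1) * (2 * r + 1) = 4 * (r * r + r) + 1 := by ring
    rw [this]
    omega
  have hvodd : Odd v := by
    by_contra hc
    rw [Nat.not_odd_iff_even] at hc
    obtain ⟨w, hw⟩ := hc
    have h5 : q ^ v = (q * q) ^ w := by rw [hw, ← two_mul, pow_mul, pow_two]
    have h6 : q ^ v ≡ 1 [MOD 4] := by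
      rw [h5]
      simpa using hsq.pow w
    have h7 : (q ^ v + 1) % 4 = 0 := Nat.mod_eq_zero_of_dvd h4
    have h8 : q ^ v % 4 = 1 := h6
    omega
  -- `q + 1 = 2 ^ j`
  have hdvd : q + 1 ∣ q ^ v + 1 := by
    have := Odd.nat_add_dvd_pow_add_pow q 1 hvodd
    rwa [one_pow] at this
  rw [h] at hdvd
  obtain ⟨j, hj, hj2⟩ := (Nat.dvd_prime_pow Nat.prime_two).mp hdvd
  have h9 : q * q ≡ 1 [MOD 2 ^ (j + 1)] := by
    have h10 : q * q = 2 ^ (j + 1) * r + 1 := by
      rw [pow_succ, ← hj2, hr]; ring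
    rw [h10, Nat.ModEq, Nat.mul_add_mod]
  by_contra hv
  push Not at hv
  obtain ⟨w, hw⟩ := hvodd
  have h11 : q ^ v ≡ q [MOD 2 ^ (j + 1)] := by
    have h12 : q ^ v = (q * q) ^ w * q := by rw [hw, pow_succ, pow_mul, pow_two]
    rw [h12]
    simpa using (h9.pow w).mul_right q
  have h13 : 2 ^ j < 2 ^ s := by
    rw [← h, ← hj2]
    have := Nat.pow_lt_pow_right hq hv
    rw [pow_one] at this
    omega
  have h14 : j + 1 ≤ s := (Nat.pow_lt_pow_iff_right (by norm_num)).mp h13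
  have h15 : 2 ^ (j + 1) ∣ q ^ v + 1 := by rw [h]; exact pow_dvd_pow 2 h14
  have h16 : 2 ^ (j + 1) ∣ q + 1 := ((h11.add_right 1).dvd_iff dvd_rfl).mp h15
  rw [hj2] at h16
  have := Nat.le_of_dvd (by positivity) h16
  rw [pow_succ] at this
  have : 0 < 2 ^ j := by positivity
  omega

end numeric

section nil

variable {A : Type*} [Group A] [Finite A]

theorem card_commutator_dvd {e : ℕ} (hchar : ∀ C : Subgroup A, C.Characteristic → e ∣ Nat.card C - 1)
    (C : Subgroup A) [hC : C.Characteristic] (hsolv : Group.IsSolvable A) (hb : C ≠ ⊥) :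
    ∃ f : ℕ, Nat.card C = Nat.card ↥⁅C, C⁆ * f ∧ e ∣ f - 1 ∧ 1 < f := by
  have hle : ⁅C, C⁆ < C := Group.IsSolvable.commutator_lt_of_ne_bot hb
  obtain ⟨f, hf⟩ := Subgroup.card_dvd_of_le hle.le
  have h1 : 0 < Nat.card C := Nat.card_pos
  have h2 : 0 < Nat.card ↥⁅C, C⁆ := Nat.card_pos
  have hf0 : 0 < f := by
    rcases Nat.eq_zero_or_pos f with h0 | h0
    · rw [h0, mul_zero] at hf; omega
    · exact h0
  refine ⟨f, hf, ?_, ?_⟩
  · apply dvd_sub_one_of_mul h2 hf0 (hchar _ inferInstance)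
    rw [← hf]
    exact hchar _ hC
  · by_contra hc
    have h3 : f = 1 := by omega
    rw [h3, mul_one] at hf
    exact hle.ne (Subgroup.eq_of_le_of_card_ge hle.le hf.le)

theorem nil_cases (hnil : Group.IsNilpotent A) {e : ℕ} (he : Odd e)
    (hchar : ∀ C : Subgroup A, C.Characteristic → e ∣ Nat.card C - 1)
    (h2 : 2 ∣ Nat.card A → ∃ s, e + 1 = 2 ^ s) {q : ℕ} (hq : q.Prime) (hq2 : q ≠ 2)
    (hqA : q ∣ Nat.card A) :
    IsPGroup q A ∨ 4 * e ^ 2 + 2 ≤ (commutator A).index ∨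
    ∃ Z₀ : Subgroup A, (∀ z ∈ Z₀, ∀ k : A, k * z = z * k) ∧ Z₀ ⊓ commutator A = ⊥ ∧
      Nat.card Z₀ = 2 * e + 1 ∧ 3 * e + 2 ≤ (commutator A).index := by
  classical
  haveI : Fact q.Prime := ⟨hq⟩
  have hsolv : Group.IsSolvable A := inferInstance
  have he0 : 0 < e := he.pos
  obtain ⟨P⟩ := (inferInstance : Nonempty (Sylow q A))
  have hn : ∀ (q : ℕ) (_ : Fact q.Prime) (Q : Sylow q A), (Q : Subgroup A).Normal :=
    ((Group.isNilpotent_of_finite_tfae (G := A)).out 0 3).1 hnil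
  have hPn : (P : Subgroup A).Normal := hn q ⟨hq⟩ P
  have hPc : (P : Subgroup A).Characteristic := P.characteristic_of_normal hPn
  obtain ⟨N, hN, hc⟩ := (H2.hasNormalPComplement_iff_sylow P).1
    (H2.HasNormalPComplement.of_isNilpotent (p := q) hnil)
  have hqN : ¬ q ∣ Nat.card N := by rw [← hc.index_eq_card]; exact P.not_dvd_index
  obtain ⟨k, hk⟩ := IsPGroup.iff_card.mp P.2
  have hNi : N.index = q ^ k := by rw [hc.symm.index_eq_card, hk]
  have hNc : N.Characteristic := by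
    rw [Subgroup.characteristic_iff_comap_eq]
    intro φ
    ext x
    rw [Subgroup.mem_comap, H2.mem_normal_complement_iff hqN hNi,
      H2.mem_normal_complement_iff hqN hNi]
    show Nat.Coprime (orderOf (φ x)) q ↔ _
    rw [MulEquiv.orderOf_eq]
  have hcard : Nat.card N * Nat.card P = Nat.card A := hc.card_mul_card
  have hdisj : N ⊓ P = ⊥ := hc.isCompl.inf_eq_bot
  have hsup : N ⊔ P = ⊤ := hc.isCompl.sup_eq_top
  have hcomm : ∀ x ∈ N, ∀ y ∈ (P : Subgroup A), x * y = y * x := fun x hx y hy =>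
    Subgroup.commute_of_normal_of_disjoint N P hN hPn (disjoint_iff.mpr hdisj) x y hx hy
  by_cases hNb : N = ⊥
  · left
    rw [hNb, bot_sup_eq] at hsup
    have := P.2
    rw [show (P : Subgroup A) = ⊤ from hsup] at this
    exact this.of_equiv Subgroup.topEquiv
  right
  have hPb : (P : Subgroup A) ≠ ⊥ := by
    intro h
    have h1 := P.dvd_card_of_dvd_card hqA
    rw [h, Subgroup.card_bot] at h1
    exact hq.one_lt.ne' (Nat.dvd_one.mp h1)
  obtain ⟨f, hf, hfe, hf1⟩ := card_commutator_dvd hchar (P : Subgroup A) hsolv hPb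
  obtain ⟨m, hm, hme, hm1⟩ := card_commutator_dvd hchar N hsolv hNb
  have hfodd : Odd f := by
    have h1 : f ∣ q ^ k := by rw [← hk, hf]; exact Dvd.intro_left _ rfl
    exact Odd.of_dvd_nat (hq.odd_of_ne_two hq2).pow h1
  have hf2 := two_mul_dvd_of_odd he hfodd hfe
  -- the commutator subgroup
  have hcle : commutator A ≤ ⁅N, N⁆ ⊔ ⁅(P : Subgroup A), (P : Subgroup A)⁆ := by
    rw [commutator_def, Subgroup.commutator_le]
    intro x _ y _
    have hdec : ∀ x : A, ∃ n ∈ N, ∃ p ∈ (P : Subgroup A), x = n * p := by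
      intro x
      have : x ∈ N ⊔ (P : Subgroup A) := by rw [hsup]; trivial
      rw [Subgroup.mem_sup_of_normal_left] at this
      obtain ⟨n, hn', p, hp, rfl⟩ := this
      exact ⟨n, hn', p, hp, rfl⟩
    obtain ⟨n1, hn1, p1, hp1, rfl⟩ := hdec x
    obtain ⟨n2, hn2, p2, hp2, rfl⟩ := hdec y
    have key : ⁅n1 * p1, n2 * p2⁆ = ⁅n1, n2⁆ * ⁅p1, p2⁆ := by
      have c1 : Commute n1 p1 := hcomm _ hn1 _ hp1
      have c2 : Commute n1 p2 := hcomm _ hn1 _ hp2
      have c3 : Commute n2 p1 := hcomm _ hn2 _ hp1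
      have c4 : Commute n2 p2 := hcomm _ hn2 _ hp2
      have e1 : (n1 * p1) * (n2 * p2) = (n1 * n2) * (p1 * p2) := by
        calc (n1 * p1) * (n2 * p2) = n1 * (p1 * n2) * p2 := by group
          _ = n1 * (n2 * p1) * p2 := by rw [c3.eq]
          _ = _ := by group
      have e2 : (n1 * p1)⁻¹ * (n2 * p2)⁻¹ = (n1⁻¹ * n2⁻¹) * (p1⁻¹ * p2⁻¹) := by
        have c5 : Commute n1⁻¹ p1⁻¹ := c1.inv_inv
        have c6 : Commute n2⁻¹ p1⁻¹ := c3.inv_inv
        have c7 : Commute n2⁻¹ p2⁻¹ := c4.inv_inv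
        calc (n1 * p1)⁻¹ * (n2 * p2)⁻¹ = p1⁻¹ * n1⁻¹ * (p2⁻¹ * n2⁻¹) := by group
          _ = n1⁻¹ * p1⁻¹ * (n2⁻¹ * p2⁻¹) := by rw [c5.eq, c7.eq]
          _ = n1⁻¹ * (p1⁻¹ * n2⁻¹) * p2⁻¹ := by group
          _ = n1⁻¹ * (n2⁻¹ * p1⁻¹) * p2⁻¹ := by rw [c6.eq]
          _ = _ := by group
      have c8 : Commute (p1 * p2) (n1⁻¹ * n2⁻¹) := by
        apply Commute.mul_left <;> apply Commute.mul_right
        · exact c1.symm.inv_right
        · exact c3.symm.inv_right
        · exact c2.symm.inv_right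
        · exact c4.symm.inv_right
      rw [commutatorElement_def, commutatorElement_def, commutatorElement_def]
      calc n1 * p1 * (n2 * p2) * (n1 * p1)⁻¹ * (n2 * p2)⁻¹
          = ((n1 * p1) * (n2 * p2)) * ((n1 * p1)⁻¹ * (n2 * p2)⁻¹) := by group
        _ = (n1 * n2) * ((p1 * p2) * (n1⁻¹ * n2⁻¹)) * (p1⁻¹ * p2⁻¹) := by rw [e1, e2]; group
        _ = (n1 * n2) * ((n1⁻¹ * n2⁻¹) * (p1 * p2)) * (p1⁻¹ * p2⁻¹) := by rw [c8.eq]
        _ = _ := by group
    rw [key]
    exact Subgroup.mul_mem_sup (Subgroup.commutator_mem_commutator hn1 hn2)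
      (Subgroup.commutator_mem_commutator hp1 hp2)
  have hccard : Nat.card (commutator A) ≤
      Nat.card ↥⁅N, N⁆ * Nat.card ↥⁅(P : Subgroup A), (P : Subgroup A)⁆ := by
    refine (Nat.le_of_dvd Nat.card_pos (Subgroup.card_dvd_of_le hcle)).trans ?_
    have h1 : ((⁅N, N⁆ ⊔ ⁅(P : Subgroup A), (P : Subgroup A)⁆ : Subgroup A) : Set A) =
        ((⁅N, N⁆ : Subgroup A) : Set A) *
          ((⁅(P : Subgroup A), (P : Subgroup A)⁆ : Subgroup A) : Set A) :=
      Subgroup.normal_mul _ _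
    calc Nat.card ↥(⁅N, N⁆ ⊔ ⁅(P : Subgroup A), (P : Subgroup A)⁆ : Subgroup A)
        = Nat.card (((⁅N, N⁆ : Subgroup A) : Set A) *
          ((⁅(P : Subgroup A), (P : Subgroup A)⁆ : Subgroup A) : Set A) : Set A) := by
          rw [← h1]; rfl
      _ ≤ _ := Set.natCard_mul_le
  have hidx : f * m ≤ (commutator A).index := by
    have h1 := (commutator A).index_mul_card
    have h3 : (f * m) * (Nat.card ↥⁅N, N⁆ * Nat.card ↥⁅(P : Subgroup A), (P : Subgroup A)⁆) =
        Nat.card A := by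
      rw [← hcard, hm, show Nat.card P = _ from hf]; ring
    have h4 : (f * m) * Nat.card (commutator A) ≤
        (commutator A).index * Nat.card (commutator A) := by
      rw [h1, ← h3]
      exact Nat.mul_le_mul_left _ hccard
    exact Nat.le_of_mul_le_mul_right h4 Nat.card_pos
  have hm3 := le_of_dvd_sub_one hm1 hme
  have hf3 := le_of_dvd_sub_one hf1 hf2
  rcases eq_or_le_of_dvd_sub_one hf1 hf2 with hfe' | hfl
  · rcases eq_or_le_of_dvd_sub_one hm1 hme with hme' | hml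
    · right
      -- the exceptional case
      have heven : 2 ∣ m := by
        rw [hme']
        obtain ⟨r, hr⟩ := he
        exact ⟨r + 1, by omega⟩
      have h3 : 2 ∣ Nat.card A := by
        rw [← hcard, hm]
        exact ((heven.mul_left _).mul_right _)
      obtain ⟨s, hs⟩ := h2 h3
      have h4 : f ∣ q ^ k := by rw [← hk, hf]; exact Dvd.intro_left _ rfl
      obtain ⟨v, -, hv⟩ := (Nat.dvd_prime_pow hq).mp h4
      have h5 : q ^ v + 1 = 2 ^ (s + 1) := by
        rw [← hv, pow_succ, ← hs, hfe']; ring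
      have hs1 : 1 ≤ s := by
        rcases Nat.eq_zero_or_pos s with h0 | h0
        · rw [h0, pow_zero] at hs; omega
        · exact h0
      have hv1 := mersenne hq.one_lt h5 (by omega)
      have hv0 : v ≠ 0 := by
        rintro rfl
        rw [pow_zero] at hv
        omega
      have hv2 : v = 1 := by omega
      rw [hv2, pow_one] at hv
      have hcyc : IsCyclic (P : Subgroup A) := by
        apply H23.isCyclic_of_index_commutator_le (p := q) P.2
        have h6 := (commutator ↥(P : Subgroup A)).index_mul_card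
        have h7 : Nat.card (commutator ↥(P : Subgroup A)) =
            Nat.card ↥⁅(P : Subgroup A), (P : Subgroup A)⁆ := by
          rw [← Subgroup.map_subtype_commutator]
          exact (Subgroup.card_map_of_injective (Subgroup.subtype_injective _)).symm
        rw [h7, hf, mul_comm] at h6
        have h8 : (commutator ↥(P : Subgroup A)).index = f :=
          Nat.eq_of_mul_eq_mul_left (Nat.card_pos (α := ↥⁅(P : Subgroup A), (P : Subgroup A)⁆)) h6
        rw [h8, hv]
      have hPcomm : ∀ x ∈ (P : Subgroup A), ∀ y ∈ (P : Subgroup A), x * y = y * x := by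
        intro x hx y hy
        letI := IsCyclic.commGroup (α := (P : Subgroup A))
        exact congrArg Subtype.val (mul_comm (⟨x, hx⟩ : (P : Subgroup A)) ⟨y, hy⟩)
      have hPbot : ⁅(P : Subgroup A), (P : Subgroup A)⁆ = ⊥ := by
        rw [eq_bot_iff, Subgroup.commutator_le]
        intro x hx y hy
        rw [Subgroup.mem_bot, commutatorElement_eq_one_iff_mul_comm]
        exact hPcomm x hx y hy
      refine ⟨P, ?_, ?_, ?_, ?_⟩
      · intro z hz x
        have : x ∈ N ⊔ (P : Subgroup A) := by rw [hsup]; trivial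
        rw [Subgroup.mem_sup_of_normal_left] at this
        obtain ⟨n, hn', p, hp, rfl⟩ := this
        rw [mul_assoc, hPcomm p hp z hz, ← mul_assoc, hcomm n hn' z hz, mul_assoc]
      · rw [hPbot, sup_bot_eq] at hcle
        rw [eq_bot_iff]
        refine le_trans (inf_le_inf_left _ (hcle.trans (Subgroup.commutator_le_right N N))) ?_
        rw [inf_comm, hdisj]
      · show Nat.card (P : Subgroup A) = _
        rw [hf, hPbot, Subgroup.card_bot, one_mul, hfe']
      · refine le_trans ?_ hidx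
        rw [hfe', hme']
        nlinarith
    · left
      refine le_trans ?_ hidx
      rw [hfe']
      calc 4 * e ^ 2 + 2 ≤ (2 * e + 1) * (2 * e + 1) := by nlinarith
        _ ≤ _ := Nat.mul_le_mul_left _ hml
  · left
    refine le_trans ?_ hidx
    calc 4 * e ^ 2 + 2 ≤ (2 * (2 * e) + 1) * (e + 1) := by nlinarith
      _ ≤ _ := Nat.mul_le_mul hfl hm3

/-- The `p`-group case. -/
theorem pgroup_large {e : ℕ} (he : Odd e) 
    (hchar : ∀ C : Subgroup A, C.Characteristic → e ∣ Nat.card C - 1)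
    {q n : ℕ} (hq : q.Prime) (hq2 : q ≠ 2) (hn : Nat.card A = q ^ n) (hmod : Nat.card A % 4 = 3)
    (hnc : ∃ x y : A, x * y ≠ y * x) : (2 * e + 1) ^ 3 ≤ Nat.card A := by
  classical
  haveI : Fact q.Prime := ⟨hq⟩
  have hP : IsPGroup q A := IsPGroup.of_card hn
  haveI : Nontrivial A := by
    obtain ⟨x, y, hxy⟩ := hnc
    by_contra hc
    rw [not_nontrivial_iff_subsingleton] at hc
    exact hxy (Subsingleton.elim _ _)
  have hsolv : Group.IsSolvable A := haveI := hP.isNilpotent; inferInstance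
  obtain ⟨f, hf, hfe, hf1⟩ := card_commutator_dvd hchar (⊤ : Subgroup A) hsolv top_ne_bot
  rw [Subgroup.card_top, ← commutator_def] at hf
  have hqodd := hq.odd_of_ne_two hq2
  obtain ⟨y, -, hy⟩ := (Nat.dvd_prime_pow hq).mp (show f ∣ q ^ n by
    rw [← hn, hf]; exact Dvd.intro_left _ rfl)
  obtain ⟨x, -, hx⟩ := (Nat.dvd_prime_pow hq).mp (show Nat.card (commutator A) ∣ q ^ n by
    rw [← hn, hf]; exact Dvd.intro _ rfl)
  have hy0 : y ≠ 0 := by
    rintro rfl
    rw [pow_zero] at hy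
    omega
  have hx0 : x ≠ 0 := by
    rintro rfl
    rw [pow_zero] at hx
    have h1 : commutator A = ⊥ := Subgroup.card_eq_one.mp hx
    obtain ⟨u, v, huv⟩ := hnc
    apply huv
    have h2 : ⁅u, v⁆ ∈ commutator A := by
      rw [commutator_def]
      exact Subgroup.commutator_mem_commutator (Subgroup.mem_top u) (Subgroup.mem_top v)
    rw [h1, Subgroup.mem_bot, commutatorElement_eq_one_iff_mul_comm] at h2
    exact h2
  have hxe : e ∣ q ^ x - 1 := by rw [← hx]; exact hchar _ inferInstance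
  have hye : e ∣ q ^ y - 1 := by rw [← hy]; exact hfe
  have hnxy : n = x + y := by
    rw [hn, hx, hy, ← pow_add] at hf
    exact Nat.pow_right_injective hq.two_le hf
  have key : ∀ m : ℕ, e ∣ q ^ m - 1 ↔ (q : ZMod e) ^ m = 1 := by
    intro m
    have h1 : 1 ≤ q ^ m := Nat.one_le_pow _ _ hq.pos
    rw [← ZMod.natCast_eq_zero_iff, Nat.cast_sub h1, sub_eq_zero]
    push_cast
    rfl
  have hg : e ∣ q ^ (x.gcd y) - 1 := by
    rw [key, pow_gcd_eq_one]
    exact ⟨(key x).mp hxe, (key y).mp hye⟩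
  have hg0 : x.gcd y ≠ 0 := by
    intro h
    exact hx0 (Nat.eq_zero_of_gcd_eq_zero_left h)
  have hgl : 2 * e + 1 ≤ q ^ (x.gcd y) :=
    le_of_dvd_sub_one (Nat.one_lt_pow hg0 hq.one_lt) (two_mul_dvd_of_odd he hqodd.pow hg)
  have hnodd : Odd n := by
    by_contra hc
    rw [Nat.not_odd_iff_even] at hc
    obtain ⟨w, hw⟩ := hc
    have h1 : Nat.card A = q ^ w * q ^ w := by rw [hn, hw, pow_add]
    have h2 : Odd (q ^ w) := hqodd.pow
    obtain ⟨r, hr⟩ := h2
    rw [h1, hr] at hmod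
    have h3 : (2 * r + 1) * (2 * r + 1) = 4 * (r * r + r) + 1 := by ring
    omega
  obtain ⟨x', hx'⟩ := Nat.gcd_dvd_left x y
  obtain ⟨y', hy'⟩ := Nat.gcd_dvd_right x y
  set g := x.gcd y with hgdef
  have h3 : n = g * (x' + y') := by rw [hnxy, mul_add, ← hx', ← hy']
  have hx'0 : x' ≠ 0 := by rintro rfl; rw [mul_zero] at hx'; exact hx0 hx'
  have hy'0 : y' ≠ 0 := by rintro rfl; rw [mul_zero] at hy'; exact hy0 hy'
  have h4 : Odd (x' + y') := by
    rw [h3] at hnodd
    exact (Nat.odd_mul.mp hnodd).2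
  have h5 : 3 ≤ x' + y' := by
    obtain ⟨r, hr⟩ := h4
    omega
  rw [hn, h3, pow_mul]
  calc (2 * e + 1) ^ 3 ≤ (q ^ g) ^ 3 := Nat.pow_le_pow_left hgl 3
    _ ≤ _ := Nat.pow_le_pow_right (pow_pos hq.pos _) h5

end nil

end Cfsg.Agent.H20.Zass
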