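import Cfsg.Agent.H20.ZPsl5

/-!
Zassenhaus groups with abelian kernel: sharply triply transitive or `PSL(2, q)`.
-/

set_option autoImplicit false
set_option linter.style.haveILetI false

open Cfsg MulAction

namespace Cfsg.Agent.H20.Zass

universe u v

/-- The two-point stabiliser inside a normal subgroup. -/
theorem card_two_pt_normal {G : Type u} [Group G] {Ω : Type v} [MulAction G Ω] [Finite Ω]
    (hZ : IsZassenhausGroup G Ω) (N : Subgroup G) {a b : Ω} :
    Nat.card ↥(stabilizer N a ⊓ stabilizer N b) ∣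
      Nat.card ↥(stabilizer G a ⊓ stabilizer G b) := by
  have := finite_group hZ
  have h1 : Nat.card ↥(stabilizer N a ⊓ stabilizer N b) =
      Nat.card ↥((stabilizer G a ⊓ stabilizer G b) ⊓ N) := by
    refine Nat.card_congr ⟨fun x => ⟨x.1.1, ⟨x.2.1, x.2.2⟩, x.1.2⟩,
      fun x => ⟨⟨x.1, x.2.2⟩, x.2.1.1, x.2.1.2⟩, fun x => rfl, fun x => rfl⟩
  rw [h1]
  exact Subgroup.card_dvd_of_le inf_le_left

/-- If the kernel of the point stabilisers is abelian and `e` is odd then `h - 1 ≤ 2e`. -/
theorem card_le_of_abelian_odd (n : ℕ) : ∀ {G : Type u} [Group G] {Ω : Type v} [MulAction G Ω]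
    [Finite Ω] (hZ : IsZassenhausGroup G Ω) {a b : Ω}, Nat.card G ≤ n → a ≠ b →
    Odd (Nat.card ↥(stabilizer G a ⊓ stabilizer G b)) →
    (∀ x ∈ K hZ a, ∀ y ∈ K hZ a, x * y = y * x) →
    Nat.card Ω - 2 ≤ 2 * Nat.card ↥(stabilizer G a ⊓ stabilizer G b) := by
  classical
  induction n with
  | zero =>
    intro G _ Ω _ _ hZ a b hn
    have := finite_group hZ
    have : 0 < Nat.card G := Nat.card_pos
    omega
  | succ n ih =>
    intro G _ Ω _ _ hZ a b hn hab hodd hcomm
    haveI := finite_group hZ
    haveI : Fintype G := Fintype.ofFinite G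
    haveI : Nontrivial G := by
      obtain ⟨g, hg, -⟩ := exists_two_pt hZ hab
      exact ⟨g, 1, hg⟩
    by_cases hs : IsSimpleGroup G
    · exact (oddInv_of_simple hZ hab hodd).card_le_of_abelian hab hcomm
    · obtain ⟨N, hN1, hN2, hN3⟩ : ∃ N : Subgroup G, N.Normal ∧ N ≠ ⊥ ∧ N ≠ ⊤ := by
        by_contra hc
        push Not at hc
        exact hs ⟨fun N hN => by
          by_cases h : N = ⊥
          · exact Or.inl h
          · exact Or.inr (hc N hN h)⟩
      have hZN := normal_isZass hZ N hN2
      have h1 : Nat.card N < Nat.card G :=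
        lt_of_le_of_ne (Subgroup.card_le_card_group N) fun hc => hN3 (Subgroup.card_eq_iff_eq_top N |>.mp hc)
      have h2 := card_two_pt_normal hZ N (a := a) (b := b)
      have h3 : Odd (Nat.card ↥(stabilizer N a ⊓ stabilizer N b)) := Odd.of_dvd_nat hodd h2
      have h4 := ih hZN (a := a) (b := b) (by omega) hab h3 (by
        intro x hx y hy
        apply Subtype.ext
        apply hcomm
        · rw [mem_K] at hx ⊢
          rcases hx with hx | hx
          · left; rw [hx]; rfl
          · exact Or.inr hx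
        · rw [mem_K] at hy ⊢
          rcases hy with hy | hy
          · left; rw [hy]; rfl
          · exact Or.inr hy)
      have h5 := Nat.le_of_dvd Nat.card_pos h2
      omega

/-- In the odd case with `h - 1 = 2e` and abelian kernel, the group is simple. -/
theorem simple_of_abelian_odd {G : Type u} [Group G] {Ω : Type v} [MulAction G Ω]
    [Finite Ω] (hZ : IsZassenhausGroup G Ω) {a b : Ω} (hab : a ≠ b)
    (hodd : Odd (Nat.card ↥(stabilizer G a ⊓ stabilizer G b)))
    (hcomm : ∀ x ∈ K hZ a, ∀ y ∈ K hZ a, x * y = y * x)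
    (hcard : Nat.card Ω = 2 * Nat.card ↥(stabilizer G a ⊓ stabilizer G b) + 2) :
    IsSimpleGroup G := by
  haveI := finite_group hZ
  haveI : Nontrivial G := by
    obtain ⟨g, hg, -⟩ := exists_two_pt hZ hab
    exact ⟨g, 1, hg⟩
  refine ⟨fun N hN => ?_⟩
  by_cases hN2 : N = ⊥
  · exact Or.inl hN2
  right
  have hZN := normal_isZass hZ N hN2
  have h2 := card_two_pt_normal hZ N (a := a) (b := b)
  have h3 : Odd (Nat.card ↥(stabilizer N a ⊓ stabilizer N b)) := Odd.of_dvd_nat hodd h2
  have h4 := card_le_of_abelian_odd _ hZN (a := a) (b := b) le_rfl hab h3 (by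
    intro x hx y hy
    apply Subtype.ext
    apply hcomm
    · rw [mem_K] at hx ⊢
      rcases hx with hx | hx
      · left; rw [hx]; rfl
      · exact Or.inr hx
    · rw [mem_K] at hy ⊢
      rcases hy with hy | hy
      · left; rw [hy]; rfl
      · exact Or.inr hy)
  have h5 := Nat.le_of_dvd Nat.card_pos h2
  have h6 : Nat.card ↥(stabilizer N a ⊓ stabilizer N b) =
      Nat.card ↥(stabilizer G a ⊓ stabilizer G b) := by omega
  have h7 := card_G hZN hab
  have h8 := card_G hZ hab
  have h9 : Nat.card (K hZN a) = Nat.card (K hZ a) := by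
    have e1 := card_K hZN a
    have e2 := card_K hZ a
    omega
  rw [h6, h9] at h7
  exact Subgroup.eq_top_of_card_eq N (h7.trans h8.symm)

/-- Sharply triply transitive. -/
theorem sharply_of_card {G : Type u} [Group G] {Ω : Type v} [MulAction G Ω]
    [Finite Ω] (hZ : IsZassenhausGroup G Ω) {a b : Ω} (hab : a ≠ b)
    (hcard : Nat.card Ω = Nat.card ↥(stabilizer G a ⊓ stabilizer G b) + 2) :
    MulAction.IsMultiplyPretransitive G Ω 3 ∧ ∀ t : Fin 3 ↪ Ω, MulAction.stabilizer G t = ⊥ := by
  classical
  haveI := finite_group hZ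
  haveI : Fintype Ω := Fintype.ofFinite Ω
  have htr : ∀ c d e f : Ω, c ≠ d → e ≠ c → e ≠ d → f ≠ c → f ≠ d →
      ∃ g : G, g • c = c ∧ g • d = d ∧ g • e = f := by
    intro c d e f hcd hec hed hfc hfd
    let ψ : ↥(stabilizer G c ⊓ stabilizer G d) → {x : Ω // x ∉ ({c, d} : Finset Ω)} := fun g =>
      ⟨(g : G) • e, by
        have hgc : (g : G) • c = c := g.2.1
        have hgd : (g : G) • d = d := g.2.2
        simp only [Finset.mem_insert, Finset.mem_singleton, not_or]
        refine ⟨fun h => hec ?_, fun h => hed ?_⟩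
        · exact smul_left_cancel (g : G) (h.trans hgc.symm)
        · exact smul_left_cancel (g : G) (h.trans hgd.symm)⟩
    have hinj : Function.Injective ψ := by
      intro g h hgh
      have h1 : (g : G) • e = (h : G) • e := congrArg Subtype.val hgh
      have hgc : (g : G) • c = c := g.2.1
      have hgd : (g : G) • d = d := g.2.2
      have hhc : (h : G)⁻¹ • c = c := inv_smul_eq_iff.mpr (show c = (h : G) • c from h.2.1.symm)
      have hhd : (h : G)⁻¹ • d = d := inv_smul_eq_iff.mpr (show d = (h : G) • d from h.2.2.symm)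
      have h2 : (h : G)⁻¹ * g = 1 := eq_one_of_fix3 hZ hcd (Ne.symm hed) (Ne.symm hec)
        (by rw [mul_smul, hgc, hhc]) (by rw [mul_smul, hgd, hhd])
        (by rw [mul_smul, h1, inv_smul_smul])
      exact Subtype.ext (inv_mul_eq_one.mp h2).symm
    haveI : Fintype ↥(stabilizer G c ⊓ stabilizer G d) := Fintype.ofFinite _
    have hsurj : Function.Surjective ψ := by
      refine ((Fintype.bijective_iff_injective_and_card ψ).mpr ⟨hinj, ?_⟩).2
      rw [Fintype.card_subtype_compl, Fintype.card_coe, Finset.card_pair hcd,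
        ← Nat.card_eq_fintype_card, ← Nat.card_eq_fintype_card, card_two_pt_eq hZ hcd hab, hcard]
      omega
    obtain ⟨g, hg⟩ := hsurj ⟨f, by
      simp only [Finset.mem_insert, Finset.mem_singleton, not_or]; exact ⟨hfc, hfd⟩⟩
    exact ⟨g, g.2.1, g.2.2, congrArg Subtype.val hg⟩
  constructor
  · refine ⟨fun x y => ?_⟩
    have hx01 : x 0 ≠ x 1 := fun h => by have := x.injective h; exact absurd this (by decide)
    have hx02 : x 0 ≠ x 2 := fun h => by have := x.injective h; exact absurd this (by decide)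
    have hx12 : x 1 ≠ x 2 := fun h => by have := x.injective h; exact absurd this (by decide)
    have hy01 : y 0 ≠ y 1 := fun h => by have := y.injective h; exact absurd this (by decide)
    have hy02 : y 0 ≠ y 2 := fun h => by have := y.injective h; exact absurd this (by decide)
    have hy12 : y 1 ≠ y 2 := fun h => by have := y.injective h; exact absurd this (by decide)
    obtain ⟨g, hg0, hg1⟩ := exists_smul hZ hx01 hy01
    obtain ⟨k, hk0, hk1, hk2⟩ := htr (y 0) (y 1) (g • x 2) (y 2) hy01
      (fun h => hx02 (smul_left_cancel g (hg0.trans h.symm)))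
      (fun h => hx12 (smul_left_cancel g (hg1.trans h.symm))) (Ne.symm hy02) (Ne.symm hy12)
    refine ⟨k * g, ?_⟩
    ext i
    show (k * g) • x i = y i
    rw [mul_smul]
    fin_cases i
    · show k • g • x 0 = y 0
      rw [hg0, hk0]
    · show k • g • x 1 = y 1
      rw [hg1, hk1]
    · show k • g • x 2 = y 2
      rw [hk2]
  · intro t
    rw [Subgroup.eq_bot_iff_forall]
    intro g hg
    have h1 : ∀ i, g • t i = t i := fun i => congrArg (fun f : Fin 3 ↪ Ω => f i) hg
    exact eq_one_of_fix3 hZ (fun h => absurd (t.injective h) (by decide) : t 0 ≠ t 1)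
      (fun h => absurd (t.injective h) (by decide) : t 1 ≠ t 2)
      (fun h => absurd (t.injective h) (by decide) : t 0 ≠ t 2) (h1 0) (h1 1) (h1 2)

/-- Main theorem for abelian kernels. -/
theorem abelian_main {G : Type u} [Group G] {Ω : Type v} [MulAction G Ω]
    [Finite Ω] (hZ : IsZassenhausGroup G Ω) {a : Ω}
    (hcomm : ∀ x ∈ K hZ a, ∀ y ∈ K hZ a, x * y = y * x) :
    (MulAction.IsMultiplyPretransitive G Ω 3 ∧ ∀ t : Fin 3 ↪ Ω, MulAction.stabilizer G t = ⊥) ∨
    ∃ (F : Type) (_ : Field F) (_ : Fintype F), ringChar F ≠ 2 ∧ Fintype.card F + 1 = Nat.card Ω ∧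
      Nonempty (G ≃* Matrix.ProjectiveSpecialLinearGroup (Fin 2) F) := by
  classical
  haveI := finite_group hZ
  obtain ⟨b, hab⟩ := exists_ne_pt hZ a
  have h3 := three_le_card hZ
  have hle : Nat.card Ω - 2 ≤ 2 * Nat.card ↥(stabilizer G a ⊓ stabilizer G b) := by
    rcases Nat.even_or_odd (Nat.card ↥(stabilizer G a ⊓ stabilizer G b)) with he | ho
    · exact card_le_of_even hZ hab he
    · exact card_le_of_abelian_odd _ hZ le_rfl hab ho hcomm
  obtain ⟨j, hj⟩ := card_two_pt_dvd hZ hab
  have hpos : 0 < Nat.card ↥(stabilizer G a ⊓ stabilizer G b) := Nat.card_pos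
  have hj2 : j ≤ 2 := by
    by_contra hc
    have : Nat.card ↥(stabilizer G a ⊓ stabilizer G b) * 3 ≤
      Nat.card ↥(stabilizer G a ⊓ stabilizer G b) * j := Nat.mul_le_mul_left _ (by omega)
    omega
  have hj0 : j ≠ 0 := by
    rintro rfl
    omega
  interval_cases j
  · exact absurd rfl hj0
  · left
    exact sharply_of_card hZ hab (by omega)
  · right
    have hcard : Nat.card Ω = 2 * Nat.card ↥(stabilizer G a ⊓ stabilizer G b) + 2 := by omega
    rcases Nat.even_or_odd (Nat.card ↥(stabilizer G a ⊓ stabilizer G b)) with he | ho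
    · exact psl_of_even hZ hab he hcard
    · haveI := simple_of_abelian_odd hZ hab ho hcomm hcard
      have h := oddInv_of_simple hZ hab ho
      obtain ⟨t, ht1, ht2, hta, htb⟩ := exists_involution_swap hZ hab
      refine psl_of_odd hZ hab ho hcard (h.comm_two_pt hab) ht2 hta htb
        (fun x hx => h.inv a b hab t hta htb x hx) ?_
      intro c hc
      have h4 := h.card_fixedBy ht1 ht2
      have h5 : Nat.card Ω % 2 = 0 := by omega
      rw [h5, Finite.card_eq_zero_iff] at h4
      exact h4.elim ⟨c, hc⟩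

end Cfsg.Agent.H20.Zass
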