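import Cfsg.Agent.H20.ZCoh5
import Cfsg.Agent.H20.ZPsl6
import Cfsg.Agent.H20.TwoComp

/-!
Feit's theorem on Zassenhaus groups.
-/

set_option autoImplicit false
set_option linter.style.haveILetI false

open Cfsg MulAction
open scoped Pointwise commutatorElement

namespace Cfsg.Agent.H20.Zass

universe u v

theorem map_commutator_equiv {A B : Type*} [Group A] [Group B] (f : A ≃* B) :
    (commutator A).map f.toMonoidHom = commutator B := by
  rw [commutator_def, Subgroup.map_commutator, Subgroup.map_top_of_surjective _ f.surjective]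
  rfl

section general

variable {G : Type u} [Group G] {Ω : Type v} [MulAction G Ω] [Finite Ω]

theorem isNilpotent_K (hZ : IsZassenhausGroup G Ω) (a : Ω) : Group.IsNilpotent (K hZ a) := by
  haveI := finite_group hZ
  obtain ⟨b, hab⟩ := exists_ne_pt hZ a
  obtain ⟨g, hg1, hga, hgb⟩ := exists_two_pt hZ hab
  obtain ⟨r, hr, hrd⟩ := Nat.exists_prime_and_dvd
    (show orderOf g ≠ 1 from fun h => hg1 (orderOf_eq_one_iff.mp h))
  have hk : orderOf (g ^ (orderOf g / r)) = r := orderOf_pow_orderOf_div (orderOf_pos g).ne' hrd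
  set k := g ^ (orderOf g / r) with hkdef
  have hkm : k ∈ (stabilizer G a ⊓ stabilizer G b : Subgroup G) :=
    Subgroup.pow_mem (stabilizer G a ⊓ stabilizer G b) (show g ∈ (stabilizer G a ⊓ stabilizer G b : Subgroup G) from ⟨hga, hgb⟩) _
  have hk1 : k ≠ 1 := by
    intro h
    rw [h, orderOf_one] at hk
    exact hr.one_lt.ne hk
  exact Fpf.isNilpotent_of_conj hr (by rw [← hk]; exact pow_orderOf_eq_one k)
    (fun x hx => K_normal_in hZ hkm.1 hx) (fun x hx hc => two_pt_fpf hZ hab k hkm hk1 x hx hc)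

theorem dvd_card_char (hZ : IsZassenhausGroup G Ω) {a b : Ω} (hab : a ≠ b)
    (C : Subgroup (K hZ a)) (hC : C.Characteristic) :
    Nat.card ↥(stabilizer G a ⊓ stabilizer G b) ∣ Nat.card C - 1 := by
  classical
  haveI := finite_group hZ
  have h1 := card_dvd_of_invariant hZ hab (((C.map (K hZ a).subtype : Subgroup G) : Set G) \ {1})
    (by
      rintro s ⟨⟨c, hc, rfl⟩, -⟩
      exact c.2) (fun h => h.2 rfl) (by
      rintro h ha hb s ⟨⟨c, hc, rfl⟩, hs1⟩
      refine ⟨?_, ?_⟩
      · have hK : (K hZ a).map (MulAut.conj h).toMonoidHom = K hZ a := by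
          have := stab_le_normalizer_K hZ a (show h ∈ stabilizer G a from ha)
          ext x
          constructor
          · rintro ⟨y, hy, rfl⟩
            exact K_normal_in hZ ha hy
          · intro hx
            refine ⟨h⁻¹ * x * h, ?_, ?_⟩
            · have h3 : h⁻¹ • a = a := by rw [inv_smul_eq_iff]; exact ha.symm
              have := K_normal_in hZ h3 hx
              rwa [inv_inv] at this
            · show h * (h⁻¹ * x * h) * h⁻¹ = x
              group
        obtain ⟨ψ, hψ⟩ := Fpf.exists_restrict (MulAut.conj h) hK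
        refine ⟨ψ c, ?_, ?_⟩
        · have := (Subgroup.characteristic_iff_map_eq.mp hC) ψ
          rw [← this]
          exact ⟨c, hc, rfl⟩
        · show ((ψ c : K hZ a) : G) = _
          rw [hψ]; rfl
      · intro hc1
        apply hs1
        have h2 : h * (c : G) * h⁻¹ = 1 := hc1
        show (c : G) = 1
        rw [mul_inv_eq_one] at h2
        exact mul_left_cancel (h2.trans (mul_one h).symm))
  have h2 : Nat.card ↥(((C.map (K hZ a).subtype : Subgroup G) : Set G) \ {1}) =
      Nat.card C - 1 := by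
    rw [Nat.card_coe_set_eq, Set.ncard_sdiff_singleton_of_mem (Subgroup.one_mem _),
      ← Nat.card_coe_set_eq]
    congr 1
    exact Subgroup.card_map_of_injective (Subgroup.subtype_injective _)
  rwa [h2] at h1

end general

namespace OddInv

variable {G : Type u} [Group G] {Ω : Type v} [MulAction G Ω] [Finite Ω] (h : OddInv G Ω)
include h

theorem mem_K_of_involution {a : Ω} {t : G} (ht1 : t ≠ 1) (ht2 : t * t = 1) (hta : t • a = a) :
    t ∈ K h.zass a := by
  rw [mem_K]
  exact Or.inr ⟨hta, fun c hc => h.fix_unique ht1 ht2 hta hc⟩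

theorem two_pow {a b : Ω} (hab : a ≠ b) (h2 : 2 ∣ Nat.card (K h.zass a)) :
    ∃ s, Nat.card ↥(stabilizer G a ⊓ stabilizer G b) + 1 = 2 ^ s := by
  classical
  haveI := finite_group h.zass
  let T : Subgroup G :=
    { carrier := {u | u * u = 1 ∧ u • a = a}
      one_mem' := ⟨mul_one 1, one_smul _ _⟩
      mul_mem' := by
        rintro x y ⟨hx, hxa⟩ ⟨hy, hya⟩
        refine ⟨?_, by rw [mul_smul, hya, hxa]⟩
        by_cases hx1 : x = 1
        · rw [hx1, one_mul]; exact hy
        by_cases hy1 : y = 1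
        · rw [hy1, mul_one]; exact hx
        have hc := h.comm_involutions hx1 hx hxa hy1 hy hya
        calc x * y * (x * y) = x * (y * x) * y := by group
          _ = (x * x) * (y * y) := by rw [← hc]; group
          _ = 1 := by rw [hx, hy, one_mul]
      inv_mem' := by
        rintro x ⟨hx, hxa⟩
        refine ⟨?_, ?_⟩
        · rw [← mul_inv_rev, hx, inv_one]
        · rw [inv_smul_eq_iff]; exact hxa.symm }
  have hTp : IsPGroup 2 T := by
    intro x
    refine ⟨1, ?_⟩
    rw [pow_one, pow_two]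
    exact Subtype.ext x.2.1
  obtain ⟨s, hs⟩ := IsPGroup.iff_card.mp hTp
  refine ⟨s, ?_⟩
  rw [← hs]
  have h1 := card_dvd_of_invariant h.zass hab ((T : Set G) \ {1}) (by
    rintro s ⟨hs, hs1⟩
    exact h.mem_K_of_involution hs1 hs.1 hs.2) (fun hc => hc.2 rfl) (by
    rintro g hga hgb s ⟨hs, hs1⟩
    refine ⟨⟨?_, ?_⟩, ?_⟩
    · calc g * s * g⁻¹ * (g * s * g⁻¹) = g * (s * s) * g⁻¹ := by group
        _ = 1 := by rw [hs.1]; group
    · have h3 : g⁻¹ • a = a := by rw [inv_smul_eq_iff]; exact hga.symm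
      rw [mul_smul, mul_smul, h3, hs.2, hga]
    · intro hc
      apply hs1
      have h2 : g * s * g⁻¹ = 1 := hc
      rw [mul_inv_eq_one] at h2
      exact mul_left_cancel (h2.trans (mul_one g).symm))
  have h3 := h.card_involutions_fix_le hab
  have h4 : Nat.card {s : G // (s ≠ 1 ∧ s * s = 1) ∧ s • a = a} =
      Nat.card ↥((T : Set G) \ {1}) := by
    refine Nat.card_congr (Equiv.subtypeEquivRight fun x => ?_)
    constructor
    · rintro ⟨⟨hx1, hx2⟩, hxa⟩
      exact ⟨⟨hx2, hxa⟩, hx1⟩
    · rintro ⟨⟨hx2, hxa⟩, hx1⟩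
      exact ⟨⟨hx1, hx2⟩, hxa⟩
  have h5 : Nat.card ↥((T : Set G) \ {1}) = Nat.card T - 1 := by
    rw [Nat.card_coe_set_eq, Set.ncard_sdiff_singleton_of_mem (Subgroup.one_mem _),
      ← Nat.card_coe_set_eq]
    rfl
  have h6 : 0 < Nat.card ↥((T : Set G) \ {1}) := by
    haveI : Fact (Nat.Prime 2) := ⟨Nat.prime_two⟩
    obtain ⟨t, ht⟩ := exists_prime_orderOf_dvd_card' 2 h2
    have ht2 : (t : G) * t = 1 := by
      have := pow_orderOf_eq_one t
      rw [ht, pow_two] at this
      exact congrArg Subtype.val this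
    have ht1 : (t : G) ≠ 1 := by
      intro hc
      have : t = 1 := Subtype.ext hc
      rw [this, orderOf_one] at ht
      omega
    haveI : Nonempty ↥((T : Set G) \ {1}) := ⟨⟨t, ⟨ht2, K_le h.zass a t.2⟩, ht1⟩⟩
    exact Nat.card_pos
  rw [h4] at h3
  have h7 := Nat.le_of_dvd h6 h1
  have h8 : 0 < Nat.card T := Nat.card_pos
  omega

theorem card_K_mod_four {a : Ω} (hodd : Odd (Nat.card (K h.zass a))) :
    Nat.card (K h.zass a) % 4 = 3 := by
  classical
  haveI := finite_group h.zass
  haveI : Fact (Nat.Prime 2) := ⟨Nat.prime_two⟩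
  obtain ⟨b, hab⟩ := exists_ne_pt h.zass a
  by_contra hne
  have h1 : Nat.card (K h.zass a) % 4 = 1 := by
    rw [Nat.odd_iff] at hodd
    omega
  have h2 := card_K h.zass a
  have h3 := card_G h.zass hab
  have h4 := h.odd a b hab
  obtain ⟨S⟩ := (inferInstance : Nonempty (Sylow 2 G))
  have h5 : ¬ 4 ∣ Nat.card G := by
    rw [h3]
    intro hc
    have h6 : Odd (Nat.card (K h.zass a) * Nat.card ↥(stabilizer G a ⊓ stabilizer G b)) :=
      hodd.mul h4
    have h7 : Nat.Coprime 4 (Nat.card (K h.zass a) *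
        Nat.card ↥(stabilizer G a ⊓ stabilizer G b)) := by
      rw [show (4 : ℕ) = 2 ^ 2 by norm_num]
      exact Nat.Coprime.pow_left 2 (Nat.coprime_two_left.mpr h6)
    have h8 := h7.dvd_of_dvd_mul_right hc
    omega
  have h6 : Nat.card S ∣ 2 := by
    obtain ⟨k, hk⟩ := IsPGroup.iff_card.mp S.2
    have h7 : Nat.card S ∣ Nat.card G := Subgroup.card_subgroup_dvd_card _
    have h8 : k < 2 := by
      by_contra hc
      apply h5
      refine dvd_trans ?_ h7
      rw [show Nat.card S = _ from hk, show (4 : ℕ) = 2 ^ 2 by norm_num]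
      exact pow_dvd_pow 2 (by omega)
    rw [show Nat.card S = _ from hk]
    calc 2 ^ k ∣ 2 ^ 1 := pow_dvd_pow 2 (by omega)
      _ = 2 := pow_one 2
  have hcyc : IsCyclic S := by
    rcases (Nat.dvd_prime Nat.prime_two).mp h6 with h7 | h7
    · haveI : Subsingleton S := (Nat.card_eq_one_iff_unique.mp h7).1
      exact isCyclic_of_subsingleton
    · exact isCyclic_of_prime_card (p := 2) h7
  obtain ⟨P, N, hN, hc⟩ := hasNormalPComplement_of_cyclic S hcyc
  have hNodd : ¬ 2 ∣ Nat.card N := by rw [← hc.index_eq_card]; exact P.not_dvd_index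
  have hNb : N ≠ ⊥ := by
    rintro rfl
    have h7 := hc.card_mul_card
    rw [Subgroup.card_bot, one_mul] at h7
    obtain ⟨k, hk⟩ := IsPGroup.iff_card.mp P.2
    have h8 : Nat.card (K h.zass a) ∣ 2 ^ k := by
      rw [← hk, h7]
      exact Subgroup.card_subgroup_dvd_card _
    have h9 : Nat.Coprime (Nat.card (K h.zass a)) (2 ^ k) :=
      Nat.Coprime.pow_right k (Nat.coprime_two_right.mpr hodd)
    have h10 := Nat.Coprime.eq_one_of_dvd h9 h8
    have h11 := three_le_card h.zass
    omega
  have hZN := normal_isZass h.zass N hNb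
  exact hNodd (even_iff_two_dvd.mp (even_card_G hZN))

theorem feit {a b : Ω} (hab : a ≠ b) :
    Nat.card Ω - 2 ≤ 2 * Nat.card ↥(stabilizer G a ⊓ stabilizer G b) ∨
    (IsPGroup 2 (K h.zass a) ∧ (∃ u v : K h.zass a, u * v ≠ v * u) ∧
      (commutator (K h.zass a)).index ≤
        4 * Nat.card ↥(stabilizer G a ⊓ stabilizer G b) ^ 2 + 1) := by
  classical
  haveI := finite_group h.zass
  haveI : Fintype G := Fintype.ofFinite G
  have hnil := isNilpotent_K h.zass a
  have hchar := dvd_card_char h.zass hab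
  have heodd := h.odd a b hab
  set e := Nat.card ↥(stabilizer G a ⊓ stabilizer G b) with he
  let j : K h.zass a →* stabilizer G a := Subgroup.inclusion (K_le h.zass a)
  have hj : Function.Injective j := Subgroup.inclusion_injective _
  have hjr : (⊤ : Subgroup (K h.zass a)).map j = KB h.zass a := by
    ext x
    constructor
    · rintro ⟨y, -, rfl⟩
      exact (mem_KB h.zass).mpr y.2
    · intro hx
      exact ⟨⟨x, (mem_KB h.zass).mp hx⟩, trivial, rfl⟩
  have hjc : (commutator (K h.zass a)).map j = ⁅KB h.zass a, KB h.zass a⁆ := by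
    rw [commutator_def, Subgroup.map_commutator, hjr]
  have hnilB : Group.IsNilpotent (KB h.zass a) := by
    haveI := hnil
    exact Group.nilpotent_of_mulEquiv (Subgroup.subgroupOfEquivOfLe (K_le h.zass a)).symm
  have hidx : (commutator (K h.zass a)).index * Nat.card ↥⁅KB h.zass a, KB h.zass a⁆ =
      Nat.card (KB h.zass a) := by
    rw [← hjc, Subgroup.card_map_of_injective hj, Subgroup.index_mul_card, card_KB]
  by_cases hlarge : 4 * e ^ 2 + 2 ≤ (commutator (K h.zass a)).index
  · left
    exact h.card_le_of_large hab hnilB _ hidx hlarge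
  by_cases hab' : ∀ u v : K h.zass a, u * v = v * u
  · left
    exact h.card_le_of_abelian hab fun x hx y hy =>
      congrArg Subtype.val (hab' ⟨x, hx⟩ ⟨y, hy⟩)
  push Not at hab'
  by_cases hp2 : IsPGroup 2 (K h.zass a)
  · right
    exact ⟨hp2, hab', by omega⟩
  left
  have hK0 : Nat.card (K h.zass a) ≠ 0 := Nat.card_pos.ne'
  obtain ⟨q, hq, hqd, hq2⟩ : ∃ q : ℕ, q.Prime ∧ q ∣ Nat.card (K h.zass a) ∧ q ≠ 2 := by
    by_contra hc
    push Not at hc
    apply hp2
    have := Nat.eq_prime_pow_of_unique_prime_dvd hK0 (p := 2) (fun {d} hd hdd => hc d hd hdd)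
    exact IsPGroup.of_card this
  rcases nil_cases hnil heodd hchar (fun h2 => h.two_pow hab h2) hq hq2 hqd with h1 | h1 | h1
  · exfalso
    haveI : Fact q.Prime := ⟨hq⟩
    obtain ⟨n, hn⟩ := IsPGroup.iff_card.mp h1
    have hodd : Odd (Nat.card (K h.zass a)) := by
      rw [hn]; exact (hq.odd_of_ne_two hq2).pow
    have h3 := pgroup_large heodd hchar hq hq2 hn (h.card_K_mod_four hodd) hab'
    exact h.false_of_odd_pgroup hab hq hq2 hn h3
  · exact absurd h1 hlarge
  · obtain ⟨Z₀, hZc, hZd, hZcard, hZi⟩ := h1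
    refine h.card_le_of_central hab hnilB (Z₀.map j) ?_ ?_ ?_ ?_ _ hidx hZi
    · rw [← hjr]
      exact Subgroup.map_mono le_top
    · rintro _ ⟨z, hz, rfl⟩ k hk
      rw [← hjr] at hk
      obtain ⟨k', -, rfl⟩ := hk
      rw [← map_mul, ← map_mul, hZc z hz k']
    · rw [← hjc, ← Subgroup.map_inf _ _ _ hj, hZd, Subgroup.map_bot]
    · rw [Subgroup.card_map_of_injective hj, hZcard]

end OddInv

/-- Feit's theorem. -/
theorem feit (n : ℕ) : ∀ {G : Type u} [Group G] {Ω : Type v} [MulAction G Ω]
    [Finite Ω] (hZ : IsZassenhausGroup G Ω) {a b : Ω}, Nat.card G ≤ n → a ≠ b →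
    Odd (Nat.card ↥(stabilizer G a ⊓ stabilizer G b)) →
    Nat.card Ω - 2 ≤ 2 * Nat.card ↥(stabilizer G a ⊓ stabilizer G b) ∨
    (IsPGroup 2 (K hZ a) ∧ (∃ u v : K hZ a, u * v ≠ v * u) ∧
      (commutator (K hZ a)).index ≤
        4 * Nat.card ↥(stabilizer G a ⊓ stabilizer G b) ^ 2 + 1) := by
  classical
  induction n with
  | zero =>
    intro G _ Ω _ _ hZ a b hn
    have := finite_group hZ
    have : 0 < Nat.card G := Nat.card_pos
    omega
  | succ n ih =>
    intro G _ Ω _ _ hZ a b hn hab hodd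
    haveI := finite_group hZ
    haveI : Fintype G := Fintype.ofFinite G
    haveI : Nontrivial G := by
      obtain ⟨g, hg, -⟩ := exists_two_pt hZ hab
      exact ⟨g, 1, hg⟩
    by_cases hs : IsSimpleGroup G
    · exact (oddInv_of_simple hZ hab hodd).feit hab
    · obtain ⟨N, hN1, hN2, hN3⟩ : ∃ N : Subgroup G, N.Normal ∧ N ≠ ⊥ ∧ N ≠ ⊤ := by
        by_contra hc
        push Not at hc
        exact hs ⟨fun N hN => by
          by_cases h : N = ⊥
          · exact Or.inl h
          · exact Or.inr (hc N hN h)⟩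
      have hZN := normal_isZass hZ N hN2
      have h1 : Nat.card N < Nat.card G :=
        lt_of_le_of_ne (Subgroup.card_le_card_group N)
          fun hc => hN3 (Subgroup.card_eq_iff_eq_top N |>.mp hc)
      have h2 := card_two_pt_normal hZ N (a := a) (b := b)
      have h3 : Odd (Nat.card ↥(stabilizer N a ⊓ stabilizer N b)) := Odd.of_dvd_nat hodd h2
      have h5 := Nat.le_of_dvd Nat.card_pos h2
      have hKeq : ∀ x : N, x ∈ K hZN a ↔ (x : G) ∈ K hZ a := by
        intro x
        rw [mem_K, mem_K]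
        constructor
        · rintro (hx | hx)
          · left; rw [hx]; rfl
          · exact Or.inr hx
        · rintro (hx | hx)
          · left; exact Subtype.ext hx
          · exact Or.inr hx
      let ι : K hZN a ≃* K hZ a :=
        { toFun := fun x => ⟨((x : N) : G), (hKeq x).mp x.2⟩
          invFun := fun x => ⟨⟨x, K_le_normal hZ hN2 a x.2⟩, (hKeq _).mpr x.2⟩
          left_inv := fun x => rfl
          right_inv := fun x => rfl
          map_mul' := fun x y => rfl }
      rcases ih hZN (a := a) (b := b) (by omega) hab h3 with h4 | ⟨h6, ⟨u, v, huv⟩, h7⟩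
      · left
        omega
      · right
        refine ⟨h6.of_equiv ι, ⟨ι u, ι v, fun hc => huv ?_⟩, ?_⟩
        · apply ι.injective
          rw [map_mul, map_mul, hc]
        · rw [← map_commutator_equiv ι]
          have h8 : ((commutator (K hZN a)).map ι.toMonoidHom).index =
              (commutator (K hZN a)).index := Subgroup.index_map_equiv _ ι
          rw [h8]
          refine h7.trans ?_
          have := Nat.pow_le_pow_left h5 2
          omega

end Cfsg.Agent.H20.Zass
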