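import Cfsg.Agent.H20.TwoComp
import Cfsg.Agent.H23.RankOne
import Mathlib

/-!
Automorphisms of groups with cyclic Sylow subgroups, and inverting elements.
-/

set_option autoImplicit false
set_option linter.style.haveILetI false

namespace Cfsg.Agent.H20

/-- An automorphism `τ` of a Z-group `D` of odd order which, up to inner automorphisms, inverts the
Sylow subgroups for the primes dividing `|D/D'|`, inverts `D`, which is cyclic. -/
theorem zgroup_inverted {D : Type*} [Group D] [Finite D] [IsZGroup D] (hodd : Odd (Nat.card D))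
    (τ : D ≃* D)
    (h : ∀ q : ℕ, q.Prime → ¬ q ∣ Nat.card (commutator D) → ∀ Q : Sylow q D, ∃ d : D, ∀ x ∈ Q,
      τ x = d * x⁻¹ * d⁻¹) : IsCyclic D ∧ ∀ x : D, τ x = x⁻¹ := by
  classical
  -- the map φ
  have hφ : ∀ x : D, Abelianization.of x * Abelianization.of (τ x) = 1 := by
    let φ : D →* Abelianization D := Abelianization.of * (Abelianization.of.comp τ.toMonoidHom)
    have hker : φ.ker = ⊤ := by
      rw [← Subgroup.card_eq_iff_eq_top]
      apply Nat.dvd_antisymm (Subgroup.card_subgroup_dvd_card _)
      rw [Nat.dvd_iff_prime_pow_dvd_dvd]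
      intro q k hq hk
      haveI : Fact q.Prime := ⟨hq⟩
      let Q : Sylow q D := default
      have hQ : (Q : Subgroup D) ≤ φ.ker := by
        intro x hx
        rw [MonoidHom.mem_ker]
        show Abelianization.of x * Abelianization.of (τ x) = 1
        by_cases hqd : q ∣ Nat.card (commutator D)
        · have hcop := IsZGroup.coprime_commutator_index D
          have hqi : ¬ q ∣ (commutator D).index := fun hc => by
            have := Nat.dvd_gcd hqd hc
            rw [hcop] at this
            exact hq.one_lt.ne' (Nat.dvd_one.mp this)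
          have hx1 : x ∈ commutator D := by
            have h1 : ∃ k : ℕ, orderOf x = q ^ k := by
              obtain ⟨k, hk⟩ := (IsPGroup.iff_orderOf.mp Q.2) ⟨x, hx⟩
              exact ⟨k, by rw [← hk]; exact (Subgroup.orderOf_mk x hx).symm⟩
            obtain ⟨k, hk⟩ := h1
            rw [← QuotientGroup.eq_one_iff]
            have h2 : orderOf (x : D ⧸ commutator D) ∣ q ^ k := by
              rw [← hk]
              exact orderOf_map_dvd (QuotientGroup.mk' (commutator D)) x
            have h3 : orderOf (x : D ⧸ commutator D) ∣ (commutator D).index := by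
              rw [Subgroup.index]
              exact orderOf_dvd_natCard _
            rw [← orderOf_eq_one_iff]
            have h4 : Nat.Coprime (q ^ k) (commutator D).index :=
              Nat.Coprime.pow_left k ((Nat.Prime.coprime_iff_not_dvd hq).mpr hqi)
            exact Nat.dvd_one.mp (h4 ▸ Nat.dvd_gcd h2 h3)
          have h1 : Abelianization.of x = 1 := by
            exact (QuotientGroup.eq_one_iff x).mpr hx1
          have h2 : Abelianization.of (τ x) = 1 := by
            have : Abelianization.of (τ x) = Abelianization.map τ.toMonoidHom (Abelianization.of x) := rfl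
            rw [this, h1, map_one]
          rw [h1, h2, one_mul]
        · obtain ⟨d, hd⟩ := h q hq hqd Q
          rw [hd x hx, map_mul, map_mul, map_inv, map_inv, mul_comm (Abelianization.of d),
            mul_inv_cancel_right, mul_inv_cancel]
      have h5 : Nat.card Q ∣ Nat.card φ.ker := Subgroup.card_dvd_of_le hQ
      rw [Q.card_eq_multiplicity] at h5
      refine dvd_trans ?_ h5
      exact pow_dvd_pow q ((hq.pow_dvd_iff_le_factorization Nat.card_pos.ne').mp hk)
    intro x
    have : x ∈ φ.ker := by rw [hker]; trivial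
    exact this
  have hmem : ∀ x : D, x * τ x ∈ commutator D := by
    intro x
    rw [← QuotientGroup.eq_one_iff]
    exact (map_mul (Abelianization.of (G := D)) x (τ x)).trans (hφ x)
  -- the commutator subgroup is central
  have hcyc := IsZGroup.isCyclic_commutator D
  have hτc : ∀ y ∈ commutator D, τ y ∈ commutator D := by
    intro y hy
    have : (commutator D).map τ.toMonoidHom = commutator D :=
      Subgroup.characteristic_iff_map_eq.mp inferInstance τ
    rw [← this]
    exact ⟨y, hy, rfl⟩
  have hτc' : ∀ y ∈ commutator D, ∃ y' ∈ commutator D, τ y' = y := by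
    intro y hy
    have : (commutator D).map τ.toMonoidHom = commutator D :=
      Subgroup.characteristic_iff_map_eq.mp inferInstance τ
    rw [← this] at hy
    exact hy
  have hcen : commutator D ≤ Subgroup.center D := by
    have key : ∀ x : D, ∀ y ∈ commutator D, x * y = y * x := by
      intro x
      obtain ⟨c, hc⟩ := hcyc.exists_generator
      have hxc : x * c * x⁻¹ ∈ commutator D :=
        Subgroup.Normal.conj_mem inferInstance _ c.2 x
      obtain ⟨m, hm⟩ := Subgroup.mem_zpowers_iff.mp (hc ⟨_, hxc⟩)
      have hm' : (c : D) ^ m = x * c * x⁻¹ := congrArg Subtype.val hm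
      have hall : ∀ y ∈ commutator D, x * y * x⁻¹ = y ^ m := by
        intro y hy
        obtain ⟨k, hk⟩ := Subgroup.mem_zpowers_iff.mp (hc ⟨y, hy⟩)
        have hk' : (c : D) ^ k = y := congrArg Subtype.val hk
        rw [← hk', ← conj_zpow, ← hm', ← zpow_mul, ← zpow_mul, mul_comm]
      have hall2 : ∀ y ∈ commutator D, τ x * y * (τ x)⁻¹ = y ^ m := by
        intro y hy
        obtain ⟨y', hy', rfl⟩ := hτc' y hy
        rw [← map_inv, ← map_mul, ← map_mul, hall y' hy', map_zpow]
      have hab : ∀ y ∈ commutator D, ∀ z ∈ commutator D, y * z = z * y := by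
        intro y hy z hz
        have := hcyc.commGroup.mul_comm (⟨y, hy⟩ : commutator D) ⟨z, hz⟩
        exact congrArg Subtype.val this
      have hsq : ∀ y ∈ commutator D, (x * x) * y = y * (x * x) := by
        intro y hy
        have h1 : x * (τ x * y * (τ x)⁻¹) * x⁻¹ = y := by
          have h2 := hab (x * τ x) (hmem x) y hy
          have h3 : x * (τ x * y * (τ x)⁻¹) * x⁻¹ = (x * τ x) * y * (x * τ x)⁻¹ := by group
          rw [h3, h2]; group
        rw [hall2 y hy, ← hall y hy] at h1
        have h4 : (x * x) * y * (x * x)⁻¹ = y := by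
          calc (x * x) * y * (x * x)⁻¹ = x * (x * y * x⁻¹) * x⁻¹ := by group
            _ = y := h1
        exact mul_inv_eq_iff_eq_mul.mp h4
      intro y hy
      -- x is a power of x*x
      have hox : Odd (orderOf x) := Odd.of_dvd_nat hodd (orderOf_dvd_natCard x)
      obtain ⟨k, hk⟩ := hox
      have hxx : x = (x * x) ^ (k + 1) := by
        rw [← pow_two, ← pow_mul]
        have : 2 * (k + 1) = orderOf x + 1 := by omega
        rw [this, pow_succ, pow_orderOf_eq_one, one_mul]
      rw [hxx]
      exact (Commute.pow_left (show Commute (x * x) y from hsq y hy) (k + 1))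
    intro y hy
    rw [Subgroup.mem_center_iff]
    intro x
    exact key x y hy
  have hcomm : ∀ x y : D, x * y = y * x := by
    haveI := IsZGroup.isCyclic_abelianization (G := D)
    intro x y
    have h9 := MonoidHom.isMulCommutative_of_isCyclic_of_ker_le_center (Abelianization.of (G := D))
      (by
        intro z hz
        apply hcen
        rw [MonoidHom.mem_ker] at hz
        exact (QuotientGroup.eq_one_iff z).mp hz)
    exact h9.is_comm.comm x y
  have hbot : commutator D = ⊥ := by
    rw [commutator_def, Subgroup.commutator_eq_bot_iff_le_centralizer]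
    intro x _
    rw [Subgroup.mem_centralizer_iff]
    intro y _
    exact hcomm y x
  refine ⟨?_, ?_⟩
  · letI : CommGroup D := { mul_comm := hcomm }
    infer_instance
  · intro x
    have := hmem x
    rw [hbot, Subgroup.mem_bot] at this
    exact eq_inv_of_mul_eq_one_right this

/-- An element of order-two action on a cyclic `q`-group, `q` odd: centralises or inverts. -/
theorem cyclic_invert {G : Type*} [Group G] [Finite G] {q : ℕ} [hq : Fact q.Prime] (hq2 : q ≠ 2)
    {Q : Subgroup G} (hQ : IsPGroup q Q) [hcyc : IsCyclic Q] {g : G} (hg : ∀ x ∈ Q, g * x * g⁻¹ ∈ Q)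
    (hg2 : ∀ x ∈ Q, (g * g) * x = x * (g * g)) :
    (∀ x ∈ Q, g * x * g⁻¹ = x) ∨ (∀ x ∈ Q, g * x * g⁻¹ = x⁻¹) := by
  obtain ⟨c, hc⟩ := hcyc.exists_generator
  obtain ⟨m, hm⟩ := Subgroup.mem_zpowers_iff.mp (hc ⟨_, hg c c.2⟩)
  have hm' : (c : G) ^ m = g * c * g⁻¹ := congrArg Subtype.val hm
  have hall : ∀ y ∈ Q, g * y * g⁻¹ = y ^ m := by
    intro y hy
    obtain ⟨k, hk⟩ := Subgroup.mem_zpowers_iff.mp (hc ⟨y, hy⟩)
    have hk' : (c : G) ^ k = y := congrArg Subtype.val hk
    rw [← hk', ← conj_zpow, ← hm', ← zpow_mul, ← zpow_mul, mul_comm]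
  obtain ⟨k, hk⟩ := (IsPGroup.iff_orderOf.mp hQ) c
  have hk' : orderOf (c : G) = q ^ k := by rw [Subgroup.orderOf_coe]; exact hk
  have h1 : (c : G) ^ (m * m - 1) = 1 := by
    have h2 : g * (g * c * g⁻¹) * g⁻¹ = c := by
      have h3 := hg2 c c.2
      have h4 : g * (g * c * g⁻¹) * g⁻¹ = (g * g) * c * (g * g)⁻¹ := by group
      rw [h4, h3]; group
    rw [hall c c.2, hall _ (Q.zpow_mem c.2 m), ← zpow_mul] at h2
    rw [zpow_sub, h2, zpow_one, mul_inv_cancel]
  have h2 : ((q ^ k : ℕ) : ℤ) ∣ (m - 1) * (m + 1) := by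
    rw [← hk']
    have h5 : (m - 1) * (m + 1) = m * m - 1 := by ring
    rw [h5]
    exact orderOf_dvd_iff_zpow_eq_one.mpr h1
  have hqi : Prime (q : ℤ) := Nat.prime_iff_prime_int.mp hq.out
  have hlin : ∀ e : ℤ, ((q ^ k : ℕ) : ℤ) ∣ (m - e) → ∀ x ∈ Q, x ^ m = x ^ e := by
    intro e he x hx
    have h3 : (orderOf x : ℤ) ∣ ((q ^ k : ℕ) : ℤ) := by
      rw [← hk']
      have h4 : orderOf x ∣ orderOf (c : G) := by
        obtain ⟨j, hj⟩ := Subgroup.mem_zpowers_iff.mp (hc ⟨x, hx⟩)
        have hj' : (c : G) ^ j = x := congrArg Subtype.val hj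
        rw [← hj']
        exact orderOf_dvd_of_mem_zpowers (Subgroup.zpow_mem _ (Subgroup.mem_zpowers _) j)
      exact_mod_cast h4
    have h5 := orderOf_dvd_iff_zpow_eq_one.mp (h3.trans he)
    rw [zpow_sub] at h5
    exact mul_inv_eq_one.mp h5
  by_cases hd : (q : ℤ) ∣ m - 1
  · have hnd : ¬ (q : ℤ) ∣ m + 1 := by
      intro hd2
      have h3 : (q : ℤ) ∣ 2 := by
        have h5 : (2 : ℤ) = (m + 1) - (m - 1) := by ring
        rw [h5]
        exact dvd_sub hd2 hd
      have h4 : q ∣ 2 := by exact_mod_cast h3
      exact hq2 ((Nat.prime_dvd_prime_iff_eq hq.out Nat.prime_two).mp h4)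
    left
    have h3 : ((q ^ k : ℕ) : ℤ) ∣ (m - 1) := by
      have hco : IsCoprime ((q ^ k : ℕ) : ℤ) (m + 1) := by
        rw [Nat.cast_pow]
        exact IsCoprime.pow_left ((Prime.coprime_iff_not_dvd hqi).mpr hnd)
      exact hco.dvd_of_dvd_mul_right h2
    intro x hx
    rw [hall x hx, hlin 1 h3 x hx, zpow_one]
  · right
    have h3 : ((q ^ k : ℕ) : ℤ) ∣ (m + 1) := by
      have hco : IsCoprime ((q ^ k : ℕ) : ℤ) (m - 1) := by
        rw [Nat.cast_pow]
        exact IsCoprime.pow_left ((Prime.coprime_iff_not_dvd hqi).mpr hd)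
      exact hco.dvd_of_dvd_mul_left h2
    intro x hx
    rw [hall x hx, hlin (-1) (by convert h3 using 1; ring) x hx, zpow_neg, zpow_one]

end Cfsg.Agent.H20
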