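import Cfsg.Agent.H20.Zass6
import Cfsg.Agent.H4.RegField
import Cfsg.Agent.H4.ProjLine

/-!
Zassenhaus groups with large two-point stabilisers: coordinatisation by a finite field and
recognition of `PSL(2, q)` with `q` odd.
-/

set_option autoImplicit false
set_option linter.style.haveILetI false

open Cfsg MulAction

namespace Cfsg.Agent.H20.Zass

variable {G Ω : Type*} [Group G] [MulAction G Ω] [Finite Ω]

/-- Coordinates on the kernel: additive group of a field, the two-point stabiliser acting by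
multiplications. -/
structure Coords (hZ : IsZassenhausGroup G Ω) (a b : Ω) (F : Type) [Field F] (u : F → G) :
    Prop where
  mem : ∀ k, u k ∈ K hZ a
  add : ∀ k l, u (k + l) = u k * u l
  inj : Function.Injective u
  surj : ∀ x ∈ K hZ a, ∃ k, u k = x
  act : ∀ h ∈ (stabilizer G a ⊓ stabilizer G b : Subgroup G), ∃ s : F, s ≠ 0 ∧
    ∀ k, h * u k * h⁻¹ = u (s * k)

theorem exists_coords (hZ : IsZassenhausGroup G Ω) {a b : Ω} (hab : a ≠ b)
    (hd : Nat.card Ω - 2 ≤ 2 * Nat.card ↥(stabilizer G a ⊓ stabilizer G b))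
    (hcomm : ∀ x ∈ (stabilizer G a ⊓ stabilizer G b : Subgroup G),
      ∀ y ∈ (stabilizer G a ⊓ stabilizer G b : Subgroup G), x * y = y * x)
    {x₀ : G} (hx₀ : x₀ ∈ K hZ a) (hx₀1 : x₀ ≠ 1) :
    ∃ (F : Type) (_ : Field F) (_ : Fintype F) (u : F → G), Coords hZ a b F u ∧ u 1 = x₀ := by
  classical
  haveI := finite_group hZ
  have hKc := (K_elementary hZ hab hd).1
  letI : CommGroup (K hZ a) :=
    { (inferInstance : Group (K hZ a)) with
      mul_comm := fun x y => Subtype.ext (hKc x x.2 y y.2) }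
  let H : Subgroup G := stabilizer G a ⊓ stabilizer G b
  let cj : H → AddMonoid.End (Additive (K hZ a)) := fun h =>
    { toFun := fun x => Additive.ofMul ⟨(h : G) * (x.toMul : G) * (h : G)⁻¹,
        K_normal_in hZ h.2.1 x.toMul.2⟩
      map_zero' := by
        apply Additive.toMul.injective
        apply Subtype.ext
        show (h : G) * ((0 : Additive (K hZ a)).toMul : G) * (h : G)⁻¹ = _
        rw [toMul_zero]
        show (h : G) * 1 * (h : G)⁻¹ = 1
        group
      map_add' := fun x y => by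
        apply Additive.toMul.injective
        apply Subtype.ext
        show (h : G) * (((x + y).toMul : K hZ a) : G) * (h : G)⁻¹ = _
        rw [toMul_add]
        show (h : G) * ((x.toMul : G) * (y.toMul : G)) * (h : G)⁻¹ =
          ((h : G) * (x.toMul : G) * (h : G)⁻¹) * ((h : G) * (y.toMul : G) * (h : G)⁻¹)
        group }
  have hcj : ∀ (h : H) (x : Additive (K hZ a)), (((cj h x).toMul : K hZ a) : G) =
      (h : G) * (x.toMul : G) * (h : G)⁻¹ := fun h x => rfl
  have hcjc : ∀ h k : H, cj h * cj k = cj k * cj h := by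
    intro h k
    ext x
    show (((cj h (cj k x)).toMul : K hZ a) : G) = (((cj k (cj h x)).toMul : K hZ a) : G)
    rw [hcj, hcj, hcj, hcj]
    have := hcomm h h.2 k k.2
    have h2 : (h : G) * ((k : G) * (x.toMul : G) * (k : G)⁻¹) * (h : G)⁻¹ =
      ((h : G) * k) * (x.toMul : G) * ((h : G) * k)⁻¹ := by group
    rw [h2, this]; group
  let R : Subring (AddMonoid.End (Additive (K hZ a))) := Subring.closure (Set.range cj)
  have hRc : ∀ r ∈ R, ∀ s ∈ R, r * s = s * r := by
    haveI := Subring.isMulCommutative_closure (s := Set.range cj) (by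
      rintro _ ⟨h, rfl⟩ _ ⟨k, rfl⟩
      exact hcjc h k)
    intro r hr s hs
    exact setLike_mul_comm hr hs
  have hcjR : ∀ h, cj h ∈ R := fun h => Subring.subset_closure ⟨h, rfl⟩
  let a1 : Additive (K hZ a) := Additive.ofMul ⟨x₀, hx₀⟩
  have ha1 : a1 ≠ 0 := by
    intro hc
    apply hx₀1
    exact congrArg (fun z : Additive (K hZ a) => (z.toMul : G)) hc
  -- a general invariance principle
  have hinvar : ∀ L : AddSubgroup (Additive (K hZ a)), (∀ h, ∀ x ∈ L, cj h x ∈ L) →
      (∃ x ∈ L, x ≠ 0) → ∀ x, x ∈ L := by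
    intro L hL ⟨x, hx, hx0⟩ y
    have h1 : (AddSubgroup.toSubgroup' L).map (K hZ a).subtype = K hZ a := by
      apply invariant_eq hZ hab hd
      · rintro _ ⟨z, -, rfl⟩; exact z.2
      · intro hc
        apply hx0
        have h2 : ((x.toMul : K hZ a) : G) ∈ (AddSubgroup.toSubgroup' L).map (K hZ a).subtype :=
          ⟨x.toMul, hx, rfl⟩
        rw [hc, Subgroup.mem_bot] at h2
        apply Additive.toMul.injective
        exact Subtype.ext h2
      · rintro h ha hb _ ⟨z, hz, rfl⟩
        exact ⟨(cj ⟨h, ha, hb⟩ (Additive.ofMul z)).toMul, hL ⟨h, ha, hb⟩ _ hz, rfl⟩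
    have h2 : ((y.toMul : K hZ a) : G) ∈ (AddSubgroup.toSubgroup' L).map (K hZ a).subtype := by
      rw [h1]; exact y.toMul.2
    obtain ⟨z, hz, hzy⟩ := h2
    have h3 : z = y.toMul := Subtype.ext hzy
    rw [h3] at hz
    exact hz
  obtain ⟨F, hF1, hF2, e, he1, he2⟩ := H4.exists_field_of_regular
    (ι := {r : AddMonoid.End (Additive (K hZ a)) // r ∈ R ∧ r ≠ 0}) (fun i => i.1) a1 ha1
    (fun i j => hRc _ i.2.1 _ j.2.1)
    (by
      intro x hx
      let L : AddSubgroup (Additive (K hZ a)) :=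
        { carrier := {y | ∃ r ∈ R, r a1 = y}
          zero_mem' := ⟨0, R.zero_mem, rfl⟩
          add_mem' := by
            rintro _ _ ⟨r, hr, rfl⟩ ⟨s, hs, rfl⟩
            exact ⟨r + s, R.add_mem hr hs, rfl⟩
          neg_mem' := by
            rintro _ ⟨r, hr, rfl⟩
            exact ⟨-r, R.neg_mem hr, rfl⟩ }
      have h1 := hinvar L (by
        rintro h _ ⟨r, hr, rfl⟩
        exact ⟨cj h * r, R.mul_mem (hcjR h) hr, rfl⟩) ⟨a1, ⟨1, R.one_mem, rfl⟩, ha1⟩ x
      obtain ⟨r, hr, hrx⟩ := h1
      exact ⟨⟨r, hr, fun hc => hx (by rw [← hrx, hc]; rfl)⟩, hrx⟩)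
    (by
      rintro ⟨r, hr, hr0⟩
      show Function.Injective r
      rw [injective_iff_map_eq_zero]
      intro x hx
      by_contra hx0
      apply hr0
      let L : AddSubgroup (Additive (K hZ a)) := AddMonoidHom.ker r
      have h1 := hinvar L (by
        intro h y hy
        show r (cj h y) = 0
        have h2 : r (cj h y) = cj h (r y) := by
          have := hRc r hr (cj h) (hcjR h)
          exact congrArg (fun f : AddMonoid.End (Additive (K hZ a)) => f y) this
        rw [h2, show r y = 0 from hy, map_zero]) ⟨x, hx, hx0⟩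
      ext y
      exact congrArg (fun z : Additive (K hZ a) => (z.toMul : G)) (h1 y))
  refine ⟨F, hF1, hF2, fun k => ((e k).toMul : G), ⟨fun k => (e k).toMul.2, ?_, ?_, ?_, ?_⟩, ?_⟩
  · intro k l
    show (((e (k + l)).toMul : K hZ a) : G) = _
    rw [map_add, toMul_add]; rfl
  · intro k l hkl
    exact e.injective (Additive.toMul.injective (Subtype.ext hkl))
  · intro x hx
    obtain ⟨k, hk⟩ := e.surjective (Additive.ofMul ⟨x, hx⟩)
    exact ⟨k, by
      show (((e k).toMul : K hZ a) : G) = _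
      rw [hk]; rfl⟩
  · intro h hh
    have h0 : cj ⟨h, hh⟩ ≠ 0 := by
      intro hc
      apply hx₀1
      have h1 := congrArg (fun f : AddMonoid.End (Additive (K hZ a)) =>
        ((f a1).toMul : G)) hc
      have h2 : h * x₀ * h⁻¹ = 1 := h1
      rw [mul_inv_eq_one] at h2
      exact mul_left_cancel (h2.trans (mul_one h).symm)
    obtain ⟨s, hs, hs2⟩ := he2 ⟨cj ⟨h, hh⟩, hcjR _, h0⟩
    refine ⟨s, hs, fun k => ?_⟩
    rw [← hcj ⟨h, hh⟩ (e k)]
    show ((cj ⟨h, hh⟩ (e k)).toMul : G) = ((e (s * k)).toMul : G)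
    rw [← hs2 k]
  · show ((e 1).toMul : G) = x₀
    rw [he1]; rfl

end Cfsg.Agent.H20.Zass
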