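import Cfsg.Agent.H20.ZPsl1

/-!
Recognition of `PSL(2, q)` among permutation groups on the projective line.
-/

set_option autoImplicit false
set_option linter.style.haveILetI false

open Cfsg MulAction

namespace Cfsg.Agent.H20.Zass

open Cfsg.Agent.H4 OnePoint

section proj

variable {F : Type*} [Field F] [DecidableEq F]

theorem psl_recognition2 {G : Type*} [Group G] (ρ : G →* Equiv.Perm (OnePoint F))
    (hinj : Function.Injective ρ) (hrange : ∀ g, ρ g ∈ (slPerm F).range)
    (htrans : ∀ a b : OnePoint F, a ≠ b → ∃ g : G, ρ g ∞ = a ∧ ρ g ((0 : F) : OnePoint F) = b)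
    (hdiag : ∀ x : F, x ≠ 0 → ∃ g : G, ρ g ∞ = ∞ ∧
      ∀ k : F, ρ g (k : OnePoint F) = ((x * x * k : F) : OnePoint F)) :
    Nonempty (G ≃* Matrix.ProjectiveSpecialLinearGroup (Fin 2) F) := by
  have heq : ρ.range = (slPerm F).range := by
    apply le_antisymm
    · rintro _ ⟨g, rfl⟩; exact hrange g
    · rintro _ ⟨A, rfl⟩
      have n1 : (∞ : OnePoint F) ≠ ((0 : F) : OnePoint F) := infty_ne_coe _
      obtain ⟨g, h1, h2⟩ := htrans (slPerm F A ∞) (slPerm F A ((0 : F) : OnePoint F))
        (fun h => n1 ((slPerm F A).injective h))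
      obtain ⟨C, hC⟩ := hrange g
      set B := C⁻¹ * A with hB
      have e1 : slPerm F B ∞ = ∞ := by
        rw [hB, map_mul, map_inv, hC, Equiv.Perm.mul_apply, Equiv.Perm.inv_eq_iff_eq, h1]
      have e2 : slPerm F B ((0 : F) : OnePoint F) = ((0 : F) : OnePoint F) := by
        rw [hB, map_mul, map_inv, hC, Equiv.Perm.mul_apply, Equiv.Perm.inv_eq_iff_eq, h2]
      have hdet := B.2
      rw [Matrix.det_fin_two] at hdet
      rw [slPerm_infty] at e1
      have hc : B.1 1 0 = 0 := by
        by_contra hne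
        rw [if_neg hne] at e1
        exact coe_ne_infty _ e1
      rw [slPerm_some, hc] at e2
      have hd : B.1 1 1 ≠ 0 := by
        intro h0; rw [hc, h0] at hdet; simp at hdet
      simp only [mul_zero, zero_add, hd, if_false] at e2
      have hb : B.1 0 1 = 0 := by
        have := OnePoint.coe_injective e2
        rwa [div_eq_zero_iff, or_iff_left hd] at this
      rw [hb, zero_mul, sub_zero] at hdet
      have ha : B.1 0 0 ≠ 0 := by
        intro h0; rw [h0, zero_mul] at hdet; exact zero_ne_one hdet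
      obtain ⟨g', hg1, hg2⟩ := hdiag (B.1 0 0) ha
      have h3 : ρ g' = slPerm F B := by
        ext x
        cases x with
        | infty => rw [hg1, slPerm_infty, if_pos hc]
        | coe k =>
          rw [hg2, slPerm_some, hc, hb, zero_mul, zero_add, if_neg hd]
          congr 1
          rw [add_zero, eq_div_iff hd]
          linear_combination (B.1 0 0 * k) * hdet
      refine ⟨g * g', ?_⟩
      rw [map_mul, h3, hB, ← hC, ← map_mul, mul_inv_cancel_left]
  exact ⟨((MonoidHom.ofInjective hinj).trans (MulEquiv.subgroupCongr heq)).trans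
    (pslEquivRange F).symm⟩

theorem slPerm_inv_mem2 (c l : F) (hl : l ≠ 0) (hcl : -c = l * l) (σ : Equiv.Perm (OnePoint F))
    (h1 : σ ∞ = ((0 : F) : OnePoint F)) (h0 : σ ((0 : F) : OnePoint F) = ∞)
    (h2 : ∀ k : F, k ≠ 0 → σ (k : OnePoint F) = ((c * k⁻¹ : F) : OnePoint F)) :
    σ ∈ (slPerm F).range := by
  refine ⟨mkSL 0 (c * l⁻¹) l⁻¹ 0 (by field_simp; linear_combination hcl), ?_⟩
  have hl' : l⁻¹ ≠ 0 := inv_ne_zero hl
  ext x
  cases x with
  | infty => rw [slPerm_mkSL_infty, h1, if_neg hl', zero_div]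
  | coe k =>
    rw [slPerm_mkSL_some]
    by_cases hk : k = 0
    · rw [hk, h0]; simp
    · rw [h2 k hk, add_zero, if_neg (mul_ne_zero hl' hk)]
      congr 1
      field_simp
      ring

end proj

variable {G Ω : Type*} [Group G] [MulAction G Ω] [Finite Ω]

/-- Recognition of `PSL(2, F)` from coordinates. -/
theorem psl_of_coords (hZ : IsZassenhausGroup G Ω) {a b : Ω} (hab : a ≠ b) {F : Type} [Field F]
    {u : F → G} (hu : Coords hZ a b F u) {t : G} (hta : t • a = b) (htb : t • b = a)
    (hsq : ∀ h ∈ (stabilizer G a ⊓ stabilizer G b : Subgroup G), ∀ s : F,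
      (∀ k, h * u k * h⁻¹ = u (s * k)) → ∃ l, l ≠ 0 ∧ s = l * l)
    (hdiag : ∀ x : F, x ≠ 0 → ∃ h ∈ (stabilizer G a ⊓ stabilizer G b : Subgroup G),
      ∀ k, h * u k * h⁻¹ = u (x * x * k))
    {c l : F} (hl : l ≠ 0) (hcl : -c = l * l)
    (hT : ∀ k : F, k ≠ 0 → t • (u k • b) = u (c * k⁻¹) • b) :
    Nonempty (G ≃* Matrix.ProjectiveSpecialLinearGroup (Fin 2) F) := by
  classical
  have h0 : u 0 = 1 := by
    have := hu.add 0 0
    rw [add_zero] at this
    exact (mul_left_cancel ((mul_one (u 0)).trans this)).symm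
  -- the bijection
  let φ : OnePoint F → Ω := fun x => Option.elim x a (fun k => u k • b)
  have hφi : φ ∞ = a := rfl
  have hφc : ∀ k : F, φ (k : OnePoint F) = u k • b := fun k => rfl
  have hua : ∀ k, u k • a = a := fun k => K_le hZ a (hu.mem k)
  have hune : ∀ k, u k • b ≠ a := by
    intro k hc
    have := hua k
    exact hab (smul_left_cancel (u k) (this.trans hc.symm))
  have hφ : Function.Bijective φ := by
    constructor
    · intro x y hxy
      cases x with
      | infty =>
        cases y with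
        | infty => rfl
        | coe l => exact absurd hxy.symm (hune l)
      | coe k =>
        cases y with
        | infty => exact absurd hxy (hune k)
        | coe l =>
          congr 1
          exact hu.inj (K_inj hZ (Ne.symm hab) (hu.mem k) (hu.mem l) hxy)
    · intro y
      by_cases hy : y = a
      · exact ⟨∞, hy.symm⟩
      · obtain ⟨x, hx, hxy⟩ := exists_K hZ (Ne.symm hab) hy
        obtain ⟨k, rfl⟩ := hu.surj x hx
        exact ⟨(k : OnePoint F), hxy⟩
  let e : OnePoint F ≃ Ω := Equiv.ofBijective φ hφ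
  let ρ : G →* Equiv.Perm (OnePoint F) :=
    (e.symm.permCongrHom.toMonoidHom).comp (MulAction.toPermHom G Ω)
  have hρ : ∀ g x, φ (ρ g x) = g • φ x := by
    intro g x
    show e (e.symm (g • e x)) = g • e x
    rw [Equiv.apply_symm_apply]
  have hρ' : ∀ g x y, g • φ x = φ y → ρ g x = y := by
    intro g x y hxy
    apply hφ.1
    rw [hρ, hxy]
  have hinj : Function.Injective ρ := by
    rw [injective_iff_map_eq_one]
    intro g hg
    apply faithful hZ
    intro y
    obtain ⟨x, rfl⟩ := hφ.2 y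
    rw [← hρ, hg]; rfl
  have hu' : ∀ k, ρ (u k) ∈ (slPerm F).range := by
    intro k
    apply slPerm_trans_mem k
    · exact hρ' _ _ _ (hua k)
    · intro l
      apply hρ'
      rw [hφc, hφc, ← mul_smul, ← hu.add]
  have hh' : ∀ h ∈ (stabilizer G a ⊓ stabilizer G b : Subgroup G), ρ h ∈ (slPerm F).range := by
    intro h hh
    obtain ⟨s, hs0, hs⟩ := hu.act h hh
    obtain ⟨l, hl, rfl⟩ := hsq h hh s hs
    have hhb : h • b = b := hh.2
    apply slPerm_mul_mem l hl
    · exact hρ' _ _ _ hh.1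
    · intro k
      apply hρ'
      rw [hφc, hφc, ← hs k, mul_smul, mul_smul, inv_smul_eq_iff.mpr hhb.symm]
  have ht' : ρ t ∈ (slPerm F).range := by
    apply slPerm_inv_mem2 c l hl hcl
    · apply hρ'
      rw [hφi, hφc, h0, one_smul, hta]
    · apply hρ'
      rw [hφi, hφc, h0, one_smul, htb]
    · intro k hk
      apply hρ'
      rw [hφc, hφc, hT k hk]
  have hB : ∀ g : G, g • a = a → ρ g ∈ (slPerm F).range := by
    intro g hg
    obtain ⟨x, hx, h, hha, hhb, rfl⟩ := exists_mul hZ hab hg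
    obtain ⟨k, rfl⟩ := hu.surj x hx
    rw [map_mul]
    exact mul_mem (hu' k) (hh' h ⟨hha, hhb⟩)
  apply psl_recognition2 ρ hinj
  · intro g
    by_cases hg : g • a = a
    · exact hB g hg
    · obtain ⟨x, hx, hxg⟩ := exists_K hZ (Ne.symm hab) hg
      -- x • b = g • a
      have h1 : (t⁻¹ * x⁻¹ * g) • a = a := by
        rw [mul_smul, mul_smul, ← hxg, inv_smul_smul, inv_smul_eq_iff, hta]
      have h2 : g = x * t * (t⁻¹ * x⁻¹ * g) := by group
      rw [h2, map_mul, map_mul]
      refine mul_mem (mul_mem (hB x (K_le hZ a hx)) ht') (hB _ h1)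
  · intro x y hxy
    obtain ⟨g, hg1, hg2⟩ := exists_smul hZ hab (fun hc => hxy (hφ.1 hc) : φ x ≠ φ y)
    exact ⟨g, hρ' _ _ _ hg1, hρ' _ _ _ (by rw [hφc, h0, one_smul]; exact hg2)⟩
  · intro x hx
    obtain ⟨h, hh, hk⟩ := hdiag x hx
    have hhb : h • b = b := hh.2
    refine ⟨h, hρ' _ _ _ hh.1, fun k => ?_⟩
    apply hρ'
    rw [hφc, hφc, ← hk k, mul_smul, mul_smul, inv_smul_eq_iff.mpr hhb.symm]

end Cfsg.Agent.H20.Zass
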