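import Cfsg.Agent.H20.ZPsl2

/-!
Squares in the coordinatising field.
-/

set_option autoImplicit false
set_option linter.style.haveILetI false
set_option linter.unusedSectionVars false

open Cfsg MulAction

namespace Cfsg.Agent.H20.Zass

variable {G Ω : Type*} [Group G] [MulAction G Ω] [Finite Ω]

namespace Coords

variable {hZ : IsZassenhausGroup G Ω} {a b : Ω} {F : Type} [Field F] {u : F → G}
  (hu : Coords hZ a b F u)
include hu

theorem u_zero : u 0 = 1 := by
  have := hu.add 0 0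
  rw [add_zero] at this
  exact (mul_left_cancel ((mul_one (u 0)).trans this)).symm

theorem u_ne_one {k : F} (hk : k ≠ 0) : u k ≠ 1 := fun hc =>
  hk (hu.inj (hc.trans hu.u_zero.symm))

theorem u_fix (k : F) : u k • a = a := K_le hZ a (hu.mem k)

theorem u_b_ne (hab : a ≠ b) (k : F) : u k • b ≠ a := by
  intro hc
  exact hab (smul_left_cancel (u k) ((hu.u_fix k).trans hc.symm))

theorem u_b_inj (hab : a ≠ b) {k l : F} (h : u k • b = u l • b) : k = l :=
  hu.inj (K_inj hZ (Ne.symm hab) (hu.mem k) (hu.mem l) h)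

theorem exists_u_b (hab : a ≠ b) {c : Ω} (hc : c ≠ a) : ∃ k, u k • b = c := by
  obtain ⟨x, hx, hxc⟩ := exists_K hZ (Ne.symm hab) hc
  obtain ⟨k, rfl⟩ := hu.surj x hx
  exact ⟨k, hxc⟩

theorem card_F : Nat.card F + 1 = Nat.card Ω := by
  rw [← card_K hZ a]
  congr 1
  exact Nat.card_congr (Equiv.ofBijective (fun k => (⟨u k, hu.mem k⟩ : K hZ a))
    ⟨fun k l hkl => hu.inj (congrArg Subtype.val hkl),
      fun x => by obtain ⟨k, hk⟩ := hu.surj x x.2; exact ⟨k, Subtype.ext hk⟩⟩)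

theorem mul_ne_zero' {h : G} {s : F} (hs : ∀ k, h * u k * h⁻¹ = u (s * k)) : s ≠ 0 := by
  rintro rfl
  have h1 := hs 1
  rw [zero_mul, hu.u_zero, mul_inv_eq_one] at h1
  exact hu.u_ne_one one_ne_zero (mul_left_cancel (h1.trans (mul_one h).symm))

omit hu in
omit [Finite Ω] in
theorem act_b {h : G} (hh : h ∈ (stabilizer G a ⊓ stabilizer G b : Subgroup G)) {s : F}
    (hs : ∀ k, h * u k * h⁻¹ = u (s * k)) (k : F) : h • (u k • b) = u (s * k) • b := by
  have hhb : h • b = b := hh.2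
  rw [← hs k, mul_smul, mul_smul, inv_smul_eq_iff.mpr hhb.symm]

omit hu in
omit [MulAction G Ω] [Finite Ω] in
theorem pow_act {h : G} {s : F} (hs : ∀ k, h * u k * h⁻¹ = u (s * k)) (n : ℕ) :
    ∀ k, h ^ n * u k * (h ^ n)⁻¹ = u (s ^ n * k) := by
  induction n with
  | zero => intro k; simp
  | succ n ih =>
    intro k
    have h1 : h ^ (n + 1) * u k * (h ^ (n + 1))⁻¹ = h ^ n * (h * u k * h⁻¹) * (h ^ n)⁻¹ := by
      rw [pow_succ]; group
    rw [h1, hs, ih, pow_succ, mul_assoc]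

theorem pow_card_eq_one [Finite G] {h : G}
    (hh : h ∈ (stabilizer G a ⊓ stabilizer G b : Subgroup G)) {s : F}
    (hs : ∀ k, h * u k * h⁻¹ = u (s * k)) :
    s ^ (Nat.card ↥(stabilizer G a ⊓ stabilizer G b)) = 1 := by
  have h1 := pow_act hs (Nat.card ↥(stabilizer G a ⊓ stabilizer G b)) 1
  have h2 : h ^ (Nat.card ↥(stabilizer G a ⊓ stabilizer G b)) = 1 :=
    congrArg Subtype.val (pow_card_eq_one' (x := (⟨h, hh⟩ : ↥(stabilizer G a ⊓ stabilizer G b))))
  rw [h2] at h1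
  simp only [one_mul, inv_one, mul_one] at h1
  exact (hu.inj h1).symm

theorem ringChar_ne [Fintype F] (hcard : Nat.card Ω =
    2 * Nat.card ↥(stabilizer G a ⊓ stabilizer G b) + 2) : ringChar F ≠ 2 := by
  intro hc
  have h1 := FiniteField.even_card_iff_char_two.mp hc
  have h2 := hu.card_F
  rw [Nat.card_eq_fintype_card] at h2
  omega

theorem square [Fintype F] (hcard : Nat.card Ω =
    2 * Nat.card ↥(stabilizer G a ⊓ stabilizer G b) + 2) {h : G}
    (hh : h ∈ (stabilizer G a ⊓ stabilizer G b : Subgroup G)) {s : F}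
    (hs : ∀ k, h * u k * h⁻¹ = u (s * k)) : ∃ l, l ≠ 0 ∧ s = l * l := by
  haveI := finite_group hZ
  have hs0 := hu.mul_ne_zero' hs
  have h2 := hu.card_F
  rw [Nat.card_eq_fintype_card] at h2
  have h3 : IsSquare s := by
    rw [FiniteField.isSquare_iff (hu.ringChar_ne hcard) hs0]
    have h4 : Fintype.card F / 2 = Nat.card ↥(stabilizer G a ⊓ stabilizer G b) := by omega
    rw [h4]
    exact hu.pow_card_eq_one hh hs
  obtain ⟨l, hl⟩ := h3
  refine ⟨l, ?_, hl⟩
  rintro rfl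
  exact hs0 (by rw [hl, mul_zero])

theorem act_inj (hab : a ≠ b) {h k : G}
    (hh : h ∈ (stabilizer G a ⊓ stabilizer G b : Subgroup G))
    (hk : k ∈ (stabilizer G a ⊓ stabilizer G b : Subgroup G)) {s : F}
    (hs : ∀ l, h * u l * h⁻¹ = u (s * l)) (hs' : ∀ l, k * u l * k⁻¹ = u (s * l)) : h = k := by
  have h1 : (k⁻¹ * h) * u 1 = u 1 * (k⁻¹ * h) := by
    have h2 := (hs 1).trans (hs' 1).symm
    have h3 : h * u 1 = k * u 1 * k⁻¹ * h := by rw [← h2]; group
    rw [mul_assoc, h3]; group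
  have h2 := mem_K_of_commute hZ (hu.mem 1) (hu.u_ne_one one_ne_zero) h1
  have h3 : (k⁻¹ * h) • b = b :=
    (mul_mem (inv_mem hk) hh : k⁻¹ * h ∈ (stabilizer G a ⊓ stabilizer G b : Subgroup G)).2
  have h4 := K_eq_one hZ h2 (Ne.symm hab) h3
  exact (inv_mul_eq_one.mp h4).symm

theorem diag [Fintype F] (hab : a ≠ b) (hcard : Nat.card Ω =
    2 * Nat.card ↥(stabilizer G a ⊓ stabilizer G b) + 2) {x : F} (hx : x ≠ 0) :
    ∃ h ∈ (stabilizer G a ⊓ stabilizer G b : Subgroup G),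
      ∀ k, h * u k * h⁻¹ = u (x * x * k) := by
  classical
  haveI := finite_group hZ
  by_contra hcon
  push Not at hcon
  have hact : ∀ h : ↥(stabilizer G a ⊓ stabilizer G b), ∃ s : F, s ≠ 0 ∧
    ∀ k, (h : G) * u k * (h : G)⁻¹ = u (s * k) := fun h => hu.act h h.2
  choose s hs0 hs using hact
  have hinj : ∀ h k, s h = s k → h = k := by
    intro h k hhk
    exact Subtype.ext (hu.act_inj hab h.2 k.2 (hs h) (by rw [hhk]; exact hs k))
  have hxx : x * x ≠ 0 := mul_ne_zero hx hx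
  let f : ↥(stabilizer G a ⊓ stabilizer G b) × Bool → {k : F // k ≠ 0} := fun p =>
    if p.2 then ⟨x * x * s p.1, mul_ne_zero hxx (hs0 _)⟩ else ⟨s p.1, hs0 _⟩
  have hfinj : Function.Injective f := by
    have key : ∀ h k, s h ≠ x * x * s k := by
      intro h k hc
      obtain ⟨l, hl⟩ := hcon ((h : G) * (k : G)⁻¹) (mul_mem h.2 (inv_mem k.2))
      apply hl
      have h1 : (k : G)⁻¹ * u l * (k : G) = u ((s k)⁻¹ * l) := by
        have h2 := hs k ((s k)⁻¹ * l)
        rw [mul_inv_cancel_left₀ (hs0 k)] at h2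
        rw [← h2]; group
      have h3 : (h : G) * (k : G)⁻¹ * u l * ((h : G) * (k : G)⁻¹)⁻¹ =
          (h : G) * ((k : G)⁻¹ * u l * (k : G)) * (h : G)⁻¹ := by group
      rw [h3, h1, hs h, hc]
      congr 1
      have := hs0 k
      field_simp
    rintro ⟨h, i⟩ ⟨k, j⟩ hhk
    cases i <;> cases j
    · have h1 : s h = s k := congrArg Subtype.val hhk
      rw [hinj h k h1]
    · exact absurd (congrArg Subtype.val hhk : s h = x * x * s k) (key h k)
    · exact absurd (congrArg Subtype.val hhk : x * x * s h = s k).symm (key k h)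
    · have h1 : x * x * s h = x * x * s k := congrArg Subtype.val hhk
      rw [hinj h k (mul_left_cancel₀ hxx h1)]
  have hfsurj : Function.Surjective f := by
    haveI := Fintype.ofFinite ↥(stabilizer G a ⊓ stabilizer G b)
    refine ((Fintype.bijective_iff_injective_and_card f).mpr ⟨hfinj, ?_⟩).2
    rw [Fintype.card_prod, Fintype.card_bool, Fintype.card_subtype_compl, Fintype.card_subtype_eq]
    have h2 := hu.card_F
    rw [Nat.card_eq_fintype_card] at h2
    rw [← Nat.card_eq_fintype_card]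
    omega
  obtain ⟨ν, hν⟩ := FiniteField.exists_nonsquare (hu.ringChar_ne hcard)
  have hν0 : ν ≠ 0 := by rintro rfl; exact hν ⟨0, by ring⟩
  obtain ⟨⟨h, i⟩, hi⟩ := hfsurj ⟨ν, hν0⟩
  obtain ⟨l, -, hl⟩ := hu.square hcard h.2 (hs h)
  cases i
  · apply hν
    have h1 : s h = ν := congrArg Subtype.val hi
    exact ⟨l, by rw [← h1, hl]⟩
  · apply hν
    have h1 : x * x * s h = ν := congrArg Subtype.val hi
    exact ⟨x * l, by rw [← h1, hl]; ring⟩

/-- the permutation of nonzero field elements induced by a swapping element -/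
theorem exists_T (hab : a ≠ b) {t : G} (hta : t • a = b) (htb : t • b = a) :
    ∃ T : F → F, ∀ k, k ≠ 0 → T k ≠ 0 ∧ t • (u k • b) = u (T k) • b := by
  classical
  have h1 : ∀ k : F, ∃ l : F, k ≠ 0 → l ≠ 0 ∧ t • (u k • b) = u l • b := by
    intro k
    by_cases hk : k = 0
    · exact ⟨0, fun hc => absurd hk hc⟩
    · have h2 : t • (u k • b) ≠ a := by
        intro hc
        rw [← htb] at hc
        have h3 := smul_left_cancel t hc
        exact hu.u_ne_one hk (K_eq_one hZ (hu.mem k) (Ne.symm hab) h3)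
      obtain ⟨l, hl⟩ := hu.exists_u_b hab h2
      refine ⟨l, fun _ => ⟨?_, hl.symm⟩⟩
      rintro rfl
      have h5 : t • a = t • (u k • b) := hta.trans (by rw [← hl, hu.u_zero, one_smul])
      exact hu.u_b_ne hab k (smul_left_cancel t h5).symm
  choose T hT using h1
  exact ⟨T, hT⟩

theorem T_mul (hab : a ≠ b) {t : G}
    (hinv : ∀ h ∈ (stabilizer G a ⊓ stabilizer G b : Subgroup G), t * h * t⁻¹ = h⁻¹) {T : F → F}
    (hT : ∀ k, k ≠ 0 → T k ≠ 0 ∧ t • (u k • b) = u (T k) • b) {h : G}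
    (hh : h ∈ (stabilizer G a ⊓ stabilizer G b : Subgroup G)) {s : F}
    (hs : ∀ k, h * u k * h⁻¹ = u (s * k)) {k : F} (hk : k ≠ 0) : T (s * k) = s⁻¹ * T k := by
  have hs0 := hu.mul_ne_zero' hs
  have h1 := (hT (s * k) (mul_ne_zero hs0 hk)).2
  have hs' : ∀ k, h⁻¹ * u k * h⁻¹⁻¹ = u (s⁻¹ * k) := by
    intro l
    have h2 := hs (s⁻¹ * l)
    rw [mul_inv_cancel_left₀ hs0] at h2
    rw [← h2]; group
  have h2 : t * h = h⁻¹ * t := by rw [← hinv h hh]; group
  rw [← act_b hh hs k, ← mul_smul, h2, mul_smul, (hT k hk).2,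
    act_b (inv_mem hh) hs'] at h1
  exact (hu.u_b_inj hab h1).symm

theorem T_T (hab : a ≠ b) {t : G} (ht2 : t * t = 1) {T : F → F}
    (hT : ∀ k, k ≠ 0 → T k ≠ 0 ∧ t • (u k • b) = u (T k) • b) {k : F} (hk : k ≠ 0) :
    T (T k) = k := by
  have h1 := (hT (T k) (hT k hk).1).2
  rw [← (hT k hk).2, ← mul_smul, ht2, one_smul] at h1
  exact (hu.u_b_inj hab h1).symm

end Coords

end Cfsg.Agent.H20.Zass
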