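import Cfsg.Agent.H20.ZPsl3
import Cfsg.Agent.H20.ZChar8

/-!
Zassenhaus groups with `h - 1 = 2e` are `PSL(2, q)`, `q` odd.
-/

set_option autoImplicit false
set_option linter.style.haveILetI false

open Cfsg MulAction

namespace Cfsg.Agent.H20.Zass

variable {G Ω : Type*} [Group G] [MulAction G Ω] [Finite Ω]

/-- The case of an odd two-point stabiliser. -/
theorem psl_of_odd (hZ : IsZassenhausGroup G Ω) {a b : Ω} (hab : a ≠ b)
    (hodd : Odd (Nat.card ↥(stabilizer G a ⊓ stabilizer G b)))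
    (hcard : Nat.card Ω = 2 * Nat.card ↥(stabilizer G a ⊓ stabilizer G b) + 2)
    (hcomm : ∀ x ∈ (stabilizer G a ⊓ stabilizer G b : Subgroup G),
      ∀ y ∈ (stabilizer G a ⊓ stabilizer G b : Subgroup G), x * y = y * x)
    {t : G} (ht2 : t * t = 1) (hta : t • a = b) (htb : t • b = a)
    (hinv : ∀ h ∈ (stabilizer G a ⊓ stabilizer G b : Subgroup G), t * h * t⁻¹ = h⁻¹)
    (hfix : ∀ c : Ω, t • c ≠ c) :
    ∃ (F : Type) (_ : Field F) (_ : Fintype F), ringChar F ≠ 2 ∧ Fintype.card F + 1 = Nat.card Ω ∧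
      Nonempty (G ≃* Matrix.ProjectiveSpecialLinearGroup (Fin 2) F) := by
  classical
  haveI := finite_group hZ
  obtain ⟨x₀, hx₀, hx₀1⟩ : ∃ x ∈ K hZ a, x ≠ 1 := (Subgroup.bot_or_exists_ne_one _).resolve_left
    (K_ne_bot hZ a)
  obtain ⟨F, hF1, hF2, u, hu, -⟩ := exists_coords hZ hab (by omega) hcomm hx₀ hx₀1
  have hchar := hu.ringChar_ne hcard
  refine ⟨F, hF1, hF2, hchar, by rw [← hu.card_F, Nat.card_eq_fintype_card], ?_⟩
  obtain ⟨T, hT⟩ := hu.exists_T hab hta htb
  have hcF := hu.card_F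
  rw [Nat.card_eq_fintype_card] at hcF
  -- squares
  have hTs : ∀ x k : F, x ≠ 0 → k ≠ 0 → T (x * x * k) = (x * x)⁻¹ * T k := by
    intro x k hx hk
    obtain ⟨h, hh, hs⟩ := hu.diag hab hcard hx
    exact hu.T_mul hab hinv hT hh hs hk
  have hneg : ¬ IsSquare (-1 : F) := by
    rw [FiniteField.isSquare_neg_one_iff, not_not]
    obtain ⟨j, hj⟩ := hodd
    omega
  -- c is a nonsquare
  set c := T 1 with hc
  have hc0 : c ≠ 0 := (hT 1 one_ne_zero).1
  have hcsq : ¬ IsSquare c := by
    rintro ⟨y, hy⟩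
    have hy0 : y ≠ 0 := by rintro rfl; exact hc0 (by rw [hy, mul_zero])
    -- y or -y is a square
    have h1 : ∃ z, z ≠ 0 ∧ (z * z) * (z * z) = c := by
      by_cases h2 : IsSquare y
      · obtain ⟨z, hz⟩ := h2
        refine ⟨z, ?_, by rw [← hz, ← hy]⟩
        rintro rfl; exact hy0 (by rw [hz, mul_zero])
      · have h3 : IsSquare (-y) := by
          have h4 := FiniteField.isSquare_iff hchar hy0
          have h5 := FiniteField.isSquare_iff hchar (neg_ne_zero.mpr hy0)
          have h6 := FiniteField.isSquare_iff hchar (a := (-1 : F)) (neg_ne_zero.mpr one_ne_zero)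
          rcases FiniteField.pow_dichotomy hchar hy0 with h7 | h7
          · exact absurd (h4.mpr h7) h2
          · rcases FiniteField.pow_dichotomy hchar (a := (-1 : F))
              (neg_ne_zero.mpr one_ne_zero) with h8 | h8
            · exact absurd (h6.mpr h8) hneg
            · rw [h5, neg_eq_neg_one_mul, mul_pow, h7, h8]; ring
        obtain ⟨z, hz⟩ := h3
        refine ⟨z, ?_, by rw [← hz, hy]; ring⟩
        rintro rfl
        exact hy0 (by rw [mul_zero] at hz; exact neg_eq_zero.mp hz)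
    obtain ⟨z, hz0, hz⟩ := h1
    have h2 := hTs z 1 hz0 one_ne_zero
    rw [mul_one, ← hc, ← hz] at h2
    have h3 : T (z * z) = z * z := by
      rw [h2]; field_simp
    have h4 := (hT (z * z) (mul_ne_zero hz0 hz0)).2
    rw [h3] at h4
    exact hfix _ h4
  obtain ⟨l, hl0, hl⟩ : ∃ l : F, l ≠ 0 ∧ -c = l * l := by
    have h5 := FiniteField.isSquare_iff hchar (neg_ne_zero.mpr hc0)
    have h4 := FiniteField.isSquare_iff hchar hc0
    have h6 := FiniteField.isSquare_iff hchar (a := (-1 : F)) (neg_ne_zero.mpr one_ne_zero)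
    have h3 : IsSquare (-c) := by
      rcases FiniteField.pow_dichotomy hchar hc0 with h7 | h7
      · exact absurd (h4.mpr h7) hcsq
      · rcases FiniteField.pow_dichotomy hchar (a := (-1 : F))
          (neg_ne_zero.mpr one_ne_zero) with h8 | h8
        · exact absurd (h6.mpr h8) hneg
        · rw [h5, neg_eq_neg_one_mul, mul_pow, h7, h8]; ring
    obtain ⟨l, hl⟩ := h3
    exact ⟨l, fun hc' => by rw [hc', mul_zero] at hl; exact hc0 (neg_eq_zero.mp hl), hl⟩
  refine psl_of_coords hZ hab hu hta htb (fun h hh s hs => hu.square hcard hh hs)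
    (fun x hx => hu.diag hab hcard hx) hl0 hl ?_
  intro k hk
  rw [(hT k hk).2]
  congr 2
  by_cases hks : IsSquare k
  · obtain ⟨x, hx⟩ := hks
    have hx0 : x ≠ 0 := by rintro rfl; exact hk (by rw [hx, mul_zero])
    have h1 := hTs x 1 hx0 one_ne_zero
    rw [mul_one, ← hx, ← hc] at h1
    rw [h1, mul_comm]
  · -- k / c is a square
    have h1 : IsSquare (k * c) := by
      have h5 := FiniteField.isSquare_iff hchar (mul_ne_zero hk hc0)
      rcases FiniteField.pow_dichotomy hchar hk with h7 | h7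
      · exact absurd ((FiniteField.isSquare_iff hchar hk).mpr h7) hks
      · rcases FiniteField.pow_dichotomy hchar hc0 with h8 | h8
        · exact absurd ((FiniteField.isSquare_iff hchar hc0).mpr h8) hcsq
        · rw [h5, mul_pow, h7, h8]; ring
    obtain ⟨y, hy⟩ := h1
    have hy0 : y ≠ 0 := by
      rintro rfl
      rw [mul_zero] at hy
      exact mul_ne_zero hk hc0 hy
    have h2 := hTs (y * c⁻¹) c (mul_ne_zero hy0 (inv_ne_zero hc0)) hc0
    have h3 : y * c⁻¹ * (y * c⁻¹) * c = k := by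
      have : y * c⁻¹ * (y * c⁻¹) * c = (y * y) * c⁻¹ := by field_simp
      rw [this, ← hy]; field_simp
    have h4 : T c = 1 := hu.T_T hab ht2 hT one_ne_zero
    rw [h3, h4] at h2
    rw [h2]
    have : y * c⁻¹ * (y * c⁻¹) = (y * y) * c⁻¹ * c⁻¹ := by ring
    rw [this, ← hy]
    field_simp

end Cfsg.Agent.H20.Zass
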