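import Cfsg.Agent.H20.ZPsl4

/-!
Zassenhaus groups with even two-point stabilisers and `h - 1 = 2e` are `PSL(2, q)`.
-/

set_option autoImplicit false
set_option linter.style.haveILetI false

open Cfsg MulAction

namespace Cfsg.Agent.H20.Zass

variable {G Ω : Type*} [Group G] [MulAction G Ω]

/-- If `|Ω| - 2 = 2e` with `e` even then all elements swapping `a` and `b` are conjugate to an
involution of the two-point stabiliser. -/
theorem swap_conj_involution (hZ : IsZassenhausGroup G Ω) [Finite Ω] {a b : Ω} (hab : a ≠ b)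
    (heven : Even (Nat.card ↥(stabilizer G a ⊓ stabilizer G b)))
    (hcard : 2 * Nat.card ↥(stabilizer G a ⊓ stabilizer G b) ≤ Nat.card Ω - 2) :
    ∃ z ∈ (stabilizer G a ⊓ stabilizer G b : Subgroup G), z ≠ 1 ∧ z * z = 1 ∧
      ∀ t : G, t • a = b → t • b = a → ∃ x, x * z * x⁻¹ = t := by
  classical
  haveI := finite_group hZ
  haveI : Fintype G := Fintype.ofFinite G
  haveI : Fintype Ω := Fintype.ofFinite Ω
  haveI : Fact (Nat.Prime 2) := ⟨Nat.prime_two⟩
  obtain ⟨z0, hz0⟩ := exists_prime_orderOf_dvd_card' 2 heven.two_dvd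
  obtain ⟨z, hzm, hz⟩ : ∃ z : G, z ∈ (stabilizer G a ⊓ stabilizer G b) ∧ orderOf z = 2 :=
    ⟨z0, z0.2, by rw [Subgroup.orderOf_coe]; exact hz0⟩
  have hza : z • a = a := hzm.1
  have hzb : z • b = b := hzm.2
  have hz1 : z ≠ 1 := by
    intro h
    rw [h, orderOf_one] at hz
    omega
  have hz2 : z * z = 1 := by
    rw [← pow_two, ← hz]
    exact pow_orderOf_eq_one z
  set H : Subgroup G := stabilizer G a ⊓ stabilizer G b with hH
  -- the points outside {a,b}
  let Y := {c : Ω // c ≠ a ∧ c ≠ b}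
  have hYm : ∀ c : Y, z • (c : Ω) ≠ c := by
    intro c hc
    rcases pair_of_fix hZ hab hz1 hza hzb hc with h | h
    · exact c.2.1 h
    · exact c.2.2 h
  have hexg : ∀ c : Y, ∃ g : G, g • (c : Ω) = a ∧ g • (z • (c : Ω)) = b := fun c =>
    exists_smul hZ (Ne.symm (hYm c)) hab
  choose g hg1 hg2 using hexg
  -- the set S
  let S : Finset G := Finset.univ.filter (fun x : G => (x * z * x⁻¹) • a = b)
  let T : Finset G := Finset.univ.filter (fun x : G => x • a = b ∧ x • b = a)
  have hST : ∀ x ∈ S, x * z * x⁻¹ ∈ T := by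
    intro x hx
    have hx' : (x * z * x⁻¹) • a = b := by simpa [S] using hx
    have h2 : (x * z * x⁻¹) * (x * z * x⁻¹) = 1 := by
      have : (x * z * x⁻¹) * (x * z * x⁻¹) = x * (z * z) * x⁻¹ := by group
      rw [this, hz2]; simp
    simp only [T, Finset.mem_filter, Finset.mem_univ, true_and]
    refine ⟨hx', ?_⟩
    rw [← hx', ← mul_smul, h2, one_smul]
  -- |T| ≤ d
  have hT : T.card ≤ Nat.card H := by
    obtain ⟨s, hsa, hsb⟩ := exists_smul hZ hab (Ne.symm hab)
    have : T.card = Fintype.card {x : G // x • a = b ∧ x • b = a} := by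
      rw [Fintype.card_subtype]
    rw [this, ← Nat.card_eq_fintype_card]
    apply Nat.card_le_card_of_injective (fun x : {x : G // x • a = b ∧ x • b = a} =>
      (⟨s⁻¹ * x, by
        refine ⟨?_, ?_⟩
        · show (s⁻¹ * (x : G)) • a = a
          rw [mul_smul, x.2.1, ← hsa, inv_smul_smul]
        · show (s⁻¹ * (x : G)) • b = b
          rw [mul_smul, x.2.2, ← hsb, inv_smul_smul]⟩ : H))
    intro x y hxy
    exact Subtype.ext (mul_left_cancel (congrArg Subtype.val hxy))
  -- fibres
  have hfib : ∀ t ∈ S.image (fun x => x * z * x⁻¹),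
      (S.filter (fun x => x * z * x⁻¹ = t)).card ≤ 2 * Nat.card H := by
    intro t ht
    obtain ⟨x0, hx0, rfl⟩ := Finset.mem_image.mp ht
    have hN : Nat.card (Subgroup.normalizer (H : Set G)) = 2 * Nat.card H := by
      have h1 := index_two_pt hZ hab
      have h2 := Subgroup.card_mul_index (H.subgroupOf (Subgroup.normalizer (H : Set G)))
      rw [h1] at h2
      rw [← h2, mul_comm]
      congr 1
      exact Nat.card_congr (Subgroup.subgroupOfEquivOfLe Subgroup.le_normalizer).toEquiv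
    rw [← hN]
    have : (S.filter (fun x => x * z * x⁻¹ = x0 * z * x0⁻¹)).card =
        Nat.card {x : G // x ∈ S.filter (fun x => x * z * x⁻¹ = x0 * z * x0⁻¹)} := by
      rw [Nat.card_eq_fintype_card, Fintype.card_coe]
    rw [this]
    apply Nat.card_le_card_of_injective (fun x : {x : G // x ∈ S.filter
      (fun x => x * z * x⁻¹ = x0 * z * x0⁻¹)} => (⟨x0⁻¹ * x, by
        have hx := (Finset.mem_filter.mp x.2).2
        rw [mem_normalizer_two_pt hZ hab]
        have h5 : (x0⁻¹ * (x : G)) * z * (x0⁻¹ * (x : G))⁻¹ = z := by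
          have : (x0⁻¹ * (x : G)) * z * (x0⁻¹ * (x : G))⁻¹ = x0⁻¹ * ((x : G) * z * (x : G)⁻¹) * x0 := by
            group
          rw [this, hx]; group
        exact pair_of_conj hZ hab hz1 hza hzb (by rw [h5, hza]) (by rw [h5, hzb])⟩ :
          Subgroup.normalizer (H : Set G)))
    intro x y hxy
    exact Subtype.ext (mul_left_cancel (congrArg Subtype.val hxy))
  -- lower bound
  have hSge : Nat.card Y * Nat.card H ≤ S.card := by
    rw [← Nat.card_prod]
    have : S.card = Nat.card {x : G // (x * z * x⁻¹) • a = b} := by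
      rw [Nat.card_eq_fintype_card, Fintype.card_subtype]
    rw [this]
    apply Nat.card_le_card_of_injective (fun p : Y × H => (⟨(p.2 : G) * g p.1, by
      have h1 : (p.2 : G) • a = a := p.2.2.1
      have h2 : (p.2 : G) • b = b := p.2.2.2
      have h1' : (p.2 : G)⁻¹ • a = a := inv_smul_eq_iff.mpr h1.symm
      have h3 : (g p.1)⁻¹ • a = p.1 := inv_smul_eq_iff.mpr (hg1 p.1).symm
      rw [mul_inv_rev, mul_smul, mul_smul, mul_smul, mul_smul, h1', h3, hg2, h2]⟩ :
        {x : G // (x * z * x⁻¹) • a = b}))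
    rintro ⟨c, h⟩ ⟨c', h'⟩ heq
    have h1 : (h : G) * g c = (h' : G) * g c' := congrArg Subtype.val heq
    have hc : (c : Ω) = c' := by
      have h2 : ((h : G) * g c) • (c : Ω) = a := by
        rw [mul_smul, hg1]; exact h.2.1
      have h3 : ((h' : G) * g c') • (c' : Ω) = a := by
        rw [mul_smul, hg1]; exact h'.2.1
      rw [← h1] at h3
      exact smul_left_cancel _ (h2.trans h3.symm)
    have hc' : c = c' := Subtype.ext hc
    subst hc'
    exact Prod.ext rfl (Subtype.ext (mul_right_cancel h1))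
  have hY : Nat.card Y = Nat.card Ω - 2 := by
    have h1 : Nat.card Y = Nat.card {c : Ω // c ∉ ({a, b} : Finset Ω)} := by
      refine Nat.card_congr (Equiv.subtypeEquivRight (fun c => ?_))
      simp only [Finset.mem_insert, Finset.mem_singleton, not_or]
    rw [h1, Nat.card_eq_fintype_card, Nat.card_eq_fintype_card, Fintype.card_subtype_compl]
    congr 1
    rw [Fintype.card_coe, Finset.card_pair hab]
  rw [hY] at hSge
  have h1 : S.card ≤ 2 * Nat.card H * (S.image (fun x => x * z * x⁻¹)).card :=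
    Finset.card_le_mul_card_image S _ hfib
  have h2 : Nat.card H ≤ (S.image (fun x => x * z * x⁻¹)).card := by
    have h3 : 2 * Nat.card H * Nat.card H ≤
        2 * Nat.card H * (S.image (fun x => x * z * x⁻¹)).card :=
      (Nat.mul_le_mul_right _ hcard).trans (hSge.trans h1)
    have h4 : 0 < 2 * Nat.card H := by
      have : 0 < Nat.card H := Nat.card_pos
      omega
    exact Nat.le_of_mul_le_mul_left h3 h4
  have h3 : S.image (fun x => x * z * x⁻¹) = T := by
    apply Finset.eq_of_subset_of_card_le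
    · intro t ht
      obtain ⟨x, hx, rfl⟩ := Finset.mem_image.mp ht
      exact hST x hx
    · exact hT.trans h2
  refine ⟨z, hzm, hz1, hz2, fun t hta htb => ?_⟩
  have h4 : t ∈ T := Finset.mem_filter.mpr ⟨Finset.mem_univ _, hta, htb⟩
  rw [← h3] at h4
  obtain ⟨x, -, hx⟩ := Finset.mem_image.mp h4
  exact ⟨x, hx⟩

/-- The structure equation. -/
theorem struct_eq (hZ : IsZassenhausGroup G Ω) [Finite Ω] {a b : Ω} (hab : a ≠ b)
    {F : Type} [Field F] {u : F → G} (hu : Coords hZ a b F u) {t : G} (ht2 : t * t = 1)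
    (hta : t • a = b) (htb : t • b = a)
    (hinv : ∀ h ∈ (stabilizer G a ⊓ stabilizer G b : Subgroup G), t * h * t⁻¹ = h⁻¹) {T : F → F}
    (hT : ∀ k, k ≠ 0 → T k ≠ 0 ∧ t • (u k • b) = u (T k) • b)
    (hTn : ∀ k, k ≠ 0 → T (-k) = - T k) {x v : F} (hx : x ≠ 0) (hv : v ≠ 0) (hxv : x + v ≠ 0) :
    T (x + v) = T x - (T x / x) * T (T x + T v) := by
  have hTT : ∀ k, k ≠ 0 → T (T k) = k := fun k hk => hu.T_T hab ht2 hT hk
  set g := t * u (-(T x)) * t * u x * t with hg
  have hga : g • a = a := by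
    rw [hg]
    simp only [mul_smul]
    have h0 : u (-(T x)) • (u (T x) • b) = b := by
      rw [← mul_smul, ← hu.add, neg_add_cancel, hu.u_zero, one_smul]
    rw [hta, (hT x hx).2, h0, htb]
  obtain ⟨k, hk, h, hha, hhb, hgk⟩ := exists_mul hZ hab hga
  obtain ⟨z, rfl⟩ := hu.surj k hk
  obtain ⟨s, hs0, hs⟩ := hu.act h ⟨hha, hhb⟩
  have hgw : ∀ w, g • (u w • b) = u (z + s * w) • b := by
    intro w
    rw [hgk, mul_smul, Coords.act_b ⟨hha, hhb⟩ hs, ← mul_smul, ← hu.add]
  have hTx := (hT x hx).1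
  have e1 : z = -x := by
    have h1 := hgw 0
    rw [hu.u_zero, one_smul, mul_zero, add_zero, hg] at h1
    simp only [mul_smul] at h1
    rw [htb, hu.u_fix, hta, (hT _ (neg_ne_zero.mpr hTx)).2, hTn _ hTx, hTT x hx] at h1
    exact (hu.u_b_inj hab h1).symm
  have e2 : s * T x = -x := by
    have h1 := hgw (T (-x))
    rw [hg] at h1
    simp only [mul_smul] at h1
    rw [(hT _ (hT _ (neg_ne_zero.mpr hx)).1).2, hTT _ (neg_ne_zero.mpr hx), ← mul_smul (u x),
      ← hu.add, add_neg_cancel, hu.u_zero, one_smul, htb, hu.u_fix, hta] at h1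
    have h2 : u 0 • b = u (z + s * T (-x)) • b := by rw [hu.u_zero, one_smul]; exact h1
    have h3 := hu.u_b_inj hab h2
    rw [e1, hTn x hx] at h3
    linear_combination h3
  have hne : T (x + v) - T x ≠ 0 := by
    intro hc
    have h1 : T (x + v) = T x := sub_eq_zero.mp hc
    have h2 := hTT _ hxv
    rw [h1, hTT x hx] at h2
    exact hv (by linear_combination -h2)
  have e3 : T (T (x + v) - T x) = s * (T x + T v) := by
    have h1 := hgw (T v)
    rw [hg] at h1
    simp only [mul_smul] at h1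
    have hadd : u (-(T x)) • (u (T (x + v)) • b) = u (T (x + v) - T x) • b := by
      rw [← mul_smul, ← hu.add]
      congr 2
      ring
    rw [(hT _ (hT v hv).1).2, hTT v hv, ← mul_smul (u x), ← hu.add, (hT _ hxv).2, hadd,
      (hT _ hne).2] at h1
    have h3 := hu.u_b_inj hab h1
    rw [h3, e1]
    linear_combination -e2
  have hsum : T x + T v ≠ 0 := by
    intro hc
    rw [hc, mul_zero] at e3
    exact (hT _ hne).1 e3
  have e4 := congrArg T e3
  rw [hTT _ hne, hu.T_mul hab hinv hT ⟨hha, hhb⟩ hs hsum] at e4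
  have hs' : s⁻¹ = - (T x / x) := by
    rw [inv_eq_iff_eq_inv, inv_neg, inv_div, eq_neg_iff_add_eq_zero]
    field_simp
    linear_combination e2
  rw [hs'] at e4
  linear_combination e4

/-- The case of an even two-point stabiliser. -/
theorem psl_of_even (hZ : IsZassenhausGroup G Ω) [Finite Ω] {a b : Ω} (hab : a ≠ b)
    (heven : Even (Nat.card ↥(stabilizer G a ⊓ stabilizer G b)))
    (hcard : Nat.card Ω = 2 * Nat.card ↥(stabilizer G a ⊓ stabilizer G b) + 2) :
    ∃ (F : Type) (_ : Field F) (_ : Fintype F), ringChar F ≠ 2 ∧ Fintype.card F + 1 = Nat.card Ω ∧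
      Nonempty (G ≃* Matrix.ProjectiveSpecialLinearGroup (Fin 2) F) := by
  classical
  haveI := finite_group hZ
  obtain ⟨z, hz, hz1, hz2, hconj⟩ := swap_conj_involution hZ hab heven (by omega)
  have hsq : ∀ t : G, t • a = b → t • b = a → t * t = 1 := by
    intro t hta htb
    obtain ⟨x, rfl⟩ := hconj t hta htb
    have : x * z * x⁻¹ * (x * z * x⁻¹) = x * (z * z) * x⁻¹ := by group
    rw [this, hz2]; group
  obtain ⟨t, hta, htb⟩ := exists_smul hZ hab (Ne.symm hab)
  have ht2 := hsq t hta htb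
  have hinv : ∀ h ∈ (stabilizer G a ⊓ stabilizer G b : Subgroup G), t * h * t⁻¹ = h⁻¹ := by
    intro h hh
    have hha : h • a = a := hh.1
    have hhb : h • b = b := hh.2
    have h1 := hsq (t * h) (by rw [mul_smul, hha, hta]) (by rw [mul_smul, hhb, htb])
    have h2 : t⁻¹ = t := inv_eq_of_mul_eq_one_right ht2
    rw [h2, eq_inv_iff_mul_eq_one]
    rw [← h1]; group
  have hcomm : ∀ x ∈ (stabilizer G a ⊓ stabilizer G b : Subgroup G),
      ∀ y ∈ (stabilizer G a ⊓ stabilizer G b : Subgroup G), x * y = y * x := by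
    intro x hx y hy
    have h1 := hinv (x * y) (mul_mem hx hy)
    have h2 : t * (x * y) * t⁻¹ = (t * x * t⁻¹) * (t * y * t⁻¹) := by group
    rw [h2, hinv x hx, hinv y hy, ← mul_inv_rev] at h1
    exact (inv_injective h1).symm
  -- fixed point
  obtain ⟨x, hx⟩ := hconj t hta htb
  have hza : z • a = a := hz.1
  have hc : t • (x • a) = x • a := by
    rw [← hx, mul_smul, mul_smul, inv_smul_smul, hza]
  have hca : x • a ≠ a := fun h => by rw [h, hta] at hc; exact hab hc.symm
  have hcb : x • a ≠ b := fun h => by rw [h, htb] at hc; exact hab hc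
  obtain ⟨x₀, hx₀, hx₀c⟩ := exists_K hZ (Ne.symm hab) hca
  have hx₀1 : x₀ ≠ 1 := by
    rintro rfl
    rw [one_smul] at hx₀c
    exact hcb hx₀c.symm
  obtain ⟨F, hF1, hF2, u, hu, hu1⟩ := exists_coords hZ hab (by omega) hcomm hx₀ hx₀1
  have hchar := hu.ringChar_ne hcard
  refine ⟨F, hF1, hF2, hchar, by rw [← hu.card_F, Nat.card_eq_fintype_card], ?_⟩
  obtain ⟨T, hT⟩ := hu.exists_T hab hta htb
  have hT1 : T 1 = 1 := by
    have h1 := (hT 1 one_ne_zero).2
    rw [hu1, hx₀c, hc, ← hx₀c, ← hu1] at h1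
    exact (hu.u_b_inj hab h1).symm
  -- squares
  have hTs : ∀ x k : F, x ≠ 0 → k ≠ 0 → T (x * x * k) = (x * x)⁻¹ * T k := by
    intro x k hx hk
    obtain ⟨h, hh, hs⟩ := hu.diag hab hcard hx
    exact hu.T_mul hab hinv hT hh hs hk
  -- z acts as -1
  have hzs : ∀ k, z * u k * z⁻¹ = u (-1 * k) := by
    obtain ⟨s, hs0, hs⟩ := hu.act z hz
    have h1 : s = -1 := by
      have h2 := Coords.pow_act hs 2 1
      rw [pow_two, hz2] at h2
      simp only [one_mul, inv_one, mul_one] at h2
      have h3 := hu.inj h2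
      have h4 : (s - 1) * (s + 1) = 0 := by linear_combination -h3
      rcases mul_eq_zero.mp h4 with h5 | h5
      · exfalso
        have h6 : s = 1 := by linear_combination h5
        apply hz1
        exact hu.act_inj hab hz (one_mem _) (s := 1) (by rw [← h6]; exact hs)
          (fun l => by rw [one_mul, inv_one, mul_one, one_mul])
      · linear_combination h5
    rw [← h1]; exact hs
  obtain ⟨i, hi0, hi⟩ : ∃ l : F, l ≠ 0 ∧ -1 = l * l := hu.square hcard hz hzs
  have hTn : ∀ k, k ≠ 0 → T (-k) = - T k := by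
    intro k hk
    have h1 := hu.T_mul hab hinv hT hz hzs hk
    rw [neg_one_mul, inv_neg, inv_one, neg_one_mul] at h1
    exact h1
  obtain ⟨ν, hν⟩ := FiniteField.exists_nonsquare hchar
  have hν0 : ν ≠ 0 := by rintro rfl; exact hν ⟨0, by ring⟩
  set m := T ν with hm
  have hm0 : m ≠ 0 := (hT ν hν0).1
  have h1ν : 1 + ν ≠ 0 := by
    intro hc
    apply hν
    exact ⟨i, by rw [← hi]; linear_combination hc⟩
  have hsqv : ∀ k, k ≠ 0 → IsSquare k → T k = k⁻¹ := by
    rintro k hk ⟨x, hx⟩
    have hx0 : x ≠ 0 := by rintro rfl; exact hk (by rw [hx, mul_zero])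
    have h1 := hTs x 1 hx0 one_ne_zero
    rw [mul_one, hT1, mul_one, ← hx] at h1
    exact h1
  have hnsq : ∀ k, k ≠ 0 → ¬ IsSquare k → T k = m * ν * k⁻¹ := by
    intro k hk hks
    have h1 : IsSquare (k * ν) := by
      have h5 := FiniteField.isSquare_iff hchar (mul_ne_zero hk hν0)
      rcases FiniteField.pow_dichotomy hchar hk with h7 | h7
      · exact absurd ((FiniteField.isSquare_iff hchar hk).mpr h7) hks
      · rcases FiniteField.pow_dichotomy hchar hν0 with h8 | h8
        · exact absurd ((FiniteField.isSquare_iff hchar hν0).mpr h8) hν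
        · rw [h5, mul_pow, h7, h8]; ring
    obtain ⟨y, hy⟩ := h1
    have hy0 : y ≠ 0 := by
      rintro rfl
      rw [mul_zero] at hy
      exact mul_ne_zero hk hν0 hy
    have h2 := hTs (y * ν⁻¹) ν (mul_ne_zero hy0 (inv_ne_zero hν0)) hν0
    have h3 : y * ν⁻¹ * (y * ν⁻¹) * ν = k := by
      have : y * ν⁻¹ * (y * ν⁻¹) * ν = (y * y) * ν⁻¹ := by field_simp
      rw [this, ← hy]; field_simp
    rw [h3] at h2
    rw [h2]
    have : y * ν⁻¹ * (y * ν⁻¹) = (y * y) * ν⁻¹ * ν⁻¹ := by ring
    rw [this, ← hy, ← hm]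
    field_simp
  have hmν : m * ν = 1 := by
    have e1 := struct_eq hZ hab hu ht2 hta htb hinv hT hTn one_ne_zero hν0 h1ν
    have e2 := struct_eq hZ hab hu ht2 hta htb hinv hT hTn hν0 one_ne_zero
      (by rw [add_comm]; exact h1ν)
    rw [hT1, ← hm] at e1 e2
    rw [add_comm ν 1, add_comm m 1] at e2
    rw [e1] at e2
    set W := T (1 + m) with hW
    have hν' : ν⁻¹ * ν = 1 := inv_mul_cancel₀ hν0
    have h2 : (1 - W) * ν = m * (ν - W) := by linear_combination ν * e2 - m * W * hν'
    have hi' : (1 + ν)⁻¹ * (1 + ν) = 1 := inv_mul_cancel₀ h1ν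
    by_cases hc : IsSquare (1 + ν)
    · rw [hsqv _ h1ν hc] at e1
      have h1 : (1 - W) * (1 + ν) = 1 := by linear_combination hi' - (1 + ν) * e1
      have h3 : ν * (m * ν - 1) = 0 := by
        linear_combination (ν - m) * h1 - (1 + ν) * h2
      have h4 := (mul_eq_zero.mp h3).resolve_left hν0
      linear_combination h4
    · rw [hnsq _ h1ν hc] at e1
      have h1 : (1 - W) * (1 + ν) = m * ν := by
        linear_combination m * ν * hi' - (1 + ν) * e1
      have h3 : m * (m * ν - 1) = 0 := by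
        linear_combination (ν - m) * h1 - (1 + ν) * h2
      have h4 := (mul_eq_zero.mp h3).resolve_left hm0
      linear_combination h4
  refine psl_of_coords hZ hab hu hta htb (fun h hh s hs => hu.square hcard hh hs)
    (fun x hx => hu.diag hab hcard hx) (c := 1) hi0 (by rw [← hi]) ?_
  intro k hk
  rw [(hT k hk).2, one_mul]
  congr 2
  by_cases hks : IsSquare k
  · exact hsqv k hk hks
  · rw [hnsq k hk hks, hmν, one_mul]

end Cfsg.Agent.H20.Zass
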