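import Cfsg.Agent.H20.ZSharp4

/-!
Simple Zassenhaus groups with two-point stabiliser of even order.
-/

set_option autoImplicit false
set_option linter.style.haveILetI false

open Cfsg MulAction
open scoped Pointwise commutatorElement

namespace Cfsg.Agent.H20.Zass

universe u v

variable {G : Type u} [Group G] [Finite G] {Ω : Type v} [MulAction G Ω] [Finite Ω]
  (hZ : IsZassenhausGroup G Ω)
include hZ

theorem card_of_simple_even [IsSimpleGroup G] {a b : Ω} (hab : a ≠ b)
    (heven : Even (Nat.card ↥(stabilizer G a ⊓ stabilizer G b))) :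
    Nat.card Ω = 2 * Nat.card ↥(stabilizer G a ⊓ stabilizer G b) + 2 := by
  have h3 := three_le_card hZ
  have hle := card_le_of_even hZ hab heven
  obtain ⟨j, hj⟩ := card_two_pt_dvd hZ hab
  have hpos : 0 < Nat.card ↥(stabilizer G a ⊓ stabilizer G b) := Nat.card_pos
  have hj2 : j ≤ 2 := by
    by_contra hc
    have : Nat.card ↥(stabilizer G a ⊓ stabilizer G b) * 3 ≤
      Nat.card ↥(stabilizer G a ⊓ stabilizer G b) * j := Nat.mul_le_mul_left _ (by omega)
    omega
  interval_cases j
  · omega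
  · exact (not_simple_of_sharp hZ hab (by omega) heven).elim
  · omega

theorem even_struct {a b : Ω} (hab : a ≠ b)
    (heven : Even (Nat.card ↥(stabilizer G a ⊓ stabilizer G b)))
    (hcard : Nat.card Ω = 2 * Nat.card ↥(stabilizer G a ⊓ stabilizer G b) + 2) :
    (∀ t : G, t • a = b → t • b = a → t * t = 1 ∧
      ∀ h ∈ (stabilizer G a ⊓ stabilizer G b : Subgroup G), t * h * t⁻¹ = h⁻¹) ∧
    IsCyclic ↥(stabilizer G a ⊓ stabilizer G b) := by
  classical
  obtain ⟨z, hz, hz1, hz2, hconj⟩ := swap_conj_involution hZ hab heven (by omega)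
  have hsq : ∀ t : G, t • a = b → t • b = a → t * t = 1 := by
    intro t hta htb
    obtain ⟨x, rfl⟩ := hconj t hta htb
    have : x * z * x⁻¹ * (x * z * x⁻¹) = x * (z * z) * x⁻¹ := by group
    rw [this, hz2]; group
  have hinv' : ∀ t : G, t • a = b → t • b = a →
      ∀ h ∈ (stabilizer G a ⊓ stabilizer G b : Subgroup G), t * h * t⁻¹ = h⁻¹ := by
    intro t hta htb h hh
    have ht2 := hsq t hta htb
    have hha : h • a = a := hh.1
    have hhb : h • b = b := hh.2
    have h1 := hsq (t * h) (by rw [mul_smul, hha, hta]) (by rw [mul_smul, hhb, htb])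
    have h2 : t⁻¹ = t := inv_eq_of_mul_eq_one_right ht2
    rw [h2, eq_inv_iff_mul_eq_one]
    rw [← h1]; group
  refine ⟨fun t hta htb => ⟨hsq t hta htb, hinv' t hta htb⟩, ?_⟩
  obtain ⟨t, hta, htb⟩ := exists_smul hZ hab (Ne.symm hab)
  have hinv := hinv' t hta htb
  have hcomm : ∀ x ∈ (stabilizer G a ⊓ stabilizer G b : Subgroup G),
      ∀ y ∈ (stabilizer G a ⊓ stabilizer G b : Subgroup G), x * y = y * x := by
    intro x hx y hy
    have h1 := hinv (x * y) (mul_mem hx hy)
    have h2 : t * (x * y) * t⁻¹ = (t * x * t⁻¹) * (t * y * t⁻¹) := by group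
    rw [h2, hinv x hx, hinv y hy, ← mul_inv_rev] at h1
    exact (inv_injective h1).symm
  obtain ⟨⟨x₀, hx₀⟩, hx₀1'⟩ := Subgroup.ne_bot_iff_exists_ne_one.mp (K_ne_bot hZ a)
  have hx₀1 : x₀ ≠ 1 := fun hc => hx₀1' (Subtype.ext hc)
  obtain ⟨F, _, _, u, hu, -⟩ := exists_coords hZ hab (by omega) hcomm hx₀ hx₀1
  choose s hs0 hs using fun h : ↥(stabilizer G a ⊓ stabilizer G b) => hu.act h h.2
  have huniq : ∀ (h : G) (s s' : F), (∀ k, h * u k * h⁻¹ = u (s * k)) →
      (∀ k, h * u k * h⁻¹ = u (s' * k)) → s = s' := by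
    intro h s s' h1 h2
    have h3 := (h1 1).symm.trans (h2 1)
    have h4 := hu.inj h3
    rwa [mul_one, mul_one] at h4
  let f : ↥(stabilizer G a ⊓ stabilizer G b) →* F :=
    { toFun := s
      map_one' := huniq 1 _ _ (hs 1) (fun k => by rw [one_mul, one_mul, inv_one, mul_one])
      map_mul' := fun x y => huniq (x * y) _ _ (hs (x * y)) (fun k => by
        have h1 := hs y k
        have h2 := hs x (s y * k)
        rw [← h1] at h2
        rw [show s x * s y * k = s x * (s y * k) from mul_assoc _ _ _, ← h2]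
        group) }
  have hf : Function.Injective f := by
    intro x y hxy
    have h1 : s x = s y := hxy
    apply Subtype.ext
    have h2 := hs y
    rw [← h1] at h2
    exact hu.act_inj hab x.2 y.2 (hs x) h2
  exact isCyclic_of_injective_ringHom f hf

end Cfsg.Agent.H20.Zass
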