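import Cfsg.Agent.H20.ZS5
import Cfsg.Agent.H20.ZPsl6
import Cfsg.Agent.H20.ZSharp5

/-!
Sharply triply transitive Zassenhaus groups of even type, and the classification of the simple
Zassenhaus groups.
-/

set_option autoImplicit false
set_option linter.style.haveILetI false

open Cfsg MulAction

namespace Cfsg.Agent.H20.Zass

universe u v

variable {G : Type u} {Ω : Type v} [Group G] [MulAction G Ω] [Finite Ω]

theorem psl_of_sharp_odd (hZ : IsZassenhausGroup G Ω) {a b : Ω} (hab : a ≠ b)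
    (hodd : Odd (Nat.card ↥(stabilizer G a ⊓ stabilizer G b)))
    (hcard : Nat.card Ω = Nat.card ↥(stabilizer G a ⊓ stabilizer G b) + 2)
    (hcomm : ∀ x ∈ (stabilizer G a ⊓ stabilizer G b : Subgroup G),
      ∀ y ∈ (stabilizer G a ⊓ stabilizer G b : Subgroup G), x * y = y * x)
    {t : G} (hta : t • a = b) (htb : t • b = a)
    (hinv : ∀ h ∈ (stabilizer G a ⊓ stabilizer G b : Subgroup G), t * h * t⁻¹ = h⁻¹) :
    ∃ (F : Type) (_ : Field F) (_ : Fintype F), ringChar F = 2 ∧ Fintype.card F + 1 = Nat.card Ω ∧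
      Nonempty (G ≃* Matrix.ProjectiveSpecialLinearGroup (Fin 2) F) := by
  classical
  haveI := finite_group hZ
  obtain ⟨x₀, hx₀, hx₀1⟩ : ∃ x ∈ K hZ a, x ≠ 1 := (Subgroup.bot_or_exists_ne_one _).resolve_left
    (K_ne_bot hZ a)
  obtain ⟨F, hF1, hF2, u, hu, -⟩ := exists_coords hZ hab (by omega) hcomm hx₀ hx₀1
  have hcF := hu.card_F
  rw [Nat.card_eq_fintype_card] at hcF
  have hchar : ringChar F = 2 := by
    apply FiniteField.even_card_iff_char_two.mpr
    obtain ⟨k, hk⟩ := hodd
    omega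
  haveI : CharP F 2 := by rw [← hchar]; exact ringChar.charP F
  refine ⟨F, hF1, hF2, hchar, hcF, ?_⟩
  -- the action is by all scalars
  choose s hs0 hs using fun h : ↥(stabilizer G a ⊓ stabilizer G b) => hu.act h h.2
  have hinj : Function.Injective (fun h => (⟨s h, hs0 h⟩ : {x : F // x ≠ 0})) := by
    intro h k hhk
    have h1 : s h = s k := congrArg Subtype.val hhk
    exact Subtype.ext (hu.act_inj hab h.2 k.2 (hs h) (by rw [h1]; exact hs k))
  have hsurj : Function.Surjective (fun h => (⟨s h, hs0 h⟩ : {x : F // x ≠ 0})) := by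
    haveI := Fintype.ofFinite ↥(stabilizer G a ⊓ stabilizer G b)
    refine ((Fintype.bijective_iff_injective_and_card _).mpr ⟨hinj, ?_⟩).2
    rw [Fintype.card_subtype_compl, Fintype.card_subtype_eq, ← Nat.card_eq_fintype_card]
    omega
  have hscal : ∀ x : F, x ≠ 0 → ∃ h ∈ (stabilizer G a ⊓ stabilizer G b : Subgroup G),
      ∀ k, h * u k * h⁻¹ = u (x * k) := by
    intro x hx
    obtain ⟨h, hh⟩ := hsurj ⟨x, hx⟩
    have h1 : s h = x := congrArg Subtype.val hh
    exact ⟨h, h.2, by rw [← h1]; exact hs h⟩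
  have hsq : ∀ x : F, x ≠ 0 → ∃ l, l ≠ 0 ∧ x = l * l := by
    intro x hx
    obtain ⟨l, hl⟩ := FiniteField.isSquare_of_char_two hchar x
    refine ⟨l, ?_, hl⟩
    rintro rfl
    exact hx (by rw [hl, mul_zero])
  obtain ⟨T, hT⟩ := hu.exists_T hab hta htb
  have hTk : ∀ k : F, k ≠ 0 → T k = T 1 * k⁻¹ := by
    intro k hk
    obtain ⟨h, hh, hs⟩ := hscal k hk
    have h1 := hu.T_mul hab hinv hT hh hs one_ne_zero
    rw [mul_one] at h1
    rw [h1, mul_comm]
  obtain ⟨l, hl, hl2⟩ := hsq (T 1) (hT 1 one_ne_zero).1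
  refine psl_of_coords hZ hab hu hta htb ?_ ?_ (c := T 1) hl ?_ ?_
  · intro h _ s hs
    exact hsq s (hu.mul_ne_zero' hs)
  · intro x hx
    exact hscal (x * x) (mul_ne_zero hx hx)
  · rw [CharTwo.neg_eq, hl2]
  · intro k hk
    rw [(hT k hk).2, hTk k hk]

/-- **Classification of simple Zassenhaus groups**, order-level form. -/
theorem simple_classification [IsSimpleGroup G] (hZ : IsZassenhausGroup G Ω) :
    (∃ (F : Type) (_ : Field F) (_ : Fintype F), Fintype.card F + 1 = Nat.card Ω ∧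
      Nonempty (G ≃* Matrix.ProjectiveSpecialLinearGroup (Fin 2) F)) ∨
    ∃ a : Ω, IsPGroup 2 (K hZ a) ∧ ∃ u v : K hZ a, u * v ≠ v * u := by
  haveI := finite_group hZ
  obtain ⟨a, b, hab⟩ := exists_ne_pts hZ
  rcases Nat.even_or_odd (Nat.card ↥(stabilizer G a ⊓ stabilizer G b)) with heven | hodd
  · left
    obtain ⟨F, i1, i2, -, hF, hiso⟩ := psl_of_even hZ hab heven (card_of_simple_even hZ hab heven)
    exact ⟨F, i1, i2, hF, hiso⟩
  · have h := oddInv_of_simple hZ hab hodd
    rcases feit _ hZ le_rfl hab hodd with h4 | ⟨h4, h5, -⟩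
    · left
      obtain ⟨t, ht1, ht2, hta, htb⟩ := exists_involution_swap hZ hab
      have h3 := three_le_card hZ
      obtain ⟨m, hm⟩ := card_two_pt_dvd hZ hab
      have hpos : 0 < Nat.card ↥(stabilizer G a ⊓ stabilizer G b) := Nat.card_pos
      have hm12 : m = 1 ∨ m = 2 := by
        rw [hm] at h4
        have h6 : m ≤ 2 := by
          rw [mul_comm] at h4
          exact Nat.le_of_mul_le_mul_right h4 hpos
        have h7 : m ≠ 0 := by
          rintro rfl
          rw [mul_zero] at hm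
          omega
        omega
      rcases hm12 with rfl | rfl
      · obtain ⟨F, i1, i2, -, hF, hiso⟩ := psl_of_sharp_odd hZ hab hodd (by omega)
          (h.comm_two_pt hab) hta htb (h.inv a b hab t hta htb)
        exact ⟨F, i1, i2, hF, hiso⟩
      · have hev : Nat.card Ω = 2 * Nat.card ↥(stabilizer G a ⊓ stabilizer G b) + 2 := by omega
        obtain ⟨F, i1, i2, -, hF, hiso⟩ := psl_of_odd hZ hab hodd hev
          (h.comm_two_pt hab) ht2 hta htb (h.inv a b hab t hta htb) (by
            intro c hc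
            have h6 := h.card_fixedBy ht1 ht2
            have h7 : Nat.card Ω % 2 = 0 := by omega
            rw [h7] at h6
            haveI : Nonempty (fixedBy Ω t) := ⟨⟨c, hc⟩⟩
            have h8 : 0 < Nat.card (fixedBy Ω t) := Nat.card_pos
            omega)
        exact ⟨F, i1, i2, hF, hiso⟩
    · right
      exact ⟨a, h4, h5⟩

end Cfsg.Agent.H20.Zass
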