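import Cfsg.Agent.H20.ZCoh6
import Cfsg.Agent.H20.SZ8

/-!
Zassenhaus groups whose one-point kernel is a nonabelian 2-group: group theory.
-/

set_option autoImplicit false
set_option linter.style.haveILetI false

open Cfsg MulAction
open scoped Pointwise ComplexConjugate commutatorElement

namespace Cfsg.Agent.H20.Zass

open Cfsg.Agent.H3

universe u v

variable {G : Type u} [Group G] {Ω : Type v} [MulAction G Ω]

/-- Conjugation by the point stabiliser on the kernel. -/
noncomputable def conjK (hZ : IsZassenhausGroup G Ω) [Finite Ω] (a : Ω) :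
    stabilizer G a →* MulAut (K hZ a) where
  toFun g :=
    { toFun := fun x => ⟨g * x * (g : G)⁻¹, K_normal_in hZ g.2 x.2⟩
      invFun := fun x => ⟨(g : G)⁻¹ * x * g, by
        have := K_normal_in hZ (a := a) (g := (g : G)⁻¹) (inv_mem g.2) x.2
        rwa [inv_inv] at this⟩
      left_inv := fun x => Subtype.ext (by
        show (g : G)⁻¹ * (g * x * (g : G)⁻¹) * g = x
        group)
      right_inv := fun x => Subtype.ext (by
        show (g : G) * ((g : G)⁻¹ * x * g) * (g : G)⁻¹ = x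
        group)
      map_mul' := fun x y => Subtype.ext (by
        show (g : G) * (x * y) * (g : G)⁻¹ = (g * x * (g : G)⁻¹) * (g * y * (g : G)⁻¹)
        group) }
  map_one' := by
    ext x
    show ((1 : G) * x * (1 : G)⁻¹ : G) = x
    simp
  map_mul' g g' := by
    ext x
    show ((g * g' : G) * x * (g * g' : G)⁻¹ : G) = g * (g' * x * (g' : G)⁻¹) * (g : G)⁻¹
    group

theorem conjK_apply (hZ : IsZassenhausGroup G Ω) [Finite Ω] (a : Ω) (g : stabilizer G a)
    (x : K hZ a) : ((conjK hZ a g x : K hZ a) : G) = g * x * (g : G)⁻¹ := rfl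

namespace OddInv

variable (h : OddInv G Ω) [Finite Ω]
include h

theorem exists_isSz {a b : Ω} (hab : a ≠ b) (h2 : IsPGroup 2 (K h.zass a)) :
    ∃ (F : Type) (_ : Field F) (ρ : Fˣ →* MulAut (K h.zass a)) (e : F → K h.zass a),
      SZ.IsSz ρ e ∧ Nat.card ↥(stabilizer G a ⊓ stabilizer G b) + 1 = Nat.card F ∧
      (∀ u, ∃ g : G, g • a = a ∧ g • b = b ∧ ∀ x : K h.zass a, (ρ u x : G) = g * x * g⁻¹) := by
  classical
  haveI := finite_group h.zass
  haveI : Fact (Nat.Prime 2) := ⟨Nat.prime_two⟩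
  -- an involution in `K`
  have hKne : K h.zass a ≠ ⊥ := K_ne_bot h.zass a
  obtain ⟨z, hz⟩ : ∃ z : K h.zass a, orderOf z = 2 := by
    apply exists_prime_orderOf_dvd_card' 2
    obtain ⟨n, hn⟩ := IsPGroup.iff_card.mp h2
    rw [hn]
    apply dvd_pow_self
    rintro rfl
    rw [pow_zero] at hn
    exact hKne (Subgroup.card_eq_one.mp hn)
  have hz1 : z ≠ 1 := by
    rintro rfl
    rw [orderOf_one] at hz; omega
  have hz2 : z * z = 1 := by
    have := pow_orderOf_eq_one z
    rwa [hz, pow_two] at this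
  have hK1 : ∀ x : K h.zass a, x ≠ 1 → (x : G) ≠ 1 := fun x hx hc => hx (Subtype.ext hc)
  have hK2 : ∀ x : K h.zass a, x * x = 1 → (x : G) * x = 1 := fun x hx => congrArg Subtype.val hx
  let E : Subgroup (stabilizer G a) :=
    (stabilizer G a ⊓ stabilizer G b).subgroupOf (stabilizer G a)
  have hE : ∀ g : stabilizer G a, g ∈ E ↔ (g : G) • b = b := by
    intro g
    rw [Subgroup.mem_subgroupOf]
    exact ⟨fun h => h.2, fun h => ⟨g.2, h⟩⟩
  have hEcard : Nat.card E = Nat.card ↥(stabilizer G a ⊓ stabilizer G b) :=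
    Nat.card_congr (Subgroup.subgroupOfEquivOfLe inf_le_left).toEquiv
  -- injectivity on E
  have hfix : ∀ g ∈ E, ∀ x : K h.zass a, x ≠ 1 → conjK h.zass a g x = x → g = 1 := by
    intro g hg x hx hgx
    by_contra hg1
    apply hx
    apply Subtype.ext
    refine two_pt_fpf h.zass hab g ⟨g.2, (hE g).mp hg⟩ (fun hc => hg1 (Subtype.ext hc)) x x.2 ?_
    have h3 := congrArg Subtype.val hgx
    rw [conjK_apply] at h3
    rw [mul_inv_eq_iff_eq_mul] at h3
    exact h3
  obtain ⟨F, instF, ρ, e, hsz, hρ1, hρ2⟩ := SZ.exists_isSz h2 (E.map (conjK h.zass a))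
    (by
      rintro _ ⟨x, hx, rfl⟩ _ ⟨y, hy, rfl⟩
      rw [← map_mul, ← map_mul]
      congr 1
      exact Subtype.ext (h.comm_two_pt hab x ⟨x.2, (hE x).mp hx⟩ y ⟨y.2, (hE y).mp hy⟩))
    (by
      intro x y hx hx2 hy hy2
      obtain ⟨k, hka, hkb, hk⟩ := h.conj_involutions_two_pt hab (hK1 x hx) (hK2 x hx2)
        (K_le h.zass a x.2) (hK1 y hy) (hK2 y hy2) (K_le h.zass a y.2)
      refine ⟨⟨conjK h.zass a ⟨k, hka⟩, ⟨k, hka⟩, (hE _).mpr hkb, rfl⟩, Subtype.ext hk, ?_⟩
      rintro ⟨_, g, hg, rfl⟩ hgx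
      apply Subtype.ext
      show conjK h.zass a g = conjK h.zass a ⟨k, hka⟩
      congr 1
      have h3 : conjK h.zass a (⟨k, hka⟩⁻¹ * g) x = x := by
        rw [map_mul, map_inv]
        show (conjK h.zass a ⟨k, hka⟩)⁻¹ (conjK h.zass a g x) = x
        rw [show conjK h.zass a g x = y from hgx, MulAut.inv_apply, MulEquiv.symm_apply_eq]
        exact Subtype.ext hk.symm
      exact (inv_mul_eq_one.mp (hfix _ (mul_mem (inv_mem ((hE _).mpr hkb)) hg) x hx h3)).symm)
    (by
      have h3 := h.two_lt_two_pt hab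
      rw [← hEcard] at h3
      haveI : Nontrivial E := Finite.one_lt_card_iff_nontrivial.mp (by omega)
      obtain ⟨g, hg⟩ := exists_ne (1 : E)
      refine ⟨z, conjK h.zass a g z, ?_, hz1, hz2, ?_, ?_⟩
      · intro hc
        exact hg (Subtype.ext (hfix g g.2 z hz1 hc.symm))
      · rw [Ne, MulEquiv.map_eq_one_iff]; exact hz1
      · rw [← map_mul, hz2, map_one])
  refine ⟨F, instF, ρ, e, hsz, ?_, ?_⟩
  · haveI := hsz.finF
    -- count
    have hinj : Function.Injective (fun g : E => conjK h.zass a g) := by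
      intro g g' hgg
      have h3 : conjK h.zass a ((g' : stabilizer G a)⁻¹ * g) z = z := by
        rw [map_mul, map_inv]
        show (conjK h.zass a g')⁻¹ (conjK h.zass a g z) = z
        rw [show conjK h.zass a g = conjK h.zass a g' from hgg, MulAut.inv_apply_self]
      exact Subtype.ext (inv_mul_eq_one.mp (hfix _ (mul_mem (inv_mem g'.2) g.2) z hz1 h3)).symm
    have hcard1 : Nat.card (E.map (conjK h.zass a)) = Nat.card E := by
      symm
      exact Nat.card_congr (Equiv.ofBijective (fun g : E =>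
        (⟨conjK h.zass a g, g, g.2, rfl⟩ : E.map (conjK h.zass a)))
        ⟨fun g g' hgg => hinj (congrArg Subtype.val hgg), by
          rintro ⟨_, g, hg, rfl⟩
          exact ⟨⟨g, hg⟩, rfl⟩⟩)
    have hcard2 : Nat.card Fˣ = Nat.card (E.map (conjK h.zass a)) := by
      refine Nat.card_congr (Equiv.ofBijective (fun u : Fˣ =>
        (⟨ρ u, hρ2 u⟩ : E.map (conjK h.zass a))) ⟨?_, ?_⟩)
      · intro u v huv
        have h3 : ρ u = ρ v := congrArg Subtype.val huv
        have h4 : ρ (v⁻¹ * u) z = z := by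
          rw [map_mul, map_inv, h3]
          simp
        exact (inv_mul_eq_one.mp (hsz.semireg h4 hz1)).symm
      · rintro ⟨k, hk⟩
        obtain ⟨u, hu⟩ := hρ1 k hk
        exact ⟨u, Subtype.ext hu⟩
    rw [← hEcard, ← hcard1, ← hcard2, Nat.card_units]
    have := hsz.card
    omega
  · intro u
    obtain ⟨g, hg, hgu⟩ := hρ2 u
    refine ⟨g, g.2, (hE g).mp hg, fun x => ?_⟩
    rw [← hgu]; rfl

/-- The involutions of the kernel. -/
def TT (a : Ω) : Subgroup (stabilizer G a) where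
  carrier := {x | (x : G) ∈ K h.zass a ∧ x * x = 1}
  one_mem' := ⟨one_mem _, mul_one 1⟩
  mul_mem' := fun {x y} hx hy => by
    refine ⟨mul_mem hx.1 hy.1, ?_⟩
    by_cases hx1 : x = 1
    · rw [hx1, one_mul]; exact hy.2
    by_cases hy1 : y = 1
    · rw [hy1, mul_one]; exact hx.2
    have h1 := h.comm_involutions (a := a) (x := x) (y := y) (fun hc => hx1 (Subtype.ext hc))
      (congrArg Subtype.val hx.2) x.2 (fun hc => hy1 (Subtype.ext hc))
      (congrArg Subtype.val hy.2) y.2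
    have h2 : x * y = y * x := Subtype.ext h1
    rw [mul_assoc, ← mul_assoc y, ← h2, mul_assoc, hy.2, mul_one, hx.2]
  inv_mem' := fun {x} hx => ⟨inv_mem hx.1, by rw [← mul_inv_rev, hx.2, inv_one]⟩

theorem mem_TT {a : Ω} {x : stabilizer G a} : x ∈ h.TT a ↔ (x : G) ∈ K h.zass a ∧ x * x = 1 :=
  Iff.rfl

instance TT_normal (a : Ω) : (h.TT a).Normal := ⟨by
  intro x hx g
  refine ⟨K_normal_in h.zass g.2 hx.1, ?_⟩
  have : g * x * g⁻¹ * (g * x * g⁻¹) = g * (x * x) * g⁻¹ := by group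
  rw [this, hx.2]; group⟩

theorem TT_le (a : Ω) : h.TT a ≤ KB h.zass a := fun x hx => (mem_KB h.zass).mpr hx.1

theorem TT_conj {a b : Ω} (hab : a ≠ b) {x y : stabilizer G a} (hx : x ∈ h.TT a) (hx1 : x ≠ 1)
    (hy : y ∈ h.TT a) (hy1 : y ≠ 1) : ∃ g : stabilizer G a, g * x * g⁻¹ = y := by
  obtain ⟨k, hka, -, hk⟩ := h.conj_involutions_two_pt hab
    (fun hc => hx1 (Subtype.ext hc)) (congrArg Subtype.val hx.2) x.2
    (fun hc => hy1 (Subtype.ext hc)) (congrArg Subtype.val hy.2) y.2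
  exact ⟨⟨k, hka⟩, Subtype.ext hk⟩

/-- Structure of the kernel. -/
theorem kernel_struct {a b : Ω} (hab : a ≠ b) (h2 : IsPGroup 2 (K h.zass a))
    (hne : ∃ u v : K h.zass a, u * v ≠ v * u) :
    (∃ n, 1 < n ∧ Nat.card ↥(stabilizer G a ⊓ stabilizer G b) + 1 = 2 ^ n) ∧
    (∃ n, Nat.card (K h.zass a) = 2 ^ n) ∧
    (Nat.card (K h.zass a) = (Nat.card ↥(stabilizer G a ⊓ stabilizer G b) + 1) ^ 2 ∨
      Nat.card (K h.zass a) = (Nat.card ↥(stabilizer G a ⊓ stabilizer G b) + 1) ^ 3) ∧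
    Nat.card (h.TT a) = Nat.card ↥(stabilizer G a ⊓ stabilizer G b) + 1 ∧
    (∀ x ∈ KB h.zass a, x * x ∈ h.TT a) ∧ ⁅KB h.zass a, KB h.zass a⁆ = h.TT a ∧
    (∀ z ∈ h.TT a, ∀ x ∈ KB h.zass a, x * z = z * x) := by
  classical
  haveI := finite_group h.zass
  obtain ⟨F, instF, ρ, e, hsz, hcard, hρ⟩ := h.exists_isSz hab h2
  haveI := hsz.finF
  have h4 := hsz.pow_four hne
  have hsq : ∃ x : K h.zass a, x * x ≠ 1 := by
    by_contra hcon
    push Not at hcon
    obtain ⟨x, y, hxy⟩ := hne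
    exact hxy (hsz.Z1_central (hcon x) y).symm
  have hmemT : ∀ x : K h.zass a, x ∈ hsz.Z1 ↔ (⟨x, K_le h.zass a x.2⟩ : stabilizer G a) ∈ h.TT a :=
    fun x => ⟨fun hx => ⟨x.2, Subtype.ext (congrArg (fun y : K h.zass a => (y : G)) hx)⟩,
      fun hx => Subtype.ext (congrArg (fun y : stabilizer G a => (y : G)) hx.2)⟩
  have hcardT : Nat.card (h.TT a) = Nat.card F := by
    rw [← hsz.card_Z1]
    symm
    refine Nat.card_congr (Equiv.ofBijective (fun x : hsz.Z1 =>
      (⟨⟨(x : K h.zass a), K_le h.zass a x.1.2⟩, (hmemT x).mp x.2⟩ : h.TT a)) ⟨?_, ?_⟩)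
    · intro x y hxy
      apply Subtype.ext
      apply Subtype.ext
      exact congrArg (fun t : h.TT a => ((t : stabilizer G a) : G)) hxy
    · rintro ⟨x, hx⟩
      exact ⟨⟨⟨x, hx.1⟩, Subtype.ext (congrArg (fun y : stabilizer G a => (y : G)) hx.2)⟩, rfl⟩
  obtain ⟨n, hn, hn2⟩ := hsz.exists_card_F
  have hsqT : ∀ x ∈ KB h.zass a, x * x ∈ h.TT a := by
    intro x hx
    have hxK := (mem_KB h.zass).mp hx
    exact (hmemT (⟨x, hxK⟩ * ⟨x, hxK⟩)).mp (hsz.sq_mem h4 ⟨x, hxK⟩)
  have hTc : ∀ z ∈ h.TT a, ∀ x ∈ KB h.zass a, x * z = z * x := by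
    intro z hz x hx
    have hxK := (mem_KB h.zass).mp hx
    have := hsz.Z1_central (x := ⟨z, hz.1⟩) ((hmemT _).mpr hz) ⟨x, hxK⟩
    exact Subtype.ext (congrArg (fun y : K h.zass a => (y : G)) this)
  refine ⟨⟨n, hn, by rw [hcard, hn2]⟩, IsPGroup.iff_card.mp h2, ?_, by rw [hcardT, hcard], hsqT,
    ?_, hTc⟩
  · rw [hcard]; exact hsz.card_cases h4 hsq
  · apply le_antisymm
    · rw [Subgroup.commutator_le]
      intro x hx y hy
      have h5 : ⁅x, y⁆ = SZ.br x⁻¹ y⁻¹ := by
        rw [commutatorElement_def]; unfold SZ.br; group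
      have hxK := (mem_KB h.zass).mp hx
      have hyK := (mem_KB h.zass).mp hy
      have h6 := (hmemT _).mp (hsz.br_mem h4 (⟨x, hxK⟩ : K h.zass a)⁻¹ (⟨y, hyK⟩ : K h.zass a)⁻¹)
      rw [h5]
      exact h6
    · -- a nontrivial commutator is in `TT`
      obtain ⟨u, v, huv⟩ := hne
      have h5 : (⟨u, K_le h.zass a u.2⟩ : stabilizer G a) ∈ KB h.zass a := (mem_KB h.zass).mpr u.2
      have h6 : (⟨v, K_le h.zass a v.2⟩ : stabilizer G a) ∈ KB h.zass a := (mem_KB h.zass).mpr v.2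
      have h7 := Subgroup.commutator_mem_commutator h5 h6
      set w : stabilizer G a := ⁅(⟨u, K_le h.zass a u.2⟩ : stabilizer G a),
        (⟨v, K_le h.zass a v.2⟩ : stabilizer G a)⁆ with hw
      have hw1 : w ≠ 1 := by
        intro hc
        apply huv
        rw [hw, commutatorElement_eq_one_iff_mul_comm] at hc
        exact Subtype.ext (congrArg (fun y : stabilizer G a => (y : G)) hc)
      have hwT : w ∈ h.TT a := by
        have h8 : w = SZ.br (⟨u, K_le h.zass a u.2⟩ : stabilizer G a)⁻¹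
            (⟨v, K_le h.zass a v.2⟩ : stabilizer G a)⁻¹ := by
          rw [hw, commutatorElement_def]; unfold SZ.br; group
        rw [h8]
        exact (hmemT _).mp (hsz.br_mem h4 u⁻¹ v⁻¹)
      haveI := KB_normal h.zass a
      intro z hz
      by_cases hz1 : z = 1
      · rw [hz1]; exact one_mem _
      obtain ⟨g, hg⟩ := h.TT_conj hab hwT hw1 hz hz1
      rw [← hg]
      exact (inferInstance : (⁅KB h.zass a, KB h.zass a⁆).Normal).conj_mem w h7 g

end OddInv

end Cfsg.Agent.H20.Zass
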