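import Cfsg.Agent.H20.ZS1
import Cfsg.Agent.H3.FrobSchur

/-!
Frobenius-Schur indicators of the relevant characters.
-/

set_option autoImplicit false
set_option linter.style.haveILetI false

open Cfsg MulAction
open scoped Pointwise ComplexConjugate commutatorElement

namespace Cfsg.Agent.H20.Zass

open Cfsg.Agent.H3

universe u v

/-- The Frobenius-Schur indicator as a linear functional on class functions. -/
theorem fs_expand {G : Type u} [Group G] [Fintype G] [Fintype (IrrCharacter G)] {F : G → ℂ}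
    (hF : IsClassFunction G F) :
    (Nat.card G : ℂ)⁻¹ * ∑ g : G, F (g * g) =
      ∑ χ : IrrCharacter G, classInner F χ * fsInd (χ : G → ℂ) := by
  have h1 : ∀ g : G, F (g * g) = ∑ χ : IrrCharacter G, classInner F χ * (χ : G → ℂ) (g * g) :=
    fun g => classFun_expand_apply hF _
  rw [Finset.sum_congr rfl fun g _ => h1 g, Finset.sum_comm, Finset.mul_sum]
  refine Finset.sum_congr rfl fun χ _ => ?_
  rw [fsInd, ← Finset.mul_sum]
  ring

/-- The indicator functional on induced functions. -/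
theorem sum_sq_indFun {G : Type u} [Group G] [Fintype G] (H : Subgroup G) (f : H → ℂ) :
    (Nat.card G : ℂ)⁻¹ * ∑ g : G, indFun H f (g * g) =
      (Nat.card H : ℂ)⁻¹ * ∑ g : G, extendByZero H f (g * g) := by
  have h0 : (Nat.card G : ℂ) ≠ 0 := by exact_mod_cast Nat.card_pos.ne'
  have h1 : ∑ g : G, indFun H f (g * g) =
      (Nat.card H : ℂ)⁻¹ * ∑ x : G, ∑ g : G, extendByZero H f (g * g) := by
    simp only [indFun]
    rw [← Finset.mul_sum, Finset.sum_comm]
    congr 1
    refine Finset.sum_congr rfl fun x _ => ?_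
    rw [← Equiv.sum_comp (MulAut.conj x).toEquiv]
    refine Finset.sum_congr rfl fun g _ => ?_
    congr 1
    show x⁻¹ * ((x * g * x⁻¹) * (x * g * x⁻¹)) * x = g * g
    group
  rw [h1, Finset.sum_const, nsmul_eq_mul, Finset.card_univ, ← Nat.card_eq_fintype_card]
  field_simp

variable {G : Type u} [Group G] {Ω : Type v} [MulAction G Ω] [Finite Ω]

namespace OddInv

variable (h : OddInv G Ω) [Fintype G]
include h

omit [Fintype G] in
theorem mem_K_of_sq {a : Ω} {g : G} (hg : g * g ∈ K h.zass a) (hg1 : g * g ≠ 1) :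
    g ∈ K h.zass a :=
  mem_K_of_commute h.zass hg hg1 (by rw [mul_assoc])

omit [Fintype G] in
theorem sq_mem_K_iff {a : Ω} (g : stabilizer G a) :
    ((g * g : stabilizer G a) : G) ∈ K h.zass a ↔ (g : G) ∈ K h.zass a := by
  constructor
  · intro hg
    by_cases hg1 : (g : G) * g = 1
    · by_cases hg2 : (g : G) = 1
      · rw [hg2]; exact one_mem _
      · exact h.mem_K_of_involution hg2 hg1 g.2
    · exact h.mem_K_of_sq hg hg1
  · intro hg
    exact mul_mem hg hg

omit [Fintype G] in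
theorem sum_uK_sq {a : Ω} [Fintype (stabilizer G a)] :
    ∑ g : stabilizer G a, uK h.zass a (g * g) = (Nat.card (K h.zass a) : ℂ) := by
  classical
  have h1 : ∀ g : stabilizer G a, uK h.zass a (g * g) = if g ∈ KB h.zass a then 1 else 0 := by
    intro g
    split_ifs with hg
    · rw [mem_KB] at hg
      exact uK_mem h.zass ((h.sq_mem_K_iff g).mpr hg)
    · rw [mem_KB] at hg
      exact uK_not_mem h.zass (fun hc => hg ((h.sq_mem_K_iff g).mp hc))
  rw [Finset.sum_congr rfl fun g _ => h1 g, ← Finset.sum_filter, Finset.sum_const, nsmul_eq_mul,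
    mul_one, ← card_KB, ← Fintype.card_subtype, ← Nat.card_eq_fintype_card]

theorem fs_al {a b : Ω} (hab : a ≠ b) [Fintype (stabilizer G a)] (θ : h.JJ a) :
    (Nat.card G : ℂ)⁻¹ * ∑ g : G, indFun (stabilizer G a)
      (al h.zass a (θ.1 : stabilizer G a → ℂ)) (g * g) =
      fsInd (θ.1 : stabilizer G a → ℂ) - h.dd hab θ := by
  classical
  have e0 := h.card_two_ne_zero (a := a) (b := b)
  rw [sum_sq_indFun]
  have h1 : ∑ g : G, extendByZero (stabilizer G a) (al h.zass a (θ.1 : stabilizer G a → ℂ)) (g * g)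
      = ∑ g : stabilizer G a, al h.zass a (θ.1 : stabilizer G a → ℂ) (g * g) := by
    have h2 : ∀ g : G, g ∉ stabilizer G a →
        extendByZero (stabilizer G a) (al h.zass a (θ.1 : stabilizer G a → ℂ)) (g * g) = 0 := by
      intro g hg
      by_cases hgg : g * g ∈ stabilizer G a
      · rw [extendByZero_mem _ _ hgg]
        by_contra hc
        have h3 : g * g ∈ K h.zass a := by
          by_contra hc'
          exact hc (h.al_vanish θ.1.2 θ.2 ⟨_, hgg⟩ hc')
        have h4 : g * g ≠ 1 := by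
          intro hc'
          apply hc
          have : (⟨g * g, hgg⟩ : stabilizer G a) = 1 := Subtype.ext hc'
          rw [this, h.al_one]
        exact hg (K_le h.zass a (h.mem_K_of_sq h3 h4))
      · exact extendByZero_not_mem _ _ hgg
    rw [← Finset.sum_filter_add_sum_filter_not Finset.univ (fun g : G => g ∈ stabilizer G a),
      Finset.sum_eq_zero (s := Finset.univ.filter fun g : G => ¬ g ∈ stabilizer G a)
        (fun g hg => h2 g (Finset.mem_filter.mp hg).2), add_zero,
      Finset.sum_subtype (p := fun g => g ∈ stabilizer G a) _ (fun x => by simp)]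
    refine Finset.sum_congr rfl fun g _ => ?_
    exact extendByZero_mem _ _ (mul_mem g.2 g.2)
  rw [h1]
  have h2 : ∀ g : stabilizer G a, al h.zass a (θ.1 : stabilizer G a → ℂ) (g * g) =
      (θ.1 : stabilizer G a → ℂ) (g * g) - (θ.1 : stabilizer G a → ℂ) 1 * uK h.zass a (g * g) :=
    fun g => rfl
  rw [Finset.sum_congr rfl fun g _ => h2 g, Finset.sum_sub_distrib, ← Finset.mul_sum,
    h.sum_uK_sq, mul_sub, fsInd, h.dd_spec hab θ, card_K_mul h.zass hab]
  congr 1
  have h3 : (Nat.card (K h.zass a) : ℂ) ≠ 0 := by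
    haveI := finite_group h.zass
    exact_mod_cast Nat.card_pos.ne'
  push_cast
  field_simp

/-- The nonlinear exceptional characters are orthogonal. -/
theorem fsInd_YY {a : Ω} [Fintype (stabilizer G a)] [Fintype (IrrCharacter G)]
    (hodd : Odd (Nat.card Ω)) {χ : IrrCharacter G} (hχ : χ ∈ h.YY a) :
    fsInd (χ : G → ℂ) = 1 := by
  classical
  haveI := pretransitive h.zass
  obtain ⟨μ, hμ, hμK, -, hχμ⟩ := h.YY_spec hχ
  have hμc := irr_classFun hμ
  have hone : (χ : G → ℂ) 1 = (Nat.card Ω : ℂ) := by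
    rw [hχμ, indFun_one_apply, index_stabilizer_of_transitive, hμK 1 (one_mem _), mul_one]
  refine fsInd_eq_one_of_odd χ.2 ?_ (Nat.card Ω) hone hodd
  intro g
  have key : ∀ x : G, x • a = a → ((χ : G → ℂ) x).im = 0 := by
    intro x hx
    by_cases hx1 : x = 1
    · rw [hx1, hone]; simp
    by_cases hxK : x ∈ K h.zass a
    · rw [hχμ, indFun_one_fix h.zass μ hμc hx (fun c hc => K_fix h.zass hxK hx1 hc)]
      rw [hμK ⟨x, hx⟩ hxK]; simp
    · rw [mem_K] at hxK
      push Not at hxK
      obtain ⟨c, hc, hca⟩ := hxK.2 hx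
      rw [hχμ, h.indFun_two_fix μ hμc hx1 hx (Ne.symm hca) hc, char_inv (irr_isChar hμ)]
      simp
  by_cases hfix : ∃ c : Ω, g • c = c
  · obtain ⟨c, hc⟩ := hfix
    obtain ⟨y, hy⟩ := exists_smul_one h.zass a c
    have h1 : (y⁻¹ * g * y) • a = a := by
      rw [mul_smul, mul_smul, hy, hc, inv_smul_eq_iff, hy]
    have h2 := key _ h1
    have h3 : (χ : G → ℂ) (y⁻¹ * g * y) = (χ : G → ℂ) g := by
      have := irr_classFun χ.2 g y⁻¹
      rw [inv_inv] at this
      exact this
    rw [← h3]; exact h2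
  · push Not at hfix
    have h4 : (χ : G → ℂ) g = 0 := by
      rw [hχμ, indFun]
      rw [Finset.sum_eq_zero, mul_zero]
      intro x _
      apply extendByZero_not_mem
      intro hc
      rw [mem_stabilizer_iff, mul_smul, mul_smul, inv_smul_eq_iff] at hc
      exact hfix _ hc
    rw [h4]; simp

omit h [Finite Ω] [MulAction G Ω] in
theorem fsInd_one : fsInd (fun _ : G => (1 : ℂ)) = 1 := by
  rw [fsInd, Finset.sum_const, nsmul_eq_mul, mul_one, Finset.card_univ, ← Nat.card_eq_fintype_card]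
  exact inv_mul_cancel₀ (by exact_mod_cast Nat.card_pos.ne')

theorem fs_XX {a b : Ω} (hab : a ≠ b) [Fintype (stabilizer G a)] [Fintype (IrrCharacter G)]
    [Fintype (h.XX a)] (hodd : Odd (Nat.card Ω)) (θ : h.JJ a) :
    ∑ χ : h.XX a, (h.nn θ χ : ℂ) * fsInd (χ.1 : G → ℂ) =
      fsInd (θ.1 : stabilizer G a → ℂ) + (h.dd hab θ : ℂ) * (h.YY a).card := by
  classical
  have e0 := h.card_two_ne_zero (a := a) (b := b)
  have h1 := h.fs_al hab θ
  rw [fs_expand (indFun_classFun _ _), h.sum_decomp a hab, h.val_St θ.1.2 θ.2,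
    h.val_one, h.inner_al_one hab θ.1.2 θ.2, h.dd_spec hab θ, zero_mul, add_zero] at h1
  have h2 : fsInd (h.one' : G → ℂ) = 1 := fsInd_one
  rw [h2] at h1
  have h3 : ∑ χ ∈ h.YY a, classInner (indFun (stabilizer G a)
      (al h.zass a (θ.1 : stabilizer G a → ℂ))) (χ : G → ℂ) * fsInd (χ : G → ℂ) =
      - (h.dd hab θ : ℂ) * (h.YY a).card := by
    rw [Finset.sum_congr rfl (g := fun _ => - (h.dd hab θ : ℂ)) fun χ hχ => by
      rw [h.fsInd_YY hodd hχ, h.val_YY θ.1.2 θ.2 hχ, h.inner_al_one hab θ.1.2 θ.2,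
        h.dd_spec hab θ, mul_one]
      field_simp]
    rw [Finset.sum_const, nsmul_eq_mul]
    ring
  rw [h3] at h1
  have h4 : ∑ χ : h.XX a, (h.nn θ χ : ℂ) * fsInd (χ.1 : G → ℂ) =
      ∑ χ : h.XX a, classInner (indFun (stabilizer G a)
        (al h.zass a (θ.1 : stabilizer G a → ℂ))) (χ.1 : G → ℂ) * fsInd (χ.1 : G → ℂ) :=
    Finset.sum_congr rfl fun χ _ => by rw [(h.nn_spec θ χ).1, h.val_XX]
  rw [h4]
  generalize (∑ χ : h.XX a, classInner (indFun (stabilizer G a)
        (al h.zass a (θ.1 : stabilizer G a → ℂ))) (χ.1 : G → ℂ) * fsInd (χ.1 : G → ℂ)) = S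
    at h1 ⊢
  field_simp at h1
  linear_combination h1

end OddInv

end Cfsg.Agent.H20.Zass
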