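import Cfsg.Agent.H20.ZS2

/-!
Zassenhaus groups whose one-point kernel is a nonabelian 2-group: characters of the point
stabiliser.
-/

set_option autoImplicit false
set_option linter.style.haveILetI false

open Cfsg MulAction
open scoped Pointwise ComplexConjugate commutatorElement

namespace Cfsg.Agent.H20.Zass

open Cfsg.Agent.H3

universe u v

variable {G : Type u} [Group G] {Ω : Type v} [MulAction G Ω] [Finite Ω]

/-- Numerical data of the kernel. -/
structure NK (h : OddInv G Ω) (a b : Ω) (q : ℕ) : Prop where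
  hab : a ≠ b
  card_e : Nat.card ↥(stabilizer G a ⊓ stabilizer G b) + 1 = q
  card_T : Nat.card (h.TT a) = q
  sqT : ∀ x ∈ KB h.zass a, x * x ∈ h.TT a
  comm : ⁅KB h.zass a, KB h.zass a⁆ = h.TT a
  cen : ∀ z ∈ h.TT a, ∀ x ∈ KB h.zass a, x * z = z * x
  pow_q : ∃ n, 1 < n ∧ q = 2 ^ n
  pow_k : ∃ n, Nat.card (K h.zass a) = 2 ^ n

namespace NK

variable {h : OddInv G Ω} {a b : Ω} {q : ℕ} (hk : NK h a b q)
include hk

theorem card_two : (Nat.card ↥(stabilizer G a ⊓ stabilizer G b) : ℂ) = (q : ℂ) - 1 := by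
  rw [← hk.card_e]; push_cast; ring

theorem four_le : 4 ≤ q := by
  obtain ⟨n, hn, rfl⟩ := hk.pow_q
  calc 4 = 2 ^ 2 := by norm_num
    _ ≤ 2 ^ n := Nat.pow_le_pow_right (by norm_num) hn

/-- values on the involutions -/
theorem theta_T [Fintype (stabilizer G a)] (θ : h.JJ a)
    (hθ : ∃ m ∈ h.TT a, (θ.1 : stabilizer G a → ℂ) m ≠ (θ.1 : stabilizer G a → ℂ) 1)
    {z : stabilizer G a} (hz : z ∈ h.TT a) (hz1 : z ≠ 1) :
    (θ.1 : stabilizer G a → ℂ) z = - (h.dd hk.hab θ : ℂ) := by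
  classical
  haveI : Fintype (h.TT a) := Fintype.ofFinite _
  have h1 := sum_mul_zero θ.1.2 (h.TT a) inferInstance hθ 1
  have h2 : ∀ n : h.TT a, (θ.1 : stabilizer G a → ℂ) (n * 1) =
      if n = 1 then (θ.1 : stabilizer G a → ℂ) 1 else (θ.1 : stabilizer G a → ℂ) z := by
    intro n
    rw [mul_one]
    split_ifs with hn
    · rw [hn]; rfl
    · obtain ⟨g, hg⟩ := h.TT_conj hk.hab hz hz1 n.2 (fun hc => hn (Subtype.ext hc))
      rw [← hg]
      exact irr_classFun θ.1.2 z g
  rw [Finset.sum_congr rfl fun n _ => h2 n, Finset.sum_ite, Finset.sum_const, Finset.sum_const,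
    Finset.filter_eq' Finset.univ (1 : h.TT a), if_pos (Finset.mem_univ _), Finset.card_singleton,
    one_smul] at h1
  have h3 : (Finset.univ.filter (fun n : h.TT a => ¬ n = 1)).card = q - 1 := by
    rw [Finset.filter_not, Finset.card_sdiff_of_subset (Finset.filter_subset _ _),
      Finset.filter_eq' Finset.univ (1 : h.TT a), if_pos (Finset.mem_univ _),
      Finset.card_singleton, Finset.card_univ, ← Nat.card_eq_fintype_card, hk.card_T]
  have h4 := hk.four_le
  rw [h3, nsmul_eq_mul, h.dd_spec hk.hab θ, hk.card_two, Nat.cast_sub (by omega)] at h1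
  have h5 : (q : ℂ) - 1 ≠ 0 := by
    rw [← hk.card_two]; exact h.card_two_ne_zero
  have h6 : ((q : ℂ) - 1) * ((h.dd hk.hab θ : ℂ) + (θ.1 : stabilizer G a → ℂ) z) = 0 := by
    rw [← h1]; push_cast; ring
  have h7 := (mul_eq_zero.mp h6).resolve_left h5
  exact eq_neg_of_add_eq_zero_right h7

omit hk in
theorem sum_sq_eq (_hk : NK h a b q) [Fintype (stabilizer G a)] [Fintype (KB h.zass a)]
    (θ : h.JJ a) :
    ∑ g : stabilizer G a, (θ.1 : stabilizer G a → ℂ) (g * g) =
      ∑ g : KB h.zass a, (θ.1 : stabilizer G a → ℂ) (g * g) := by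
  classical
  rw [← Finset.sum_filter_add_sum_filter_not Finset.univ (fun g : stabilizer G a =>
    g ∈ KB h.zass a), Finset.sum_eq_zero (s := Finset.univ.filter fun g : stabilizer G a =>
      ¬ g ∈ KB h.zass a) (fun g hg => by
        apply h.rel_vanish θ.1.2 θ.2
        intro hc
        exact (Finset.mem_filter.mp hg).2 ((mem_KB h.zass).mpr ((h.sq_mem_K_iff g).mp hc))),
      add_zero, Finset.sum_subtype (p := fun g => g ∈ KB h.zass a) _ (fun x => by simp)]

theorem fs_in [Fintype (stabilizer G a)] [Fintype (h.JJ a)] (θ : h.JJ a)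
    (hθ : θ ∈ h.JM (h.TT a)) :
    h.dd hk.hab θ = 1 ∧ fsInd (θ.1 : stabilizer G a → ℂ) = 1 := by
  classical
  haveI : Fintype (KB h.zass a) := Fintype.ofFinite _
  have h1 : h.dd hk.hab θ = 1 := h.dd_eq_one hk.hab θ (by
    rw [hk.comm]; exact h.mem_JM.mp hθ)
  refine ⟨h1, ?_⟩
  rw [fsInd, hk.sum_sq_eq]
  have hval : ∀ g : KB h.zass a, (θ.1 : stabilizer G a → ℂ) (g * g) =
      (θ.1 : stabilizer G a → ℂ) 1 := fun g => h.mem_JM.mp hθ _ (hk.sqT g g.2)
  rw [Finset.sum_congr rfl fun g _ => hval g]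
  rw [Finset.sum_const, nsmul_eq_mul, h.dd_spec hk.hab θ, h1, Finset.card_univ,
    ← Nat.card_eq_fintype_card, card_KB, card_K_mul h.zass hk.hab]
  have h2 : (Nat.card (K h.zass a) : ℂ) ≠ 0 := by
    haveI := finite_group h.zass
    exact_mod_cast Nat.card_pos.ne'
  have h3 := h.card_two_ne_zero (a := a) (b := b)
  push_cast
  field_simp

theorem fs_out [Fintype (stabilizer G a)] [Fintype (h.JJ a)] (θ : h.JJ a)
    (hθ : θ ∉ h.JM (h.TT a)) :
    fsInd (θ.1 : stabilizer G a → ℂ) * ((Nat.card (K h.zass a) : ℂ) * (q - 1)) =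
      (h.dd hk.hab θ : ℂ) * ((q : ℂ) ^ 2 - Nat.card (K h.zass a)) := by
  classical
  haveI := finite_group h.zass
  haveI : Fintype (KB h.zass a) := Fintype.ofFinite _
  rw [h.mem_JM] at hθ
  push Not at hθ
  have h2 : (Nat.card (K h.zass a) : ℂ) ≠ 0 := by exact_mod_cast Nat.card_pos.ne'
  have h3 := h.card_two_ne_zero (a := a) (b := b)
  have hval : ∀ g : KB h.zass a, (θ.1 : stabilizer G a → ℂ) (g * g) =
      if (g * g : stabilizer G a) = 1 then ((q : ℂ) - 1) * h.dd hk.hab θ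
      else - (h.dd hk.hab θ : ℂ) := by
    intro g
    split_ifs with hg
    · rw [hg, h.dd_spec hk.hab θ, hk.card_two]
    · exact hk.theta_T θ hθ (hk.sqT g g.2) hg
  have hcount : (Finset.univ.filter (fun g : KB h.zass a => (g * g : stabilizer G a) = 1)).card
      = q := by
    rw [← hk.card_T, ← Fintype.card_subtype, ← Nat.card_eq_fintype_card]
    refine Nat.card_congr ⟨fun x => ⟨x.1, (mem_KB h.zass).mp x.1.2, x.2⟩,
      fun x => ⟨⟨x.1, (mem_KB h.zass).mpr x.2.1⟩, x.2.2⟩, fun x => rfl, fun x => rfl⟩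
  have hcount2 : ((Finset.univ.filter (fun g : KB h.zass a =>
      ¬ (g * g : stabilizer G a) = 1)).card : ℂ) = Nat.card (K h.zass a) - q := by
    have h4 := Finset.card_filter_add_card_filter_not (s := (Finset.univ : Finset (KB h.zass a)))
      (fun g : KB h.zass a => (g * g : stabilizer G a) = 1)
    rw [hcount, Finset.card_univ, ← Nat.card_eq_fintype_card, card_KB] at h4
    rw [← h4]; push_cast; ring
  rw [fsInd, hk.sum_sq_eq, Finset.sum_congr rfl fun g _ => hval g, Finset.sum_ite,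
    Finset.sum_const, Finset.sum_const, nsmul_eq_mul, nsmul_eq_mul, hcount, hcount2,
    card_K_mul h.zass hk.hab]
  push_cast
  rw [hk.card_two] at h3 ⊢
  field_simp
  ring

theorem even_dd [Fintype (stabilizer G a)] [Fintype (h.JJ a)] (θ : h.JJ a)
    (hθ : θ ∉ h.JM (h.TT a)) : Even (h.dd hk.hab θ) := by
  classical
  haveI := finite_group h.zass
  haveI : Fintype (KB h.zass a) := Fintype.ofFinite _
  have h1 := h.dd_dvd hk.hab θ
  rw [card_KB] at h1
  obtain ⟨n, hn⟩ := hk.pow_k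
  rw [hn, Nat.dvd_prime_pow Nat.prime_two] at h1
  obtain ⟨m, -, hm⟩ := h1
  rcases Nat.eq_zero_or_pos m with rfl | hm0
  · exfalso
    rw [pow_zero] at hm
    apply hθ
    rw [h.mem_JM]
    intro x hx
    obtain ⟨τ, hτ, -, hθτ⟩ := h.rel_ind θ.1.2 θ.2
    have hτ1 : τ 1 = 1 := by
      have h4 := h.dd_spec hk.hab θ
      rw [hθτ, indFun_one_apply, h.index_KB hk.hab, hm] at h4
      have := mul_left_cancel₀ h.card_two_ne_zero h4
      rw [this]; norm_num
    obtain ⟨μ, rfl⟩ := exists_hom_of_char_one (irr_isChar hτ) hτ1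
    have hker : ⁅KB h.zass a, KB h.zass a⁆ ≤ (μ.ker).map (KB h.zass a).subtype := by
      rw [Subgroup.commutator_le]
      intro x hx y hy
      refine ⟨⁅(⟨x, hx⟩ : KB h.zass a), ⟨y, hy⟩⁆, ?_, rfl⟩
      show μ _ = 1
      rw [map_commutatorElement, commutatorElement_eq_one_iff_mul_comm, mul_comm]
    rw [hk.comm] at hker
    rw [hθτ, indFun_one_apply, indFun]
    have hall : ∀ y : stabilizer G a, extendByZero (KB h.zass a)
        (fun g => ((μ g : ℂˣ) : ℂ)) (y⁻¹ * x * y) = 1 := by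
      intro y
      have h5 : y⁻¹ * x * y ∈ h.TT a := by
        have := (inferInstance : (h.TT a).Normal).conj_mem x hx y⁻¹
        rwa [inv_inv] at this
      obtain ⟨w, hw, hw2⟩ := hker h5
      have h6 : y⁻¹ * x * y ∈ KB h.zass a := h.TT_le a h5
      rw [extendByZero_mem _ _ h6]
      have h7 : (⟨y⁻¹ * x * y, h6⟩ : KB h.zass a) = w := Subtype.ext hw2.symm
      rw [h7]
      have h8 : μ w = 1 := hw
      rw [h8]; rfl
    rw [Finset.sum_congr rfl fun y _ => hall y, Finset.sum_const, nsmul_eq_mul, mul_one,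
      Finset.card_univ, ← Nat.card_eq_fintype_card, card_KB, card_K_mul h.zass hk.hab,
      h.index_KB hk.hab]
    have h2 : (Nat.card (K h.zass a) : ℂ) ≠ 0 := by exact_mod_cast Nat.card_pos.ne'
    have h9 : ((μ 1 : ℂˣ) : ℂ) = 1 := by rw [map_one]; rfl
    simp only [h9]
    push_cast
    field_simp
  · rw [hm, Nat.even_pow]
    exact ⟨even_two, by omega⟩

theorem sum_in [Fintype (h.JJ a)] :
    ((q - 1) * (h.JM (h.TT a)).card + 1) * q = Nat.card (K h.zass a) := by
  have h1 := h.sum_JM hk.hab (h.TT a) (h.TT_le a)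
  haveI := finite_group h.zass
  haveI : Fintype (stabilizer G a) := Fintype.ofFinite _
  rw [Finset.sum_congr rfl (g := fun _ => 1) fun θ hθ => by rw [(hk.fs_in θ hθ).1, one_pow],
    Finset.sum_const, smul_eq_mul, mul_one, hk.card_T, card_KB] at h1
  have h2 := hk.card_e
  have h3 : Nat.card ↥(stabilizer G a ⊓ stabilizer G b) = q - 1 := by omega
  rw [h3] at h1
  exact h1

theorem sum_all [Fintype (h.JJ a)] :
    (q - 1) * ∑ θ : h.JJ a, (h.dd hk.hab θ) ^ 2 + 1 = Nat.card (K h.zass a) := by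
  haveI := finite_group h.zass
  haveI : Fintype G := Fintype.ofFinite _
  haveI : Fintype (stabilizer G a) := Fintype.ofFinite _
  have h1 := h.sum_dd_sq hk.hab
  have h2 := card_K h.zass a
  have h3 := hk.card_e
  have h4 : Nat.card ↥(stabilizer G a ⊓ stabilizer G b) = q - 1 := by omega
  rw [h4] at h1
  omega

end NK

/-- The data from the group theory. -/
theorem OddInv.exists_NK (h : OddInv G Ω) {a b : Ω} (hab : a ≠ b) (h2 : IsPGroup 2 (K h.zass a))
    (hne : ∃ u v : K h.zass a, u * v ≠ v * u) :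
    ∃ q, NK h a b q ∧ (Nat.card (K h.zass a) = q ^ 2 ∨ Nat.card (K h.zass a) = q ^ 3) := by
  obtain ⟨h3, h4, h5, h6, h7, h8, h9⟩ := h.kernel_struct hab h2 hne
  exact ⟨_, ⟨hab, rfl, h6, h7, h8, h9, h3, h4⟩, h5⟩

end Cfsg.Agent.H20.Zass
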