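import Cfsg.Agent.H20.ZS3
import Cfsg.Agent.H20.Coh2

/-!
Zassenhaus groups whose one-point kernel is a nonabelian 2-group: conclusion of the
character-theoretic argument.
-/

set_option autoImplicit false
set_option linter.style.haveILetI false

open Cfsg MulAction
open scoped Pointwise ComplexConjugate commutatorElement

namespace Cfsg.Agent.H20.Zass

open Cfsg.Agent.H3

universe u v

variable {G : Type u} [Group G] {Ω : Type v} [MulAction G Ω] [Finite Ω]

theorem fs_values {G' : Type u} [Group G'] [Fintype G'] {χ : G' → ℂ}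
    (hχ : IsIrrCharacter G' χ) :
    ∃ n : ℤ, (n : ℂ) = fsInd χ ∧ (n ≤ 1 ∧ -1 ≤ n) ∧ (n ≠ 0 → χ = fun g => conj (χ g)) := by
  by_cases hreal : χ = (fun g => conj (χ g))
  · rcases (frobenius_schur hχ).2 hreal with h1 | h1
    · exact ⟨1, by rw [h1]; norm_num, ⟨le_rfl, by norm_num⟩, fun _ => hreal⟩
    · exact ⟨-1, by rw [h1]; norm_num, ⟨by norm_num, le_rfl⟩, fun _ => hreal⟩
  · exact ⟨0, by rw [(frobenius_schur hχ).1 hreal]; norm_num, ⟨by norm_num, by norm_num⟩,
      fun h => absurd rfl h⟩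

namespace NK

variable {h : OddInv G Ω} {a b : Ω} {q : ℕ} (hk : NK h a b q)
include hk

omit hk in
theorem odd_card (_hk : NK h a b q) (hK : Even (Nat.card (K h.zass a))) : Odd (Nat.card Ω) := by
  rw [← card_K h.zass a]
  exact hK.add_odd odd_one

theorem even_card_K : Even (Nat.card (K h.zass a)) := by
  obtain ⟨n, hn⟩ := hk.pow_k
  haveI := finite_group h.zass
  rw [hn, Nat.even_pow]
  refine ⟨even_two, ?_⟩
  rintro rfl
  rw [pow_zero] at hn
  have h2 : Nat.card (h.TT a) ≤ 1 := by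
    rw [← hn, ← card_KB]
    exact Subgroup.card_le_of_le (h.TT_le a)
  rw [hk.card_T] at h2
  have := hk.four_le
  omega

/-- The case `|K| = q ^ 3` is impossible. -/
theorem false_of_cube (hK : Nat.card (K h.zass a) = q ^ 3) : False := by
  classical
  haveI := finite_group h.zass
  haveI : Fintype G := Fintype.ofFinite _
  haveI : Fintype (stabilizer G a) := Fintype.ofFinite _
  haveI : Fintype (IrrCharacter G) := Fintype.ofFinite _
  haveI : Fintype (h.JJ a) := Fintype.ofFinite _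
  haveI : Fintype (h.XX a) := Fintype.ofFinite _
  have h4 := hk.four_le
  have hodd := hk.odd_card hk.even_card_K
  obtain ⟨p, rfl⟩ : ∃ p, q = p + 1 := ⟨q - 1, by omega⟩
  have hp : 3 ≤ p := by omega
  -- number of linear ones
  have hJM : (h.JM (h.TT a)).card = p + 2 := by
    have h1 := hk.sum_in
    rw [hK, Nat.add_sub_cancel] at h1
    have h2 : p * (h.JM (h.TT a)).card + 1 = (p + 1) ^ 2 := by
      apply Nat.eq_of_mul_eq_mul_right (show 0 < p + 1 by omega)
      rw [h1]; ring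
    have h3 : p * (h.JM (h.TT a)).card = p * (p + 2) := by
      have : p * (p + 2) + 1 = (p + 1) ^ 2 := by ring
      omega
    exact Nat.eq_of_mul_eq_mul_left (by omega) h3
  have hYY : 2 * (h.YY a).card + 2 = p + 1 := by
    have h1 := h.card_YY hk.hab
    have h2 := hk.card_e
    omega
  have hout : ∀ θ : h.JJ a, θ ∉ h.JM (h.TT a) → h.dd hk.hab θ = p + 1 ∧
      fsInd (θ.1 : stabilizer G a → ℂ) = -1 := by
    intro θ hθ
    have h1 := hk.fs_out θ hθ
    obtain ⟨n, hn, ⟨hn1, hn2⟩, -⟩ := fs_values (θ.1.2)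
    rw [← hn, hK] at h1
    have h2 : (n * (p + 1) + h.dd hk.hab θ : ℂ) = 0 := by
      have hp0 : (p : ℂ) ≠ 0 := by exact_mod_cast (by omega : p ≠ 0)
      have hp1 : (p : ℂ) + 1 ≠ 0 := by exact_mod_cast (by omega : p + 1 ≠ 0)
      have h3 : ((p : ℂ) * (p + 1) ^ 2) * (n * (p + 1) + h.dd hk.hab θ) = 0 := by
        push_cast at h1
        linear_combination h1
      rcases mul_eq_zero.mp h3 with h4 | h4
      · exfalso
        rcases mul_eq_zero.mp h4 with h5 | h5
        · exact hp0 h5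
        · exact hp1 (pow_eq_zero_iff (two_ne_zero) |>.mp h5)
      · exact h4
    have h3 : n * (p + 1) + h.dd hk.hab θ = 0 := by exact_mod_cast h2
    have h5 := h.dd_pos hk.hab θ
    have hn3 : n = -1 := by
      have h6 : n < 0 := by
        by_contra hc
        push Not at hc
        have : 0 ≤ n * ((p : ℤ) + 1) := mul_nonneg hc (by positivity)
        omega
      omega
    rw [hn3] at h3 hn
    refine ⟨?_, ?_⟩
    · have : (h.dd hk.hab θ : ℤ) = p + 1 := by linarith
      exact_mod_cast this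
    · rw [← hn]; norm_num
  choose ν hν1 hν2 hν3 using fun χ : h.XX a => fs_values (χ.1.2)
  have hfs : ∀ θ : h.JJ a, ∀ f : ℤ, fsInd (θ.1 : stabilizer G a → ℂ) = f →
      ∑ χ : h.XX a, h.nn θ χ * ν χ = f + h.dd hk.hab θ * (h.YY a).card := by
    intro θ f hf
    have h1 := h.fs_XX hk.hab hodd θ
    rw [hf] at h1
    have h2 : ((∑ χ : h.XX a, h.nn θ χ * ν χ : ℤ) : ℂ) =
        ((f + h.dd hk.hab θ * (h.YY a).card : ℤ) : ℂ) := by
      push_cast
      rw [← h1]
      exact Finset.sum_congr rfl fun χ _ => by rw [hν1]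
    exact_mod_cast h2
  have hd1 : ∀ θ ∈ h.JM (h.TT a), h.dd hk.hab θ = 1 := fun θ hθ => (hk.fs_in θ hθ).1
  obtain ⟨ε, r, c, hε, hr, hS₀⟩ := h.coh_start hk.hab (h.JM (h.TT a)) (by omega) hd1
  have hW : 2 * ((h.YY a).card : ℤ) + 2 = ((p + 1 : ℕ) : ℤ) := by exact_mod_cast hYY
  have hall : ∀ i, ∃ z, Coh.CohAt (h.nn (a := a)) (fun θ => (h.dd hk.hab θ : ℤ)) ε r c i z := by
    intro i
    by_cases hi : i ∈ h.JM (h.TT a)
    · exact hS₀ i hi
    · obtain ⟨hi1, hi2⟩ := hout i hi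
      refine Coh.caseA (h.feitSys hk.hab) hε hr (by exact_mod_cast h4) hW (h.JM (h.TT a)) ?_ ?_
        hS₀ ν hν2 ?_ i ?_ hi ?_
      · rw [hJM]; push_cast; ring
      · intro j hj; rw [hd1 j hj]; norm_num
      · intro j hj
        rw [hfs j 1 (by rw [(hk.fs_in j hj).2]; norm_num), hd1 j hj]
        push_cast; ring
      · rw [hi1]
      · rw [hfs i (-1) (by rw [hi2]; norm_num), hi1]
  obtain ⟨i₀, hi₀⟩ : (h.JM (h.TT a)).Nonempty := Finset.card_pos.mp (by omega)
  have hfin := h.card_le_of_coh hk.hab hε hr hall (hd1 i₀ hi₀)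
  have h6 := card_K h.zass a
  have h7 := hk.card_e
  rw [← h6, hK] at hfin
  have h8 : Nat.card ↥(stabilizer G a ⊓ stabilizer G b) = p := by omega
  rw [h8] at hfin
  have h9 : (p + 1) ^ 3 = p * p * p + 3 * (p * p) + 3 * p + 1 := by ring
  have h10 : 9 ≤ p * p := Nat.mul_le_mul hp hp
  omega

end NK

namespace OddInv

variable (h : OddInv G Ω) [Fintype G]
include h

/-- conjugation on the relevant characters -/
noncomputable def bJ {a : Ω} (θ : h.JJ a) : h.JJ a :=
  haveI := finite_group h.zass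
  ⟨⟨fun g => conj ((θ.1 : stabilizer G a → ℂ) g), isIrr_conj θ.1.2⟩, by
    obtain ⟨k, hk, hk1⟩ := θ.2
    refine ⟨k, hk, ?_⟩
    intro hc
    apply hk1
    have := congrArg conj hc
    simpa using this⟩

omit [Fintype G] in
theorem bJ_apply {a : Ω} (θ : h.JJ a) (g : stabilizer G a) :
    ((h.bJ θ).1 : stabilizer G a → ℂ) g = conj ((θ.1 : stabilizer G a → ℂ) g) := rfl

/-- conjugation on the irreducible characters orthogonal to `uK` -/
noncomputable def bX {a : Ω} [Fintype (stabilizer G a)] (χ : h.XX a) : h.XX a :=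
  ⟨⟨fun g => conj ((χ.1 : G → ℂ) g), isIrr_conj χ.1.2⟩, by
    have h1 : h.ru a χ.1 = 0 := χ.2
    show classInner (uK h.zass a) (fun x : stabilizer G a => conj ((χ.1 : G → ℂ) x)) = 0
    have h2 : uK h.zass a = fun x => conj (uK h.zass a x) := by
      funext x; rw [uK_conj]
    rw [h2, classInner_conj_conj]
    have h3 : classInner (uK h.zass a) (fun x : stabilizer G a => (χ.1 : G → ℂ) x) = 0 := h1
    rw [h3, map_zero]⟩

theorem bX_apply {a : Ω} [Fintype (stabilizer G a)] (χ : h.XX a) (g : G) :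
    ((h.bX χ).1 : G → ℂ) g = conj ((χ.1 : G → ℂ) g) := rfl

theorem nn_b {a : Ω} [Fintype (stabilizer G a)] (θ : h.JJ a) (χ : h.XX a) :
    h.nn (h.bJ θ) (h.bX χ) = h.nn θ χ := by
  have h1 : ((h.nn (h.bJ θ) (h.bX χ) : ℤ) : ℂ) = (h.nn θ χ : ℂ) := by
    rw [(h.nn_spec (h.bJ θ) (h.bX χ)).1]
    have h2 : classInner ((h.bJ θ).1 : stabilizer G a → ℂ)
        (fun x : stabilizer G a => ((h.bX χ).1 : G → ℂ) x) =
        conj (classInner (θ.1 : stabilizer G a → ℂ)
          (fun x : stabilizer G a => (χ.1 : G → ℂ) x)) := classInner_conj_conj _ _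
    rw [h2, ← (h.nn_spec θ χ).1, map_intCast]
  exact_mod_cast h1

theorem dd_b {a b : Ω} (hab : a ≠ b) (θ : h.JJ a) : h.dd hab (h.bJ θ) = h.dd hab θ := by
  have h1 := h.dd_spec hab (h.bJ θ)
  rw [h.bJ_apply, h.dd_spec hab θ, map_mul, Complex.conj_natCast, Complex.conj_natCast] at h1
  have h2 := mul_left_cancel₀ h.card_two_ne_zero h1
  exact_mod_cast h2.symm

end OddInv

/-- The arithmetic of the last step. -/
theorem arith_final {q n : ℕ} (hq : q = 2 ^ n) (hn : 1 < n) {Y : ℤ} (hY : Even Y)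
    (hm : 0 < (q : ℤ) + 1 - Y) (hle : Y ^ 2 ≤ 2 * q)
    (hdvd : (q : ℤ) + 1 - Y ∣ ((q : ℤ) ^ 2 + 1) * (Y - 1)) : Odd n := by
  have hqe : Even (q : ℤ) := by
    rw [hq]
    push_cast
    exact (Int.even_pow.mpr ⟨even_two, by omega⟩)
  have hmodd : Odd ((q : ℤ) + 1 - Y) := by
    have h1 : Odd ((q : ℤ) + 1) := hqe.add_odd odd_one
    exact h1.sub_even hY
  set m : ℤ := (q : ℤ) + 1 - Y with hmdef
  have h1 : m ∣ ((q : ℤ) ^ 2 + 1) * q := by
    have h2 : ((q : ℤ) ^ 2 + 1) * q = ((q : ℤ) ^ 2 + 1) * (Y - 1) + ((q : ℤ) ^ 2 + 1) * m := by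
      rw [hmdef]; ring
    rw [h2]
    exact dvd_add hdvd (Dvd.intro_left _ rfl)
  have hcop : IsCoprime m (q : ℤ) := by
    rw [hq]
    push_cast
    apply IsCoprime.pow_right
    exact (Int.isCoprime_iff_gcd_eq_one.mpr (by
      have h3 : Int.gcd m 2 ∣ 2 := Int.gcd_dvd_natAbs_right m 2
      rcases (Nat.dvd_prime Nat.prime_two).mp h3 with h4 | h4
      · exact h4
      · exfalso
        have h5 : (2 : ℤ) ∣ m := by
          have := Int.gcd_dvd_left (a := m) (b := 2)
          rw [h4] at this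
          exact_mod_cast this
        exact (Int.not_even_iff_odd.mpr hmodd) (even_iff_two_dvd.mpr h5)))
  have h2 : m ∣ (q : ℤ) ^ 2 + 1 := hcop.dvd_of_dvd_mul_right h1
  have h3 : m ∣ 2 * q - Y ^ 2 := by
    have h4 : (2 : ℤ) * q - Y ^ 2 = m * ((q : ℤ) + 1 + Y) - ((q : ℤ) ^ 2 + 1) := by
      rw [hmdef]; ring
    rw [h4]
    exact dvd_sub (Dvd.intro _ rfl) h2
  obtain ⟨s, hs⟩ := h3
  have hs0 : 0 ≤ s := by
    by_contra hc
    push Not at hc
    nlinarith
  have hs1 : s = 0 := by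
    by_contra hc
    have hs2 : 1 ≤ s := by omega
    rcases eq_or_lt_of_le hs2 with h5 | h5
    · rw [← h5, mul_one, hmdef] at hs
      -- parity
      obtain ⟨y, hy⟩ := hY
      obtain ⟨r, hr⟩ := hqe
      rw [hy, hr] at hs
      have : (2 : ℤ) ∣ 1 := ⟨2 * r - 2 * y * y - r + y, by nlinarith⟩
      omega
    · have h6 : 2 * m ≤ m * s := by nlinarith
      rw [← hs, hmdef] at h6
      nlinarith [sq_nonneg (Y - 1)]
  rw [hs1, mul_zero] at hs
  -- `Y ^ 2 = 2 ^ (n + 1)`
  have h7 : Y ^ 2 = 2 ^ (n + 1) := by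
    have : Y ^ 2 = 2 * q := by linarith
    rw [this, hq]; push_cast; ring
  have h8 : Y.natAbs ^ 2 = 2 ^ (n + 1) := by
    have := congrArg Int.natAbs h7
    rw [Int.natAbs_pow, Int.natAbs_pow] at this
    exact this
  have h9 : Y.natAbs ∣ 2 ^ (n + 1) := by rw [← h8]; exact dvd_pow_self _ two_ne_zero
  obtain ⟨j, -, hj⟩ := (Nat.dvd_prime_pow Nat.prime_two).mp h9
  rw [hj, ← pow_mul] at h8
  have h10 := Nat.pow_right_injective le_rfl h8
  have h11 : j * 2 = n + 1 := h10
  exact ⟨j - 1, by omega⟩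

namespace NK

variable {h : OddInv G Ω} {a b : Ω} {q : ℕ} (hk : NK h a b q)
include hk

theorem odd_of_square (hK : Nat.card (K h.zass a) = q ^ 2) : ∃ n, Odd n ∧ 1 < n ∧ q = 2 ^ n := by
  classical
  haveI := finite_group h.zass
  haveI : Fintype G := Fintype.ofFinite _
  haveI : Fintype (stabilizer G a) := Fintype.ofFinite _
  haveI : Fintype (IrrCharacter G) := Fintype.ofFinite _
  haveI : Fintype (h.JJ a) := Fintype.ofFinite _
  haveI : Fintype (h.XX a) := Fintype.ofFinite _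
  have h4 := hk.four_le
  have hodd := hk.odd_card hk.even_card_K
  have hYY : 2 * (h.YY a).card + 2 = q := by
    have h1 := h.card_YY hk.hab
    have h2 := hk.card_e
    omega
  have hW : 2 * ((h.YY a).card : ℤ) + 2 = (q : ℤ) := by exact_mod_cast hYY
  have hJM : (h.JM (h.TT a)).card = 1 := by
    have h1 := hk.sum_in
    rw [hK] at h1
    have h2 : (q - 1) * (h.JM (h.TT a)).card + 1 = q := by
      apply Nat.eq_of_mul_eq_mul_right (show 0 < q by omega)
      rw [h1]; ring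
    have h3 : (q - 1) * (h.JM (h.TT a)).card = (q - 1) * 1 := by omega
    exact Nat.eq_of_mul_eq_mul_left (by omega) h3
  obtain ⟨i₀, hi₀⟩ := Finset.card_eq_one.mp hJM
  have hi₀m : i₀ ∈ h.JM (h.TT a) := by rw [hi₀]; exact Finset.mem_singleton_self _
  have hnot : ∀ j, j ≠ i₀ → j ∉ h.JM (h.TT a) := by
    intro j hj hc
    rw [hi₀, Finset.mem_singleton] at hc
    exact hj hc
  obtain ⟨hd₀, hfs₀⟩ := hk.fs_in i₀ hi₀m
  have hsum : ∑ j ∈ Finset.univ.erase i₀, (h.dd hk.hab j : ℤ) * (h.dd hk.hab j : ℤ) = q := by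
    have h1 := hk.sum_all
    rw [hK] at h1
    have h2 : (q - 1) * ∑ θ : h.JJ a, (h.dd hk.hab θ) ^ 2 = (q - 1) * (q + 1) := by
      obtain ⟨p, rfl⟩ : ∃ p, q = p + 1 := ⟨q - 1, by omega⟩
      rw [Nat.add_sub_cancel] at h1 ⊢
      have : p * (p + 1 + 1) + 1 = (p + 1) ^ 2 := by ring
      omega
    have h3 := Nat.eq_of_mul_eq_mul_left (by omega) h2
    have h5 := Finset.add_sum_erase Finset.univ (fun θ => (h.dd hk.hab θ) ^ 2) (Finset.mem_univ i₀)
    rw [h3] at h5
    simp only [hd₀, one_pow] at h5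
    have h6 : ∑ x ∈ Finset.univ.erase i₀, h.dd hk.hab x ^ 2 = q := by omega
    have h7 : ((∑ x ∈ Finset.univ.erase i₀, h.dd hk.hab x ^ 2 : ℕ) : ℤ) = (q : ℤ) := by rw [h6]
    push_cast at h7
    rw [← h7]
    exact Finset.sum_congr rfl fun x _ => by ring
  have hfs0 : ∀ j, j ≠ i₀ → fsInd (j.1 : stabilizer G a → ℂ) = 0 := by
    intro j hj
    have h1 := hk.fs_out j (hnot j hj)
    rw [hK] at h1
    push_cast at h1
    rw [sub_self, mul_zero] at h1
    have hq0 : (q : ℂ) ≠ 0 := by exact_mod_cast (by omega : q ≠ 0)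
    have hq1 : (q : ℂ) - 1 ≠ 0 := by
      rw [← hk.card_two]; exact h.card_two_ne_zero
    rcases mul_eq_zero.mp h1 with h2 | h2
    · exact h2
    · exfalso
      rcases mul_eq_zero.mp h2 with h3 | h3
      · exact hq0 (pow_eq_zero_iff (two_ne_zero) |>.mp h3)
      · exact hq1 h3
  choose ν hν1 hν2 hν3 using fun χ : h.XX a => fs_values (χ.1.2)
  obtain ⟨χ, hχ1, hχ2⟩ := Coh.caseB (h.feitSys hk.hab) hW (by exact_mod_cast (by omega : 0 < q)) ν
    hν2 i₀ (by rw [hd₀]; norm_num)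
    (by
      have h1 := h.fs_XX hk.hab hodd i₀
      rw [hfs₀, hd₀] at h1
      have h2 : ((∑ χ : h.XX a, h.nn i₀ χ * ν χ : ℤ) : ℂ) =
          ((1 + (h.YY a).card : ℤ) : ℂ) := by
        push_cast
        rw [Nat.cast_one, one_mul] at h1
        rw [← h1]
        exact Finset.sum_congr rfl fun χ _ => by rw [hν1]
      exact_mod_cast h2)
    hsum h.bJ h.bX
    (by
      intro j hj hc
      have h1 : (j.1 : stabilizer G a → ℂ) = fun g => conj ((j.1 : stabilizer G a → ℂ) g) := by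
        funext g
        rw [← h.bJ_apply, hc]
      have h2 := (frobenius_schur j.1.2).2 h1
      rw [hfs0 j hj] at h2
      rcases h2 with h3 | h3
      · exact zero_ne_one h3
      · norm_num at h3)
    (fun j => by rw [h.dd_b])
    h.nn_b
    (by
      intro x hx
      have h1 := hν3 x hx
      apply Subtype.ext
      apply Subtype.ext
      exact h1.symm)
  -- degree and value
  set Y : ℤ := (q : ℤ) - ∑ j ∈ Finset.univ.erase i₀, (h.dd hk.hab j : ℤ) * h.nn j χ with hY
  have hone : (χ.1 : G → ℂ) 1 = ((q : ℂ) - 1) * (((q : ℤ) + 1 - Y : ℤ) : ℂ) := by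
    rw [h.XX_one hk.hab χ, hk.card_two]
    congr 2
    rw [← Finset.add_sum_erase Finset.univ (fun θ => h.nn θ χ * (h.dd hk.hab θ : ℤ))
      (Finset.mem_univ i₀), hY, hχ1, hd₀]
    rw [Finset.sum_congr rfl fun θ _ => mul_comm _ _]
    push_cast
    ring
  -- an involution
  obtain ⟨t, htT, ht1⟩ : ∃ t ∈ h.TT a, t ≠ 1 := by
    by_contra hc
    push Not at hc
    have h1 : h.TT a = ⊥ := by
      rw [eq_bot_iff]
      intro x hx
      rw [Subgroup.mem_bot]; exact hc x hx
    have h2 := hk.card_T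
    rw [h1, Subgroup.card_bot] at h2
    omega
  have htval : (χ.1 : G → ℂ) (t : G) = ((Y - 1 : ℤ) : ℂ) := by
    rw [h.res_XX χ t, ← Finset.add_sum_erase Finset.univ _ (Finset.mem_univ i₀), hχ1,
      h.mem_JM.mp hi₀m t htT, h.dd_spec hk.hab i₀, hd₀, hk.card_two]
    have h1 : ∑ θ ∈ Finset.univ.erase i₀, (h.nn θ χ : ℂ) * (θ.1 : stabilizer G a → ℂ) t =
        - ((∑ j ∈ Finset.univ.erase i₀, (h.dd hk.hab j : ℤ) * h.nn j χ : ℤ) : ℂ) := by
      push_cast
      rw [← Finset.sum_neg_distrib]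
      refine Finset.sum_congr rfl fun θ hθ => ?_
      have h2 := hnot θ (Finset.mem_erase.mp hθ).1
      rw [h.mem_JM] at h2
      push Not at h2
      rw [hk.theta_T θ h2 htT ht1]
      ring
    rw [h1, hY]
    push_cast
    ring
  have hm : 0 < (q : ℤ) + 1 - Y := by
    obtain ⟨m, hm0, hm⟩ := irr_one_eq_nat χ.1.2
    rw [hm] at hone
    have h1 : (m : ℤ) = ((q : ℤ) - 1) * ((q : ℤ) + 1 - Y) := by exact_mod_cast hone
    by_contra hc
    push Not at hc
    have h2 : (0 : ℤ) < m := by exact_mod_cast hm0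
    have h3 : ((q : ℤ) - 1) * ((q : ℤ) + 1 - Y) ≤ 0 :=
      mul_nonpos_of_nonneg_of_nonpos (by have : (4 : ℤ) ≤ q := by exact_mod_cast h4
                                         linarith) hc
    linarith
  have hYe : Even Y := by
    rw [hY]
    apply Even.sub
    · obtain ⟨n, hn, hn2⟩ := hk.pow_q
      rw [hn2]
      push_cast
      exact (Int.even_pow.mpr ⟨even_two, by omega⟩)
    · refine Finset.even_sum _ fun j hj => ?_
      apply Even.mul_right
      have := hk.even_dd j (hnot j (Finset.mem_erase.mp hj).1)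
      exact_mod_cast this
  -- central character
  have hindex : (Subgroup.centralizer ({(t : G)} : Set G)).index = (q ^ 2 + 1) * (q - 1) := by
    have hcen : Subgroup.centralizer ({(t : G)} : Set G) = K h.zass a := by
      ext g
      rw [Subgroup.mem_centralizer_singleton_iff]
      constructor
      · intro hg
        exact mem_K_of_commute h.zass htT.1 (fun hc => ht1 (Subtype.ext hc)) hg
      · intro hg
        have h1 := hk.cen t htT ⟨g, K_le h.zass a hg⟩ ((mem_KB h.zass).mpr hg)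
        exact congrArg (fun x : stabilizer G a => (x : G)) h1
    rw [hcen]
    have h1 := (K h.zass a).index_mul_card
    rw [card_G h.zass hk.hab, ← card_K h.zass a, hK] at h1
    have h2 := hk.card_e
    have h3 : Nat.card ↥(stabilizer G a ⊓ stabilizer G b) = q - 1 := by omega
    rw [h3] at h1
    have h5 : 0 < q ^ 2 := by positivity
    apply Nat.eq_of_mul_eq_mul_right h5
    rw [h1]; ring
  have hint := isIntegral_central_char χ.1.2 (t : G)
  rw [hindex, htval, hone] at hint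
  have hq1 : (q : ℂ) - 1 ≠ 0 := by
    rw [← hk.card_two]; exact h.card_two_ne_zero
  have hmne : (((q : ℤ) + 1 - Y : ℤ) : ℂ) ≠ 0 := by exact_mod_cast hm.ne'
  have heq : (((q ^ 2 + 1) * (q - 1) : ℕ) : ℂ) * ((Y - 1 : ℤ) : ℂ) /
      (((q : ℂ) - 1) * (((q : ℤ) + 1 - Y : ℤ) : ℂ)) =
      ((((q : ℤ) ^ 2 + 1) * (Y - 1) : ℤ) : ℂ) / (((q : ℤ) + 1 - Y : ℤ) : ℂ) := by
    rw [Nat.cast_mul, Nat.cast_sub (by omega : 1 ≤ q)]
    rw [div_eq_div_iff (mul_ne_zero hq1 hmne) hmne]
    push_cast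
    ring
  rw [heq] at hint
  have hdvd := int_dvd_of_isIntegral hm.ne' hint
  obtain ⟨n, hn, hn2⟩ := hk.pow_q
  exact ⟨n, arith_final hn2 hn hYe hm hχ2 hdvd, hn, hn2⟩

end NK

end Cfsg.Agent.H20.Zass
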