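import Cfsg.Agent.H20.ZS4
import Cfsg.Agent.H20.SZ12
import Cfsg.Prelude.Def_Exceptional

/-!
Simple Zassenhaus groups whose one-point kernel is a nonabelian 2-group.
-/

set_option autoImplicit false
set_option linter.style.haveILetI false

open Cfsg MulAction
open scoped Pointwise ComplexConjugate commutatorElement

namespace Cfsg.Agent.H20.Zass

universe u v

variable {G : Type u} [Group G] {Ω : Type v} [MulAction G Ω] [Finite Ω]

theorem suzuki_order [IsSimpleGroup G] (hZ : IsZassenhausGroup G Ω) {a b : Ω} (hab : a ≠ b)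
    (h2 : IsPGroup 2 (K hZ a)) (hne : ∃ u v : K hZ a, u * v ≠ v * u) :
    ∃ n, Odd n ∧ 1 < n ∧ Nat.card ↥(stabilizer G a ⊓ stabilizer G b) = 2 ^ n - 1 ∧
      Nat.card (K hZ a) = (2 ^ n) ^ 2 ∧ OddInv G Ω := by
  haveI := finite_group hZ
  have hΩ : Odd (Nat.card Ω) := by
    rw [← card_K hZ a]
    obtain ⟨m, hm⟩ := IsPGroup.iff_card.mp h2
    have hm0 : m ≠ 0 := by
      rintro rfl
      rw [pow_zero] at hm
      exact K_ne_bot hZ a (Subgroup.card_eq_one.mp hm)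
    rw [hm]
    exact (Nat.even_pow.mpr ⟨even_two, hm0⟩).add_odd odd_one
  have h := oddInv_of_simple hZ hab (two_pt_odd_of_odd hZ hΩ hab)
  obtain ⟨q, hk, hq⟩ := h.exists_NK hab h2 hne
  have hq2 : Nat.card (K hZ a) = q ^ 2 := by
    rcases hq with h1 | h1
    · exact h1
    · exact absurd h1 (fun h1 => hk.false_of_cube h1)
  obtain ⟨n, hn, hn1, rfl⟩ := hk.odd_of_square hq2
  refine ⟨n, hn, hn1, ?_, hq2, h⟩
  have := hk.card_e
  omega

theorem isSuzuki_of_two [IsSimpleGroup G] (hZ : IsZassenhausGroup G Ω) {a : Ω}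
    (h2 : IsPGroup 2 (K hZ a)) (hne : ∃ u v : K hZ a, u * v ≠ v * u) : IsSuzuki G := by
  obtain ⟨b, hab⟩ := exists_ne_pt hZ a
  obtain ⟨n, hn, hn1, he, hK, -⟩ := suzuki_order hZ hab h2 hne
  refine ⟨inferInstance, ?_⟩
  obtain ⟨m, rfl⟩ := hn
  refine ⟨m, by omega, ?_⟩
  rw [card_G hZ hab, ← card_K hZ a, hK, he]
  ring

end Cfsg.Agent.H20.Zass
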