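import Cfsg.Agent.H20.ZCoh6

/-!
Sharply triply transitive groups of even degree are not simple.
-/

set_option autoImplicit false
set_option linter.style.haveILetI false

open Cfsg MulAction
open scoped Pointwise ComplexConjugate commutatorElement

namespace Cfsg.Agent.H20.Zass

open Cfsg.Agent.H3

universe u v

section numeric

theorem sharp_numeric {a a' b e : ℕ} (hb : b = a + a') (ha' : 1 ≤ a') (haa : a' < a)
    (hbe : b ^ 2 ≤ e) (hdvd : b + a * e ∣ (e + 1) * (e + 2) * b) : False := by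
  have hb0 : 0 < b := by omega
  set m := b + a * e with hm
  have h1 : m ∣ Nat.gcd m (e + 1) * Nat.gcd m (e + 2) * Nat.gcd m b := by
    have h2 : m = Nat.gcd m ((e + 1) * (e + 2) * b) := (Nat.gcd_eq_left hdvd).symm
    calc m = Nat.gcd m ((e + 1) * (e + 2) * b) := h2
      _ ∣ Nat.gcd m ((e + 1) * (e + 2)) * Nat.gcd m b := Nat.gcd_mul_right_dvd_mul_gcd _ _ _
      _ ∣ Nat.gcd m (e + 1) * Nat.gcd m (e + 2) * Nat.gcd m b :=
        Nat.mul_dvd_mul_right (Nat.gcd_mul_right_dvd_mul_gcd _ _ _) _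
  have g1 : Nat.gcd m (e + 1) ∣ a' := by
    have h2 : m = a * (e + 1) + a' := by rw [hm, hb]; ring
    have h3 : Nat.gcd m (e + 1) ∣ a * (e + 1) := Dvd.dvd.mul_left (Nat.gcd_dvd_right _ _) _
    exact (Nat.dvd_add_right h3).mp (h2 ▸ Nat.gcd_dvd_left m (e + 1))
  have g2 : Nat.gcd m (e + 2) ∣ a - a' := by
    have h2 : m + (a - a') = a * (e + 2) := by
      have : a = a' + (a - a') := by omega
      rw [hm, hb]
      nlinarith
    have h3 : Nat.gcd m (e + 2) ∣ a * (e + 2) := Dvd.dvd.mul_left (Nat.gcd_dvd_right _ _) _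
    rw [← h2] at h3
    exact (Nat.dvd_add_right (Nat.gcd_dvd_left _ _)).mp h3
  have l1 := Nat.le_of_dvd (by omega) g1
  have l2 := Nat.le_of_dvd (by omega) g2
  have l3 := Nat.le_of_dvd hb0 (Nat.gcd_dvd_right m b)
  have hm0 : 0 < m := by omega
  have l4 : m ≤ a' * (a - a') * b := by
    refine (Nat.le_of_dvd ?_ h1).trans (Nat.mul_le_mul (Nat.mul_le_mul l1 l2) l3)
    have := Nat.gcd_pos_of_pos_left (e + 1) hm0
    have := Nat.gcd_pos_of_pos_left (e + 2) hm0
    have := Nat.gcd_pos_of_pos_left b hm0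
    positivity
  have l5 : a * b ^ 2 < m := by
    have := Nat.mul_le_mul_left a hbe
    omega
  have l6 : a' * (a - a') ≤ a * b := by
    calc a' * (a - a') ≤ b * a := Nat.mul_le_mul (by omega) (by omega)
      _ = a * b := mul_comm _ _
  have l7 : a' * (a - a') * b ≤ a * b * b := Nat.mul_le_mul_right _ l6
  have l8 : a * b * b = a * b ^ 2 := by ring
  omega

end numeric

variable {G : Type u} [Group G] {Ω : Type v} [MulAction G Ω] [Finite Ω]
  (hZ : IsZassenhausGroup G Ω)
include hZ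

/-- Projection of the point stabiliser onto the two-point stabiliser. -/
theorem exists_proj {a b : Ω} (hab : a ≠ b) :
    ∃ r : stabilizer G a →* ↥(stabilizer G a ⊓ stabilizer G b),
      (∀ x, r x = 1 ↔ (x : G) ∈ K hZ a) ∧
      ∀ (h : ↥(stabilizer G a ⊓ stabilizer G b)) (hx : (h : G) ∈ stabilizer G a),
        r ⟨h, hx⟩ = h := by
  classical
  haveI := finite_group hZ
  haveI := KB_normal hZ a
  let f : ↥(stabilizer G a ⊓ stabilizer G b) →* stabilizer G a ⧸ KB hZ a :=
    (QuotientGroup.mk' (KB hZ a)).comp (Subgroup.inclusion inf_le_left)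
  have hf : Function.Bijective f := by
    constructor
    · rw [injective_iff_map_eq_one]
      intro h hh
      have h1 : (Subgroup.inclusion (inf_le_left : stabilizer G a ⊓ stabilizer G b ≤ _) h) ∈
          KB hZ a := (QuotientGroup.eq_one_iff _).mp hh
      rw [mem_KB] at h1
      exact Subtype.ext (K_eq_one hZ h1 hab.symm h.2.2)
    · intro y
      obtain ⟨g, rfl⟩ := QuotientGroup.mk_surjective y
      obtain ⟨u, hu, h, hha, hhb, hg⟩ := exists_mul hZ hab (show (g : G) • a = a from g.2)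
      refine ⟨⟨h, hha, hhb⟩, ?_⟩
      have h1 : g = (⟨u, K_le hZ a hu⟩ : stabilizer G a) * ⟨h, hha⟩ := Subtype.ext hg
      rw [h1, QuotientGroup.mk_mul,
        (QuotientGroup.eq_one_iff (⟨u, K_le hZ a hu⟩ : stabilizer G a)).mpr
          ((mem_KB hZ).mpr hu), one_mul]
      rfl
  let φ := MulEquiv.ofBijective f hf
  refine ⟨φ.symm.toMonoidHom.comp (QuotientGroup.mk' (KB hZ a)), ?_, ?_⟩
  · intro x
    show φ.symm (QuotientGroup.mk' (KB hZ a) x) = 1 ↔ _
    rw [MulEquiv.map_eq_one_iff, ← mem_KB]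
    exact QuotientGroup.eq_one_iff x
  · intro h hx
    show φ.symm (QuotientGroup.mk' (KB hZ a) ⟨h, hx⟩) = h
    rw [MulEquiv.symm_apply_eq]
    rfl

/-- An involution of the two-point stabiliser inverts the kernel. -/
theorem involution_inverts {a b : Ω} (hab : a ≠ b) {z : G} (hz1 : z ≠ 1) (hz2 : z * z = 1)
    (hza : z • a = a) (hzb : z • b = b) {k : G} (hk : k ∈ K hZ a) : z * k * z⁻¹ = k⁻¹ := by
  haveI := finite_group hZ
  have hK : (K hZ a).map (MulAut.conj z).toMonoidHom = K hZ a := by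
    ext x
    constructor
    · rintro ⟨y, hy, rfl⟩
      exact K_normal_in hZ hza hy
    · intro hx
      refine ⟨z⁻¹ * x * z, ?_, ?_⟩
      · have h3 : z⁻¹ • a = a := by rw [inv_smul_eq_iff]; exact hza.symm
        have := K_normal_in hZ h3 hx
        rwa [inv_inv] at this
      · show z * (z⁻¹ * x * z) * z⁻¹ = x
        group
  obtain ⟨ψ, hψ⟩ := Fpf.exists_restrict (MulAut.conj z) hK
  have hfpf : MonoidHom.FixedPointFree ⇑ψ := by
    intro x hx
    have h1 : z * (x : G) * z⁻¹ = x := by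
      have := hψ x
      rw [hx] at this
      exact this.symm
    apply Subtype.ext
    exact two_pt_fpf hZ hab z ⟨hza, hzb⟩ hz1 x x.2 (mul_inv_eq_iff_eq_mul.mp h1)
  have h2 : (⇑ψ)^[2] = id := by
    funext x
    apply Subtype.ext
    show ((ψ (ψ x) : K hZ a) : G) = x
    rw [hψ, hψ]
    show z * (z * (x : G) * z⁻¹) * z⁻¹ = x
    have hzi : z⁻¹ = z := inv_eq_of_mul_eq_one_left hz2
    rw [hzi]
    calc z * (z * (x : G) * z) * z = (z * z) * x * (z * z) := by group
      _ = x := by rw [hz2]; group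
  have h3 := hfpf.coe_eq_inv_of_sq_eq_one h2
  have h4 := congrFun h3 ⟨k, hk⟩
  have h5 := hψ ⟨k, hk⟩
  rw [h4] at h5
  exact h5.symm

/-- An involution of the two-point stabiliser is central there. -/
theorem involution_central {a b : Ω} (hab : a ≠ b) {z : G} (hz1 : z ≠ 1) (hz2 : z * z = 1)
    (hza : z • a = a) (hzb : z • b = b) {h : G} (hha : h • a = a) (hhb : h • b = b) :
    h * z = z * h := by
  haveI := finite_group hZ
  obtain ⟨⟨k, hk⟩, hk1'⟩ := Subgroup.ne_bot_iff_exists_ne_one.mp (K_ne_bot hZ a)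
  have hk1 : k ≠ 1 := fun hc => hk1' (Subtype.ext hc)
  have hia : h⁻¹ • a = a := by rw [inv_smul_eq_iff]; exact hha.symm
  have hib : h⁻¹ • b = b := by rw [inv_smul_eq_iff]; exact hhb.symm
  set w := h * z * h⁻¹ with hw
  have hw1 : w ≠ 1 := by
    intro hc
    rw [hw, mul_inv_eq_one] at hc
    exact hz1 (mul_left_cancel (hc.trans (mul_one h).symm))
  have hw2 : w * w = 1 := by
    calc w * w = h * (z * z) * h⁻¹ := by rw [hw]; group
      _ = 1 := by rw [hz2]; group
  have hwa : w • a = a := by rw [hw, mul_smul, mul_smul, hia, hza, hha]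
  have hwb : w • b = b := by rw [hw, mul_smul, mul_smul, hib, hzb, hhb]
  have e1 := involution_inverts hZ hab hz1 hz2 hza hzb hk
  have e2 := involution_inverts hZ hab hw1 hw2 hwa hwb hk
  have h3 : (z⁻¹ * w) * (k : G) = k * (z⁻¹ * w) := by
    have h4 : w * (k : G) = (k : G)⁻¹ * w := by rw [← e2]; group
    have h5 : z⁻¹ * (k : G)⁻¹ = k * z⁻¹ := by
      have h6 : z * (k : G) = (k : G)⁻¹ * z := by rw [← e1]; group
      have h7 : z * (k : G) * z⁻¹ = (k : G)⁻¹ := e1
      calc z⁻¹ * (k : G)⁻¹ = z⁻¹ * (z * (k : G) * z⁻¹) := by rw [h7]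
        _ = k * z⁻¹ := by group
    calc (z⁻¹ * w) * (k : G) = z⁻¹ * (w * k) := by group
      _ = z⁻¹ * (k : G)⁻¹ * w := by rw [h4]; group
      _ = k * (z⁻¹ * w) := by rw [h5]; group
  have h4 : z⁻¹ * w = 1 := by
    by_contra hne
    have hzia : z⁻¹ • a = a := by rw [inv_smul_eq_iff]; exact hza.symm
    have hzib : z⁻¹ • b = b := by rw [inv_smul_eq_iff]; exact hzb.symm
    exact hk1 (two_pt_fpf hZ hab (z⁻¹ * w) ⟨by
      show (z⁻¹ * w) • a = a
      rw [mul_smul, hwa, hzia], by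
      show (z⁻¹ * w) • b = b
      rw [mul_smul, hwb, hzib]⟩ hne k hk h3)
  have h5 : w = z := by
    have := inv_mul_eq_one.mp h4
    exact this.symm
  rw [hw] at h5
  exact mul_inv_eq_iff_eq_mul.mp h5

end Cfsg.Agent.H20.Zass
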