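import Cfsg.Agent.H20.ZSharp

/-!
Sharply triply transitive groups of even degree are not simple: the characters.
-/

set_option autoImplicit false
set_option linter.style.haveILetI false

open Cfsg MulAction
open scoped Pointwise ComplexConjugate commutatorElement

namespace Cfsg.Agent.H20.Zass

open Cfsg.Agent.H3

universe u v

theorem exists_odd_invariant {E : Type u} [Group E] [Finite E] (heven : Even (Nat.card E))
    (c : E ≃* E) (hc : ∀ x, c (c x) = x) :
    ∃ ψ : E → ℂ, IsIrrCharacter E ψ ∧ ψ ≠ (fun _ => 1) ∧ (∀ x, ψ (c x) = ψ x) ∧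
      ∃ b : ℕ, ψ 1 = b ∧ Odd b := by
  classical
  haveI : Fintype (IrrCharacter E) := Fintype.ofFinite _
  by_contra hne
  push Not at hne
  choose d hd0 hd using fun ψ : IrrCharacter E => irr_one_eq_nat ψ.2
  let σ : IrrCharacter E → IrrCharacter E := fun ψ =>
    ⟨fun x => (ψ : E → ℂ) (c x), isIrr_comp_surjective ψ.2 c.toMonoidHom c.surjective⟩
  let one : IrrCharacter E := ⟨fun _ => 1, isIrr_one⟩
  have hsum0 : ∑ ψ : IrrCharacter E, (d ψ) ^ 2 = Nat.card E := by
    have h1 := sum_degree_sq (G := E)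
    simp only [hd] at h1
    exact_mod_cast h1
  have hsum : ∑ ψ : IrrCharacter E, (d ψ : ZMod 2) ^ 2 = 0 := by
    have h1 := congrArg (Nat.cast : ℕ → ZMod 2) hsum0
    push_cast at h1
    rw [h1]
    exact (ZMod.natCast_eq_zero_iff _ _).mpr heven.two_dvd
  have hdσ : ∀ ψ, d (σ ψ) = d ψ := by
    intro ψ
    have h1 := hd (σ ψ)
    have h2 : ((σ ψ : IrrCharacter E) : E → ℂ) 1 = (ψ : E → ℂ) (c 1) := rfl
    rw [h2, map_one, hd ψ] at h1
    exact_mod_cast h1.symm
  have hσσ : ∀ ψ, σ (σ ψ) = ψ := by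
    intro ψ
    apply Subtype.ext
    funext x
    show (ψ : E → ℂ) (c (c x)) = (ψ : E → ℂ) x
    rw [hc]
  have hσ1 : σ one = one := rfl
  have hd1 : d one = 1 := by
    have h1 := hd one
    have h2 : (one : E → ℂ) 1 = 1 := rfl
    rw [h2] at h1
    exact_mod_cast h1.symm
  have herase : ∑ ψ ∈ Finset.univ.erase one, (d ψ : ZMod 2) ^ 2 = 0 := by
    refine Finset.sum_involution (fun ψ _ => σ ψ) ?_ ?_ ?_ ?_
    · intro ψ _
      rw [hdσ]
      exact CharTwo.add_self_eq_zero _
    · intro ψ hψ hne0 hfix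
      have h1 : (ψ : E → ℂ) ≠ fun _ => 1 := fun hc' =>
        (Finset.mem_erase.mp hψ).1 (Subtype.ext hc')
      have h2 : ∀ x, (ψ : E → ℂ) (c x) = (ψ : E → ℂ) x := fun x =>
        congrFun (congrArg Subtype.val hfix) x
      apply hne ψ ψ.2 h1 h2 (d ψ) (hd ψ)
      rw [← Nat.not_even_iff_odd, even_iff_two_dvd, ← ZMod.natCast_eq_zero_iff]
      intro h0
      rw [h0] at hne0
      exact hne0 (by norm_num)
    · intro ψ hψ
      refine Finset.mem_erase.mpr ⟨fun hc' => (Finset.mem_erase.mp hψ).1 ?_, Finset.mem_univ _⟩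
      rw [← hσσ ψ, hc', hσ1]
    · intro ψ _
      exact hσσ ψ
  rw [← Finset.add_sum_erase _ _ (Finset.mem_univ one), herase, hd1] at hsum
  norm_num at hsum

variable {G : Type u} [Group G] [Fintype G] {Ω : Type v} [MulAction G Ω] [Finite Ω]
  (hZ : IsZassenhausGroup G Ω)
include hZ

theorem ind_restrict {a b : Ω} (hab : a ≠ b) {s : G} (hsa : s • a = b) (hsb : s • b = a)
    (r : stabilizer G a →* ↥(stabilizer G a ⊓ stabilizer G b))
    (hr1 : ∀ x, r x = 1 ↔ (x : G) ∈ K hZ a)
    (hr2 : ∀ (h : ↥(stabilizer G a ⊓ stabilizer G b)) (hx : (h : G) ∈ stabilizer G a),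
        r ⟨h, hx⟩ = h)
    {ψ : ↥(stabilizer G a ⊓ stabilizer G b) → ℂ}
    (hψ : IsClassFunction ↥(stabilizer G a ⊓ stabilizer G b) ψ)
    (hs : ∀ x y : ↥(stabilizer G a ⊓ stabilizer G b), (y : G) = s⁻¹ * x * s → ψ y = ψ x)
    (x : stabilizer G a) :
    indFun (stabilizer G a) (fun y => ψ (r y)) x = permChar G Ω x * ψ (r x) := by
  classical
  haveI := pretransitive hZ
  haveI : Fintype Ω := Fintype.ofFinite Ω
  choose! u hu1 hu2 using fun (c : Ω) (hc : c ≠ a) => exists_K hZ (a := a) hab.symm hc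
  let g : Ω → G := fun c => if c = a then 1 else u c * s
  have hg : ∀ c, g c • a = c := by
    intro c
    by_cases hc : c = a
    · show (if c = a then 1 else u c * s) • a = c
      rw [if_pos hc, one_smul, hc]
    · show (if c = a then 1 else u c * s) • a = c
      rw [if_neg hc, mul_smul, hsa, hu2 c hc]
  have hcl : IsClassFunction (stabilizer G a) (fun y => ψ (r y)) := by
    intro x y
    show ψ (r (y * x * y⁻¹)) = ψ (r x)
    rw [map_mul, map_mul, map_inv]
    exact hψ _ _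
  rw [indFun_stabilizer a _ hcl (x : G) g hg]
  have key : ∀ c : Ω, (if (x : G) • c = c then
      extendByZero (stabilizer G a) (fun y => ψ (r y)) ((g c)⁻¹ * x * g c) else 0) =
      if (x : G) • c = c then ψ (r x) else 0 := by
    intro c
    by_cases hxc : (x : G) • c = c
    · rw [if_pos hxc, if_pos hxc]
      by_cases hc : c = a
      · have h1 : (g c)⁻¹ * (x : G) * g c = x := by
          show (if c = a then 1 else u c * s)⁻¹ * (x : G) * (if c = a then 1 else u c * s) = x
          rw [if_pos hc]; group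
        rw [h1, extendByZero_mem _ _ x.2]
      · set y : G := (u c)⁻¹ * x * u c with hy
        have huK := hu1 c hc
        have hua : (u c) • a = a := K_le hZ a huK
        have huia : (u c)⁻¹ • a = a := by rw [inv_smul_eq_iff]; exact hua.symm
        have hya : y • a = a := by
          rw [hy, mul_smul, mul_smul, hua, show (x : G) • a = a from x.2, huia]
        have hyb : y • b = b := by
          rw [hy, mul_smul, mul_smul, hu2 c hc, hxc, inv_smul_eq_iff, hu2 c hc]
        have hsia : s⁻¹ • b = a := by rw [inv_smul_eq_iff]; exact hsa.symm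
        have hsib : s⁻¹ • a = b := by rw [inv_smul_eq_iff]; exact hsb.symm
        set w : G := s⁻¹ * y * s with hw
        have hwa : w • a = a := by rw [hw, mul_smul, mul_smul, hsa, hyb, hsia]
        have hwb : w • b = b := by rw [hw, mul_smul, mul_smul, hsb, hya, hsib]
        have h1 : (g c)⁻¹ * (x : G) * g c = w := by
          show (if c = a then 1 else u c * s)⁻¹ * (x : G) * (if c = a then 1 else u c * s) = w
          rw [if_neg hc, hw, hy]; group
        rw [h1, extendByZero_mem _ _ (show w ∈ stabilizer G a from hwa)]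
        have h2 : r ⟨w, hwa⟩ = ⟨w, hwa, hwb⟩ := hr2 ⟨w, hwa, hwb⟩ hwa
        have h3 : r ⟨y, hya⟩ = ⟨y, hya, hyb⟩ := hr2 ⟨y, hya, hyb⟩ hya
        have h4 : ψ ⟨w, hwa, hwb⟩ = ψ ⟨y, hya, hyb⟩ := hs ⟨y, hya, hyb⟩ ⟨w, hwa, hwb⟩ hw
        have h5 : r ⟨y, hya⟩ = r x := by
          have h6 : (⟨y, hya⟩ : stabilizer G a) = (⟨u c, hua⟩)⁻¹ * x * ⟨u c, hua⟩ :=
            Subtype.ext hy
          rw [h6, map_mul, map_mul, map_inv, (hr1 ⟨u c, hua⟩).mpr huK, inv_one, one_mul,
            mul_one]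
        show ψ (r ⟨w, hwa⟩) = ψ (r x)
        rw [h2, h4, ← h3, h5]
    · rw [if_neg hxc, if_neg hxc]
  rw [Finset.sum_congr rfl fun c _ => key c, ← Finset.sum_filter, Finset.sum_const,
    nsmul_eq_mul]
  congr 1
  show _ = (Nat.card (fixedBy Ω (x : G)) : ℂ)
  congr 1
  rw [Nat.card_eq_fintype_card, Fintype.card_subtype]
  rfl

theorem permChar_B_one : permChar G Ω 1 = (Nat.card Ω : ℂ) := by
  show (Nat.card (fixedBy Ω (1 : G)) : ℂ) = _
  congr 1
  exact Nat.card_congr ⟨fun x => x.1, fun x => ⟨x, one_smul _ _⟩, fun _ => rfl, fun _ => rfl⟩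

theorem permChar_B_K {a : Ω} {x : G} (hx : x ∈ K hZ a) (hx1 : x ≠ 1) : permChar G Ω x = 1 := by
  show (Nat.card (fixedBy Ω x) : ℂ) = 1
  have h1 : Nat.card (fixedBy Ω x) = 1 := by
    rw [Nat.card_eq_one_iff_unique]
    refine ⟨⟨fun c d => ?_⟩, ⟨⟨a, K_le hZ a hx⟩⟩⟩
    apply Subtype.ext
    rw [K_fix hZ hx hx1 c.2, K_fix hZ hx hx1 d.2]
  rw [h1, Nat.cast_one]

theorem permChar_B_notK {a : Ω} {x : G} (hxa : x • a = a) (hx : x ∉ K hZ a) :
    permChar G Ω x = 2 := by
  show (Nat.card (fixedBy Ω x) : ℂ) = 2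
  have h1 : ∃ c, c ≠ a ∧ x • c = c := by
    by_contra hc
    push Not at hc
    apply hx
    rw [mem_K]
    right
    refine ⟨hxa, fun c hxc => ?_⟩
    by_contra hca
    exact hc c hca hxc
  obtain ⟨c, hca, hxc⟩ := h1
  have hx1 : x ≠ 1 := by rintro rfl; exact hx (one_mem _)
  rw [card_fixedBy_eq_two hZ hca.symm hx1 hxa hxc]
  norm_num

end Cfsg.Agent.H20.Zass
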