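import Cfsg.Agent.H20.ZSharp2

/-!
Sharply triply transitive groups of even degree are not simple.
-/

set_option autoImplicit false
set_option linter.style.haveILetI false

open Cfsg MulAction
open scoped Pointwise ComplexConjugate commutatorElement

namespace Cfsg.Agent.H20.Zass

open Cfsg.Agent.H3

universe u v

theorem char_norm_two {G : Type u} [Group G] [Fintype G] {Φ : G → ℂ} (hΦ : IsCharacter G Φ)
    (h2 : classInner Φ Φ = 2) :
    ∃ χ₁ χ₂ : G → ℂ, IsIrrCharacter G χ₁ ∧ IsIrrCharacter G χ₂ ∧ χ₁ ≠ χ₂ ∧ Φ = χ₁ + χ₂ := by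
  classical
  haveI : Fintype (IrrCharacter G) := Fintype.ofFinite _
  obtain ⟨m, hm, hexp⟩ := char_expand hΦ
  have h3 : ∑ χ : IrrCharacter G, m χ ^ 2 = 2 := by
    have h4 := classInner_eq_sum (ψ := Φ) (char_classFun hΦ)
    rw [h2] at h4
    simp only [hm, Complex.conj_natCast] at h4
    have h5 : ((∑ χ : IrrCharacter G, m χ ^ 2 : ℕ) : ℂ) = ((2 : ℕ) : ℂ) := by
      push_cast
      rw [h4]
      exact Finset.sum_congr rfl fun χ _ => pow_two _
    exact_mod_cast h5
  have hle : ∀ χ, m χ ≤ 1 := by
    intro χ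
    have h4 : m χ ^ 2 ≤ 2 := by
      calc m χ ^ 2 ≤ ∑ χ : IrrCharacter G, m χ ^ 2 :=
            Finset.single_le_sum (f := fun χ => m χ ^ 2) (fun _ _ => Nat.zero_le _)
              (Finset.mem_univ χ)
        _ = 2 := h3
    by_contra hc
    have : 2 ^ 2 ≤ m χ ^ 2 := Nat.pow_le_pow_left (by omega) 2
    omega
  have hcases : ∀ χ, m χ = 0 ∨ m χ = 1 := by
    intro χ
    have := hle χ
    omega
  have hcard : (Finset.univ.filter (fun χ : IrrCharacter G => m χ ≠ 0)).card = 2 := by
    rw [Finset.card_filter, ← h3]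
    refine Finset.sum_congr rfl fun χ _ => ?_
    rcases hcases χ with h0 | h0
    · rw [h0]; simp
    · rw [h0]; simp
  obtain ⟨χ₁, χ₂, hne, hset⟩ := Finset.card_eq_two.mp hcard
  refine ⟨χ₁, χ₂, χ₁.2, χ₂.2, fun hc => hne (Subtype.ext hc), ?_⟩
  rw [hexp, Finset.sum_congr rfl (g := fun χ : IrrCharacter G =>
    if m χ ≠ 0 then (χ : G → ℂ) else 0) (fun χ _ => by
      rcases hcases χ with h0 | h0
      · rw [h0]; simp
      · rw [h0]; simp), ← Finset.sum_filter, hset, Finset.sum_pair hne]

variable {G : Type u} [Group G] [Fintype G] {Ω : Type v} [MulAction G Ω] [Finite Ω]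
  (hZ : IsZassenhausGroup G Ω)
include hZ

theorem isIrr_theta {a b : Ω} (hab : a ≠ b)
    (hcard : Nat.card Ω = Nat.card ↥(stabilizer G a ⊓ stabilizer G b) + 2) :
    IsIrrCharacter (stabilizer G a) (fun x : stabilizer G a => permChar G Ω x - 2) := by
  classical
  haveI : Fintype (stabilizer G a) := Fintype.ofFinite _
  set e := Nat.card ↥(stabilizer G a ⊓ stabilizer G b) with he
  have hK := card_K hZ a
  have hKe : Nat.card (K hZ a) = e + 1 := by omega
  have hB := card_K_mul hZ hab
  rw [hKe, ← he] at hB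
  have he0 : 0 < e := Nat.card_pos
  apply isIrr_of_gen
  · have h1 : IsGeneralizedCharacter (stabilizer G a)
        ((fun x : stabilizer G a => permChar G Ω x) - ((fun _ => 1) + (fun _ => 1))) :=
      isGen_sub (isGen_of_char (isChar_restrict _ (isChar_permChar Ω)))
        (isGen_of_char (isChar_add isChar_one isChar_one))
    convert h1 using 1
    funext x
    simp only [Pi.sub_apply, Pi.add_apply]
    ring
  · have e1 : ∀ x : stabilizer G a, (permChar G Ω x - 2) * conj (permChar G Ω x - 2) =
        (if x = 1 then (e : ℂ) ^ 2 - 1 else 0) + (if x ∈ KB hZ a then 1 else 0) := by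
      intro x
      by_cases hx : (x : G) ∈ K hZ a
      · rw [if_pos ((mem_KB hZ).mpr hx)]
        by_cases hx1 : x = 1
        · rw [if_pos hx1, hx1]
          rw [show (((1 : stabilizer G a) : G)) = 1 from rfl, permChar_B_one hZ, hcard]
          push_cast
          rw [map_sub, map_add, Complex.conj_natCast, map_ofNat]
          ring
        · rw [if_neg hx1, permChar_B_K hZ hx (fun hc => hx1 (Subtype.ext hc))]
          rw [map_sub, map_one, map_ofNat]
          ring
      · rw [if_neg (fun hc => hx ((mem_KB hZ).mp hc)),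
          if_neg (fun hc => hx (by rw [hc]; exact one_mem _)),
          permChar_B_notK hZ x.2 hx]
        simp
    have e2 : ∑ x : stabilizer G a, (if x ∈ KB hZ a then (1 : ℂ) else 0) = (e : ℂ) + 1 := by
      rw [Finset.sum_boole]
      have h1 : (Finset.univ.filter (fun x : stabilizer G a => x ∈ KB hZ a)).card =
          Nat.card (KB hZ a) := by
        rw [Nat.card_eq_fintype_card, Fintype.card_subtype]
      rw [h1, card_KB, hKe]
      push_cast; ring
    simp only [classInner]
    rw [Finset.sum_congr rfl fun x _ => e1 x, Finset.sum_add_distrib, Finset.sum_ite_eq',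
      if_pos (Finset.mem_univ _), e2, hB]
    have h3 : ((e + 1 : ℕ) : ℂ) ≠ 0 := by exact_mod_cast Nat.succ_ne_zero e
    have h4 : (e : ℂ) ≠ 0 := by exact_mod_cast he0.ne'
    push_cast at h3 ⊢
    field_simp
    ring
  · rw [show (((1 : stabilizer G a) : G)) = 1 from rfl, permChar_B_one hZ, hcard]
    push_cast
    have : ((e : ℂ) + 2 - 2) = ((e : ℝ) : ℂ) := by push_cast; ring
    rw [this, Complex.ofReal_re]
    exact_mod_cast he0

end Cfsg.Agent.H20.Zass
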