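import Cfsg.Agent.H20.ZSharp3

/-!
Sharply triply transitive groups of even degree are not simple.
-/

set_option autoImplicit false
set_option linter.style.haveILetI false

open Cfsg MulAction
open scoped Pointwise ComplexConjugate commutatorElement

namespace Cfsg.Agent.H20.Zass

open Cfsg.Agent.H3

universe u v

theorem not_simple_of_sharp {G : Type u} [Group G] [Finite G] {Ω : Type v} [MulAction G Ω]
    [Finite Ω] (hZ : IsZassenhausGroup G Ω) [hsimple : IsSimpleGroup G] {a b : Ω} (hab : a ≠ b)
    (hcard : Nat.card Ω = Nat.card ↥(stabilizer G a ⊓ stabilizer G b) + 2)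
    (heven : Even (Nat.card ↥(stabilizer G a ⊓ stabilizer G b))) : False := by
  classical
  haveI : Fintype G := Fintype.ofFinite G
  haveI : Fintype (stabilizer G a) := Fintype.ofFinite _
  haveI : Fintype ↥(stabilizer G a ⊓ stabilizer G b) := Fintype.ofFinite _
  haveI : Fintype (IrrCharacter (stabilizer G a)) := Fintype.ofFinite _
  obtain ⟨r, hr1, hr2⟩ := exists_proj hZ hab
  obtain ⟨s, hs1, hs2, hsa, hsb⟩ := exists_involution_swap hZ hab
  have hsi : s⁻¹ = s := inv_eq_of_mul_eq_one_left hs2
  -- conjugation by `s`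
  have hmem : ∀ x : ↥(stabilizer G a ⊓ stabilizer G b),
      s * (x : G) * s ∈ (stabilizer G a ⊓ stabilizer G b : Subgroup G) := by
    intro x
    have hxa : (x : G) • a = a := x.2.1
    have hxb : (x : G) • b = b := x.2.2
    refine ⟨?_, ?_⟩
    · show (s * (x : G) * s) • a = a
      rw [mul_smul, mul_smul, hsa, hxb, hsb]
    · show (s * (x : G) * s) • b = b
      rw [mul_smul, mul_smul, hsb, hxa, hsa]
  let c : ↥(stabilizer G a ⊓ stabilizer G b) ≃* ↥(stabilizer G a ⊓ stabilizer G b) :=
    { toFun := fun x => ⟨s * (x : G) * s, hmem x⟩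
      invFun := fun x => ⟨s * (x : G) * s, hmem x⟩
      left_inv := fun x => Subtype.ext (by
        show s * (s * (x : G) * s) * s = x
        calc s * (s * (x : G) * s) * s = (s * s) * x * (s * s) := by group
          _ = x := by rw [hs2]; group)
      right_inv := fun x => Subtype.ext (by
        show s * (s * (x : G) * s) * s = x
        calc s * (s * (x : G) * s) * s = (s * s) * x * (s * s) := by group
          _ = x := by rw [hs2]; group)
      map_mul' := fun x y => Subtype.ext (by
        show s * ((x : G) * y) * s = s * x * s * (s * y * s)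
        calc s * ((x : G) * y) * s = s * x * 1 * y * s := by group
          _ = s * x * (s * s) * y * s := by rw [hs2]
          _ = s * x * s * (s * y * s) := by group) }
  have hcc : ∀ x, c (c x) = x := fun x => c.left_inv x
  obtain ⟨ψ, hψ, hψ1, hψc, bb, hbb, hbodd⟩ := exists_odd_invariant heven c hcc
  set e := Nat.card ↥(stabilizer G a ⊓ stabilizer G b) with he
  have he0 : 0 < e := Nat.card_pos
  have hψs : ∀ x y : ↥(stabilizer G a ⊓ stabilizer G b), (y : G) = s⁻¹ * x * s →
      ψ y = ψ x := by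
    intro x y hxy
    have h1 : y = c x := Subtype.ext (by rw [hxy, hsi]; rfl)
    rw [h1, hψc]
  have hrs : Function.Surjective r := fun h => ⟨⟨h, h.2.1⟩, hr2 h h.2.1⟩
  have hψr : IsIrrCharacter (stabilizer G a) (fun y => ψ (r y)) :=
    isIrr_comp_surjective hψ r hrs
  have hθ := isIrr_theta hZ hab hcard
  set θ : stabilizer G a → ℂ := fun x => permChar G Ω x - 2 with hθdef
  have hθ1 : θ 1 = e := by
    show permChar G Ω ((1 : stabilizer G a) : G) - 2 = e
    rw [show (((1 : stabilizer G a) : G)) = 1 from rfl, permChar_B_one hZ, hcard]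
    push_cast; ring
  have hθn : ∀ x : stabilizer G a, (x : G) ∉ K hZ a → θ x = 0 := by
    intro x hx
    show permChar G Ω (x : G) - 2 = 0
    rw [permChar_B_notK hZ x.2 hx, sub_self]
  obtain ⟨⟨k, hk⟩, hk1'⟩ := Subgroup.ne_bot_iff_exists_ne_one.mp (K_ne_bot hZ a)
  have hk1 : k ≠ 1 := fun hc => hk1' (Subtype.ext hc)
  have hθk : ∀ x : stabilizer G a, (x : G) ∈ K hZ a → x ≠ 1 → θ x = -1 := by
    intro x hx hx1
    show permChar G Ω (x : G) - 2 = -1
    rw [permChar_B_K hZ hx (fun hc => hx1 (Subtype.ext hc))]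
    norm_num
  -- the induced character
  set Φ : G → ℂ := indFun (stabilizer G a) (fun y => ψ (r y)) with hΦdef
  have hΦ : IsCharacter G Φ := isChar_ind _ (irr_isChar hψr)
  have hres : (fun x : stabilizer G a => Φ x) =
      (2 : ℂ) • (fun y => ψ (r y)) + (bb : ℂ) • θ := by
    funext x
    rw [hΦdef, ind_restrict hZ hab hsa hsb r hr1 hr2 (irr_classFun hψ) hψs x]
    show permChar G Ω (x : G) * ψ (r x) = 2 * ψ (r x) + bb * (permChar G Ω (x : G) - 2)
    by_cases hx : (x : G) ∈ K hZ a
    · rw [(hr1 x).mpr hx, hbb]; ring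
    · rw [permChar_B_notK hZ x.2 hx]; ring
  have hne : (fun y => ψ (r y)) ≠ θ := by
    intro hc
    have h1 := congrFun hc 1
    have h2 := congrFun hc ⟨k, K_le hZ a hk⟩
    rw [hθ1] at h1
    rw [hθk ⟨k, K_le hZ a hk⟩ hk (fun h => hk1 (congrArg Subtype.val h))] at h2
    rw [(hr1 _).mpr hk, ← map_one r, h1] at h2
    have h3 : ((e : ℝ) : ℂ) = ((-1 : ℝ) : ℂ) := by push_cast; exact h2
    have h4 : (e : ℝ) = -1 := by exact_mod_cast h3
    have h5 : (0 : ℝ) ≤ e := by positivity
    linarith
  have hψθ : classInner (fun y => ψ (r y)) θ = 0 := classInner_of_irr_ne hψr hθ hne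
  have hθψ : classInner θ (fun y => ψ (r y)) = 0 := classInner_of_irr_ne hθ hψr (Ne.symm hne)
  have hnorm : classInner Φ Φ = 2 := by
    rw [hΦdef, frobenius_reciprocity _ _ (char_classFun hΦ), hres,
      classInner_add_right, classInner_smul_right, classInner_smul_right, hψθ,
      classInner_self_of_irr hψr, map_ofNat]
    ring
  obtain ⟨χ₁, χ₂, h1, h2, h12, hsum⟩ := char_norm_two hΦ hnorm
  -- restrictions
  have hin : ∀ χ : G → ℂ, IsIrrCharacter G χ → classInner Φ χ = 1 →
      classInner (fun x : stabilizer G a => χ x) (fun y => ψ (r y)) = 1 := by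
    intro χ hχ hχ1
    rw [← frobenius_reciprocity' (stabilizer G a) _ (irr_classFun hχ), ← hΦdef,
      ← classInner_conj_symm, hχ1, map_one]
  have hΦ1 : classInner Φ χ₁ = 1 := by
    rw [hsum, classInner_add_left, classInner_self_of_irr h1,
      classInner_of_irr_ne h2 h1 (Ne.symm h12), add_zero]
  have hΦ2 : classInner Φ χ₂ = 1 := by
    rw [hsum, classInner_add_left, classInner_self_of_irr h2,
      classInner_of_irr_ne h1 h2 h12, zero_add]
  obtain ⟨m1, hm1, hexp1⟩ := char_expand (isChar_restrict (stabilizer G a) (irr_isChar h1))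
  obtain ⟨m2, hm2, hexp2⟩ := char_expand (isChar_restrict (stabilizer G a) (irr_isChar h2))
  let ψ' : IrrCharacter (stabilizer G a) := ⟨_, hψr⟩
  let θ' : IrrCharacter (stabilizer G a) := ⟨θ, hθ⟩
  have hne' : ψ' ≠ θ' := fun hc => hne (congrArg Subtype.val hc)
  have hadd : ∀ l : IrrCharacter (stabilizer G a), ((m1 l + m2 l : ℕ) : ℂ) =
      2 * (if ψ' = l then 1 else 0) + bb * (if θ' = l then 1 else 0) := by
    intro l
    have h3 : (fun x : stabilizer G a => Φ x) =
        (fun x : stabilizer G a => χ₁ x) + (fun x : stabilizer G a => χ₂ x) := by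
      rw [hsum]; rfl
    have h4 : classInner (fun x : stabilizer G a => Φ x) (l : stabilizer G a → ℂ) =
        m1 l + m2 l := by
      rw [h3, classInner_add_left, hm1, hm2]
    rw [hres, classInner_add_left, classInner_smul_left, classInner_smul_left] at h4
    have h5 : classInner (fun y => ψ (r y)) (l : stabilizer G a → ℂ) =
        if ψ' = l then 1 else 0 := classInner_irr' ψ' l
    have h6 : classInner θ (l : stabilizer G a → ℂ) = if θ' = l then 1 else 0 :=
      classInner_irr' θ' l
    rw [h5, h6] at h4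
    push_cast
    exact h4.symm
  have hzero : ∀ l : IrrCharacter (stabilizer G a), l ≠ ψ' → l ≠ θ' → m1 l = 0 ∧ m2 l = 0 := by
    intro l hl1 hl2
    have h3 := hadd l
    rw [if_neg (Ne.symm hl1), if_neg (Ne.symm hl2)] at h3
    have h4 : m1 l + m2 l = 0 := by
      have : ((m1 l + m2 l : ℕ) : ℂ) = ((0 : ℕ) : ℂ) := by rw [h3]; simp
      exact_mod_cast this
    omega
  have hm1ψ : m1 ψ' = 1 := by
    have h3 := hin χ₁ h1 hΦ1
    have h4 := hm1 ψ'
    rw [show ((ψ' : IrrCharacter (stabilizer G a)) : stabilizer G a → ℂ) =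
      (fun y => ψ (r y)) from rfl, h3] at h4
    exact_mod_cast h4.symm
  have hm2ψ : m2 ψ' = 1 := by
    have h3 := hin χ₂ h2 hΦ2
    have h4 := hm2 ψ'
    rw [show ((ψ' : IrrCharacter (stabilizer G a)) : stabilizer G a → ℂ) =
      (fun y => ψ (r y)) from rfl, h3] at h4
    exact_mod_cast h4.symm
  have hab' : m1 θ' + m2 θ' = bb := by
    have h3 := hadd θ'
    rw [if_neg hne', if_pos rfl] at h3
    have : ((m1 θ' + m2 θ' : ℕ) : ℂ) = ((bb : ℕ) : ℂ) := by rw [h3]; ring
    exact_mod_cast this
  have hsum2 : ∀ m : IrrCharacter (stabilizer G a) → ℕ, m ψ' = 1 →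
      (∀ l, l ≠ ψ' → l ≠ θ' → m l = 0) → ∀ x : stabilizer G a,
      (∑ l : IrrCharacter (stabilizer G a), (m l : ℂ) • (l : stabilizer G a → ℂ)) x =
        ψ (r x) + m θ' * θ x := by
    intro m hm hm0 x
    rw [Finset.sum_apply, ← Finset.sum_subset (Finset.subset_univ {ψ', θ'}),
      Finset.sum_pair hne', hm]
    · simp only [Pi.smul_apply, smul_eq_mul, Nat.cast_one, one_mul]
      rfl
    · intro l _ hl
      simp only [Finset.mem_insert, Finset.mem_singleton, not_or] at hl
      rw [hm0 l hl.1 hl.2]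
      simp
  -- the final argument for one constituent
  obtain ⟨z, hz⟩ := exists_prime_orderOf_dvd_card' 2 (by rw [← he]; exact heven.two_dvd)
  have hz2 : (z : G) * z = 1 := by
    have := pow_orderOf_eq_one z
    rw [hz, pow_two] at this
    exact congrArg Subtype.val this
  have hz2' : z * z = 1 := Subtype.ext hz2
  have hz1 : (z : G) ≠ 1 := by
    intro hc
    have : z = 1 := Subtype.ext hc
    rw [this, orderOf_one] at hz
    omega
  have hza : (z : G) • a = a := z.2.1
  have hzb : (z : G) • b = b := z.2.2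
  have hcent : (stabilizer G a ⊓ stabilizer G b : Subgroup G) ≤
      Subgroup.centralizer ({(z : G)} : Set G) := by
    intro x hx
    rw [Subgroup.mem_centralizer_singleton_iff]
    exact involution_central hZ hab hz1 hz2 hza hzb hx.1 hx.2
  obtain ⟨w, hw⟩ := involution_value (irr_isChar hψ) hz2'
  have hww : w.natAbs = bb := by
    have h3 := norm_of_central hψ (m := z) (fun x => by
      have : x * z * x⁻¹ * z⁻¹ = 1 := by
        have h4 : x * z = z * x := Subtype.ext
          (involution_central hZ hab hz1 hz2 hza hzb x.2.1 x.2.2)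
        rw [h4]; group
      rw [this])
    rw [hw, hbb, map_intCast] at h3
    have h4 : w * w = (bb : ℤ) * bb := by exact_mod_cast h3
    have h5 := congrArg Int.natAbs h4
    rw [Int.natAbs_mul, Int.natAbs_mul, Int.natAbs_natCast] at h5
    exact Nat.mul_self_inj.mp h5
  have hbe : bb ^ 2 ≤ e := by
    haveI : Fintype (IrrCharacter ↥(stabilizer G a ⊓ stabilizer G b)) := Fintype.ofFinite _
    have h3 := sum_degree_sq (G := ↥(stabilizer G a ⊓ stabilizer G b))
    choose d hd0 hd using fun χ : IrrCharacter ↥(stabilizer G a ⊓ stabilizer G b) =>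
      irr_one_eq_nat χ.2
    simp only [hd] at h3
    have h4 : ∑ χ : IrrCharacter ↥(stabilizer G a ⊓ stabilizer G b), d χ ^ 2 = e := by
      exact_mod_cast h3
    have h5 : d ⟨ψ, hψ⟩ = bb := by
      have := hd ⟨ψ, hψ⟩
      rw [show ((⟨ψ, hψ⟩ : IrrCharacter ↥(stabilizer G a ⊓ stabilizer G b)) :
        ↥(stabilizer G a ⊓ stabilizer G b) → ℂ) 1 = ψ 1 from rfl, hbb] at this
      exact_mod_cast this.symm
    rw [← h4, ← h5]
    exact Finset.single_le_sum (f := fun χ => d χ ^ 2) (fun _ _ => Nat.zero_le _)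
      (Finset.mem_univ _)
  have hidx : (Subgroup.centralizer ({(z : G)} : Set G)).index ∣ (e + 1) * (e + 2) := by
    refine (Subgroup.index_dvd_of_le hcent).trans ?_
    have h3 := (stabilizer G a ⊓ stabilizer G b : Subgroup G).index_mul_card
    have h4 := card_G hZ hab
    have h5 := card_K hZ a
    rw [h4, ← he, hcard] at h3
    have h6 : Nat.card (K hZ a) = e + 1 := by omega
    rw [h6] at h3
    have h7 : (stabilizer G a ⊓ stabilizer G b : Subgroup G).index = (e + 2) * (e + 1) := by
      apply Nat.eq_of_mul_eq_mul_right he0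
      rw [h3]; ring
    rw [h7, mul_comm]
  have hmain : ∀ χ : G → ℂ, IsIrrCharacter G χ → ∀ a₁ : ℕ,
      (∀ x : stabilizer G a, χ x = ψ (r x) + a₁ * θ x) →
      a₁ ≠ 0 ∧ bb + a₁ * e ∣ (e + 1) * (e + 2) * bb := by
    intro χ hχ a₁ hx
    have hχ1 : χ 1 = ((bb + a₁ * e : ℕ) : ℂ) := by
      have h3 := hx 1
      rw [show (((1 : stabilizer G a) : G)) = 1 from rfl, map_one, hbb, hθ1] at h3
      rw [h3]; push_cast; ring
    have hχz : χ z = w := by
      have h3 := hx ⟨z, z.2.1⟩
      have h4 : θ ⟨z, z.2.1⟩ = 0 := hθn _ (fun hc =>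
        hz1 (K_eq_one hZ hc hab.symm hzb))
      rw [h4, mul_zero, add_zero, hr2 z z.2.1, hw] at h3
      exact h3
    refine ⟨?_, ?_⟩
    · rintro rfl
      -- `K` in the kernel
      have h3 : H27.charKer (irr_isChar hχ) = ⊤ := by
        haveI := H27.charKer_normal (irr_isChar hχ)
        rcases hsimple.eq_bot_or_eq_top_of_normal (H27.charKer (irr_isChar hχ)) this with h4 | h4
        · exfalso
          have h5 : k ∈ H27.charKer (irr_isChar hχ) := by
            rw [H27.mem_charKer]
            have h6 := hx ⟨k, K_le hZ a hk⟩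
            rw [(hr1 _).mpr hk, hbb] at h6
            rw [hχ1]
            push_cast at h6 ⊢
            rw [h6]; ring
          rw [h4, Subgroup.mem_bot] at h5
          exact hk1 h5
        · exact h4
      have h4 : ∀ g, χ g = χ 1 := fun g => by
        have : g ∈ H27.charKer (irr_isChar hχ) := by rw [h3]; trivial
        exact (H27.mem_charKer (irr_isChar hχ)).mp this
      have h5 : χ = fun _ => 1 := by
        by_contra hc
        have h6 := classInner_of_irr_ne hχ isIrr_one hc
        have h7 : χ = (χ 1) • (fun _ : G => (1 : ℂ)) := by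
          funext g; rw [h4 g]; simp
        rw [h7, classInner_smul_left, classInner_self_of_irr isIrr_one, mul_one] at h6
        exact irr_one_ne_zero hχ h6
      apply hψ1
      funext x
      obtain ⟨y, rfl⟩ := hrs x
      have h6 := hx y
      rw [h5] at h6
      push_cast at h6
      rw [zero_mul, add_zero] at h6
      exact h6.symm
    · have h3 := isIntegral_central_char hχ (z : G)
      rw [hχz, hχ1] at h3
      have h4 : ((bb + a₁ * e : ℕ) : ℤ) ∣
          ((Subgroup.centralizer ({(z : G)} : Set G)).index : ℤ) * w := by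
        apply int_dvd_of_isIntegral
        · have : bb + a₁ * e ≠ 0 := by
            have := hbodd.pos
            omega
          exact_mod_cast this
        · push_cast at h3 ⊢
          exact h3
      have h5 := Int.natAbs_dvd_natAbs.mpr h4
      rw [Int.natAbs_mul, Int.natAbs_natCast, Int.natAbs_natCast, hww] at h5
      exact h5.trans (Nat.mul_dvd_mul_right hidx _)
  have hx1 : ∀ x : stabilizer G a, χ₁ x = ψ (r x) + (m1 θ' : ℂ) * θ x := by
    intro x
    have h3 := congrFun hexp1 x
    rw [hsum2 m1 hm1ψ (fun l hl1 hl2 => (hzero l hl1 hl2).1) x] at h3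
    exact h3
  have hx2 : ∀ x : stabilizer G a, χ₂ x = ψ (r x) + (m2 θ' : ℂ) * θ x := by
    intro x
    have h3 := congrFun hexp2 x
    rw [hsum2 m2 hm2ψ (fun l hl1 hl2 => (hzero l hl1 hl2).2) x] at h3
    exact h3
  obtain ⟨n1, d1⟩ := hmain χ₁ h1 _ hx1
  obtain ⟨n2, d2⟩ := hmain χ₂ h2 _ hx2
  rcases lt_trichotomy (m1 θ') (m2 θ') with hlt | heq | hlt
  · exact sharp_numeric (a := m2 θ') (a' := m1 θ') (by omega) (by omega) hlt hbe d2
  · rw [heq] at hab'
    have : Even bb := ⟨m2 θ', hab'.symm⟩
    exact (Nat.not_even_iff_odd.mpr hbodd) this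
  · exact sharp_numeric (a := m1 θ') (a' := m2 θ') (by omega) (by omega) hlt hbe d1

end Cfsg.Agent.H20.Zass
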