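import Cfsg.Prelude.Def_LieExceptional
import Cfsg.Prelude.Def_Solvable
import Cfsg.Agent.H25.FrobKernel
import Mathlib

/-!
Zassenhaus groups: basic structure.
-/

set_option autoImplicit false
set_option linter.style.haveILetI false

open Cfsg MulAction
open scoped Pointwise

namespace Cfsg.Agent.H20.Zass

/-- Frobenius' theorem for a transitive action in which no non-identity element fixes two points and
point stabilisers are non-trivial. -/
theorem frobenius_action {X Y : Type*} [Group X] [Finite X] [MulAction X Y]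
    (htr : ∀ y z : Y, ∃ g : X, g • y = z) (y0 y1 : Y) (hy : y0 ≠ y1)
    (hst : ∃ g : X, g ≠ 1 ∧ g • y0 = y0)
    (hfix : ∀ g : X, ∀ y z : Y, y ≠ z → g • y = y → g • z = z → g = 1) :
    ∃ M : Subgroup X, (∀ g : X, g ∈ M ↔ (g = 1 ∨ ∀ y : Y, g • y ≠ y)) ∧ M.Normal ∧
      Nat.card M = Nat.card Y := by
  classical
  have hfc : IsFrobeniusComplement (stabilizer X y0) := by
    refine ⟨?_, ?_, ?_⟩
    · intro h
      obtain ⟨g, hg1, hg⟩ := hst
      apply hg1
      rw [← Subgroup.mem_bot, ← h]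
      exact hg
    · intro h
      obtain ⟨g, hg⟩ := htr y0 y1
      have : g ∈ stabilizer X y0 := by rw [h]; trivial
      exact hy ((mem_stabilizer_iff.mp this).symm.trans hg)
    · intro g hg
      rw [eq_bot_iff]
      intro x hx
      rw [Subgroup.mem_inf] at hx
      have h1 := hx.2
      rw [Subgroup.mem_pointwise_smul_iff_inv_smul_mem, ← map_inv, MulAut.smul_def,
        MulAut.conj_apply, inv_inv, mem_stabilizer_iff, mul_smul, mul_smul, inv_smul_eq_iff] at h1
      rw [Subgroup.mem_bot]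
      exact hfix x y0 (g • y0) (fun h => hg h.symm) hx.1 h1
  obtain ⟨M, hM, hMn, hMc⟩ := Cfsg.Agent.H25.frobenius_kernel hfc
  refine ⟨M, ?_, hMn, ?_⟩
  · intro g
    have h1 : g ∈ M ↔ g ∈ frobeniusKernel (stabilizer X y0) := by
      rw [← hM]; rfl
    rw [h1]
    show (g = 1 ∨ ∀ x : X, g ∉ MulAut.conj x • stabilizer X y0) ↔ _
    constructor
    · rintro (h | h)
      · exact Or.inl h
      · right
        intro y hgy
        obtain ⟨x, rfl⟩ := htr y0 y
        apply h x
        rw [Subgroup.mem_pointwise_smul_iff_inv_smul_mem, ← map_inv, MulAut.smul_def,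
          MulAut.conj_apply, inv_inv, mem_stabilizer_iff, mul_smul, mul_smul, inv_smul_eq_iff]
        exact hgy
    · rintro (h | h)
      · exact Or.inl h
      · right
        intro x hx
        rw [Subgroup.mem_pointwise_smul_iff_inv_smul_mem, ← map_inv, MulAut.smul_def,
          MulAut.conj_apply, inv_inv, mem_stabilizer_iff, mul_smul, mul_smul, inv_smul_eq_iff] at hx
        exact h _ hx
  · have h1 : Nat.card M * Nat.card (stabilizer X y0) = Nat.card X := hMc.card_mul
    have h2 : Nat.card (stabilizer X y0) * (stabilizer X y0).index = Nat.card X :=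
      Subgroup.card_mul_index _
    have h3 : (stabilizer X y0).index = Nat.card Y := by
      haveI : IsPretransitive X Y := ⟨htr⟩
      exact index_stabilizer_of_transitive X y0
    rw [← h1, mul_comm, h3] at h2
    exact (Nat.eq_of_mul_eq_mul_right Nat.card_pos h2).symm

section basic

variable {G Ω : Type*} [Group G] [MulAction G Ω] (hZ : IsZassenhausGroup G Ω)
include hZ

theorem faithful {g : G} (h : ∀ a : Ω, g • a = a) : g = 1 := by
  haveI := hZ.1
  exact eq_of_smul_eq_smul (α := Ω) (fun a => by rw [h a, one_smul])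

theorem finite_group [Finite Ω] : Finite G := by
  haveI := hZ.1
  exact Finite.of_injective (fun g : G => fun a : Ω => g • a)
    (fun g h hgh => eq_of_smul_eq_smul (α := Ω) (fun a => congrFun hgh a))

theorem exists_smul {a b c d : Ω} (hab : a ≠ b) (hcd : c ≠ d) : ∃ g : G, g • a = c ∧ g • b = d :=
  (is_two_pretransitive_iff (G := G) (α := Ω)).mp hZ.2.1 hab hcd

theorem eq_one_of_fix3 {g : G} {a b c : Ω} (hab : a ≠ b) (hbc : b ≠ c) (hac : a ≠ c)
    (ha : g • a = a) (hb : g • b = b) (hc : g • c = c) : g = 1 :=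
  hZ.2.2.1 g a b c hab hbc hac ha hb hc

theorem exists_ne_pts : ∃ a b : Ω, a ≠ b := by
  obtain ⟨g, _, a, b, hab, _⟩ := hZ.2.2.2.1
  exact ⟨a, b, hab⟩

theorem exists_ne_pt (a : Ω) : ∃ b : Ω, a ≠ b := by
  obtain ⟨c, d, hcd⟩ := exists_ne_pts hZ
  by_cases h : a = c
  · exact ⟨d, h ▸ hcd⟩
  · exact ⟨c, h⟩

theorem exists_smul_one (a c : Ω) : ∃ g : G, g • a = c := by
  obtain ⟨b, hb⟩ := exists_ne_pt hZ a
  obtain ⟨d, hd⟩ := exists_ne_pt hZ c
  obtain ⟨g, hg, _⟩ := exists_smul hZ hb hd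
  exact ⟨g, hg⟩

/-- a non-identity element in each two-point stabiliser -/
theorem exists_two_pt {a b : Ω} (hab : a ≠ b) : ∃ g : G, g ≠ 1 ∧ g • a = a ∧ g • b = b := by
  obtain ⟨g, hg, c, d, hcd, hc, hd⟩ := hZ.2.2.2.1
  obtain ⟨x, hx1, hx2⟩ := exists_smul hZ hcd hab
  refine ⟨x * g * x⁻¹, ?_, ?_, ?_⟩
  · intro h
    exact hg (conj_eq_one_iff.mp h)
  · rw [← hx1, mul_smul, inv_smul_smul, mul_smul, hc]
  · rw [← hx2, mul_smul, inv_smul_smul, mul_smul, hd]

theorem exists_third {a b : Ω} (hab : a ≠ b) : ∃ c : Ω, c ≠ a ∧ c ≠ b := by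
  by_contra hcon
  push Not at hcon
  obtain ⟨g, hg, ha, hb⟩ := exists_two_pt hZ hab
  apply hg
  apply faithful hZ
  intro c
  by_cases h : c = a
  · rw [h, ha]
  · rw [hcon c h, hb]

theorem three_le_card [Finite Ω] : 3 ≤ Nat.card Ω := by
  classical
  haveI : Fintype Ω := Fintype.ofFinite Ω
  obtain ⟨a, b, hab⟩ := exists_ne_pts hZ
  obtain ⟨c, hca, hcb⟩ := exists_third hZ hab
  have : ({a, b, c} : Finset Ω).card = 3 := by
    rw [Finset.card_eq_three]
    exact ⟨a, b, c, hab, Ne.symm hca, Ne.symm hcb, rfl⟩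
  rw [Nat.card_eq_fintype_card, ← this]
  exact Finset.card_le_univ _

/-- The kernel of the point stabiliser. -/
theorem exists_kernel [Finite Ω] (a : Ω) : ∃ K : Subgroup G, (∀ u : G, u ∈ K ↔
    (u = 1 ∨ (u • a = a ∧ ∀ c : Ω, u • c = c → c = a))) ∧ Nat.card K + 1 = Nat.card Ω := by
  classical
  haveI := finite_group hZ
  haveI : Fintype Ω := Fintype.ofFinite Ω
  obtain ⟨b, hab⟩ := exists_ne_pt hZ a
  obtain ⟨c, hca, hcb⟩ := exists_third hZ hab
  obtain ⟨h0, hh01, hh0a, hh0b⟩ := exists_two_pt hZ hab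
  obtain ⟨M, hM, _, hMc⟩ := frobenius_action (X := stabilizer G a) (Y := SubMulAction.ofStabilizer G a)
    (by
      intro y z
      obtain ⟨g, hg1, hg2⟩ := exists_smul hZ (Ne.symm y.2 : a ≠ y) (Ne.symm z.2 : a ≠ z)
      exact ⟨⟨g, hg1⟩, Subtype.ext hg2⟩)
    ⟨b, Ne.symm hab⟩ ⟨c, hca⟩ (fun h => hcb (congrArg Subtype.val h).symm)
    ⟨⟨h0, hh0a⟩, fun h => hh01 (congrArg Subtype.val h), Subtype.ext hh0b⟩
    (by
      intro g y z hyz hy hz
      apply Subtype.ext
      exact eq_one_of_fix3 hZ (Ne.symm y.2 : a ≠ (y : Ω)) (fun h => hyz (Subtype.ext h))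
        (Ne.symm z.2 : a ≠ (z : Ω)) g.2 (congrArg Subtype.val hy) (congrArg Subtype.val hz))
  refine ⟨M.map (stabilizer G a).subtype, ?_, ?_⟩
  · intro u
    rw [Subgroup.mem_map]
    constructor
    · rintro ⟨x, hx, rfl⟩
      rcases (hM x).mp hx with h | h
      · left; rw [h]; rfl
      · right
        refine ⟨x.2, ?_⟩
        intro d hd
        by_contra hda
        exact h ⟨d, hda⟩ (Subtype.ext hd)
    · rintro (h | ⟨h1, h2⟩)
      · exact ⟨1, one_mem _, h.symm⟩
      · refine ⟨⟨u, h1⟩, (hM _).mpr (Or.inr ?_), rfl⟩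
        intro y hy
        exact y.2 (h2 y (congrArg Subtype.val hy))
  · rw [Nat.card_congr (Subgroup.equivMapOfInjective M _ (Subgroup.subtype_injective _)).toEquiv.symm, hMc]
    have h1 : Nat.card Ω = Nat.card (({a}ᶜ : Set Ω)) + Nat.card (({a} : Set Ω)) := by
      rw [Nat.card_eq_fintype_card, Nat.card_eq_fintype_card, Nat.card_eq_fintype_card,
        Fintype.card_compl_set]
      have : Fintype.card ({a} : Set Ω) ≤ Fintype.card Ω := Fintype.card_subtype_le _
      omega
    rw [h1]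
    have h2 : Nat.card (({a} : Set Ω)) = 1 := by simp
    rw [h2]
    rfl

end basic

section kernel

variable {G Ω : Type*} [Group G] [MulAction G Ω] (hZ : IsZassenhausGroup G Ω) [Finite Ω]

/-- The kernel of the stabiliser of `a` in a Zassenhaus group. -/
noncomputable def K (a : Ω) : Subgroup G := (exists_kernel hZ a).choose

include hZ

theorem mem_K {a : Ω} {u : G} : u ∈ K hZ a ↔ (u = 1 ∨ (u • a = a ∧ ∀ c : Ω, u • c = c → c = a)) :=
  (exists_kernel hZ a).choose_spec.1 u

theorem card_K (a : Ω) : Nat.card (K hZ a) + 1 = Nat.card Ω := (exists_kernel hZ a).choose_spec.2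

theorem K_le (a : Ω) : K hZ a ≤ stabilizer G a := by
  intro u hu
  rcases (mem_K hZ).mp hu with rfl | h
  · exact one_mem _
  · exact h.1

theorem K_fix {a c : Ω} {u : G} (hu : u ∈ K hZ a) (hu1 : u ≠ 1) (hc : u • c = c) : c = a := by
  rcases (mem_K hZ).mp hu with rfl | h
  · exact absurd rfl hu1
  · exact h.2 c hc

theorem K_eq_one {a c : Ω} {u : G} (hu : u ∈ K hZ a) (hca : c ≠ a) (hc : u • c = c) : u = 1 := by
  by_contra h
  exact hca (K_fix hZ hu h hc)

theorem conj_mem_K {a b : Ω} {g u : G} (hg : g • a = b) (hu : u ∈ K hZ a) :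
    g * u * g⁻¹ ∈ K hZ b := by
  rw [mem_K]
  rcases (mem_K hZ).mp hu with rfl | ⟨h1, h2⟩
  · left; simp
  · right
    have hg' : g⁻¹ • b = a := by rw [← hg, inv_smul_smul]
    refine ⟨by rw [mul_smul, mul_smul, hg', h1, hg], ?_⟩
    intro c hc
    rw [mul_smul, mul_smul, ← eq_inv_smul_iff] at hc
    have := h2 _ hc
    rw [← hg, ← this, smul_inv_smul]

theorem K_normal_in {a : Ω} {g u : G} (hg : g • a = a) (hu : u ∈ K hZ a) : g * u * g⁻¹ ∈ K hZ a :=
  conj_mem_K hZ hg hu

theorem K_normal (a : Ω) : ((K hZ a).subgroupOf (stabilizer G a)).Normal := by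
  constructor
  intro u hu g
  rw [Subgroup.mem_subgroupOf] at hu ⊢
  exact K_normal_in hZ g.2 hu

/-- `K a` is regular on the points different from `a`. -/
theorem K_regular {a c d : Ω} (hc : c ≠ a) (hd : d ≠ a) : ∃! u : K hZ a, (u : G) • c = d := by
  classical
  haveI := finite_group hZ
  haveI : Fintype Ω := Fintype.ofFinite Ω
  let f : K hZ a → {x : Ω // x ≠ a} := fun u => ⟨(u : G) • c, fun h => hc (by
    have h1 : (u : G) • a = a := K_le hZ a u.2
    exact smul_left_cancel (u : G) (h.trans h1.symm))⟩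
  have hinj : Function.Injective f := by
    intro u v huv
    have h1 : (u : G) • c = (v : G) • c := congrArg Subtype.val huv
    have h2 : ((v : G)⁻¹ * u) • c = c := by rw [mul_smul, h1, inv_smul_smul]
    have h3 := K_eq_one hZ ((K hZ a).mul_mem ((K hZ a).inv_mem v.2) u.2) hc h2
    exact Subtype.ext (inv_mul_eq_one.mp h3).symm
  have hcard : Nat.card (K hZ a) = Nat.card {x : Ω // x ≠ a} := by
    have h1 := card_K hZ a
    have h2 : Nat.card {x : Ω // x ≠ a} + 1 = Nat.card Ω := by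
      rw [Nat.card_eq_fintype_card, Nat.card_eq_fintype_card, Fintype.card_subtype_compl,
        Fintype.card_subtype_eq]
      have : 0 < Fintype.card Ω := Fintype.card_pos_iff.mpr ⟨a⟩
      omega
    omega
  have hbij : Function.Bijective f := (Nat.bijective_iff_injective_and_card f).mpr ⟨hinj, hcard⟩
  obtain ⟨u, hu⟩ := hbij.2 ⟨d, hd⟩
  refine ⟨u, congrArg Subtype.val hu, ?_⟩
  intro v hv
  apply hinj
  rw [hu]
  exact Subtype.ext hv

theorem exists_K {a c d : Ω} (hc : c ≠ a) (hd : d ≠ a) : ∃ u ∈ K hZ a, u • c = d := by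
  obtain ⟨u, hu, _⟩ := K_regular hZ hc hd
  exact ⟨u, u.2, hu⟩

theorem K_inj {a c : Ω} (hc : c ≠ a) {u v : G} (hu : u ∈ K hZ a) (hv : v ∈ K hZ a)
    (h : u • c = v • c) : u = v := by
  have h2 : (v⁻¹ * u) • c = c := by rw [mul_smul, h, inv_smul_smul]
  exact (inv_mul_eq_one.mp (K_eq_one hZ ((K hZ a).mul_mem ((K hZ a).inv_mem hv) hu) hc h2)).symm

/-- Uniqueness of the kernel. -/
theorem eq_K {a : Ω} {F : Subgroup G} (hF : F ≤ stabilizer G a)
    (hfix : ∀ u ∈ F, u ≠ 1 → ∀ c : Ω, u • c = c → c = a) (hcard : Nat.card F + 1 = Nat.card Ω) :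
    F = K hZ a := by
  haveI := finite_group hZ
  have hle : F ≤ K hZ a := by
    intro u hu
    rw [mem_K]
    by_cases h : u = 1
    · exact Or.inl h
    · exact Or.inr ⟨hF hu, hfix u hu h⟩
  apply Subgroup.eq_of_le_of_card_ge hle
  have := card_K hZ a
  omega

theorem eq_K_of_regular {a : Ω} {F : Subgroup G} (hF : F ≤ stabilizer G a)
    (hreg : ∀ c d : Ω, c ≠ a → d ≠ a → ∃! u : F, (u : G) • c = d) : F = K hZ a := by
  classical
  haveI := finite_group hZ
  haveI : Fintype Ω := Fintype.ofFinite Ω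
  obtain ⟨b, hab⟩ := exists_ne_pt hZ a
  apply eq_K hZ hF
  · intro u hu hu1 c hc
    by_contra hca
    obtain ⟨v, _, hv2⟩ := hreg c c hca hca
    have h1 := hv2 ⟨u, hu⟩ hc
    have h2 := hv2 1 (one_smul G c)
    exact hu1 (congrArg Subtype.val (h1.trans h2.symm))
  · have hbij : Function.Bijective (fun u : F => (⟨(u : G) • b, fun h => hab (by
        have h1 : (u : G) • a = a := hF u.2
        exact smul_left_cancel (u : G) (h1.trans h.symm))⟩ : {x : Ω // x ≠ a})) := by
      constructor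
      · intro u v huv
        have h1 : (u : G) • b = (v : G) • b := congrArg Subtype.val huv
        have hvb : (v : G) • b ≠ a := fun h => hab (by
          have h1 : (v : G) • a = a := hF v.2
          exact smul_left_cancel (v : G) (h1.trans h.symm))
        obtain ⟨w, _, hw2⟩ := hreg b ((v : G) • b) (Ne.symm hab) hvb
        exact (hw2 u h1).trans (hw2 v rfl).symm
      · intro d
        obtain ⟨w, hw, _⟩ := hreg b d (Ne.symm hab) d.2
        exact ⟨w, Subtype.ext hw⟩
    rw [Nat.card_congr (Equiv.ofBijective _ hbij)]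
    rw [Nat.card_eq_fintype_card, Nat.card_eq_fintype_card, Fintype.card_subtype_compl,
        Fintype.card_subtype_eq]
    have : 0 < Fintype.card Ω := Fintype.card_pos_iff.mpr ⟨a⟩
    omega

/-- factorisation `G_a = K_a G_ab` -/
theorem exists_mul {a b : Ω} (hab : a ≠ b) {g : G} (hg : g • a = a) :
    ∃ u ∈ K hZ a, ∃ h : G, h • a = a ∧ h • b = b ∧ g = u * h := by
  have hgb : g • b ≠ a := fun h => hab (smul_left_cancel g (hg.trans h.symm))
  obtain ⟨u, hu, hub⟩ := exists_K hZ (Ne.symm hab) hgb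
  refine ⟨u, hu, u⁻¹ * g, ?_, ?_, by group⟩
  · rw [mul_smul, hg, inv_smul_eq_iff]
    exact (K_le hZ a hu).symm
  · rw [mul_smul, ← hub, inv_smul_smul]

/-- The centraliser of a nonidentity element of `K a` in `G_a` lies in `K a`. -/
theorem mem_K_of_commute {a : Ω} {u g : G} (hu : u ∈ K hZ a) (hu1 : u ≠ 1)
    (hc : g * u = u * g) : g ∈ K hZ a := by
  have hga : g • a = a := by
    apply K_fix hZ hu hu1
    rw [← mul_smul, ← hc, mul_smul]
    congr 1
    exact K_le hZ a hu
  by_contra hg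
  rw [mem_K] at hg
  push Not at hg
  obtain ⟨hg1, hg2⟩ := hg
  obtain ⟨c, hc1, hc2⟩ := hg2 hga
  -- g fixes c and u • c
  have huc : u • c ≠ c := fun h => hc2 (K_fix hZ hu hu1 h)
  have hua : u • a = a := K_le hZ a hu
  have huca : u • c ≠ a := fun h => hc2 (smul_left_cancel u (h.trans hua.symm))
  apply hg1
  refine eq_one_of_fix3 hZ (Ne.symm hc2) (Ne.symm huc) (Ne.symm huca) hga hc1 ?_
  rw [← mul_smul, hc, mul_smul, hc1]

/-- commutator map: a normal-type argument. -/
theorem K_le_of_comm {a b : Ω} (hab : a ≠ b) {N : Subgroup G} [N.Normal] {h : G} (hN : h ∈ N)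
    (h1 : h ≠ 1) (ha : h • a = a) (hb : h • b = b) : K hZ a ≤ N := by
  classical
  haveI := finite_group hZ
  -- the map u ↦ u h u⁻¹ h⁻¹ from K to K is injective, hence surjective
  have hmem : ∀ u ∈ K hZ a, u * h * u⁻¹ * h⁻¹ ∈ K hZ a := by
    intro u hu
    have := K_normal_in hZ ha ((K hZ a).inv_mem hu)
    have h2 := (K hZ a).mul_mem hu this
    convert h2 using 1
    group
  let f : K hZ a → K hZ a := fun u => ⟨(u : G) * h * (u : G)⁻¹ * h⁻¹, hmem u u.2⟩
  have hinj : Function.Injective f := by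
    intro u v huv
    have h2 : (u : G) * h * (u : G)⁻¹ * h⁻¹ = (v : G) * h * (v : G)⁻¹ * h⁻¹ := congrArg Subtype.val huv
    have h3 : (u : G) * h * (u : G)⁻¹ = (v : G) * h * (v : G)⁻¹ := mul_right_cancel h2
    have h4 : ((v : G)⁻¹ * u) * h = h * ((v : G)⁻¹ * u) := by
      have : (v : G)⁻¹ * ((u : G) * h * (u : G)⁻¹) * u = (v : G)⁻¹ * ((v : G) * h * (v : G)⁻¹) * u := by
        rw [h3]
      simpa [mul_assoc] using this
    have hw : (v : G)⁻¹ * u ∈ K hZ a := (K hZ a).mul_mem ((K hZ a).inv_mem v.2) u.2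
    have h5 : (v : G)⁻¹ * u = 1 := by
      by_contra hne
      have := mem_K_of_commute hZ hw hne h4.symm
      exact h1 (K_eq_one hZ this (Ne.symm hab) hb)
    exact Subtype.ext (inv_mul_eq_one.mp h5).symm
  have hsurj := Finite.surjective_of_injective hinj
  intro w hw
  obtain ⟨u, hu⟩ := hsurj ⟨w, hw⟩
  have h6 : (u : G) * h * (u : G)⁻¹ * h⁻¹ = w := congrArg Subtype.val hu
  rw [← h6]
  exact N.mul_mem (Subgroup.Normal.conj_mem ‹_› h hN u) (N.inv_mem hN)

end kernel

end Cfsg.Agent.H20.Zass
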