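import Cfsg.Agent.H20.Zass

/-!
Zassenhaus groups: normal subgroups, simplicity in odd degree.
-/

set_option autoImplicit false
set_option linter.style.haveILetI false

open Cfsg MulAction
open scoped Pointwise

namespace Cfsg.Agent.H20.Zass

variable {G Ω : Type*} [Group G] [MulAction G Ω] (hZ : IsZassenhausGroup G Ω)
include hZ

/-- A non-trivial normal subgroup is transitive. -/
theorem normal_transitive {N : Subgroup G} [hNn : N.Normal] (hN : N ≠ ⊥) (a c : Ω) :
    ∃ n ∈ N, n • a = c := by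
  -- enough for a nonidentity element moving a
  obtain ⟨⟨n, hn⟩, hn1⟩ := (Subgroup.ne_bot_iff_exists_ne_one (H := N)).mp hN
  have hn1' : n ≠ 1 := fun h => hn1 (Subtype.ext h)
  have hmove : ∃ d : Ω, n • d ≠ d := by
    by_contra hcon
    push Not at hcon
    exact hn1' (faithful hZ hcon)
  obtain ⟨d, hd⟩ := hmove
  obtain ⟨x, hx⟩ := exists_smul_one hZ d a
  -- n' = x n x⁻¹ moves a
  have hn' : x * n * x⁻¹ ∈ N := hNn.conj_mem n hn x
  have hmv : (x * n * x⁻¹) • a ≠ a := by
    rw [← hx, mul_smul, inv_smul_smul, mul_smul]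
    exact fun h => hd (smul_left_cancel x h)
  by_cases hac : c = a
  · exact ⟨1, one_mem _, by rw [one_smul, hac]⟩
  · obtain ⟨g, hg1, hg2⟩ := exists_smul hZ (Ne.symm hmv) (Ne.symm hac : a ≠ c)
    refine ⟨g * (x * n * x⁻¹) * g⁻¹, hNn.conj_mem _ hn' g, ?_⟩
    have h1 : g⁻¹ • a = a := inv_smul_eq_iff.mpr hg1.symm
    rw [mul_smul, h1, mul_smul, hg2]

/-- A normal subgroup whose non-identity elements have no fixed points is trivial. -/
theorem eq_bot_of_semiregular {M : Subgroup G} [hMn : M.Normal]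
    (hM : ∀ m ∈ M, ∀ a : Ω, m • a = a → m = 1) : M = ⊥ := by
  by_contra hne
  haveI : IsPretransitive M Ω := ⟨fun a c => by
    obtain ⟨n, hn, h⟩ := normal_transitive hZ hne a c
    exact ⟨⟨n, hn⟩, h⟩⟩
  obtain ⟨a, ha⟩ := hZ.2.2.2.2 M hMn inferInstance
  apply ha
  rw [eq_bot_iff]
  intro m hm
  rw [Subgroup.mem_bot]
  exact Subtype.ext (hM m m.2 a hm)

theorem normal_exists_two_pt [Finite Ω] {N : Subgroup G} [hNn : N.Normal] (hN : N ≠ ⊥) :
    ∃ n ∈ N, n ≠ 1 ∧ ∃ a b : Ω, a ≠ b ∧ n • a = a ∧ n • b = b := by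
  classical
  haveI := finite_group hZ
  by_contra hcon
  push Not at hcon
  -- N has an element with a fixed point
  have h1 : ∃ n ∈ N, n ≠ 1 ∧ ∃ a : Ω, n • a = a := by
    by_contra hc
    push Not at hc
    apply hN
    apply eq_bot_of_semiregular hZ
    intro m hm a hma
    by_contra hm1
    exact hc m hm hm1 a hma
  obtain ⟨n, hn, hn1, a, hna⟩ := h1
  obtain ⟨b, hab⟩ := exists_ne_pt hZ a
  obtain ⟨M, hM, hMn, hMc⟩ := frobenius_action (X := N) (Y := Ω)
    (fun y z => by
      obtain ⟨x, hx, h⟩ := normal_transitive hZ hN y z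
      exact ⟨⟨x, hx⟩, h⟩) a b hab ⟨⟨n, hn⟩, fun h => hn1 (congrArg Subtype.val h), hna⟩
    (by
      intro g y z hyz hy hz
      by_contra hg
      exact hcon g g.2 (fun h => hg (Subtype.ext h)) y z hyz hy hz)
  have hM' : ∀ g : G, g ∈ M.map N.subtype ↔ (g ∈ N ∧ (g = 1 ∨ ∀ y : Ω, g • y ≠ y)) := by
    intro g
    rw [Subgroup.mem_map]
    constructor
    · rintro ⟨x, hx, rfl⟩
      refine ⟨x.2, ?_⟩
      rcases (hM x).mp hx with h | h
      · left; rw [h]; rfl
      · right; exact h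
    · rintro ⟨hg, h⟩
      refine ⟨⟨g, hg⟩, (hM _).mpr ?_, rfl⟩
      rcases h with h | h
      · left; exact Subtype.ext h
      · right; exact h
  haveI : (M.map N.subtype).Normal := by
    constructor
    intro g hg x
    rw [hM'] at hg ⊢
    refine ⟨hNn.conj_mem g hg.1 x, ?_⟩
    rcases hg.2 with h | h
    · left; rw [h]; simp
    · right
      intro y hy
      rw [mul_smul, mul_smul, ← eq_inv_smul_iff] at hy
      exact h _ hy
  have hbot : M.map N.subtype = ⊥ := by
    apply eq_bot_of_semiregular hZ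
    intro m hm c hc
    rcases ((hM' m).mp hm).2 with h | h
    · exact h
    · exact absurd hc (h c)
  have h2 : Nat.card (M.map N.subtype) = Nat.card Ω := by
    rw [Nat.card_congr (Subgroup.equivMapOfInjective M _ (Subgroup.subtype_injective _)).toEquiv.symm,
      hMc]
  rw [hbot, Subgroup.card_bot] at h2
  have := three_le_card hZ
  omega

theorem K_le_normal [Finite Ω] {N : Subgroup G} [hNn : N.Normal] (hN : N ≠ ⊥) (a : Ω) :
    K hZ a ≤ N := by
  obtain ⟨n, hn, hn1, c, d, hcd, hc, hd⟩ := normal_exists_two_pt hZ hN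
  obtain ⟨b, hab⟩ := exists_ne_pt hZ a
  obtain ⟨x, hx1, hx2⟩ := exists_smul hZ hcd hab
  apply K_le_of_comm hZ hab (hNn.conj_mem n hn x)
  · exact fun h => hn1 (conj_eq_one_iff.mp h)
  · rw [← hx1, mul_smul, inv_smul_smul, mul_smul, hc]
  · rw [← hx2, mul_smul, inv_smul_smul, mul_smul, hd]

theorem normal_two_trans [Finite Ω] {N : Subgroup G} [hNn : N.Normal] (hN : N ≠ ⊥)
    {a b c d : Ω} (hab : a ≠ b) (hcd : c ≠ d) : ∃ n ∈ N, n • a = c ∧ n • b = d := by
  obtain ⟨n, hn, hnc⟩ := normal_transitive hZ hN a c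
  have hb : n • b ≠ c := fun h => hab (smul_left_cancel n (hnc.trans h.symm))
  obtain ⟨u, hu, hub⟩ := exists_K hZ hb (Ne.symm hcd)
  refine ⟨u * n, N.mul_mem (K_le_normal hZ hN c hu) hn, ?_, ?_⟩
  · rw [mul_smul, hnc]
    exact K_le hZ c hu
  · rw [mul_smul, hub]

/-- Two regular normal subgroups of a two-transitive Zassenhaus normal subgroup coincide. -/
theorem regular_normal_unique [Finite Ω] {N : Subgroup G} [hNn : N.Normal] (hN : N ≠ ⊥)
    {M1 M2 : Subgroup G} (h1N : M1 ≤ N) (h2N : M2 ≤ N)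
    (h1n : ∀ n ∈ N, ∀ m ∈ M1, n * m * n⁻¹ ∈ M1) (h2n : ∀ n ∈ N, ∀ m ∈ M2, n * m * n⁻¹ ∈ M2)
    (h1t : ∀ a b : Ω, ∃ m ∈ M1, m • a = b) (h2t : ∀ a b : Ω, ∃ m ∈ M2, m • a = b)
    (h1s : ∀ m ∈ M1, ∀ a : Ω, m • a = a → m = 1) (h2s : ∀ m ∈ M2, ∀ a : Ω, m • a = a → m = 1) :
    M1 ≤ M2 := by
  classical
  haveI := finite_group hZ
  obtain ⟨a, b, hab⟩ := exists_ne_pts hZ
  have inj1 : ∀ m ∈ M1, ∀ m' ∈ M1, ∀ c : Ω, m • c = m' • c → m = m' := by
    intro m hm m' hm' c h
    have : (m'⁻¹ * m) • c = c := by rw [mul_smul, h, inv_smul_smul]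
    exact (inv_mul_eq_one.mp (h1s _ (M1.mul_mem (M1.inv_mem hm') hm) c this)).symm
  -- all nonidentity elements of M1 are conjugate under K a
  have hconj : ∀ m ∈ M1, ∀ m' ∈ M1, m ≠ 1 → m' ≠ 1 → ∃ n ∈ N, m' = n * m * n⁻¹ := by
    intro m hm m' hm' hm1 hm1'
    have h3 : m • a ≠ a := fun h => hm1 (h1s m hm a h)
    have h4 : m' • a ≠ a := fun h => hm1' (h1s m' hm' a h)
    obtain ⟨u, hu, hua⟩ := exists_K hZ h3 h4
    have huN := K_le_normal hZ hN a hu
    refine ⟨u, huN, ?_⟩
    apply inj1 m' hm' _ (h1n u huN m hm) a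
    have h5 : u⁻¹ • a = a := inv_smul_eq_iff.mpr (K_le hZ a hu).symm
    rw [mul_smul, h5, mul_smul, hua]
  by_cases hint : ∃ m ∈ M1, m ∈ M2 ∧ m ≠ 1
  · obtain ⟨m, hm, hm2, hm1⟩ := hint
    intro m' hm'
    by_cases h : m' = 1
    · rw [h]; exact one_mem _
    · obtain ⟨n, hn, rfl⟩ := hconj m hm m' hm' hm1 h
      exact h2n n hn m hm2
  · exfalso
    push Not at hint
    -- commute
    have hcomm : ∀ m ∈ M1, ∀ m' ∈ M2, m * m' = m' * m := by
      intro m hm m' hm'
      have h3 : m * m' * m⁻¹ * m'⁻¹ ∈ M2 :=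
        M2.mul_mem (h2n m (h1N hm) m' hm') (M2.inv_mem hm')
      have h4 : m * m' * m⁻¹ * m'⁻¹ ∈ M1 := by
        have := M1.mul_mem hm (h1n m' (h2N hm') m⁻¹ (M1.inv_mem hm))
        simpa [mul_assoc] using this
      have h5 := hint _ h4 h3
      have h6 : m * m' * m⁻¹ = m' := mul_inv_eq_one.mp h5
      exact mul_inv_eq_iff_eq_mul.mp h6
    -- centralisers in M1 have order 2
    have hcen : ∀ m ∈ M1, m ≠ 1 → ∀ x ∈ M1, m * x = x * m → x = 1 ∨ x = m := by
      intro m hm hm1 x hx hmx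
      by_contra hcon
      push Not at hcon
      obtain ⟨m', hm', hma⟩ := h2t a (m⁻¹ • a)
      -- g = m * m' fixes x • a for x centralising m
      have hfix : ∀ y ∈ M1, m * y = y * m → (m * m') • (y • a) = y • a := by
        intro y hy hmy
        rw [← mul_smul, mul_assoc, ← hcomm y hy m' hm', ← mul_assoc, mul_smul, hma, ← mul_smul,
          hmy, mul_assoc, mul_inv_cancel, mul_one]
      have h3 : (m * m') = 1 := by
        refine eq_one_of_fix3 hZ (a := (1 : G) • a) (b := m • a) (c := x • a) ?_ ?_ ?_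
          (hfix 1 (one_mem _) (by simp)) (hfix m hm rfl) (hfix x hx hmx)
        · intro h
          exact hm1 (inj1 _ (one_mem _) _ hm a h).symm
        · intro h
          exact hcon.2 (inj1 _ hm _ hx a h).symm
        · intro h
          exact hcon.1 (inj1 _ (one_mem _) _ hx a h).symm
      have h4 : m = m'⁻¹ := mul_eq_one_iff_eq_inv.mp h3
      exact hm1 (hint m hm (h4 ▸ M2.inv_mem hm'))
    -- exponent two
    have hsq : ∀ m ∈ M1, m * m = 1 := by
      intro m hm
      by_cases h : m = 1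
      · rw [h, one_mul]
      · rcases hcen m hm h (m * m) (M1.mul_mem hm hm) (by group) with h3 | h3
        · exact h3
        · exact absurd (mul_eq_left.mp h3) h
    have hab' : ∀ m ∈ M1, ∀ m' ∈ M1, m * m' = m' * m := by
      intro m hm m' hm'
      have h3 := hsq _ (M1.mul_mem hm hm')
      have h4 : m⁻¹ = m := inv_eq_of_mul_eq_one_left (hsq m hm)
      have h5 : m'⁻¹ = m' := inv_eq_of_mul_eq_one_left (hsq m' hm')
      have h6 : m * m' = (m * m')⁻¹ := (inv_eq_of_mul_eq_one_left h3).symm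
      rw [h6, mul_inv_rev, h4, h5]
    obtain ⟨c, hca, hcb⟩ := exists_third hZ hab
    obtain ⟨m, hm, hmb⟩ := h1t a b
    obtain ⟨x, hx, hxc⟩ := h1t a c
    have hm1 : m ≠ 1 := by
      rintro rfl
      exact hab (by rw [one_smul] at hmb; exact hmb)
    rcases hcen m hm hm1 x hx (hab' m hm x hx) with h | h
    · rw [h, one_smul] at hxc
      exact hca hxc.symm
    · rw [h, hmb] at hxc
      exact hcb hxc.symm

theorem normal_isZass [Finite Ω] (N : Subgroup G) [hNn : N.Normal] (hN : N ≠ ⊥) :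
    IsZassenhausGroup N Ω := by
  classical
  haveI := finite_group hZ
  refine ⟨?_, ?_, ?_, ?_, ?_⟩
  · constructor
    intro m m' h
    haveI := hZ.1
    exact Subtype.ext (eq_of_smul_eq_smul (α := Ω) (fun a => h a))
  · rw [is_two_pretransitive_iff]
    intro a b c d hab hcd
    obtain ⟨n, hn, h1, h2⟩ := normal_two_trans hZ hN hab hcd
    exact ⟨⟨n, hn⟩, h1, h2⟩
  · intro g a b c hab hbc hac h1 h2 h3
    exact Subtype.ext (eq_one_of_fix3 hZ hab hbc hac h1 h2 h3)
  · obtain ⟨n, hn, hn1, a, b, hab, ha, hb⟩ := normal_exists_two_pt hZ hN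
    exact ⟨⟨n, hn⟩, fun h => hn1 (congrArg Subtype.val h), a, b, hab, ha, hb⟩
  · intro M hM htr
    by_contra hcon
    push Not at hcon
    have hs : ∀ m ∈ M.map N.subtype, ∀ a : Ω, m • a = a → m = 1 := by
      rintro _ ⟨x, hx, rfl⟩ a hxa
      have h1 : (⟨x, hx⟩ : M) ∈ stabilizer M a := hxa
      rw [hcon a, Subgroup.mem_bot] at h1
      have h2 : x = 1 := congrArg Subtype.val h1
      rw [h2]; rfl
    have ht : ∀ a b : Ω, ∃ m ∈ M.map N.subtype, m • a = b := by
      intro a b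
      obtain ⟨⟨x, hx⟩, h⟩ := htr.exists_smul_eq a b
      exact ⟨x, ⟨x, hx, rfl⟩, h⟩
    have hn : ∀ n ∈ N, ∀ m ∈ M.map N.subtype, n * m * n⁻¹ ∈ M.map N.subtype := by
      rintro n hn _ ⟨x, hx, rfl⟩
      exact ⟨_, hM.conj_mem x hx ⟨n, hn⟩, rfl⟩
    have hle : M.map N.subtype ≤ N := by
      rintro _ ⟨x, _, rfl⟩
      exact x.2
    haveI hMn : (M.map N.subtype).Normal := by
      constructor
      intro m hm g
      have key : (M.map N.subtype) ≤ MulAut.conj g⁻¹ • (M.map N.subtype) := by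
        apply regular_normal_unique hZ hN hle
        · intro x hx
          rw [Subgroup.mem_pointwise_smul_iff_inv_smul_mem, ← map_inv, MulAut.smul_def,
            MulAut.conj_apply] at hx
          have h3 := hNn.conj_mem _ (hle hx) g⁻¹
          simpa [mul_assoc] using h3
        · exact hn
        · intro n hn' x hx
          rw [Subgroup.mem_pointwise_smul_iff_inv_smul_mem, ← map_inv, MulAut.smul_def,
            MulAut.conj_apply] at hx ⊢
          have h3 := hn _ (hNn.conj_mem n hn' g) _ hx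
          simpa [mul_assoc] using h3
        · exact ht
        · intro c d
          obtain ⟨m, hm, h3⟩ := ht (g • c) (g • d)
          refine ⟨g⁻¹ * m * g, ?_, ?_⟩
          · rw [Subgroup.mem_pointwise_smul_iff_inv_smul_mem, ← map_inv, MulAut.smul_def,
              MulAut.conj_apply]
            simpa [mul_assoc] using hm
          · rw [mul_smul, mul_smul, h3, inv_smul_smul]
        · exact hs
        · intro x hx c hc
          rw [Subgroup.mem_pointwise_smul_iff_inv_smul_mem, ← map_inv, MulAut.smul_def,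
            MulAut.conj_apply, inv_inv] at hx
          have h3 := hs _ hx (g • c) (by rw [mul_smul, inv_smul_smul, mul_smul, hc])
          exact conj_eq_one_iff.mp h3
      have h4 := key hm
      rw [Subgroup.mem_pointwise_smul_iff_inv_smul_mem, ← map_inv, MulAut.smul_def,
            MulAut.conj_apply, inv_inv] at h4
      exact h4
    have hbot := eq_bot_of_semiregular hZ hs
    obtain ⟨a, b, hab⟩ := exists_ne_pts hZ
    obtain ⟨m, hm, h⟩ := ht a b
    rw [hbot, Subgroup.mem_bot] at hm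
    rw [hm, one_smul] at h
    exact hab h

end Cfsg.Agent.H20.Zass
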