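import Cfsg.Agent.H20.Zass2

/-!
Zassenhaus groups: orders, involutions, simplicity in odd degree.
-/

set_option autoImplicit false
set_option linter.style.haveILetI false

open Cfsg MulAction
open scoped Pointwise

namespace Cfsg.Agent.H20.Zass

/-- A semiregular group action on a finite type: the order of the group divides the size. -/
theorem card_dvd_of_semiregular {X Y : Type*} [Group X] [MulAction X Y]
    (h : ∀ x : X, ∀ y : Y, x • y = y → x = 1) : Nat.card X ∣ Nat.card Y := by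
  have hfree : ∀ q : Y, MulAction.stabilizer X q = ⊥ := by
    intro q
    rw [eq_bot_iff]
    intro x hx
    exact Subgroup.mem_bot.mpr (h x q hx)
  rw [Nat.card_congr (MulAction.selfEquivOrbitsQuotientProd hfree), Nat.card_prod]
  exact Dvd.intro_left _ rfl

variable {G Ω : Type*} [Group G] [MulAction G Ω] (hZ : IsZassenhausGroup G Ω)
include hZ

theorem card_two_pt_dvd [Finite Ω] {a b : Ω} (hab : a ≠ b) :
    Nat.card ↥(stabilizer G a ⊓ stabilizer G b) ∣ Nat.card Ω - 2 := by
  classical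
  haveI : Fintype Ω := Fintype.ofFinite Ω
  let Y := {c : Ω // c ∉ ({a, b} : Finset Ω)}
  letI : MulAction ↥(stabilizer G a ⊓ stabilizer G b) Y :=
    { smul := fun h c => ⟨(h : G) • c.1, by
        have h1 : (h : G) • a = a := h.2.1
        have h2 : (h : G) • b = b := h.2.2
        have hc := c.2
        simp only [Finset.mem_insert, Finset.mem_singleton, not_or] at hc ⊢
        refine ⟨fun h3 => hc.1 (smul_left_cancel (h : G) (h3.trans h1.symm)),
          fun h3 => hc.2 (smul_left_cancel (h : G) (h3.trans h2.symm))⟩⟩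
      one_smul := fun c => Subtype.ext (one_smul G c.1)
      mul_smul := fun x y c => Subtype.ext (mul_smul (x : G) (y : G) c.1) }
  have h1 := card_dvd_of_semiregular (X := ↥(stabilizer G a ⊓ stabilizer G b)) (Y := Y) (by
    intro x c hc
    have hc' : (x : G) • (c : Ω) = c := congrArg Subtype.val hc
    have hcc := c.2
    simp only [Finset.mem_insert, Finset.mem_singleton, not_or] at hcc
    exact Subtype.ext (eq_one_of_fix3 hZ hab (Ne.symm hcc.2) (Ne.symm hcc.1) x.2.1 x.2.2 hc'))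
  have h2 : Nat.card Y = Nat.card Ω - 2 := by
    rw [Nat.card_eq_fintype_card, Nat.card_eq_fintype_card, Fintype.card_subtype_compl]
    congr 1
    rw [Fintype.card_coe, Finset.card_pair hab]
  rwa [h2] at h1

theorem card_K_mul [Finite Ω] {a b : Ω} (hab : a ≠ b) :
    Nat.card (stabilizer G a) = Nat.card (K hZ a) * Nat.card ↥(stabilizer G a ⊓ stabilizer G b) := by
  classical
  haveI := finite_group hZ
  rw [← Nat.card_prod]
  refine Nat.card_congr (Equiv.ofBijective
    (fun p : K hZ a × ↥(stabilizer G a ⊓ stabilizer G b) =>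
      (⟨(p.1 : G) * p.2, (stabilizer G a).mul_mem (K_le hZ a p.1.2) p.2.2.1⟩ :
        ↥(stabilizer G a))) ⟨?_, ?_⟩).symm
  · rintro ⟨u, h⟩ ⟨v, k⟩ huv
    have h1 : (u : G) * h = (v : G) * k := congrArg Subtype.val huv
    have h2 : (u : G) = v := by
      apply K_inj hZ (Ne.symm hab) u.2 v.2
      have h3 : (h : G) • b = b := h.2.2
      have h4 : (k : G) • b = b := k.2.2
      have h5 := congrArg (· • b) h1
      simp only [mul_smul, h3, h4] at h5
      exact h5
    have h3 : (h : G) = k := by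
      rw [h2] at h1
      exact mul_left_cancel h1
    exact Prod.ext (Subtype.ext h2) (Subtype.ext h3)
  · rintro ⟨g, hg⟩
    obtain ⟨u, hu, h, hha, hhb, rfl⟩ := exists_mul hZ hab hg
    exact ⟨(⟨u, hu⟩, ⟨h, hha, hhb⟩), rfl⟩

theorem card_G [Finite Ω] {a b : Ω} (hab : a ≠ b) :
    Nat.card G = Nat.card Ω * (Nat.card (K hZ a) * Nat.card ↥(stabilizer G a ⊓ stabilizer G b)) := by
  haveI : IsPretransitive G Ω := ⟨fun x y => exists_smul_one hZ x y⟩
  rw [← card_K_mul hZ hab, mul_comm, ← index_stabilizer_of_transitive G a,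
    Subgroup.card_mul_index]

omit hZ in
/-- an element interchanging `a` and `b` normalises the two point stabiliser -/
theorem swap_conj {a b : Ω} {s h : G} (hsa : s • a = b) (hsb : s • b = a)
    (ha : h • a = a) (hb : h • b = b) :
    (s * h * s⁻¹) • a = a ∧ (s * h * s⁻¹) • b = b := by
  have h1 : s⁻¹ • a = b := inv_smul_eq_iff.mpr hsb.symm
  have h2 : s⁻¹ • b = a := inv_smul_eq_iff.mpr hsa.symm
  refine ⟨by rw [mul_smul, h1, mul_smul, hb, hsb], by rw [mul_smul, h2, mul_smul, ha, hsa]⟩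

theorem exists_involution_of_odd [Finite Ω] {a b : Ω} (hab : a ≠ b)
    (hodd : Odd (Nat.card ↥(stabilizer G a ⊓ stabilizer G b))) :
    ∃ t : G, t ≠ 1 ∧ t * t = 1 ∧ t • a = b ∧ t • b = a := by
  haveI := finite_group hZ
  obtain ⟨x, hxa, hxb⟩ := exists_smul hZ hab (Ne.symm hab)
  have hx2 : x * x ∈ stabilizer G a ⊓ stabilizer G b := by
    refine ⟨?_, ?_⟩
    · show (x * x) • a = a
      rw [mul_smul, hxa, hxb]
    · show (x * x) • b = b
      rw [mul_smul, hxb, hxa]
  have h1 : orderOf (x * x) ∣ Nat.card ↥(stabilizer G a ⊓ stabilizer G b) := by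
    have := orderOf_dvd_natCard (⟨x * x, hx2⟩ : ↥(stabilizer G a ⊓ stabilizer G b))
    rwa [← Subgroup.orderOf_coe] at this
  have h2 : Odd (orderOf (x * x)) := by
    rcases Nat.even_or_odd (orderOf (x * x)) with h | h
    · exact absurd ((h.two_dvd.trans h1)) (by rw [Nat.two_dvd_ne_zero]; exact Nat.odd_iff.mp hodd)
    · exact h
  obtain ⟨k, hk⟩ := h2
  have hpow : ∀ k : ℕ, (x ^ (2 * k + 1)) • a = b ∧ (x ^ (2 * k + 1)) • b = a := by
    intro k
    induction k with
    | zero => simp [hxa, hxb]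
    | succ k ih =>
      have : x ^ (2 * (k + 1) + 1) = x * x * x ^ (2 * k + 1) := by
        rw [show 2 * (k + 1) + 1 = (2 * k + 1) + 1 + 1 by ring, pow_succ', pow_succ', mul_assoc]
      refine ⟨?_, ?_⟩
      · rw [this, mul_smul, mul_smul, ih.1, hxb, hxa]
      · rw [this, mul_smul, mul_smul, ih.2, hxa, hxb]
  refine ⟨x ^ (2 * k + 1), ?_, ?_, (hpow k).1, (hpow k).2⟩
  · intro h
    have := (hpow k).1
    rw [h, one_smul] at this
    exact hab this
  · rw [← pow_add, ← two_mul, ← hk, pow_mul, pow_two]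
    exact pow_orderOf_eq_one _

omit hZ in
theorem card_fixedBy_modEq [Finite G] [Finite Ω] {t : G} (ht2 : t * t = 1) :
    Nat.card Ω ≡ Nat.card (fixedBy Ω t) [MOD 2] := by
  have hp : IsPGroup 2 (Subgroup.zpowers t) := by
    intro x
    refine ⟨1, ?_⟩
    obtain ⟨k, hk⟩ := Subgroup.mem_zpowers_iff.mp x.2
    apply Subtype.ext
    show (x : G) ^ (2 ^ 1) = 1
    rw [← hk, pow_one, ← zpow_natCast, ← zpow_mul, mul_comm, zpow_mul]
    have : t ^ ((2 : ℕ) : ℤ) = 1 := by rw [zpow_natCast, pow_two, ht2]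
    rw [this, one_zpow]
  haveI : Fact (Nat.Prime 2) := ⟨Nat.prime_two⟩
  have h1 := hp.card_modEq_card_fixedPoints Ω
  have h2 : fixedPoints (Subgroup.zpowers t) Ω = fixedBy Ω t := by
    ext a
    rw [mem_fixedPoints, mem_fixedBy]
    constructor
    · intro h
      exact h ⟨t, Subgroup.mem_zpowers t⟩
    · intro h x
      have hx : (x : G) ∈ stabilizer G a := by
        have : Subgroup.zpowers t ≤ stabilizer G a := by
          rw [Subgroup.zpowers_le]
          exact h
        exact this x.2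
      exact hx
  rw [h2] at h1
  exact h1

theorem card_fixedBy_le_two [Finite Ω] {t : G} (ht : t ≠ 1) : Nat.card (fixedBy Ω t) ≤ 2 := by
  classical
  haveI : Fintype Ω := Fintype.ofFinite Ω
  by_contra hcon
  push Not at hcon
  rw [Nat.card_eq_fintype_card, Fintype.two_lt_card_iff] at hcon
  obtain ⟨a, b, c, hab, hac, hbc⟩ := hcon
  exact ht (eq_one_of_fix3 hZ (fun h => hab (Subtype.ext h)) (fun h => hbc (Subtype.ext h))
    (fun h => hac (Subtype.ext h)) a.2 b.2 c.2)

/-- An involution of an odd-degree Zassenhaus group fixes exactly one point. -/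
theorem involution_card_fixedBy_odd [Finite Ω] (hodd : Odd (Nat.card Ω)) {t : G} (ht1 : t ≠ 1)
    (ht2 : t * t = 1) : Nat.card (fixedBy Ω t) = 1 := by
  haveI := finite_group hZ
  have h1 := card_fixedBy_modEq (Ω := Ω) ht2
  have h2 := card_fixedBy_le_two hZ ht1
  have h3 : Nat.card Ω % 2 = 1 := Nat.odd_iff.mp hodd
  have h4 : Nat.card Ω % 2 = Nat.card (fixedBy Ω t) % 2 := h1
  omega

theorem involution_fix_odd [Finite Ω] (hodd : Odd (Nat.card Ω)) {t : G} (ht1 : t ≠ 1)
    (ht2 : t * t = 1) : ∃ c : Ω, t • c = c ∧ ∀ d : Ω, t • d = d → d = c := by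
  have h1 := involution_card_fixedBy_odd hZ hodd ht1 ht2
  rw [Nat.card_eq_one_iff_unique] at h1
  obtain ⟨h2, ⟨⟨c, hc⟩⟩⟩ := h1
  refine ⟨c, hc, ?_⟩
  intro d hd
  exact congrArg Subtype.val (h2.elim ⟨d, hd⟩ ⟨c, hc⟩)

/-- If an involution `t` swaps `a` and `b` and fixes exactly one point, then every element of
the two-point stabiliser has the form `h⁻¹ t h t`. -/
theorem two_pt_eq_comm [Finite Ω] {a b : Ω} (hab : a ≠ b) {t : G} (ht2 : t * t = 1)
    (hta : t • a = b) (htb : t • b = a) (hc : ∃ c : Ω, t • c = c ∧ ∀ d : Ω, t • d = d → d = c)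
    {x : G} (hxa : x • a = a) (hxb : x • b = b) :
    ∃ h : G, h • a = a ∧ h • b = b ∧ x = h⁻¹ * (t * h * t⁻¹) := by
  classical
  haveI := finite_group hZ
  obtain ⟨c, hc1, hc2⟩ := hc
  let H := stabilizer G a ⊓ stabilizer G b
  let f : H → H := fun h => ⟨(h : G)⁻¹ * (t * h * t⁻¹), H.mul_mem (H.inv_mem h.2)
    (swap_conj hta htb h.2.1 h.2.2)⟩
  have hinj : Function.Injective f := by
    intro h k hhk
    have h1 : (h : G)⁻¹ * (t * h * t⁻¹) = (k : G)⁻¹ * (t * k * t⁻¹) := congrArg Subtype.val hhk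
    have h2 : t * (h * (k : G)⁻¹) = (h * (k : G)⁻¹) * t := by
      have h3 : (h : G) * ((h : G)⁻¹ * (t * h * t⁻¹)) * (t * (k : G)⁻¹) =
        (h : G) * ((k : G)⁻¹ * (t * k * t⁻¹)) * (t * (k : G)⁻¹) := by rw [h1]
      simpa [mul_assoc] using h3
    have hw : (h : G) * (k : G)⁻¹ ∈ H := H.mul_mem h.2 (H.inv_mem k.2)
    have h4 : ((h : G) * (k : G)⁻¹) • c = c := by
      apply hc2
      rw [← mul_smul, h2, mul_smul, hc1]
    have hca : a ≠ c := by
      rintro rfl
      exact hab (hc1.symm.trans hta)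
    have hcb : b ≠ c := by
      rintro rfl
      exact hab (htb.symm.trans hc1)
    have h5 := eq_one_of_fix3 hZ hab hcb hca hw.1 hw.2 h4
    exact Subtype.ext (mul_inv_eq_one.mp h5)
  obtain ⟨h, hh⟩ := Finite.surjective_of_injective hinj ⟨x, hxa, hxb⟩
  exact ⟨h, h.2.1, h.2.2, (congrArg Subtype.val hh).symm⟩

theorem two_pt_odd_of_odd [Finite Ω] (hodd : Odd (Nat.card Ω)) {a b : Ω} (hab : a ≠ b) :
    Odd (Nat.card ↥(stabilizer G a ⊓ stabilizer G b)) := by
  have h1 := card_two_pt_dvd hZ hab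
  have h3 := three_le_card hZ
  have h2 : Odd (Nat.card Ω - 2) := by
    obtain ⟨k, hk⟩ := hodd
    exact ⟨k - 1, by omega⟩
  exact Odd.of_dvd_nat h2 h1

/-- A Zassenhaus group of odd degree is simple. -/
theorem isSimple_of_odd [Finite Ω] (hodd : Odd (Nat.card Ω)) : IsSimpleGroup G := by
  classical
  haveI := finite_group hZ
  obtain ⟨a, b, hab⟩ := exists_ne_pts hZ
  obtain ⟨g0, hg0, _⟩ := exists_two_pt hZ hab
  haveI : Nontrivial G := ⟨⟨g0, 1, hg0⟩⟩
  constructor
  intro N hN
  by_cases hbot : N = ⊥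
  · exact Or.inl hbot
  right
  -- an involution of N swapping a and b
  have hZN := normal_isZass hZ N hbot
  obtain ⟨t, ht1, ht2, hta, htb⟩ := exists_involution_of_odd hZN hab (two_pt_odd_of_odd hZN hodd hab)
  have ht1' : (t : G) ≠ 1 := fun h => ht1 (Subtype.ext h)
  have ht2' : (t : G) * t = 1 := congrArg Subtype.val ht2
  have hc := involution_fix_odd hZ hodd ht1' ht2'
  rw [eq_top_iff]
  intro g _
  obtain ⟨n, hn, hna⟩ := normal_transitive hZ hbot a (g • a)
  have h1 : (n⁻¹ * g) • a = a := by rw [mul_smul, ← hna, inv_smul_smul]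
  obtain ⟨u, hu, h, hha, hhb, heq⟩ := exists_mul hZ hab h1
  obtain ⟨k, _, _, hk⟩ := two_pt_eq_comm hZ hab ht2' hta htb hc hha hhb
  have h2 : h ∈ N := by
    rw [hk]
    have h3 : k⁻¹ * ((t : G) * k * (t : G)⁻¹) = (k⁻¹ * t * (k⁻¹)⁻¹) * (t : G)⁻¹ := by group
    rw [h3]
    exact N.mul_mem (hN.conj_mem _ t.2 _) (N.inv_mem t.2)
  have h3 : g = n * (u * h) := by rw [← heq, mul_inv_cancel_left]
  rw [h3]
  exact N.mul_mem hn (N.mul_mem (K_le_normal hZ hbot a hu) h2)

end Cfsg.Agent.H20.Zass
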