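import Cfsg.Agent.H20.Zass3
import Cfsg.Agent.H24.Frobenius

/-!
Zassenhaus groups: involutions, normalisers of the two-point stabiliser and of the kernel.
-/

set_option autoImplicit false
set_option linter.style.haveILetI false

open Cfsg MulAction
open scoped Pointwise

namespace Cfsg.Agent.H20.Zass

variable {G Ω : Type*} [Group G] [MulAction G Ω] (hZ : IsZassenhausGroup G Ω)
include hZ

/-- Any element with `t * t = 1`, `t ≠ 1` is conjugate to an element interchanging two given points. -/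
theorem conj_swap {t : G} (ht1 : t ≠ 1) (ht2 : t * t = 1) {a b : Ω} (hab : a ≠ b) :
    ∃ g : G, (g * t * g⁻¹) • a = b ∧ (g * t * g⁻¹) • b = a := by
  have hmove : ∃ c : Ω, t • c ≠ c := by
    by_contra hcon
    push Not at hcon
    exact ht1 (faithful hZ hcon)
  obtain ⟨c, hc⟩ := hmove
  obtain ⟨g, hg1, hg2⟩ := exists_smul hZ (Ne.symm hc) hab
  refine ⟨g, ?_, ?_⟩
  · rw [← hg1, mul_smul, inv_smul_smul, mul_smul, hg2]
  · rw [← hg2, mul_smul, inv_smul_smul, mul_smul, ← mul_smul t t, ht2, one_smul, hg1]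

theorem even_card_G [Finite Ω] : Even (Nat.card G) := by
  obtain ⟨a, b, hab⟩ := exists_ne_pts hZ
  have h1 := card_G hZ hab
  have h2 := card_K hZ a
  have h3 : Even (Nat.card Ω * Nat.card (K hZ a)) := by
    rw [← h2, mul_comm]
    exact Nat.even_mul_succ_self _
  rw [h1, ← mul_assoc]
  exact h3.mul_right _

theorem exists_involution [Finite Ω] : ∃ t : G, t ≠ 1 ∧ t * t = 1 := by
  haveI := finite_group hZ
  haveI : Fact (Nat.Prime 2) := ⟨Nat.prime_two⟩
  obtain ⟨t, ht⟩ := exists_prime_orderOf_dvd_card' (G := G) 2 (even_card_G hZ).two_dvd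
  refine ⟨t, ?_, ?_⟩
  · rintro rfl
    rw [orderOf_one] at ht
    omega
  · rw [← pow_two, ← ht]
    exact pow_orderOf_eq_one t

theorem exists_involution_swap [Finite Ω] {a b : Ω} (hab : a ≠ b) :
    ∃ t : G, t ≠ 1 ∧ t * t = 1 ∧ t • a = b ∧ t • b = a := by
  obtain ⟨t, ht1, ht2⟩ := exists_involution hZ
  obtain ⟨g, hg1, hg2⟩ := conj_swap hZ ht1 ht2 hab
  refine ⟨g * t * g⁻¹, ?_, ?_, hg1, hg2⟩
  · intro h
    exact ht1 (conj_eq_one_iff.mp h)
  · have : g * t * g⁻¹ * (g * t * g⁻¹) = g * (t * t) * g⁻¹ := by group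
    rw [this, ht2]
    simp

omit hZ in
theorem card_fixedBy_conj (g t : G) :
    Nat.card (fixedBy Ω (g * t * g⁻¹)) = Nat.card (fixedBy Ω t) := by
  refine Nat.card_congr ⟨fun x => ⟨g⁻¹ • (x : Ω), ?_⟩, fun x => ⟨g • (x : Ω), ?_⟩, ?_, ?_⟩
  · have := x.2
    rw [mem_fixedBy, mul_smul, mul_smul, smul_eq_iff_eq_inv_smul] at this
    exact this
  · have := x.2
    rw [mem_fixedBy] at this ⊢
    rw [mul_smul, inv_smul_smul, mul_smul, this]
  · intro x
    exact Subtype.ext (smul_inv_smul g (x : Ω))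
  · intro x
    exact Subtype.ext (inv_smul_smul g (x : Ω))

theorem card_fixedBy_eq_two [Finite Ω] {a b : Ω} (hab : a ≠ b) {t : G} (ht1 : t ≠ 1)
    (ha : t • a = a) (hb : t • b = b) : Nat.card (fixedBy Ω t) = 2 := by
  classical
  haveI : Fintype Ω := Fintype.ofFinite Ω
  have h1 := card_fixedBy_le_two hZ ht1
  have h2 : 1 < Nat.card (fixedBy Ω t) := by
    rw [Nat.card_eq_fintype_card, Fintype.one_lt_card_iff]
    exact ⟨⟨a, ha⟩, ⟨b, hb⟩, fun h => hab (congrArg Subtype.val h)⟩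
  omega

/-- fixed pair of a two-point fixing element -/
theorem pair_of_fix {x : G} {a b c : Ω} (hab : a ≠ b) (hx1 : x ≠ 1)
    (ha : x • a = a) (hb : x • b = b) (hc : x • c = c) : c = a ∨ c = b := by
  by_contra hcon
  push Not at hcon
  exact hx1 (eq_one_of_fix3 hZ hab (Ne.symm hcon.2) (Ne.symm hcon.1) ha hb hc)

theorem pair_of_conj {g x : G} {a b : Ω} (hab : a ≠ b) (hx1 : x ≠ 1)
    (ha : x • a = a) (hb : x • b = b) (ha' : (g * x * g⁻¹) • a = a) (hb' : (g * x * g⁻¹) • b = b) :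
    (g • a = a ∧ g • b = b) ∨ (g • a = b ∧ g • b = a) := by
  have h1 : x • (g⁻¹ • a) = g⁻¹ • a := by
    rw [mul_smul, mul_smul, smul_eq_iff_eq_inv_smul] at ha'
    exact ha'
  have h2 : x • (g⁻¹ • b) = g⁻¹ • b := by
    rw [mul_smul, mul_smul, smul_eq_iff_eq_inv_smul] at hb'
    exact hb'
  rcases pair_of_fix hZ hab hx1 ha hb h1 with h3 | h3 <;>
  rcases pair_of_fix hZ hab hx1 ha hb h2 with h4 | h4
  · exact absurd (smul_left_cancel _ (h3.trans h4.symm)) hab
  · left; exact ⟨(inv_smul_eq_iff.mp h3).symm, (inv_smul_eq_iff.mp h4).symm⟩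
  · right; exact ⟨(inv_smul_eq_iff.mp h4).symm, (inv_smul_eq_iff.mp h3).symm⟩
  · exact absurd (smul_left_cancel _ (h3.trans h4.symm)) hab

/-- Normaliser of the two point stabiliser. -/
theorem mem_normalizer_two_pt {a b : Ω} (hab : a ≠ b) {g : G} :
    g ∈ Subgroup.normalizer ((stabilizer G a ⊓ stabilizer G b : Subgroup G) : Set G) ↔
      ((g • a = a ∧ g • b = b) ∨ (g • a = b ∧ g • b = a)) := by
  constructor
  · intro hg
    obtain ⟨x, hx1, hxa, hxb⟩ := exists_two_pt hZ hab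
    have h1 := (Subgroup.mem_normalizer_iff.mp hg x).mp ⟨hxa, hxb⟩
    exact pair_of_conj hZ hab hx1 hxa hxb h1.1 h1.2
  · intro hg
    rw [Subgroup.mem_normalizer_iff]
    have key : ∀ g : G, ((g • a = a ∧ g • b = b) ∨ (g • a = b ∧ g • b = a)) →
        ∀ x : G, x ∈ (stabilizer G a ⊓ stabilizer G b) → g * x * g⁻¹ ∈
          (stabilizer G a ⊓ stabilizer G b) := by
      rintro g (hg | hg) x hx
      · exact Subgroup.mul_mem _ (Subgroup.mul_mem _ hg hx) (Subgroup.inv_mem _ hg)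
      · exact swap_conj hg.1 hg.2 hx.1 hx.2
    intro x
    refine ⟨key g hg x, fun h => ?_⟩
    have h2 := key g⁻¹ ?_ _ h
    · simpa [mul_assoc] using h2
    · rcases hg with hg | hg
      · left; exact ⟨inv_smul_eq_iff.mpr hg.1.symm, inv_smul_eq_iff.mpr hg.2.symm⟩
      · right; exact ⟨inv_smul_eq_iff.mpr hg.2.symm, inv_smul_eq_iff.mpr hg.1.symm⟩

theorem index_two_pt {a b : Ω} (hab : a ≠ b) :
    ((stabilizer G a ⊓ stabilizer G b : Subgroup G).subgroupOf (Subgroup.normalizer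
      ((stabilizer G a ⊓ stabilizer G b : Subgroup G) : Set G))).index = 2 := by
  rw [Subgroup.index_eq_two_iff]
  obtain ⟨s, hsa, hsb⟩ := exists_smul hZ hab (Ne.symm hab)
  refine ⟨⟨s, (mem_normalizer_two_pt hZ hab).mpr (Or.inr ⟨hsa, hsb⟩)⟩, ?_⟩
  rintro ⟨x, hx⟩
  rw [Subgroup.mem_subgroupOf, Subgroup.mem_subgroupOf]
  have h1 := (mem_normalizer_two_pt hZ hab).mp hx
  show Xor (x * s ∈ stabilizer G a ⊓ stabilizer G b) (x ∈ stabilizer G a ⊓ stabilizer G b)
  rcases h1 with h1 | h1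
  · right
    refine ⟨h1, ?_⟩
    rintro ⟨h2, _⟩
    change (x * s) • a = a at h2
    rw [mul_smul, hsa, h1.2] at h2
    exact hab h2.symm
  · left
    refine ⟨⟨?_, ?_⟩, ?_⟩
    · show (x * s) • a = a
      rw [mul_smul, hsa, h1.2]
    · show (x * s) • b = b
      rw [mul_smul, hsb, h1.1]
    · rintro ⟨h2, _⟩
      exact hab (h2.symm.trans h1.1)

/-- A subset of `K a ∖ {1}` invariant under the two-point stabiliser has size divisible by `d`. -/
theorem card_dvd_of_invariant [Finite Ω] {a b : Ω} (hab : a ≠ b) (S : Set G)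
    (hSK : ∀ s ∈ S, s ∈ K hZ a) (h1 : (1 : G) ∉ S)
    (hinv : ∀ h : G, h • a = a → h • b = b → ∀ s ∈ S, h * s * h⁻¹ ∈ S) :
    Nat.card ↥(stabilizer G a ⊓ stabilizer G b) ∣ Nat.card S := by
  letI : MulAction ↥(stabilizer G a ⊓ stabilizer G b) S :=
    { smul := fun h c => ⟨(h : G) * c * (h : G)⁻¹, hinv h h.2.1 h.2.2 c c.2⟩
      one_smul := fun c => Subtype.ext (by show (1 : G) * c * (1 : G)⁻¹ = c; simp)
      mul_smul := fun x y c => Subtype.ext (by
        show ((x : G) * y) * c * ((x : G) * y)⁻¹ = (x : G) * (y * c * (y : G)⁻¹) * (x : G)⁻¹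
        group) }
  apply card_dvd_of_semiregular
  intro x s hs
  have h2 : (x : G) * s * (x : G)⁻¹ = s := congrArg Subtype.val hs
  have h3 : (x : G) * s = s * x := mul_inv_eq_iff_eq_mul.mp h2
  have hs1 : (s : G) ≠ 1 := fun h => h1 (h ▸ s.2)
  have h4 := mem_K_of_commute hZ (hSK s s.2) hs1 h3
  exact Subtype.ext (K_eq_one hZ h4 (Ne.symm hab) x.2.2)

end Cfsg.Agent.H20.Zass
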