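import Cfsg.Agent.H20.Zass4

/-!
Zassenhaus groups: the case of large two-point stabilisers; the inequality for even order.
-/

set_option autoImplicit false
set_option linter.style.haveILetI false

open Cfsg MulAction
open scoped Pointwise

namespace Cfsg.Agent.H20.Zass

variable {G Ω : Type*} [Group G] [MulAction G Ω] (hZ : IsZassenhausGroup G Ω)
include hZ

/-- If the two-point stabiliser is large, every invariant nontrivial subgroup of `K a` is `K a`. -/
theorem invariant_eq [Finite Ω] {a b : Ω} (hab : a ≠ b)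
    (hd : Nat.card Ω - 2 ≤ 2 * Nat.card ↥(stabilizer G a ⊓ stabilizer G b))
    {L : Subgroup G} (hL : L ≤ K hZ a) (hL1 : L ≠ ⊥)
    (hinv : ∀ h : G, h • a = a → h • b = b → ∀ s ∈ L, h * s * h⁻¹ ∈ L) : L = K hZ a := by
  classical
  haveI := finite_group hZ
  have hcardS : ∀ M : Subgroup G, Nat.card ↥((M : Set G) \ {1}) + 1 = Nat.card M := by
    intro M
    rw [Nat.card_coe_set_eq, Set.ncard_sdiff_singleton_add_one (one_mem M) (Set.toFinite _),
      ← Nat.card_coe_set_eq]
    rfl
  have key : ∀ M : Subgroup G, M ≤ K hZ a →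
      (∀ h : G, h • a = a → h • b = b → ∀ s ∈ M, h * s * h⁻¹ ∈ M) →
      Nat.card ↥(stabilizer G a ⊓ stabilizer G b) ∣ Nat.card M - 1 := by
    intro M hM hMinv
    rw [← hcardS M, Nat.add_sub_cancel]
    apply card_dvd_of_invariant hZ hab
    · intro s hs; exact hM hs.1
    · intro h; exact h.2 rfl
    · intro h ha hb s hs
      exact ⟨hMinv h ha hb s hs.1, fun h' => hs.2 (conj_eq_one_iff.mp h')⟩
  obtain ⟨i, hi⟩ := key L hL hinv
  obtain ⟨j, hj⟩ := key (K hZ a) le_rfl (fun h ha _ s hs => K_normal_in hZ ha hs)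
  have hKc := card_K hZ a
  have h3 := three_le_card hZ
  have hdpos : 0 < Nat.card ↥(stabilizer G a ⊓ stabilizer G b) := Nat.card_pos
  have hLpos : 1 < Nat.card L := by
    rcases Nat.lt_or_ge 1 (Nat.card L) with h | h
    · exact h
    · exfalso
      apply hL1
      have : 0 < Nat.card L := Nat.card_pos
      exact Subgroup.eq_bot_of_card_eq L (by omega)
  have hle : Nat.card L ≤ Nat.card (K hZ a) := Subgroup.card_le_of_le hL
  have hdvd : Nat.card L ∣ Nat.card (K hZ a) := Subgroup.card_dvd_of_le hL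
  set d := Nat.card ↥(stabilizer G a ⊓ stabilizer G b) with hdd
  set n := Nat.card (K hZ a) with hn
  set l := Nat.card L with hl
  have hj2 : j ≤ 2 := by
    by_contra hcon
    have h4 : d * 3 ≤ d * j := Nat.mul_le_mul_left d (by omega)
    omega
  have hi1 : 1 ≤ i := by
    rcases Nat.eq_zero_or_pos i with h | h
    · rw [h, mul_zero] at hi; omega
    · exact h
  have hij : i ≤ j := by
    by_contra hcon
    have h4 : d * (j + 1) ≤ d * i := Nat.mul_le_mul_left d (by omega)
    have h5 : d * (j + 1) = d * j + d := by ring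
    omega
  apply Subgroup.eq_of_le_of_card_ge hL
  by_contra hcon
  push Not at hcon
  have hlt : i < j := by
    by_contra h
    have : i = j := by omega
    rw [this] at hi
    omega
  have hi' : i = 1 := by omega
  have hj' : j = 2 := by omega
  rw [hi', mul_one] at hi
  rw [hj'] at hj
  -- l = d + 1, n = 2 d + 1
  obtain ⟨k, hk⟩ := hdvd
  have h6 : l = d + 1 := by omega
  have h7 : n = 2 * d + 1 := by omega
  rw [h6, h7] at hk
  have hk2 : k < 2 := by
    by_contra h
    have h4 : (d + 1) * 2 ≤ (d + 1) * k := Nat.mul_le_mul_left _ (by omega)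
    omega
  interval_cases k <;> omega

/-- If the two-point stabiliser is large then `K a` is elementary abelian. -/
theorem K_elementary [Finite Ω] {a b : Ω} (hab : a ≠ b)
    (hd : Nat.card Ω - 2 ≤ 2 * Nat.card ↥(stabilizer G a ⊓ stabilizer G b)) :
    (∀ u ∈ K hZ a, ∀ v ∈ K hZ a, u * v = v * u) ∧ ∃ p f : ℕ, p.Prime ∧ (∀ u ∈ K hZ a, u ^ p = 1) ∧
      Nat.card (K hZ a) = p ^ f := by
  classical
  haveI := finite_group hZ
  have hKc := card_K hZ a
  have h3 := three_le_card hZ
  have hdpos : 0 < Nat.card ↥(stabilizer G a ⊓ stabilizer G b) := Nat.card_pos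
  have hn0 : Nat.card (K hZ a) ≠ 0 := Nat.card_pos.ne'
  -- the p-part sets
  let m : ℕ → ℕ := fun p => p ^ (Nat.card (K hZ a)).factorization p
  let S : ℕ → Set G := fun p => {u | u ∈ K hZ a ∧ u ≠ 1 ∧ u ^ (m p) = 1}
  have hSd : ∀ p, Nat.card ↥(stabilizer G a ⊓ stabilizer G b) ∣ Nat.card (S p) := by
    intro p
    apply card_dvd_of_invariant hZ hab
    · intro s hs; exact hs.1
    · intro h; exact h.2.1 rfl
    · intro h ha hb s hs
      refine ⟨K_normal_in hZ ha hs.1, fun h' => hs.2.1 (conj_eq_one_iff.mp h'), ?_⟩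
      rw [conj_pow, hs.2.2]
      simp
  have hSm : ∀ p, m p ∣ Nat.card (S p) + 1 := by
    intro p
    have h1 := Cfsg.Agent.H24.frobenius_dvd (G := K hZ a) (m p) (Nat.ordProj_dvd _ _)
    have h2 : Nat.card {g : K hZ a // g ^ (m p) = 1} = Nat.card (S p) + 1 := by
      have h5 : Nat.card {g : K hZ a // g ^ (m p) = 1} = Nat.card (insert (1 : G) (S p) : Set G) := by
        refine Nat.card_congr ⟨fun g => ⟨g.1.1, ?_⟩, fun g => ⟨⟨g.1, ?_⟩, ?_⟩, ?_, ?_⟩
        · by_cases h : (g.1.1 : G) = 1
          · left; exact h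
          · right
            exact ⟨g.1.2, h, congrArg Subtype.val g.2⟩
        · rcases g.2 with h | h
          · rw [h]; exact one_mem _
          · exact h.1
        · rcases g.2 with h | h
          · apply Subtype.ext
            show (g.1 : G) ^ (m p) = 1
            rw [h, one_pow]
          · apply Subtype.ext
            exact h.2.2
        · intro g; rfl
        · intro g; rfl
      rw [h5, Nat.card_coe_set_eq, Set.ncard_insert_of_notMem (fun h => h.2.1 rfl) (Set.toFinite _),
        ← Nat.card_coe_set_eq]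
    rwa [h2] at h1
  -- some prime with everything a p-element
  have hex : ∃ p : ℕ, p.Prime ∧ ∀ u ∈ K hZ a, u ^ (m p) = 1 := by
    by_contra hcon
    push Not at hcon
    obtain ⟨j, hj⟩ : Nat.card ↥(stabilizer G a ⊓ stabilizer G b) ∣ Nat.card (K hZ a) - 1 := by
      have := card_two_pt_dvd hZ hab
      rwa [show Nat.card Ω - 2 = Nat.card (K hZ a) - 1 by omega] at this
    -- for every prime p dividing n, |S p| = d and n = 2d+1
    have hcount : ∀ p : ℕ, p.Prime → p ∣ Nat.card (K hZ a) →
        Nat.card (S p) = Nat.card ↥(stabilizer G a ⊓ stabilizer G b) ∧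
        Nat.card (K hZ a) = 2 * Nat.card ↥(stabilizer G a ⊓ stabilizer G b) + 1 := by
      intro p hp hpd
      haveI : Fact p.Prime := ⟨hp⟩
      obtain ⟨x, hx⟩ := exists_prime_orderOf_dvd_card' (G := K hZ a) p hpd
      obtain ⟨u, hu, hu2⟩ := hcon p hp
      have hne : (S p).Nonempty := by
        refine ⟨x, x.2, ?_, ?_⟩
        · intro h
          have : x = 1 := Subtype.ext h
          rw [this, orderOf_one] at hx
          exact hp.one_lt.ne hx
        · have h5 : p ∣ m p := dvd_pow_self p
            (Nat.Prime.factorization_pos_of_dvd hp hn0 hpd).ne'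
          have h6 : x ^ (m p) = 1 := by
            obtain ⟨k, hk⟩ := h5
            rw [hk, pow_mul, ← hx, pow_orderOf_eq_one, one_pow]
          exact congrArg Subtype.val h6
      have hsub : S p ⊆ ((K hZ a : Set G) \ {1}) \ {u} := by
        intro v hv
        refine ⟨⟨hv.1, hv.2.1⟩, ?_⟩
        intro hvu
        rw [Set.mem_singleton_iff] at hvu
        subst hvu
        exact hu2 hv.2.2
      have h4 : Nat.card (S p) + 2 ≤ Nat.card (K hZ a) := by
        have h5 : (S p).ncard ≤ (((K hZ a : Set G) \ {1}) \ {u}).ncard :=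
          Set.ncard_le_ncard hsub (Set.toFinite _)
        have hu1 : u ≠ 1 := by
          rintro rfl
          rw [one_pow] at hu2
          exact hu2 rfl
        have h6 : (((K hZ a : Set G) \ {1}) \ {u}).ncard + 1 = ((K hZ a : Set G) \ {1}).ncard :=
          Set.ncard_sdiff_singleton_add_one ⟨hu, hu1⟩ (Set.toFinite _)
        have h7 : ((K hZ a : Set G) \ {1}).ncard + 1 = (K hZ a : Set G).ncard :=
          Set.ncard_sdiff_singleton_add_one (one_mem _) (Set.toFinite _)
        have h8 : (K hZ a : Set G).ncard = Nat.card (K hZ a) := (Nat.card_coe_set_eq _).symm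
        rw [Nat.card_coe_set_eq]
        omega
      obtain ⟨i, hi⟩ := hSd p
      have hSpos : 0 < Nat.card (S p) := by
        haveI : Nonempty (S p) := hne.to_subtype
        exact Nat.card_pos
      set d := Nat.card ↥(stabilizer G a ⊓ stabilizer G b) with hdd
      have hj2 : j ≤ 2 := by
        by_contra hcon
        have h4 : d * 3 ≤ d * j := Nat.mul_le_mul_left d (by omega)
        omega
      have hi1 : 1 ≤ i := by
        rcases Nat.eq_zero_or_pos i with h | h
        · rw [h, mul_zero] at hi; omega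
        · exact h
      have hij : i < j := by
        by_contra hcon
        have h4 : d * j ≤ d * i := Nat.mul_le_mul_left d (by omega)
        omega
      have hi' : i = 1 := by omega
      have hj' : j = 2 := by omega
      rw [hi', mul_one] at hi
      rw [hj'] at hj
      exact ⟨hi, by omega⟩
    have hpm : 1 < Nat.card (K hZ a) := by omega
    have h5 : Nat.card (K hZ a) ∣ Nat.card ↥(stabilizer G a ⊓ stabilizer G b) + 1 := by
      rw [Nat.dvd_iff_prime_pow_dvd_dvd]
      intro p k hp hpk
      rcases Nat.eq_zero_or_pos k with rfl | hk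
      · rw [pow_zero]; exact one_dvd _
      · have hpd : p ∣ Nat.card (K hZ a) := (dvd_pow_self p hk.ne').trans hpk
        have h6 := hSm p
        rw [(hcount p hp hpd).1] at h6
        refine dvd_trans ?_ h6
        exact pow_dvd_pow p ((hp.pow_dvd_iff_le_factorization hn0).mp hpk)
    obtain ⟨p, hp, hpd⟩ := Nat.exists_prime_and_dvd (n := Nat.card (K hZ a)) (by omega)
    have h6 := (hcount p hp hpd).2
    have h7 := Nat.le_of_dvd (by omega) h5
    omega
  obtain ⟨p, hp, hpall⟩ := hex
  haveI : Fact p.Prime := ⟨hp⟩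
  have hpg : IsPGroup p (K hZ a) := by
    intro u
    exact ⟨_, Subtype.ext (hpall u u.2)⟩
  obtain ⟨f, hf⟩ := IsPGroup.iff_card.mp hpg
  have hnt : Nontrivial (K hZ a) := by
    rw [← Finite.one_lt_card_iff_nontrivial]
    omega
  -- commutativity
  have hcomm : ∀ u ∈ K hZ a, ∀ v ∈ K hZ a, u * v = v * u := by
    haveI := hpg.center_nontrivial
    have hZc : (Subgroup.center (K hZ a)).map (K hZ a).subtype = K hZ a := by
      apply invariant_eq hZ hab hd
      · rintro _ ⟨x, _, rfl⟩; exact x.2
      · intro h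
        rw [Subgroup.map_eq_bot_iff_of_injective _ (Subgroup.subtype_injective _)] at h
        exact (Subgroup.nontrivial_iff_ne_bot _).mp inferInstance h
      · rintro h ha hb _ ⟨x, hx, rfl⟩
        refine ⟨⟨h * x * h⁻¹, K_normal_in hZ ha x.2⟩, ?_, rfl⟩
        rw [SetLike.mem_coe, Subgroup.mem_center_iff]
        intro y
        apply Subtype.ext
        show (y : G) * (h * x * h⁻¹) = (h * x * h⁻¹) * y
        have ha' : h⁻¹ • a = a := inv_smul_eq_iff.mpr ha.symm
        have h5 : h⁻¹ * y * h⁻¹⁻¹ ∈ K hZ a := K_normal_in hZ ha' y.2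
        have h6 := Subgroup.mem_center_iff.mp hx ⟨_, h5⟩
        have h7 : (h⁻¹ * y * h⁻¹⁻¹) * (x : G) = x * (h⁻¹ * y * h⁻¹⁻¹) := congrArg Subtype.val h6
        calc (y : G) * (h * x * h⁻¹) = h * ((h⁻¹ * y * h⁻¹⁻¹) * (x : G)) * h⁻¹ := by group
          _ = (h * x * h⁻¹) * y := by rw [h7]; group
    intro u hu v hv
    rw [← hZc] at hu
    obtain ⟨x, hx, rfl⟩ := hu
    have := Subgroup.mem_center_iff.mp hx ⟨v, hv⟩
    exact (congrArg Subtype.val this).symm
  refine ⟨hcomm, p, f, hp, ?_, hf⟩
  -- the subgroup of elements of order dividing p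
  let L : Subgroup G :=
    { carrier := {u | u ∈ K hZ a ∧ u ^ p = 1}
      one_mem' := ⟨one_mem _, one_pow _⟩
      mul_mem' := by
        rintro u v ⟨hu, hu2⟩ ⟨hv, hv2⟩
        refine ⟨(K hZ a).mul_mem hu hv, ?_⟩
        rw [(show Commute u v from hcomm u hu v hv).mul_pow, hu2, hv2, one_mul]
      inv_mem' := by
        rintro u ⟨hu, hu2⟩
        exact ⟨(K hZ a).inv_mem hu, by rw [inv_pow, hu2, inv_one]⟩ }
  have hpd : p ∣ Nat.card (K hZ a) := by
    rw [hf]
    apply dvd_pow_self
    rintro rfl
    rw [pow_zero] at hf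
    omega
  have hL : L = K hZ a := by
    apply invariant_eq hZ hab hd
    · intro u hu; exact hu.1
    · intro h
      obtain ⟨x, hx⟩ := exists_prime_orderOf_dvd_card' (G := K hZ a) p hpd
      have hxL : (x : G) ∈ L := ⟨x.2, by
        have : x ^ p = 1 := by rw [← hx, pow_orderOf_eq_one]
        exact congrArg Subtype.val this⟩
      rw [h, Subgroup.mem_bot] at hxL
      have : x = 1 := Subtype.ext hxL
      rw [this, orderOf_one] at hx
      exact hp.one_lt.ne hx
    · intro h ha hb s hs
      refine ⟨K_normal_in hZ ha hs.1, ?_⟩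
      rw [conj_pow, hs.2]
      simp
  intro u hu
  rw [← hL] at hu
  exact hu.2

/-- The inequality for two-point stabilisers of even order. -/
theorem card_le_of_even [Finite Ω] {a b : Ω} (hab : a ≠ b)
    (heven : Even (Nat.card ↥(stabilizer G a ⊓ stabilizer G b))) :
    Nat.card Ω - 2 ≤ 2 * Nat.card ↥(stabilizer G a ⊓ stabilizer G b) := by
  classical
  haveI := finite_group hZ
  haveI : Fintype G := Fintype.ofFinite G
  haveI : Fintype Ω := Fintype.ofFinite Ω
  haveI : Fact (Nat.Prime 2) := ⟨Nat.prime_two⟩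
  obtain ⟨z0, hz0⟩ := exists_prime_orderOf_dvd_card' 2 heven.two_dvd
  obtain ⟨z, hzm, hz⟩ : ∃ z : G, z ∈ (stabilizer G a ⊓ stabilizer G b) ∧ orderOf z = 2 :=
    ⟨z0, z0.2, by rw [Subgroup.orderOf_coe]; exact hz0⟩
  have hza : z • a = a := hzm.1
  have hzb : z • b = b := hzm.2
  have hz1 : z ≠ 1 := by
    intro h
    rw [h, orderOf_one] at hz
    omega
  have hz2 : z * z = 1 := by
    rw [← pow_two, ← hz]
    exact pow_orderOf_eq_one z
  set H : Subgroup G := stabilizer G a ⊓ stabilizer G b with hH
  -- the points outside {a,b}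
  let Y := {c : Ω // c ≠ a ∧ c ≠ b}
  have hYm : ∀ c : Y, z • (c : Ω) ≠ c := by
    intro c hc
    rcases pair_of_fix hZ hab hz1 hza hzb hc with h | h
    · exact c.2.1 h
    · exact c.2.2 h
  have hexg : ∀ c : Y, ∃ g : G, g • (c : Ω) = a ∧ g • (z • (c : Ω)) = b := fun c =>
    exists_smul hZ (Ne.symm (hYm c)) hab
  choose g hg1 hg2 using hexg
  -- the set S
  let S : Finset G := Finset.univ.filter (fun x : G => (x * z * x⁻¹) • a = b)
  let T : Finset G := Finset.univ.filter (fun x : G => x • a = b ∧ x • b = a)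
  have hST : ∀ x ∈ S, x * z * x⁻¹ ∈ T := by
    intro x hx
    have hx' : (x * z * x⁻¹) • a = b := by simpa [S] using hx
    have h2 : (x * z * x⁻¹) * (x * z * x⁻¹) = 1 := by
      have : (x * z * x⁻¹) * (x * z * x⁻¹) = x * (z * z) * x⁻¹ := by group
      rw [this, hz2]; simp
    simp only [T, Finset.mem_filter, Finset.mem_univ, true_and]
    refine ⟨hx', ?_⟩
    rw [← hx', ← mul_smul, h2, one_smul]
  -- |T| ≤ d
  have hT : T.card ≤ Nat.card H := by
    obtain ⟨s, hsa, hsb⟩ := exists_smul hZ hab (Ne.symm hab)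
    have : T.card = Fintype.card {x : G // x • a = b ∧ x • b = a} := by
      rw [Fintype.card_subtype]
    rw [this, ← Nat.card_eq_fintype_card]
    apply Nat.card_le_card_of_injective (fun x : {x : G // x • a = b ∧ x • b = a} =>
      (⟨s⁻¹ * x, by
        refine ⟨?_, ?_⟩
        · show (s⁻¹ * (x : G)) • a = a
          rw [mul_smul, x.2.1, ← hsa, inv_smul_smul]
        · show (s⁻¹ * (x : G)) • b = b
          rw [mul_smul, x.2.2, ← hsb, inv_smul_smul]⟩ : H))
    intro x y hxy
    exact Subtype.ext (mul_left_cancel (congrArg Subtype.val hxy))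
  -- fibres
  have hfib : ∀ t ∈ S.image (fun x => x * z * x⁻¹),
      (S.filter (fun x => x * z * x⁻¹ = t)).card ≤ 2 * Nat.card H := by
    intro t ht
    obtain ⟨x0, hx0, rfl⟩ := Finset.mem_image.mp ht
    have hN : Nat.card (Subgroup.normalizer (H : Set G)) = 2 * Nat.card H := by
      have h1 := index_two_pt hZ hab
      have h2 := Subgroup.card_mul_index (H.subgroupOf (Subgroup.normalizer (H : Set G)))
      rw [h1] at h2
      rw [← h2, mul_comm]
      congr 1
      exact Nat.card_congr (Subgroup.subgroupOfEquivOfLe Subgroup.le_normalizer).toEquiv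
    rw [← hN]
    have : (S.filter (fun x => x * z * x⁻¹ = x0 * z * x0⁻¹)).card =
        Nat.card {x : G // x ∈ S.filter (fun x => x * z * x⁻¹ = x0 * z * x0⁻¹)} := by
      rw [Nat.card_eq_fintype_card, Fintype.card_coe]
    rw [this]
    apply Nat.card_le_card_of_injective (fun x : {x : G // x ∈ S.filter
      (fun x => x * z * x⁻¹ = x0 * z * x0⁻¹)} => (⟨x0⁻¹ * x, by
        have hx := (Finset.mem_filter.mp x.2).2
        rw [mem_normalizer_two_pt hZ hab]
        have h5 : (x0⁻¹ * (x : G)) * z * (x0⁻¹ * (x : G))⁻¹ = z := by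
          have : (x0⁻¹ * (x : G)) * z * (x0⁻¹ * (x : G))⁻¹ = x0⁻¹ * ((x : G) * z * (x : G)⁻¹) * x0 := by
            group
          rw [this, hx]; group
        exact pair_of_conj hZ hab hz1 hza hzb (by rw [h5, hza]) (by rw [h5, hzb])⟩ :
          Subgroup.normalizer (H : Set G)))
    intro x y hxy
    exact Subtype.ext (mul_left_cancel (congrArg Subtype.val hxy))
  have hSle : S.card ≤ 2 * Nat.card H * Nat.card H := by
    calc S.card ≤ 2 * Nat.card H * (S.image (fun x => x * z * x⁻¹)).card :=
          Finset.card_le_mul_card_image S _ hfib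
      _ ≤ 2 * Nat.card H * T.card := by
          apply Nat.mul_le_mul_left
          apply Finset.card_le_card
          intro t ht
          obtain ⟨x, hx, rfl⟩ := Finset.mem_image.mp ht
          exact hST x hx
      _ ≤ _ := Nat.mul_le_mul_left _ hT
  -- lower bound
  have hSge : Nat.card Y * Nat.card H ≤ S.card := by
    rw [← Nat.card_prod]
    have : S.card = Nat.card {x : G // (x * z * x⁻¹) • a = b} := by
      rw [Nat.card_eq_fintype_card, Fintype.card_subtype]
    rw [this]
    apply Nat.card_le_card_of_injective (fun p : Y × H => (⟨(p.2 : G) * g p.1, by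
      have h1 : (p.2 : G) • a = a := p.2.2.1
      have h2 : (p.2 : G) • b = b := p.2.2.2
      have h1' : (p.2 : G)⁻¹ • a = a := inv_smul_eq_iff.mpr h1.symm
      have h3 : (g p.1)⁻¹ • a = p.1 := inv_smul_eq_iff.mpr (hg1 p.1).symm
      rw [mul_inv_rev, mul_smul, mul_smul, mul_smul, mul_smul, h1', h3, hg2, h2]⟩ :
        {x : G // (x * z * x⁻¹) • a = b}))
    rintro ⟨c, h⟩ ⟨c', h'⟩ heq
    have h1 : (h : G) * g c = (h' : G) * g c' := congrArg Subtype.val heq
    have hc : (c : Ω) = c' := by
      have h2 : ((h : G) * g c) • (c : Ω) = a := by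
        rw [mul_smul, hg1]; exact h.2.1
      have h3 : ((h' : G) * g c') • (c' : Ω) = a := by
        rw [mul_smul, hg1]; exact h'.2.1
      rw [← h1] at h3
      exact smul_left_cancel _ (h2.trans h3.symm)
    have hc' : c = c' := Subtype.ext hc
    subst hc'
    exact Prod.ext rfl (Subtype.ext (mul_right_cancel h1))
  have hY : Nat.card Y = Nat.card Ω - 2 := by
    have h1 : Nat.card Y = Nat.card {c : Ω // c ∉ ({a, b} : Finset Ω)} := by
      refine Nat.card_congr (Equiv.subtypeEquivRight (fun c => ?_))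
      simp only [Finset.mem_insert, Finset.mem_singleton, not_or]
    rw [h1, Nat.card_eq_fintype_card, Nat.card_eq_fintype_card, Fintype.card_subtype_compl]
    congr 1
    rw [Fintype.card_coe, Finset.card_pair hab]
  rw [hY] at hSge
  exact Nat.le_of_mul_le_mul_right (hSge.trans hSle) Nat.card_pos

end Cfsg.Agent.H20.Zass
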