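import Cfsg.Agent.H20.Zass5
import Cfsg.Agent.H20.ZFpf

/-!
Zassenhaus groups: two-point stabilisers of odd order.
-/

set_option autoImplicit false
set_option linter.style.haveILetI false

open Cfsg MulAction
open scoped Pointwise

namespace Cfsg.Agent.H20.Zass

variable {G Ω : Type*} [Group G] [MulAction G Ω] (hZ : IsZassenhausGroup G Ω)
include hZ

theorem K_ne_bot [Finite Ω] (a : Ω) : K hZ a ≠ ⊥ := by
  haveI := finite_group hZ
  intro h
  have h1 := card_K hZ a
  have h2 := three_le_card hZ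
  rw [h, Subgroup.card_bot] at h1
  omega

theorem two_pt_fpf [Finite Ω] {a b : Ω} (hab : a ≠ b) :
    ∀ h ∈ (stabilizer G a ⊓ stabilizer G b : Subgroup G), h ≠ 1 → ∀ u ∈ K hZ a,
      h * u = u * h → u = 1 := by
  intro h hh h1 u hu hc
  by_contra hu1
  have h4 := mem_K_of_commute hZ hu hu1 hc
  exact h1 (K_eq_one hZ h4 (Ne.symm hab) hh.2)

theorem stab_le_normalizer_K [Finite Ω] (a : Ω) :
    stabilizer G a ≤ Subgroup.normalizer (K hZ a : Set G) := by
  intro g hg
  rw [Subgroup.mem_normalizer_iff]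
  intro u
  refine ⟨K_normal_in hZ hg, fun h => ?_⟩
  have h2 := K_normal_in hZ (g := g⁻¹) (inv_smul_eq_iff.mpr (show a = g • a from hg.symm)) h
  simpa [mul_assoc] using h2

theorem coprime_two_pt_K [Finite Ω] {a b : Ω} (hab : a ≠ b) :
    (Nat.card ↥(stabilizer G a ⊓ stabilizer G b)).Coprime (Nat.card (K hZ a)) := by
  have h1 := card_two_pt_dvd hZ hab
  have h2 := card_K hZ a
  have h3 := three_le_card hZ
  obtain ⟨k, hk⟩ := h1
  have h4 : Nat.card (K hZ a) = 1 + Nat.card ↥(stabilizer G a ⊓ stabilizer G b) * k := by omega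
  rw [h4]
  simp

theorem isZGroup_two_pt [Finite Ω] {a b : Ω} (hab : a ≠ b)
    (hodd : Odd (Nat.card ↥(stabilizer G a ⊓ stabilizer G b))) :
    IsZGroup ↥(stabilizer G a ⊓ stabilizer G b) := by
  haveI := finite_group hZ
  exact isZGroup_of_fpf (K_ne_bot hZ a) (inf_le_left.trans (stab_le_normalizer_K hZ a))
    (two_pt_fpf hZ hab) (coprime_two_pt_K hZ hab) hodd

theorem factorization_card [Finite Ω] {a b : Ω} (hab : a ≠ b) {q : ℕ} (hq : q.Prime) (hq2 : q ≠ 2)
    (hqd : q ∣ Nat.card ↥(stabilizer G a ⊓ stabilizer G b)) :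
    (Nat.card G).factorization q =
      (Nat.card ↥(stabilizer G a ⊓ stabilizer G b)).factorization q := by
  haveI := finite_group hZ
  have h1 := card_two_pt_dvd hZ hab
  have h2 := card_K hZ a
  have h3 := three_le_card hZ
  have hq3 := hqd.trans h1
  have hqK : ¬ q ∣ Nat.card (K hZ a) := by
    intro h
    have h4 : q ∣ Nat.card (K hZ a) - (Nat.card Ω - 2) := Nat.dvd_sub h hq3
    have h5 : Nat.card (K hZ a) - (Nat.card Ω - 2) = 1 := by omega
    rw [h5] at h4
    exact hq.one_lt.ne' (Nat.dvd_one.mp h4)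
  have hqΩ : ¬ q ∣ Nat.card Ω := by
    intro h
    have h4 : q ∣ Nat.card Ω - (Nat.card Ω - 2) := Nat.dvd_sub h hq3
    have h5 : Nat.card Ω - (Nat.card Ω - 2) = 2 := by omega
    rw [h5] at h4
    exact hq2 ((Nat.prime_dvd_prime_iff_eq hq Nat.prime_two).mp h4)
  have hd0 : Nat.card ↥(stabilizer G a ⊓ stabilizer G b) ≠ 0 := Nat.card_pos.ne'
  have hK0 : Nat.card (K hZ a) ≠ 0 := Nat.card_pos.ne'
  have hΩ0 : Nat.card Ω ≠ 0 := by omega
  rw [card_G hZ hab, Nat.factorization_mul hΩ0 (mul_ne_zero hK0 hd0),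
    Nat.factorization_mul hK0 hd0, Finsupp.add_apply, Finsupp.add_apply,
    Nat.factorization_eq_zero_of_not_dvd hqK, Nat.factorization_eq_zero_of_not_dvd hqΩ,
    zero_add, zero_add]

/-- Two-point stabilisers of odd order are cyclic, self-centralising and inverted by the swapping
elements, if there are no normal complements. -/
theorem two_pt_cyclic [Finite Ω] {a b : Ω} (hab : a ≠ b)
    (hodd : Odd (Nat.card ↥(stabilizer G a ⊓ stabilizer G b)))
    (hnil : ∀ q : ℕ, q.Prime → q ∣ Nat.card ↥(stabilizer G a ⊓ stabilizer G b) →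
      ¬ ∃ N : Subgroup G, N.Normal ∧ N.index = q ^ (Nat.card G).factorization q) :
    IsCyclic ↥(stabilizer G a ⊓ stabilizer G b) ∧
      ∀ s : G, s • a = b → s • b = a → ∀ h ∈ (stabilizer G a ⊓ stabilizer G b : Subgroup G),
        s * h * s⁻¹ = h⁻¹ := by
  classical
  haveI := finite_group hZ
  haveI := isZGroup_two_pt hZ hab hodd
  set H : Subgroup G := stabilizer G a ⊓ stabilizer G b with hH
  obtain ⟨t, ht1, ht2, hta, htb⟩ := exists_involution_swap hZ hab
  have htinv : t⁻¹ = t := inv_eq_of_mul_eq_one_left ht2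
  let τ : H ≃* H :=
    { toFun := fun x => ⟨t * x * t⁻¹, swap_conj hta htb x.2.1 x.2.2⟩
      invFun := fun x => ⟨t * x * t⁻¹, swap_conj hta htb x.2.1 x.2.2⟩
      left_inv := fun x => Subtype.ext (by
        show t * (t * (x : G) * t⁻¹) * t⁻¹ = x
        have : t * (t * (x : G) * t⁻¹) * t⁻¹ = (t * t) * x * (t * t)⁻¹ := by group
        rw [this, ht2]; simp)
      right_inv := fun x => Subtype.ext (by
        show t * (t * (x : G) * t⁻¹) * t⁻¹ = x
        have : t * (t * (x : G) * t⁻¹) * t⁻¹ = (t * t) * x * (t * t)⁻¹ := by group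
        rw [this, ht2]; simp)
      map_mul' := fun x y => Subtype.ext (by
        show t * ((x : G) * y) * t⁻¹ = (t * x * t⁻¹) * (t * y * t⁻¹)
        group) }
  have key := zgroup_inverted (D := H) hodd τ (by
    intro q hq hqc Q
    haveI : Fact q.Prime := ⟨hq⟩
    by_cases hqd : q ∣ Nat.card H
    · have hq2 : q ≠ 2 := by
        rintro rfl
        exact (Nat.not_even_iff_odd.mpr hodd) (even_iff_two_dvd.mpr hqd)
      -- Sylow in G
      let Q' : Subgroup G := (Q : Subgroup H).map H.subtype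
      have hQ'c : Nat.card Q' = q ^ (Nat.card G).factorization q := by
        rw [factorization_card hZ hab hq hq2 hqd, ← Q.card_eq_multiplicity]
        exact (Nat.card_congr (Subgroup.equivMapOfInjective _ _
          (Subgroup.subtype_injective H)).toEquiv).symm
      let S : Sylow q G := Sylow.ofCard Q' hQ'c
      have hSQ : (S : Subgroup G) = Q' := rfl
      have hnot : ¬ Subgroup.normalizer ((S : Subgroup G) : Set G) ≤
          Subgroup.centralizer ((S : Subgroup G) : Set G) := by
        intro hle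
        apply hnil q hq hqd
        refine ⟨_, (inferInstance : (MonoidHom.transferSylow S hle).ker.Normal), ?_⟩
        have h1 := MonoidHom.ker_transferSylow_isComplement' S hle
        rw [h1.symm.index_eq_card]
        exact hQ'c
      -- elements of H normalising Q' centralise Q'
      have hcent : ∀ g ∈ H, g ∈ Subgroup.normalizer (Q' : Set G) → ∀ x ∈ Q', g * x = x * g := by
        rintro g hg hgn _ ⟨x, hx, rfl⟩
        have h1 : (⟨g, hg⟩ : H) * x * (⟨g, hg⟩ : H)⁻¹ * x⁻¹ ∈ commutator H := by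
          rw [commutator_def]
          exact Subgroup.commutator_mem_commutator (Subgroup.mem_top _) (Subgroup.mem_top _)
        have h2 : (⟨g, hg⟩ : H) * x * (⟨g, hg⟩ : H)⁻¹ * x⁻¹ ∈ (Q : Subgroup H) := by
          refine Subgroup.mul_mem _ ?_ (Subgroup.inv_mem _ hx)
          have h3 := (Subgroup.mem_normalizer_iff.mp hgn (x : G)).mp ⟨x, hx, rfl⟩
          obtain ⟨y, hy, hyx⟩ := h3
          have : (⟨g, hg⟩ : H) * x * (⟨g, hg⟩ : H)⁻¹ = y := Subtype.ext hyx.symm
          rw [this]; exact hy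
        have h3 : (⟨g, hg⟩ : H) * x * (⟨g, hg⟩ : H)⁻¹ * x⁻¹ = 1 := by
          obtain ⟨k, hk⟩ := (IsPGroup.iff_orderOf.mp Q.2) ⟨_, h2⟩
          rw [Subgroup.orderOf_mk] at hk
          have h4 := Subgroup.orderOf_dvd_natCard (commutator H) h1
          rw [hk] at h4
          have h5 : Nat.Coprime (q ^ k) (Nat.card (commutator H)) :=
            Nat.Coprime.pow_left k ((Nat.Prime.coprime_iff_not_dvd hq).mpr hqc)
          have h6 : q ^ k = 1 := Nat.dvd_one.mp (h5 ▸ Nat.dvd_gcd dvd_rfl h4)
          rw [h6, orderOf_eq_one_iff] at hk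
          exact hk
        have h4 : (⟨g, hg⟩ : H) * x * (⟨g, hg⟩ : H)⁻¹ = x := mul_inv_eq_one.mp h3
        have h5 : (⟨g, hg⟩ : H) * x = x * ⟨g, hg⟩ := mul_inv_eq_iff_eq_mul.mp h4
        exact congrArg Subtype.val h5
      -- the swapping element
      obtain ⟨g, hgn, hgc⟩ := Set.not_subset.mp hnot
      have hgn' : g ∈ Subgroup.normalizer (Q' : Set G) := hgn
      have hQ'H : Q' ≤ H := by
        rintro _ ⟨x, _, rfl⟩; exact x.2
      obtain ⟨x0, hx0⟩ := exists_prime_orderOf_dvd_card' (G := Q') q (by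
        rw [hQ'c]
        apply dvd_pow_self
        rw [factorization_card hZ hab hq hq2 hqd]
        exact (Nat.Prime.factorization_pos_of_dvd hq Nat.card_pos.ne' hqd).ne')
      have hx01 : (x0 : G) ≠ 1 := by
        intro h
        rw [← Subgroup.orderOf_coe, h, orderOf_one] at hx0
        exact hq.one_lt.ne hx0
      have hgx0 := (Subgroup.mem_normalizer_iff.mp hgn' x0).mp x0.2
      rcases pair_of_conj hZ hab hx01 (hQ'H x0.2).1 (hQ'H x0.2).2 (hQ'H hgx0).1 (hQ'H hgx0).2 with
        hg | hg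
      · exfalso
        apply hgc
        rw [SetLike.mem_coe, Subgroup.mem_centralizer_iff]
        intro x hx
        exact (hcent g hg hgn' x hx).symm
      · haveI : IsCyclic Q' := by
          have : IsCyclic Q := IsZGroup.isZGroup q hq Q
          exact isCyclic_of_surjective (Subgroup.equivMapOfInjective (Q : Subgroup H) H.subtype
            (Subgroup.subtype_injective H)).toMonoidHom
            (Subgroup.equivMapOfInjective (Q : Subgroup H) H.subtype
            (Subgroup.subtype_injective H)).surjective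
        have hgg : g * g ∈ H := by
          refine ⟨?_, ?_⟩
          · show (g * g) • a = a
            rw [mul_smul, hg.1, hg.2]
          · show (g * g) • b = b
            rw [mul_smul, hg.2, hg.1]
        rcases cyclic_invert (G := G) hq2 (Q := Q') (Q.2.map H.subtype)
          (g := g) (fun x hx => (Subgroup.mem_normalizer_iff.mp hgn' x).mp hx)
          (hcent _ hgg (Subgroup.mul_mem _ hgn' hgn')) with hc | hc
        · exfalso
          apply hgc
          rw [SetLike.mem_coe, Subgroup.mem_centralizer_iff]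
          intro x hx
          exact (mul_inv_eq_iff_eq_mul.mp (hc x hx)).symm
        · have he : t * g⁻¹ ∈ H := by
            have h1 : g⁻¹ • a = b := inv_smul_eq_iff.mpr hg.2.symm
            have h2 : g⁻¹ • b = a := inv_smul_eq_iff.mpr hg.1.symm
            refine ⟨?_, ?_⟩
            · show (t * g⁻¹) • a = a
              rw [mul_smul, h1, htb]
            · show (t * g⁻¹) • b = b
              rw [mul_smul, h2, hta]
          refine ⟨⟨t * g⁻¹, he⟩, ?_⟩
          intro x hx
          apply Subtype.ext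
          show t * (x : G) * t⁻¹ = (t * g⁻¹) * (x : G)⁻¹ * (t * g⁻¹)⁻¹
          rw [← hc x ⟨x, hx, rfl⟩]
          group
    · refine ⟨1, ?_⟩
      intro x hx
      have hx1 : x = 1 := by
        obtain ⟨k, hk⟩ := (IsPGroup.iff_orderOf.mp Q.2) ⟨x, hx⟩
        rw [Subgroup.orderOf_mk] at hk
        have h4 := orderOf_dvd_natCard x
        rw [hk] at h4
        have h5 : k = 0 := by
          by_contra h
          exact hqd ((dvd_pow_self q h).trans h4)
        rw [h5, pow_zero, orderOf_eq_one_iff] at hk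
        exact hk
      rw [hx1]
      simp)
  refine ⟨key.1, ?_⟩
  intro s hsa hsb h hh
  -- s = t * e
  have he : t⁻¹ * s ∈ H := by
    refine ⟨?_, ?_⟩
    · show (t⁻¹ * s) • a = a
      rw [htinv, mul_smul, hsa, htb]
    · show (t⁻¹ * s) • b = b
      rw [htinv, mul_smul, hsb, hta]
  have hcomm : (t⁻¹ * s) * h * (t⁻¹ * s)⁻¹ = h := by
    have h1 := (key.1.commGroup.mul_comm (⟨t⁻¹ * s, he⟩ : H) ⟨h, hh⟩)
    have h2 : (t⁻¹ * s) * h = h * (t⁻¹ * s) := congrArg Subtype.val h1
    rw [h2]; group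
  have h3 : t * h * t⁻¹ = h⁻¹ := congrArg Subtype.val (key.2 ⟨h, hh⟩)
  have h4 : s * h * s⁻¹ = t * ((t⁻¹ * s) * h * (t⁻¹ * s)⁻¹) * t⁻¹ := by group
  rw [h4, hcomm, h3]

/-- In a simple Zassenhaus group there are no normal complements. -/
theorem simple_no_complement [Finite Ω] [IsSimpleGroup G] {a b : Ω}
    (hodd : Odd (Nat.card ↥(stabilizer G a ⊓ stabilizer G b))) :
    ∀ q : ℕ, q.Prime → q ∣ Nat.card ↥(stabilizer G a ⊓ stabilizer G b) →
      ¬ ∃ N : Subgroup G, N.Normal ∧ N.index = q ^ (Nat.card G).factorization q := by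
  haveI := finite_group hZ
  rintro q hq hqd ⟨N, hN, hi⟩
  have hq2 : q ≠ 2 := by
    rintro rfl
    exact (Nat.not_even_iff_odd.mpr hodd) (even_iff_two_dvd.mpr hqd)
  have hqG : q ∣ Nat.card G := hqd.trans (Subgroup.card_subgroup_dvd_card _)
  rcases hN.eq_bot_or_eq_top with h | h
  · rw [h, Subgroup.index_bot] at hi
    have h2 := (even_card_G hZ).two_dvd
    rw [hi] at h2
    have h3 := Nat.prime_two.dvd_of_dvd_pow h2
    exact hq2 ((Nat.prime_dvd_prime_iff_eq Nat.prime_two hq).mp h3).symm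
  · rw [h, Subgroup.index_top] at hi
    have h2 : 0 < (Nat.card G).factorization q :=
      Nat.Prime.factorization_pos_of_dvd hq Nat.card_pos.ne' hqG
    have h3 : q ∣ q ^ (Nat.card G).factorization q := dvd_pow_self q h2.ne'
    rw [← hi] at h3
    exact hq.one_lt.ne' (Nat.dvd_one.mp h3)

theorem centralizer_two_pt [Finite Ω] {a b : Ω} (hab : a ≠ b)
    (hodd : Odd (Nat.card ↥(stabilizer G a ⊓ stabilizer G b)))
    (hcyc : IsCyclic ↥(stabilizer G a ⊓ stabilizer G b))
    (hinv : ∀ s : G, s • a = b → s • b = a → ∀ h ∈ (stabilizer G a ⊓ stabilizer G b : Subgroup G),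
        s * h * s⁻¹ = h⁻¹) :
    Subgroup.centralizer ((stabilizer G a ⊓ stabilizer G b : Subgroup G) : Set G) =
      stabilizer G a ⊓ stabilizer G b := by
  haveI := finite_group hZ
  apply le_antisymm
  · intro g hg
    rw [Subgroup.mem_centralizer_iff] at hg
    obtain ⟨x, hx1, hxa, hxb⟩ := exists_two_pt hZ hab
    have hgx : g * x * g⁻¹ = x := by
      rw [← hg x ⟨hxa, hxb⟩]; group
    rcases pair_of_conj hZ hab hx1 hxa hxb (by rw [hgx, hxa]) (by rw [hgx, hxb]) with h | h
    · exact h
    · exfalso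
      have h1 := hinv g h.1 h.2 x ⟨hxa, hxb⟩
      rw [hgx] at h1
      have h2 : x * x = 1 := by
        nth_rw 1 [h1]
        exact inv_mul_cancel x
      have h3 : orderOf x = 2 := orderOf_eq_prime (by rw [pow_two, h2]) hx1
      have h4 : orderOf x ∣ Nat.card ↥(stabilizer G a ⊓ stabilizer G b) :=
        Subgroup.orderOf_dvd_natCard _ ⟨hxa, hxb⟩
      rw [h3] at h4
      exact (Nat.not_even_iff_odd.mpr hodd) (even_iff_two_dvd.mpr h4)
  · intro g hg
    rw [Subgroup.mem_centralizer_iff]
    intro x hx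
    have h1 := (hcyc.commGroup.mul_comm
      (⟨x, hx⟩ : ↥(stabilizer G a ⊓ stabilizer G b)) ⟨g, hg⟩)
    exact congrArg Subtype.val h1

end Cfsg.Agent.H20.Zass
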