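import Cfsg.Agent.H20.Zass6

/-!
Zassenhaus groups whose two-point stabilisers have odd order and are inverted: involutions.
-/

set_option autoImplicit false
set_option linter.style.haveILetI false

open Cfsg MulAction
open scoped Pointwise

namespace Cfsg.Agent.H20.Zass

variable {G Ω : Type*} [Group G] [MulAction G Ω]

/-- Standing hypothesis: odd two-point stabilisers, inverted by swapping elements. -/
structure OddInv (G Ω : Type*) [Group G] [MulAction G Ω] : Prop where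
  zass : IsZassenhausGroup G Ω
  fin : Finite Ω
  odd : ∀ a b : Ω, a ≠ b → Odd (Nat.card ↥(stabilizer G a ⊓ stabilizer G b))
  inv : ∀ a b : Ω, a ≠ b → ∀ s : G, s • a = b → s • b = a →
    ∀ h ∈ (stabilizer G a ⊓ stabilizer G b : Subgroup G), s * h * s⁻¹ = h⁻¹

theorem card_two_pt_eq (hZ : IsZassenhausGroup G Ω) {a b c d : Ω} (hab : a ≠ b) (hcd : c ≠ d) :
    Nat.card ↥(stabilizer G a ⊓ stabilizer G b) = Nat.card ↥(stabilizer G c ⊓ stabilizer G d) := by
  obtain ⟨g, hg1, hg2⟩ := exists_smul hZ hab hcd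
  have hg1' : g⁻¹ • c = a := by rw [← hg1, inv_smul_smul]
  have hg2' : g⁻¹ • d = b := by rw [← hg2, inv_smul_smul]
  refine Nat.card_congr ⟨fun x => ⟨g * x * g⁻¹, ?_, ?_⟩, fun x => ⟨g⁻¹ * x * g, ?_, ?_⟩, ?_, ?_⟩
  · show (g * x * g⁻¹) • c = c
    rw [mul_smul, mul_smul, hg1', show (x : G) • a = a from x.2.1, hg1]
  · show (g * x * g⁻¹) • d = d
    rw [mul_smul, mul_smul, hg2', show (x : G) • b = b from x.2.2, hg2]
  · show (g⁻¹ * x * g) • a = a
    rw [mul_smul, mul_smul, hg1, show (x : G) • c = c from x.2.1, hg1']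
  · show (g⁻¹ * x * g) • b = b
    rw [mul_smul, mul_smul, hg2, show (x : G) • d = d from x.2.2, hg2']
  · intro x; apply Subtype.ext; show g⁻¹ * (g * x * g⁻¹) * g = x; group
  · intro x; apply Subtype.ext; show g * (g⁻¹ * x * g) * g⁻¹ = x; group

theorem oddInv_of_simple [Finite Ω] [IsSimpleGroup G] (hZ : IsZassenhausGroup G Ω) {a b : Ω}
    (hab : a ≠ b) (hodd : Odd (Nat.card ↥(stabilizer G a ⊓ stabilizer G b))) : OddInv G Ω := by
  have hodd' : ∀ a b : Ω, a ≠ b → Odd (Nat.card ↥(stabilizer G a ⊓ stabilizer G b)) := by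
    intro c d hcd
    rw [card_two_pt_eq hZ hcd hab]
    exact hodd
  refine ⟨hZ, inferInstance, hodd', ?_⟩
  intro c d hcd
  exact (two_pt_cyclic hZ hcd (hodd' c d hcd)
    (simple_no_complement hZ (a := c) (b := d) (hodd' c d hcd))).2

namespace OddInv

variable (h : OddInv G Ω)
include h

theorem sq_eq_one {a b : Ω} (hab : a ≠ b) {s : G} (hsa : s • a = b) (hsb : s • b = a) :
    s * s = 1 := by
  haveI := h.fin
  haveI := finite_group h.zass
  have h1 : s * s ∈ (stabilizer G a ⊓ stabilizer G b : Subgroup G) := by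
    refine ⟨?_, ?_⟩
    · show (s * s) • a = a
      rw [mul_smul, hsa, hsb]
    · show (s * s) • b = b
      rw [mul_smul, hsb, hsa]
  have h2 := h.inv a b hab s hsa hsb _ h1
  have h3 : (s * s) * (s * s) = 1 := by
    have h4 : s * (s * s) * s⁻¹ = s * s := by group
    rw [h4] at h2
    nth_rw 1 [h2]
    exact inv_mul_cancel _
  by_contra hne
  have h4 : orderOf (s * s) = 2 := orderOf_eq_prime (by rw [pow_two, h3]) hne
  have h5 := Subgroup.orderOf_dvd_natCard _ h1
  rw [h4] at h5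
  exact (Nat.not_even_iff_odd.mpr (h.odd a b hab)) (even_iff_two_dvd.mpr h5)

theorem exists_conj_of_swap {a b : Ω} (hab : a ≠ b) {s s' : G} (hsa : s • a = b) (hsb : s • b = a)
    (hsa' : s' • a = b) (hsb' : s' • b = a) :
    ∃ y : G, y • a = a ∧ y • b = b ∧ y * s * y⁻¹ = s' := by
  haveI := h.fin
  haveI := finite_group h.zass
  have h1 : s⁻¹ * s' ∈ (stabilizer G a ⊓ stabilizer G b : Subgroup G) := by
    refine ⟨?_, ?_⟩
    · show (s⁻¹ * s') • a = a
      rw [mul_smul, hsa', ← hsa, inv_smul_smul]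
    · show (s⁻¹ * s') • b = b
      rw [mul_smul, hsb', ← hsb, inv_smul_smul]
  -- square root
  have hox : Odd (orderOf (s⁻¹ * s')) :=
    Odd.of_dvd_nat (h.odd a b hab) (Subgroup.orderOf_dvd_natCard _ h1)
  obtain ⟨k, hk⟩ := hox
  have hxx : ((s⁻¹ * s') ^ (k + 1)) * ((s⁻¹ * s') ^ (k + 1)) = s⁻¹ * s' := by
    rw [← pow_add]
    have : k + 1 + (k + 1) = orderOf (s⁻¹ * s') + 1 := by omega
    rw [this, pow_succ, pow_orderOf_eq_one, one_mul]
  set y := (s⁻¹ * s') ^ (k + 1) with hy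
  have hyH : y ∈ (stabilizer G a ⊓ stabilizer G b : Subgroup G) := Subgroup.pow_mem _ h1 _
  have h2 := h.inv a b hab s hsa hsb _ hyH
  refine ⟨y⁻¹, Subgroup.inv_mem _ hyH.1, Subgroup.inv_mem _ hyH.2, ?_⟩
  have h3 : s * y = y⁻¹ * s := by
    rw [← h2]; group
  have h4 : s' = s * (y * y) := by rw [hxx]; group
  rw [inv_inv, h4, ← mul_assoc, h3]

theorem conj_of_swap {a b : Ω} (hab : a ≠ b) {s s' : G} (hsa : s • a = b) (hsb : s • b = a)
    (hsa' : s' • a = b) (hsb' : s' • b = a) : IsConj s s' := by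
  obtain ⟨y, _, _, hy⟩ := h.exists_conj_of_swap hab hsa hsb hsa' hsb'
  exact isConj_iff.mpr ⟨y, hy⟩

theorem isConj_of_involutions {x y : G} (hx1 : x ≠ 1) (hx2 : x * x = 1) (hy1 : y ≠ 1)
    (hy2 : y * y = 1) : IsConj x y := by
  obtain ⟨a, b, hab⟩ := exists_ne_pts h.zass
  obtain ⟨g, hg1, hg2⟩ := conj_swap h.zass hx1 hx2 hab
  obtain ⟨k, hk1, hk2⟩ := conj_swap h.zass hy1 hy2 hab
  have h1 := h.conj_of_swap hab hg1 hg2 hk1 hk2
  have h2 : IsConj x (g * x * g⁻¹) := isConj_iff.mpr ⟨g, rfl⟩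
  have h3 : IsConj y (k * y * k⁻¹) := isConj_iff.mpr ⟨k, rfl⟩
  exact h2.trans (h1.trans h3.symm)

/-- The number of elements swapping two points. -/
theorem card_swap {a b : Ω} (hab : a ≠ b) :
    Nat.card {s : G // s • a = b ∧ s • b = a} =
      Nat.card ↥(stabilizer G a ⊓ stabilizer G b) := by
  obtain ⟨s0, hs0a, hs0b⟩ := exists_smul h.zass hab (Ne.symm hab)
  refine Nat.card_congr ⟨fun s => ⟨s0⁻¹ * s, ?_, ?_⟩, fun x => ⟨s0 * x, ?_, ?_⟩, ?_, ?_⟩
  · show (s0⁻¹ * (s : G)) • a = a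
    rw [mul_smul, s.2.1, ← hs0a, inv_smul_smul]
  · show (s0⁻¹ * (s : G)) • b = b
    rw [mul_smul, s.2.2, ← hs0b, inv_smul_smul]
  · rw [mul_smul, show (x : G) • a = a from x.2.1, hs0a]
  · rw [mul_smul, show (x : G) • b = b from x.2.2, hs0b]
  · intro s; apply Subtype.ext; show s0 * (s0⁻¹ * (s : G)) = s; group
  · intro x; apply Subtype.ext; show s0⁻¹ * (s0 * (x : G)) = x; group

theorem fixedBy_le_one {t : G} (ht1 : t ≠ 1) (ht2 : t * t = 1) : Nat.card (fixedBy Ω t) ≤ 1 := by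
  haveI := h.fin
  haveI := finite_group h.zass
  classical
  haveI : Fintype Ω := Fintype.ofFinite Ω
  by_contra hcon
  push Not at hcon
  rw [Nat.card_eq_fintype_card, Fintype.one_lt_card_iff] at hcon
  obtain ⟨a, b, hab⟩ := hcon
  have hab' : (a : Ω) ≠ b := fun h' => hab (Subtype.ext h')
  have h4 : orderOf t = 2 := orderOf_eq_prime (by rw [pow_two, ht2]) ht1
  have h5 : orderOf t ∣ Nat.card ↥(stabilizer G (a : Ω) ⊓ stabilizer G (b : Ω)) :=
    Subgroup.orderOf_dvd_natCard _ ⟨a.2, b.2⟩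
  rw [h4] at h5
  exact (Nat.not_even_iff_odd.mpr (h.odd a b hab')) (even_iff_two_dvd.mpr h5)

theorem card_fixedBy {t : G} (ht1 : t ≠ 1) (ht2 : t * t = 1) :
    Nat.card (fixedBy Ω t) = Nat.card Ω % 2 := by
  haveI := h.fin
  haveI := finite_group h.zass
  have h1 := card_fixedBy_modEq (Ω := Ω) ht2
  have h2 := h.fixedBy_le_one ht1 ht2
  have h3 : Nat.card Ω % 2 = Nat.card (fixedBy Ω t) % 2 := h1
  omega

/-- Counting involutions. -/
theorem card_involutions_mul {a b : Ω} (hab : a ≠ b) :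
    Nat.card {x : G // x ≠ 1 ∧ x * x = 1} * (Nat.card Ω - Nat.card Ω % 2) =
      Nat.card Ω * (Nat.card Ω - 1) * Nat.card ↥(stabilizer G a ⊓ stabilizer G b) := by
  haveI := h.fin
  haveI := finite_group h.zass
  classical
  haveI : Fintype Ω := Fintype.ofFinite Ω
  haveI : Fintype G := Fintype.ofFinite G
  let T := {p : G × Ω // (p.1 ≠ 1 ∧ p.1 * p.1 = 1) ∧ p.1 • p.2 ≠ p.2}
  -- first count
  have c1 : Nat.card T = Nat.card {x : G // x ≠ 1 ∧ x * x = 1} * (Nat.card Ω - Nat.card Ω % 2) := by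
    have e1 : T ≃ (Σ x : {x : G // x ≠ 1 ∧ x * x = 1}, {c : Ω // (x : G) • c ≠ c}) :=
      { toFun := fun p => ⟨⟨p.1.1, p.2.1⟩, ⟨p.1.2, p.2.2⟩⟩
        invFun := fun q => ⟨(q.1.1, q.2.1), q.1.2, q.2.2⟩
        left_inv := fun p => rfl
        right_inv := fun q => rfl }
    rw [Nat.card_congr e1, Nat.card_sigma]
    have e2 : ∀ x : {x : G // x ≠ 1 ∧ x * x = 1}, Nat.card {c : Ω // (x : G) • c ≠ c} =
        Nat.card Ω - Nat.card Ω % 2 := by
      intro x
      rw [← h.card_fixedBy x.2.1 x.2.2, Nat.card_eq_fintype_card, Nat.card_eq_fintype_card,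
        Nat.card_eq_fintype_card, Fintype.card_subtype_compl]
      rfl
    rw [Finset.sum_congr rfl (fun x _ => e2 x), Finset.sum_const, Finset.card_univ, smul_eq_mul,
      Nat.card_eq_fintype_card (α := {x : G // x ≠ 1 ∧ x * x = 1})]
  have c2 : Nat.card T = Nat.card Ω * (Nat.card Ω - 1) *
      Nat.card ↥(stabilizer G a ⊓ stabilizer G b) := by
    have e1 : T ≃ (Σ p : {p : Ω × Ω // p.1 ≠ p.2}, {s : G // s • p.1.1 = p.1.2 ∧ s • p.1.2 = p.1.1}) :=
      { toFun := fun p => ⟨⟨(p.1.2, p.1.1 • p.1.2), Ne.symm p.2.2⟩, ⟨p.1.1, rfl, by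
          show p.1.1 • p.1.1 • p.1.2 = p.1.2
          rw [← mul_smul, p.2.1.2, one_smul]⟩⟩
        invFun := fun q => ⟨(q.2.1, q.1.1.1), ⟨by
            intro h1
            have h2 := q.2.2.1
            have h3 : (q.2.1 : G) = 1 := h1
            rw [h3, one_smul] at h2
            exact q.1.2 h2, h.sq_eq_one q.1.2 q.2.2.1 q.2.2.2⟩, by
            intro h1
            have h2 := q.2.2.1
            exact q.1.2 (h1.symm.trans h2)⟩
        left_inv := fun p => rfl
        right_inv := by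
          rintro ⟨⟨⟨c, d⟩, hcd⟩, ⟨s, hs1, hs2⟩⟩
          have hs1' : s • c = d := hs1
          subst hs1'
          rfl }
    rw [Nat.card_congr e1, Nat.card_sigma]
    have e2 : ∀ p : {p : Ω × Ω // p.1 ≠ p.2},
        Nat.card {s : G // s • p.1.1 = p.1.2 ∧ s • p.1.2 = p.1.1} =
        Nat.card ↥(stabilizer G a ⊓ stabilizer G b) := by
      intro p
      rw [h.card_swap p.2]
      exact card_two_pt_eq h.zass p.2 hab
    rw [Finset.sum_congr rfl (fun x _ => e2 x), Finset.sum_const, Finset.card_univ, smul_eq_mul]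
    congr 1
    have e3 : Fintype.card {p : Ω × Ω // p.1 ≠ p.2} = (Finset.univ : Finset Ω).offDiag.card := by
      rw [Fintype.card_subtype]
      congr 1
      ext p
      simp
    rw [e3, Finset.offDiag_card, Finset.card_univ, Nat.card_eq_fintype_card, Nat.mul_sub, mul_one]
  rw [← c1, c2]

theorem card_involutions_odd {a b : Ω} (hab : a ≠ b) (hodd : Odd (Nat.card Ω)) :
    Nat.card {x : G // x ≠ 1 ∧ x * x = 1} =
      Nat.card ↥(stabilizer G a ⊓ stabilizer G b) * Nat.card Ω := by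
  haveI := h.fin
  have h1 := h.card_involutions_mul hab
  have h2 := three_le_card h.zass
  rw [Nat.odd_iff.mp hodd] at h1
  have h3 : 0 < Nat.card Ω - 1 := by omega
  apply Nat.eq_of_mul_eq_mul_right h3
  rw [h1]; ring

theorem card_involutions_even {a b : Ω} (hab : a ≠ b) (hev : Even (Nat.card Ω)) :
    Nat.card {x : G // x ≠ 1 ∧ x * x = 1} =
      Nat.card ↥(stabilizer G a ⊓ stabilizer G b) * (Nat.card Ω - 1) := by
  haveI := h.fin
  have h1 := h.card_involutions_mul hab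
  have h2 := three_le_card h.zass
  rw [Nat.even_iff.mp hev, Nat.sub_zero] at h1
  have h3 : 0 < Nat.card Ω := by omega
  apply Nat.eq_of_mul_eq_mul_right h3
  rw [h1]; ring

end OddInv

end Cfsg.Agent.H20.Zass
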