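import Cfsg.Agent.H20.Zass7
import Cfsg.Agent.H23.Coprime

/-!
Zassenhaus groups with inverted two-point stabilisers of odd order: products of involutions.
-/

set_option autoImplicit false
set_option linter.style.haveILetI false

open Cfsg MulAction
open scoped Pointwise

namespace Cfsg.Agent.H20.Zass

variable {G Ω : Type*} [Group G] [MulAction G Ω]

namespace OddInv

variable (h : OddInv G Ω)
include h

theorem fix_unique {t : G} (ht1 : t ≠ 1) (ht2 : t * t = 1) {a c : Ω} (ha : t • a = a)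
    (hc : t • c = c) : c = a := by
  haveI := h.fin
  have h1 := h.fixedBy_le_one ht1 ht2
  haveI : Subsingleton (fixedBy Ω t) := by
    rw [← Finite.card_le_one_iff_subsingleton]; exact h1
  exact congrArg Subtype.val (Subsingleton.elim (⟨c, hc⟩ : fixedBy Ω t) ⟨a, ha⟩)

/-- The two-point stabiliser `G_ab` is transitive on the involutions fixing `a`. -/
theorem conj_involutions_two_pt {a b : Ω} (hab : a ≠ b) {w z : G} (hw1 : w ≠ 1) (hw2 : w * w = 1)
    (hwa : w • a = a) (hz1 : z ≠ 1) (hz2 : z * z = 1) (hza : z • a = a) :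
    ∃ k : G, k • a = a ∧ k • b = b ∧ k * w * k⁻¹ = z := by
  have hwb : w • b ≠ b := fun hb => hab (h.fix_unique hw1 hw2 hwa hb).symm
  have hzb : z • b ≠ b := fun hb => hab (h.fix_unique hz1 hz2 hza hb).symm
  obtain ⟨g, hg1, hg2⟩ := exists_smul h.zass (Ne.symm hwb) (Ne.symm hzb)
  have hg1' : g⁻¹ • b = b := inv_smul_eq_iff.mpr hg1.symm
  have hg2' : g⁻¹ • (z • b) = w • b := inv_smul_eq_iff.mpr hg2.symm
  have hww : w • w • b = b := by rw [← mul_smul, hw2, one_smul]
  have hzz : z • z • b = b := by rw [← mul_smul, hz2, one_smul]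
  obtain ⟨y, hy1, hy2, hy3⟩ := h.exists_conj_of_swap (Ne.symm hzb) (s := g * w * g⁻¹) (s' := z)
    (by rw [mul_smul, mul_smul, hg1', hg2]) (by rw [mul_smul, mul_smul, hg2', hww, hg1]) rfl hzz
  refine ⟨y * g, ?_, ?_, ?_⟩
  · apply h.fix_unique hz1 hz2 hza
    have h5 : z = (y * g) * w * (y * g)⁻¹ := by rw [← hy3]; group
    rw [h5, mul_smul, inv_smul_smul, mul_smul, hwa]
  · rw [mul_smul, hg1, hy1]
  · rw [← hy3]; group

theorem comm_two_pt {a b : Ω} (hab : a ≠ b) :
    ∀ x ∈ (stabilizer G a ⊓ stabilizer G b : Subgroup G),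
    ∀ y ∈ (stabilizer G a ⊓ stabilizer G b : Subgroup G), x * y = y * x := by
  obtain ⟨s, hsa, hsb⟩ := exists_smul h.zass hab (Ne.symm hab)
  intro x hx y hy
  have h1 := h.inv a b hab s hsa hsb x hx
  have h2 := h.inv a b hab s hsa hsb y hy
  have h3 := h.inv a b hab s hsa hsb _ (Subgroup.mul_mem _ hx hy)
  have h4 : s * (x * y) * s⁻¹ = (s * x * s⁻¹) * (s * y * s⁻¹) := by group
  rw [h1, h2, h3, mul_inv_rev] at h4
  have h5 := congrArg (fun z => z⁻¹) h4
  simp only [mul_inv_rev, inv_inv] at h5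
  exact h5

theorem isSolvable_two_pt {a b : Ω} (hab : a ≠ b) :
    Group.IsSolvable (stabilizer G a ⊓ stabilizer G b : Subgroup G) := by
  letI : CommGroup ↥(stabilizer G a ⊓ stabilizer G b : Subgroup G) :=
    { mul_comm := fun x y => Subtype.ext (h.comm_two_pt hab x x.2 y y.2) }
  infer_instance

/-- Involutions fixing the same point commute. -/
theorem comm_involutions {a : Ω} {x y : G} (hx1 : x ≠ 1) (hx2 : x * x = 1) (hxa : x • a = a)
    (hy1 : y ≠ 1) (hy2 : y * y = 1) (hya : y • a = a) : x * y = y * x := by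
  haveI := h.fin
  haveI := finite_group h.zass
  haveI : Fact (Nat.Prime 2) := ⟨Nat.prime_two⟩
  obtain ⟨b, hab⟩ := exists_ne_pt h.zass a
  have hmemK : ∀ x : G, x ≠ 1 → x * x = 1 → x • a = a → x ∈ K h.zass a := by
    intro x hx1 hx2 hxa
    rw [mem_K]
    right
    exact ⟨hxa, fun c hc => h.fix_unique hx1 hx2 hxa hc⟩
  obtain ⟨P, hP, hEP⟩ := Cfsg.Agent.H23.exists_invariant_sylow
    (A := (stabilizer G a ⊓ stabilizer G b : Subgroup G)) (G := K h.zass a)
    (inf_le_left.trans (stab_le_normalizer_K h.zass a)) (coprime_two_pt_K h.zass hab)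
    (Or.inl (h.isSolvable_two_pt hab)) 2
  -- P nontrivial
  have hxK := hmemK x hx1 hx2 hxa
  have hord : orderOf x = 2 := orderOf_eq_prime (by rw [pow_two, hx2]) hx1
  have h2K : 2 ∣ Nat.card (K h.zass a) := by
    rw [← hord]; exact Subgroup.orderOf_dvd_natCard _ hxK
  have hPg : IsPGroup 2 P := hP.isPGroup
  have h2P : 2 ∣ Nat.card P := by
    have h1 := hP.not_dvd
    have h3 : P.relIndex (K h.zass a) * Nat.card P = Nat.card (K h.zass a) := by
      rw [mul_comm]
      have h5 := Subgroup.card_mul_index (P.subgroupOf (K h.zass a))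
      rw [Nat.card_congr (Subgroup.subgroupOfEquivOfLe hP.le).toEquiv] at h5
      exact h5
    rw [← h3] at h2K
    exact (Nat.prime_two.dvd_mul.mp h2K).resolve_left h1
  haveI : Nontrivial P := by
    rw [← Finite.one_lt_card_iff_nontrivial]
    exact lt_of_lt_of_le one_lt_two (Nat.le_of_dvd Nat.card_pos h2P)
  haveI := hPg.center_nontrivial
  have hZg : IsPGroup 2 (Subgroup.center P) := hPg.to_subgroup _
  obtain ⟨z, hz⟩ := exists_prime_orderOf_dvd_card' (G := Subgroup.center P) 2 (by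
    obtain ⟨n, hn⟩ := IsPGroup.iff_card.mp hZg
    have h3 : 1 < Nat.card (Subgroup.center P) := Finite.one_lt_card
    rw [hn] at h3 ⊢
    apply dvd_pow_self
    rintro rfl
    simp at h3)
  have hz1 : ((z : P) : G) ≠ 1 := by
    intro h'
    have : z = 1 := Subtype.ext (Subtype.ext h')
    rw [this, orderOf_one] at hz
    omega
  have hz2 : ((z : P) : G) * ((z : P) : G) = 1 := by
    have : z * z = 1 := by rw [← pow_two, ← hz, pow_orderOf_eq_one]
    exact congrArg (fun w : Subgroup.center P => ((w : P) : G)) this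
  have hza : ((z : P) : G) • a = a := K_le h.zass a (hP.le (z : P).2)
  -- every involution fixing a is in the centre of P
  have hcen : ∀ x : G, x ≠ 1 → x * x = 1 → x • a = a → x ∈ P ∧ ∀ p ∈ P, x * p = p * x := by
    intro x hx1 hx2 hxa
    obtain ⟨k, hka, hkb, hk⟩ := h.conj_involutions_two_pt hab hz1 hz2 hza hx1 hx2 hxa
    have hkP : k ∈ Subgroup.normalizer (P : Set G) := hEP ⟨hka, hkb⟩
    refine ⟨?_, ?_⟩
    · rw [← hk]
      exact (Subgroup.mem_normalizer_iff.mp hkP _).mp (z : P).2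
    · intro p hp
      have h5 : k⁻¹ * p * k ∈ P := by
        have h6 := (Subgroup.mem_normalizer_iff.mp (Subgroup.inv_mem _ hkP) p).mp hp
        simpa using h6
      have h7 := Subgroup.mem_center_iff.mp z.2 ⟨_, h5⟩
      have h8 : (k⁻¹ * p * k) * ((z : P) : G) = ((z : P) : G) * (k⁻¹ * p * k) :=
        congrArg Subtype.val h7
      rw [← hk]
      calc k * ((z : P) : G) * k⁻¹ * p = k * (((z : P) : G) * (k⁻¹ * p * k)) * k⁻¹ := by group
        _ = p * (k * ((z : P) : G) * k⁻¹) := by rw [← h8]; group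
  exact (hcen x hx1 hx2 hxa).2 y (hcen y hy1 hy2 hya).1

/-- A product of two involutions which fixes exactly one point has square one, and the two
involutions fix that point. -/
theorem fix_of_mul {a : Ω} {x y u : G} (hx1 : x ≠ 1) (hx2 : x * x = 1)
    (hy1 : y ≠ 1) (hy2 : y * y = 1) (hu : ∀ c : Ω, u • c = c ↔ c = a) (hxy : x * y = u) :
    x • a = a ∧ y • a = a ∧ u * u = 1 := by
  have hxinv : x⁻¹ = x := inv_eq_of_mul_eq_one_left hx2
  have hyinv : y⁻¹ = y := inv_eq_of_mul_eq_one_left hy2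
  have hui : x * u * x⁻¹ = u⁻¹ := by
    rw [← hxy, mul_inv_rev, hxinv, hyinv]
    rw [← mul_assoc, hx2, one_mul]
  have hxa : x • a = a := by
    apply (hu _).mp
    have h1 : (x * u * x⁻¹) • (x • a) = x • a := by
      rw [mul_smul, inv_smul_smul, mul_smul, (hu a).mpr rfl]
    rw [hui, inv_smul_eq_iff] at h1
    exact h1.symm
  have hya : y • a = a := by
    have h2 : y = x⁻¹ * u := by rw [← hxy]; group
    rw [h2, mul_smul, (hu a).mpr rfl, inv_smul_eq_iff, hxa]
  refine ⟨hxa, hya, ?_⟩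
  have hc := h.comm_involutions hx1 hx2 hxa hy1 hy2 hya
  rw [← hxy]
  calc x * y * (x * y) = x * (y * x) * y := by group
    _ = (x * x) * (y * y) := by rw [← hc]; group
    _ = 1 := by rw [hx2, hy2, one_mul]

end OddInv

end Cfsg.Agent.H20.Zass
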