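import Cfsg.Agent.H20.Zass8

/-!
Zassenhaus groups with inverted two-point stabilisers of odd order: the number of classes without
elements of the kernel.
-/

set_option autoImplicit false
set_option linter.style.haveILetI false

open Cfsg MulAction
open scoped Pointwise

namespace Cfsg.Agent.H20.Zass

variable {G Ω : Type*} [Group G] [MulAction G Ω]

/-- For an involution `t` all of whose conjugates are the involutions: the number of involutions `s`
with `t s` in a given class is at most `|G| / |I|`. -/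
theorem card_fibre_le [Finite G] {t : G} (ht1 : t ≠ 1) (ht2 : t * t = 1)
    (hconj : ∀ x : G, x ≠ 1 → x * x = 1 → IsConj t x) (X : ConjClasses G) :
    Nat.card {x : G // x ≠ 1 ∧ x * x = 1} *
      Nat.card {s : G // (s ≠ 1 ∧ s * s = 1) ∧ ConjClasses.mk (t * s) = X} ≤ Nat.card G := by
  classical
  by_cases hne : Nonempty {s : G // (s ≠ 1 ∧ s * s = 1) ∧ ConjClasses.mk (t * s) = X}
  · obtain ⟨s0, hs0, hs0X⟩ := hne
    set x0 : G := t * s0 with hx0
    have hex : ∀ r : {x : G // x ≠ 1 ∧ x * x = 1}, ∃ g : G, g * t * g⁻¹ = r := fun r =>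
      isConj_iff.mp (hconj r r.2.1 r.2.2)
    choose g hg using hex
    have hex2 : ∀ y : G, ∃ k : G, ConjClasses.mk y = X → k * x0 * k⁻¹ = y := by
      intro y
      by_cases h : ConjClasses.mk y = X
      · have h1 : IsConj x0 y := by
          rw [← ConjClasses.mk_eq_mk_iff_isConj, hs0X, h]
        obtain ⟨k, hk⟩ := isConj_iff.mp h1
        exact ⟨k, fun _ => hk⟩
      · exact ⟨1, fun h' => absurd h' h⟩
    choose k hk using hex2
    rw [← Nat.card_prod]
    -- the map
    let r : {x : G // x ≠ 1 ∧ x * x = 1} → G := fun x => x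
    let y : {x : G // x ≠ 1 ∧ x * x = 1} ×
      {s : G // (s ≠ 1 ∧ s * s = 1) ∧ ConjClasses.mk (t * s) = X} → G :=
      fun p => g p.1 * (t * p.2) * (g p.1)⁻¹
    have hyX : ∀ p, ConjClasses.mk (y p) = X := by
      intro p
      rw [← p.2.2.2, ConjClasses.mk_eq_mk_iff_isConj]
      exact (isConj_iff.mpr ⟨g p.1, rfl⟩).symm
    have hinv : ∀ (a b : G), a * a = 1 → b * b = 1 → a * (a * b) * a⁻¹ = (a * b)⁻¹ := by
      intro a b ha hb
      have ha' : a⁻¹ = a := inv_eq_of_mul_eq_one_left ha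
      have hb' : b⁻¹ = b := inv_eq_of_mul_eq_one_left hb
      rw [mul_inv_rev, ha', hb', ← mul_assoc, ha, one_mul]
    -- r inverts y
    have hry : ∀ p : {x : G // x ≠ 1 ∧ x * x = 1} ×
        {s : G // (s ≠ 1 ∧ s * s = 1) ∧ ConjClasses.mk (t * s) = X},
        (p.1 : G) * y p * (p.1 : G)⁻¹ = (y p)⁻¹ := by
      intro p
      have h1 := hinv t p.2 ht2 p.2.2.1.2
      have h2 : (p.1 : G) = g p.1 * t * (g p.1)⁻¹ := (hg p.1).symm
      show (p.1 : G) * (g p.1 * (t * p.2) * (g p.1)⁻¹) * (p.1 : G)⁻¹ = (g p.1 * (t * p.2) * (g p.1)⁻¹)⁻¹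
      rw [h2]
      calc g p.1 * t * (g p.1)⁻¹ * (g p.1 * (t * p.2) * (g p.1)⁻¹) * (g p.1 * t * (g p.1)⁻¹)⁻¹
          = g p.1 * (t * (t * p.2) * t⁻¹) * (g p.1)⁻¹ := by group
        _ = (g p.1 * (t * p.2) * (g p.1)⁻¹)⁻¹ := by rw [h1]; group
    apply Nat.card_le_card_of_injective
      (fun p => k (y p) * (t * ((k (y p))⁻¹ * (p.1 : G) * k (y p))))
    intro p p' hpp
    have hpp' : k (y p) * (t * ((k (y p))⁻¹ * (p.1 : G) * k (y p))) =
      k (y p') * (t * ((k (y p'))⁻¹ * (p'.1 : G) * k (y p'))) := hpp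
    -- conj of x0 by the image is y p
    have himg : ∀ p : {x : G // x ≠ 1 ∧ x * x = 1} ×
        {s : G // (s ≠ 1 ∧ s * s = 1) ∧ ConjClasses.mk (t * s) = X},
        (k (y p) * (t * ((k (y p))⁻¹ * (p.1 : G) * k (y p)))) * x0 *
        (k (y p) * (t * ((k (y p))⁻¹ * (p.1 : G) * k (y p))))⁻¹ = y p := by
      intro p
      have h1 := hk (y p) (hyX p)
      have h2 := hry p
      have h3 := hinv t s0 ht2 hs0.2
      have h4 : (k (y p))⁻¹ * (p.1 : G) * k (y p) * x0 * ((k (y p))⁻¹ * (p.1 : G) * k (y p))⁻¹ = x0⁻¹ := by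
        have h5 : (k (y p))⁻¹ * (p.1 : G) * k (y p) * x0 * ((k (y p))⁻¹ * (p.1 : G) * k (y p))⁻¹ =
          (k (y p))⁻¹ * ((p.1 : G) * (k (y p) * x0 * (k (y p))⁻¹) * (p.1 : G)⁻¹) * k (y p) := by group
        have h7 : ∀ kk yy : G, kk * x0 * kk⁻¹ = yy → kk⁻¹ * yy⁻¹ * kk = x0⁻¹ := by
          intro kk yy hh
          rw [← hh]; group
        rw [h5, h1, h2]
        exact h7 _ _ h1
      have h6 : t * x0⁻¹ * t⁻¹ = x0 := by
        have : t * x0⁻¹ * t⁻¹ = (t * x0 * t⁻¹)⁻¹ := by group
        rw [this, h3, inv_inv]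
      calc (k (y p) * (t * ((k (y p))⁻¹ * (p.1 : G) * k (y p)))) * x0 *
          (k (y p) * (t * ((k (y p))⁻¹ * (p.1 : G) * k (y p))))⁻¹
          = k (y p) * (t * ((k (y p))⁻¹ * (p.1 : G) * k (y p) * x0 *
            ((k (y p))⁻¹ * (p.1 : G) * k (y p))⁻¹) * t⁻¹) * (k (y p))⁻¹ := by group
        _ = k (y p) * x0 * (k (y p))⁻¹ := by rw [h4, h6]
        _ = y p := h1
    have hyy : y p = y p' := by rw [← himg p, ← himg p', hpp']
    rw [hyy] at hpp'
    have h7 : (p.1 : G) = p'.1 := by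
      have h8 := mul_left_cancel (mul_left_cancel hpp')
      exact mul_left_cancel (mul_right_cancel h8)
    have h9 : p.1 = p'.1 := Subtype.ext h7
    have h10 : (p.2 : G) = p'.2 := by
      have h11 : g p.1 * (t * (p.2 : G)) * (g p.1)⁻¹ = g p'.1 * (t * (p'.2 : G)) * (g p'.1)⁻¹ := hyy
      rw [h9] at h11
      exact mul_left_cancel (mul_left_cancel (mul_right_cancel h11))
    exact Prod.ext h9 (Subtype.ext h10)
  · haveI : IsEmpty {s : G // (s ≠ 1 ∧ s * s = 1) ∧ ConjClasses.mk (t * s) = X} :=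
      not_nonempty_iff.mp hne
    rw [Nat.card_of_isEmpty (α := {s : G // (s ≠ 1 ∧ s * s = 1) ∧ ConjClasses.mk (t * s) = X}),
      mul_zero]
    exact Nat.zero_le _

namespace OddInv

variable (h : OddInv G Ω)
include h

/-- number of involutions fixing a point is at most `e` -/
theorem card_involutions_fix_le {a b : Ω} (hab : a ≠ b) :
    Nat.card {s : G // (s ≠ 1 ∧ s * s = 1) ∧ s • a = a} ≤
      Nat.card ↥(stabilizer G a ⊓ stabilizer G b) := by
  haveI := h.fin
  haveI := finite_group h.zass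
  by_cases hne : Nonempty {s : G // (s ≠ 1 ∧ s * s = 1) ∧ s • a = a}
  · obtain ⟨s0, hs0, hs0a⟩ := hne
    have hex : ∀ s : {s : G // (s ≠ 1 ∧ s * s = 1) ∧ s • a = a},
        ∃ k : G, k • a = a ∧ k • b = b ∧ k * s0 * k⁻¹ = s := fun s =>
      h.conj_involutions_two_pt hab hs0.1 hs0.2 hs0a s.2.1.1 s.2.1.2 s.2.2
    choose k hk1 hk2 hk3 using hex
    apply Nat.card_le_card_of_injective (fun s => (⟨k s, hk1 s, hk2 s⟩ :
      ↥(stabilizer G a ⊓ stabilizer G b)))
    intro s s' hss
    have : k s = k s' := congrArg Subtype.val hss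
    apply Subtype.ext
    rw [← hk3 s, ← hk3 s', this]
  · haveI : IsEmpty {s : G // (s ≠ 1 ∧ s * s = 1) ∧ s • a = a} := not_nonempty_iff.mp hne
    rw [Nat.card_of_isEmpty]
    exact Nat.zero_le _

theorem two_pt_lt {a b : Ω} (hab : a ≠ b) :
    Nat.card ↥(stabilizer G a ⊓ stabilizer G b) < Nat.card Ω - 1 := by
  haveI := h.fin
  have h1 := card_two_pt_dvd h.zass hab
  have h2 := three_le_card h.zass
  have h3 := Nat.le_of_dvd (by omega) h1
  omega

/-- At least `e` classes contain no element of `K a`. -/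
theorem le_card_outside {a b : Ω} (hab : a ≠ b) :
    haveI := h.fin
    Nat.card ↥(stabilizer G a ⊓ stabilizer G b) ≤
      Nat.card {C : ConjClasses G // ∀ g : G, ConjClasses.mk g = C → g ∉ K h.zass a} := by
  classical
  haveI := h.fin
  haveI := finite_group h.zass
  haveI : Fintype G := Fintype.ofFinite G
  haveI : Finite (ConjClasses G) := Quotient.finite _
  haveI : Fintype (ConjClasses G) := Fintype.ofFinite _
  haveI : Fintype {C : ConjClasses G // ∀ g : G, ConjClasses.mk g = C → g ∉ K h.zass a} :=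
    Fintype.ofFinite _
  obtain ⟨t, ht1, ht2⟩ := exists_involution h.zass
  set e := Nat.card ↥(stabilizer G a ⊓ stabilizer G b) with he
  set N := Nat.card {C : ConjClasses G // ∀ g : G, ConjClasses.mk g = C → g ∉ K h.zass a} with hN
  set I := {x : G // x ≠ 1 ∧ x * x = 1} with hI
  -- splitting of I
  let P : G → Prop := fun s => ∀ g : G, ConjClasses.mk g = ConjClasses.mk (t * s) → g ∉ K h.zass a
  have hsplit : Nat.card I = Nat.card {s : G // (s ≠ 1 ∧ s * s = 1) ∧ P s} +
      Nat.card {s : G // (s ≠ 1 ∧ s * s = 1) ∧ ¬ P s} := by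
    rw [Nat.card_eq_fintype_card, Nat.card_eq_fintype_card, Nat.card_eq_fintype_card]
    rw [Fintype.card_subtype, Fintype.card_subtype, Fintype.card_subtype,
      ← Finset.card_filter_add_card_filter_not (s := Finset.univ.filter (fun x : G => x ≠ 1 ∧ x * x = 1)) P,
      Finset.filter_filter, Finset.filter_filter]
  have hgood : Nat.card I * Nat.card {s : G // (s ≠ 1 ∧ s * s = 1) ∧ P s} ≤ N * Nat.card G := by
    have e1 : {s : G // (s ≠ 1 ∧ s * s = 1) ∧ P s} ≃
        (Σ C : {C : ConjClasses G // ∀ g : G, ConjClasses.mk g = C → g ∉ K h.zass a},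
          {s : G // (s ≠ 1 ∧ s * s = 1) ∧ ConjClasses.mk (t * s) = C}) :=
      { toFun := fun s => ⟨⟨ConjClasses.mk (t * s), s.2.2⟩, ⟨s, s.2.1, rfl⟩⟩
        invFun := fun q => ⟨q.2, q.2.2.1, by
          intro g hg
          rw [q.2.2.2] at hg
          exact q.1.2 g hg⟩
        left_inv := fun s => rfl
        right_inv := by
          rintro ⟨⟨C, hC⟩, ⟨s, hs1, hs2⟩⟩
          have hs2' : ConjClasses.mk (t * s) = C := hs2
          subst hs2'
          rfl }
    rw [Nat.card_congr e1, Nat.card_sigma, Finset.mul_sum]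
    have h5 : ∀ C : {C : ConjClasses G // ∀ g : G, ConjClasses.mk g = C → g ∉ K h.zass a},
        Nat.card I * Nat.card {s : G // (s ≠ 1 ∧ s * s = 1) ∧ ConjClasses.mk (t * s) = C} ≤
          Nat.card G := fun C =>
      card_fibre_le ht1 ht2 (fun x hx1 hx2 => h.isConj_of_involutions ht1 ht2 hx1 hx2) C
    calc _ ≤ ∑ _C : {C : ConjClasses G // ∀ g : G, ConjClasses.mk g = C → g ∉ K h.zass a},
          Nat.card G := Finset.sum_le_sum (fun C _ => h5 C)
      _ = N * Nat.card G := by
          rw [Finset.sum_const, Finset.card_univ, smul_eq_mul, ← Nat.card_eq_fintype_card]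
  -- bad ones
  have hbadfix : ∀ s : G, s ≠ 1 → s * s = 1 → ¬ P s → s = t ∨ ∃ c : Ω, t • c = c ∧ s • c = c := by
    intro s hs1 hs2 hP
    by_cases hst : s = t
    · exact Or.inl hst
    · right
      have hP' : ¬ ∀ g : G, ConjClasses.mk g = ConjClasses.mk (t * s) → g ∉ K h.zass a := hP
      push Not at hP'
      obtain ⟨g, hg, hgK⟩ := hP'
      rw [ConjClasses.mk_eq_mk_iff_isConj] at hg
      obtain ⟨x, hx⟩ := isConj_iff.mp hg
      have hu1 : t * s ≠ 1 := by
        intro h'
        apply hst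
        have : t⁻¹ = t := inv_eq_of_mul_eq_one_left ht2
        rw [← this]
        exact eq_inv_of_mul_eq_one_right h'
      have huK : t * s ∈ K h.zass (x • a) := by
        rw [← hx]
        exact conj_mem_K h.zass rfl hgK
      obtain ⟨h6, h7, _⟩ := h.fix_of_mul (a := x • a) ht1 ht2 hs1 hs2 (u := t * s)
        (fun c => ⟨K_fix h.zass huK hu1, fun hc => by rw [hc]; exact K_le h.zass _ huK⟩) rfl
      exact ⟨x • a, h6, h7⟩
  have hcardG := card_G h.zass hab
  have hKc := card_K h.zass a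
  have h3 := three_le_card h.zass
  have hlt := h.two_pt_lt hab
  rw [← he] at hcardG hlt
  have hepos : 0 < e := Nat.card_pos
  rcases Nat.even_or_odd (Nat.card Ω) with hev | hod
  · -- even degree: no fixed points
    have hIc := h.card_involutions_even hab hev
    rw [← he] at hIc
    have hbad : Nat.card {s : G // (s ≠ 1 ∧ s * s = 1) ∧ ¬ P s} ≤ 1 := by
      haveI : Subsingleton {s : G // (s ≠ 1 ∧ s * s = 1) ∧ ¬ P s} := by
        have key : ∀ s : {s : G // (s ≠ 1 ∧ s * s = 1) ∧ ¬ P s}, (s : G) = t := by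
          intro s
          rcases hbadfix s s.2.1.1 s.2.1.2 s.2.2 with h5 | ⟨c, hc, _⟩
          · exact h5
          · exfalso
            have h6 := h.card_fixedBy ht1 ht2
            rw [Nat.even_iff.mp hev] at h6
            haveI : Nonempty (fixedBy Ω t) := ⟨⟨c, hc⟩⟩
            exact (Nat.card_pos (α := fixedBy Ω t)).ne' h6
        exact ⟨fun s s' => Subtype.ext ((key s).trans (key s').symm)⟩
      exact Finite.card_le_one_iff_subsingleton.mpr inferInstance
    by_contra hcon
    push Not at hcon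
    set n := Nat.card (K h.zass a) with hn
    have hΩ : Nat.card Ω = n + 1 := hKc.symm
    rw [hΩ] at hcardG hIc hlt
    rw [Nat.add_sub_cancel] at hIc hlt
    set g1 := Nat.card {s : G // (s ≠ 1 ∧ s * s = 1) ∧ P s} with hg1
    set b1 := Nat.card {s : G // (s ≠ 1 ∧ s * s = 1) ∧ ¬ P s} with hb1
    have hIc' : Nat.card I = e * n := hIc
    rw [hIc', hcardG] at hgood
    -- e n g1 ≤ N (n+1) n e
    have hen : 0 < e * n := Nat.mul_pos hepos (by omega)
    have h7 : g1 ≤ N * (n + 1) := by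
      have : e * n * g1 ≤ e * n * (N * (n + 1)) := by
        calc e * n * g1 ≤ N * ((n + 1) * (n * e)) := hgood
          _ = e * n * (N * (n + 1)) := by ring
      exact Nat.le_of_mul_le_mul_left this hen
    rw [hIc'] at hsplit
    have h8 : N * (n + 1) ≤ (e - 1) * (n + 1) := Nat.mul_le_mul_right _ (by omega)
    have h9 : (e - 1) * (n + 1) + (n + 1) = e * (n + 1) := by
      have : e - 1 + 1 = e := by omega
      calc (e - 1) * (n + 1) + (n + 1) = (e - 1 + 1) * (n + 1) := by ring
        _ = e * (n + 1) := by rw [this]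
    have h10 : e * (n + 1) = e * n + e := by ring
    omega
  · have hIc := h.card_involutions_odd hab hod
    rw [← he] at hIc
    have hbad : Nat.card {s : G // (s ≠ 1 ∧ s * s = 1) ∧ ¬ P s} ≤ e := by
      obtain ⟨c, hc, hcu⟩ := involution_fix_odd h.zass hod ht1 ht2
      obtain ⟨d, hcd⟩ := exists_ne_pt h.zass c
      have h5 := h.card_involutions_fix_le hcd
      rw [card_two_pt_eq h.zass hcd hab, ← he] at h5
      refine le_trans ?_ h5
      apply Nat.card_le_card_of_injective (fun s : {s : G // (s ≠ 1 ∧ s * s = 1) ∧ ¬ P s} =>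
        (⟨s, s.2.1, by
          rcases hbadfix s s.2.1.1 s.2.1.2 s.2.2 with h6 | ⟨x, hx1, hx2⟩
          · rw [h6]; exact hc
          · rw [hcu x hx1] at hx2; exact hx2⟩ : {s : G // (s ≠ 1 ∧ s * s = 1) ∧ s • c = c}))
      intro s s' hss
      exact Subtype.ext (congrArg (fun x : {s : G // (s ≠ 1 ∧ s * s = 1) ∧ s • c = c} => (x : G)) hss)
    set n := Nat.card (K h.zass a) with hn
    have hΩ : Nat.card Ω = n + 1 := hKc.symm
    rw [hΩ] at hcardG hIc hlt
    set g1 := Nat.card {s : G // (s ≠ 1 ∧ s * s = 1) ∧ P s} with hg1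
    set b1 := Nat.card {s : G // (s ≠ 1 ∧ s * s = 1) ∧ ¬ P s} with hb1
    have hIc' : Nat.card I = e * (n + 1) := hIc
    rw [hIc', hcardG] at hgood
    have hen : 0 < e * (n + 1) := Nat.mul_pos hepos (by omega)
    have h7 : g1 ≤ N * n := by
      have : e * (n + 1) * g1 ≤ e * (n + 1) * (N * n) := by
        calc e * (n + 1) * g1 ≤ N * ((n + 1) * (n * e)) := hgood
          _ = e * (n + 1) * (N * n) := by ring
      exact Nat.le_of_mul_le_mul_left this hen
    rw [hIc'] at hsplit
    have h10 : e * (n + 1) = e * n + e := by ring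
    have h11 : e * n ≤ N * n := by omega
    exact Nat.le_of_mul_le_mul_right h11 (by omega)

end OddInv

end Cfsg.Agent.H20.Zass
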